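/-
The four-dimensional unitary space over the field with four elements, for the recognition of PSU(6,2)
from the centraliser of an involution.

* `Frame` : two hyperbolic pairs, `Frame.expand`;
* `invol_cases` : an involution of SU(4,2) is a transvection or a product of two;
* `Frame.exists_swap`, `Frame.exists_diag` : elements permuting or scaling the two pairs;
* `Frame.card_fix_two`, `Frame.card_fix_three` : pointwise stabilisers of orders at most 16 and 2;
* `card_tvs`, `card_tvs_apart` : 45 transvections, 32 not commuting with a given one.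
-/
import Cfsg.Agent.EqLemmas
import Cfsg.Agent.Lib.ThreeTransSU.Class
import Cfsg.Agent.Lib.ThreeTransSU.GensCert
import Cfsg.Agent.Lib.Unitary.Center
import Cfsg.Agent.Lib.M22Cover.Types

set_option autoImplicit false

namespace Cfsg.Agent.U62Rec

open Cfsg.Agent.Unitary Cfsg.Agent.U62Cover Cfsg.Agent.ThreeTransSU
open scoped Matrix

/-- The field with four elements. -/
abbrev K : Type := Cfsg.Agent.SU32.K4

theorem cardK : Fintype.card K = 4 := Cfsg.Agent.SU32.K4.card_eq

/-- The space. -/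
abbrev V4 : Type := Fin 4 → K

/-- The group. -/
abbrev U4 : Type := ↥(Cfsg.SU 4 K 2)

/-- The transvection with centre `p`. -/
noncomputable abbrev t4 (p : V4) : U4 := tv cardK p

/-- The trace bilinear form. -/
def B (x y : V4) : K := hf x y + hf x y ^ 2

theorem k_cases : ∀ c : K, c ^ 2 = c → c = 0 ∨ c = 1 := by decide +kernel
theorem k_add_self : ∀ c : K, c + c = 0 := by decide +kernel
theorem k_tr_zero : ∀ c : K, c + c ^ 2 = 0 → c = 0 ∨ c = 1 := by decide +kernel
theorem k_sq_sq : ∀ c : K, (c ^ 2) ^ 2 = c := by decide +kernel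
theorem k_cube : ∀ c : K, c ≠ 0 → c * c ^ 2 = 1 := by decide +kernel
theorem k_eq_of_add : ∀ a b : K, a + b = 0 → a = b := by decide +kernel
theorem k_omega : ∃ w : K, w ≠ 0 ∧ w ≠ 1 ∧ w ^ 2 = w + 1 := by decide +kernel
theorem k_scale : ∀ f : K → Bool, (∀ a b, f (a + b) = (f a != f b)) → ∃ c : K, c ≠ 0 ∧ f c = false := by
  decide +kernel

theorem sq_zero : (0 : K) ^ 2 = 0 := by decide +kernel

theorem vv (x : V4) : x + x = 0 := vadd_self cardK x

theorem veq {x y : V4} (h : x + y = 0) : x = y := funext fun i => k_eq_of_add _ _ (congrFun h i)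

theorem hl (x y z : V4) : hf (x + y) z = hf x z + hf y z := hf_add_left cardK x y z
theorem hr (x y z : V4) : hf x (y + z) = hf x y + hf x z := hf_add_right cardK x y z
theorem sl (c : K) (x y : V4) : hf (c • x) y = c * hf x y := hf_smul_left cardK c x y
theorem sr (c : K) (x y : V4) : hf x (c • y) = c ^ 2 * hf x y := hf_smul_right cardK c x y
theorem hs (x y : V4) : hf y x = hf x y ^ 2 := hf_symm cardK x y
theorem h0l (x : V4) : hf 0 x = 0 := hf_zero_left cardK x
theorem h0r (x : V4) : hf x 0 = 0 := hf_zero_right cardK x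
theorem hs0 {x y : V4} (h : hf x y = 0) : hf y x = 0 := by rw [hs, h, sq_zero]
theorem hs1 {x y : V4} (h : hf x y = 1) : hf y x = 1 := by rw [hs, h, one_pow]

theorem B_comm (x y : V4) : B x y = B y x := by
  simp only [B, hs x y, k_sq_sq]
  exact add_comm _ _

/-! ### Frames -/

/-- Two orthogonal hyperbolic pairs. -/
structure Frame (p q f g : V4) : Prop where
  pp : hf p p = 0
  qq : hf q q = 0
  ff : hf f f = 0
  gg : hf g g = 0
  pq : hf p q = 0
  fg : hf f g = 0
  fp : hf f p = 1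
  gq : hf g q = 1
  fq : hf f q = 0
  gp : hf g p = 0

namespace Frame

variable {p q f g : V4} (h : Frame p q f g)
include h

theorem qp : hf q p = 0 := hs0 h.pq
theorem gf : hf g f = 0 := hs0 h.fg
theorem pf : hf p f = 1 := hs1 h.fp
theorem qg : hf q g = 1 := hs1 h.gq
theorem qf : hf q f = 0 := hs0 h.fq
theorem pg : hf p g = 0 := hs0 h.gp

theorem iso_p : Iso p := ⟨fun e => by simpa [e, h0r] using h.fp, h.pp⟩
theorem iso_q : Iso q := ⟨fun e => by simpa [e, h0r] using h.gq, h.qq⟩
theorem iso_f : Iso f := ⟨fun e => by simpa [e, h0l] using h.fp, h.ff⟩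
theorem iso_g : Iso g := ⟨fun e => by simpa [e, h0l] using h.gq, h.gg⟩

theorem swap : Frame q p g f :=
  ⟨h.qq, h.pp, h.gg, h.ff, h.qp, h.gf, h.gq, h.fp, h.gp, h.fq⟩

theorem li : LinearIndependent K ![p, q, f, g] := by
  refine Fintype.linearIndependent_iff.2 fun c hc i => ?_
  rw [Fin.sum_univ_four] at hc
  simp only [Matrix.cons_val_zero, Matrix.cons_val_one, Matrix.cons_val_two, Matrix.cons_val_three,
    Matrix.tail_cons, Matrix.head_cons, Matrix.cons_val] at hc
  have e : ∀ y, hf (c 0 • p + c 1 • q + c 2 • f + c 3 • g) y = 0 := fun y => by rw [hc, h0l]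
  have e0 := e f
  have e1 := e g
  have e2 := e p
  have e3 := e q
  simp only [hl, sl, h.pf, h.qf, h.ff, h.gf, h.pg, h.qg, h.fg, h.gg, h.pp, h.qp, h.fp, h.gp, h.pq,
    h.qq, h.fq, h.gq, mul_zero, mul_one, add_zero, zero_add] at e0 e1 e2 e3
  fin_cases i
  exacts [e0, e1, e2, e3]

theorem eq_zero {d : V4} (h1 : hf d p = 0) (h2 : hf d q = 0) (h3 : hf d f = 0) (h4 : hf d g = 0) :
    d = 0 := by
  refine hermForm_nondeg (card_sq cardK) 4 d fun y => ?_
  have hy : y ∈ Submodule.span K (Set.range ![p, q, f, g]) := by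
    rw [h.li.span_eq_top_of_card_eq_finrank (by rw [Module.finrank_fin_fun, Fintype.card_fin])]
    trivial
  induction hy using Submodule.span_induction with
  | mem x hx =>
    obtain ⟨i, rfl⟩ := hx
    fin_cases i
    exacts [h1, h2, h3, h4]
  | zero => exact h0r d
  | add x y _ _ hx hy =>
    change hf d x = 0 at hx
    change hf d y = 0 at hy
    show hf d (x + y) = 0
    rw [hr, hx, hy, add_zero]
  | smul c x _ hx =>
    change hf d x = 0 at hx
    show hf d (c • x) = 0
    rw [sr, hx, mul_zero]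

theorem expand (x : V4) : x = hf x f • p + hf x g • q + hf x p • f + hf x q • g := by
  refine veq (h.eq_zero ?_ ?_ ?_ ?_)
  all_goals
    simp only [hl, sl, h.pf, h.qf, h.ff, h.gf, h.pg, h.qg, h.fg, h.gg, h.pp, h.qp, h.fp, h.gp, h.pq,
      h.qq, h.fq, h.gq, mul_zero, mul_one, add_zero, zero_add]
    exact k_add_self _

theorem eq_of {x y : V4} (h1 : hf x p = hf y p) (h2 : hf x q = hf y q) (h3 : hf x f = hf y f)
    (h4 : hf x g = hf y g) : x = y := by
  rw [h.expand x, h.expand y, h1, h2, h3, h4]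

/-- Elements of the group are determined by the frame. -/
theorem ext {a b : U4} (h1 : act a p = act b p) (h2 : act a q = act b q) (h3 : act a f = act b f)
    (h4 : act a g = act b g) : a = b := by
  refine act_ext fun x => ?_
  conv_lhs => rw [h.expand x]
  conv_rhs => rw [h.expand x]
  simp only [act_add, act_smul, h1, h2, h3, h4]

theorem act (a : U4) : Frame (act a p) (act a q) (act a f) (act a g) := by
  refine ⟨?_, ?_, ?_, ?_, ?_, ?_, ?_, ?_, ?_, ?_⟩ <;> rw [act_hf]
  exacts [h.pp, h.qq, h.ff, h.gg, h.pq, h.fg, h.fp, h.gq, h.fq, h.gp]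

end Frame

/-- A dual vector made isotropic. -/
theorem exists_iso_dual {k : ℕ} {u : Fin (k + 1) → V4} (hu : LinearIndependent K u) (hiso : hf (u 0) (u 0) = 0)
    (hperp : ∀ i, hf (u 0) (u i) = 0) :
    ∃ x, hf x x = 0 ∧ hf x (u 0) = 1 ∧ ∀ i, i ≠ 0 → hf x (u i) = 0 := by
  obtain ⟨x, hx⟩ := exists_dual cardK hu fun i => if i = 0 then 1 else 0
  obtain ⟨t, ht⟩ := exists_trace cardK (a := hf x x) ((herm cardK).self_fixed x)
  have hx0 : hf x (u 0) = 1 := by simpa using hx 0
  refine ⟨x + t • u 0, ?_, ?_, fun i hi => ?_⟩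
  · simp only [hl, hr, sl, sr, hx0, hs1 hx0, hiso, mul_zero, mul_one, add_zero]
    have : hf x x + (t + t ^ 2) = 0 := by rw [ht]; exact k_add_self _
    linear_combination this
  · simp [hl, sl, hx0, hiso]
  · simp [hl, sl, hperp i, show hf x (u i) = 0 by simpa [hi] using hx i]

theorem exists_frame {p q : V4} (h : OrthPair p q) : ∃ f g, Frame p q f g := by
  obtain ⟨f, hf0, hf1, hf2⟩ := exists_iso_dual (k := 1) (u := ![p, q]) h.li h.1.2
    (fun i => by fin_cases i; exacts [h.1.2, h.2.2.1])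
  have hfp : hf f p = 1 := hf1
  have hfq : hf f q = 0 := hf2 1 (by decide)
  have hqp : hf q p = 0 := hs0 h.2.2.1
  have hqf : hf q f = 0 := hs0 hfq
  have li : LinearIndependent K ![q, p, f] := by
    refine Fintype.linearIndependent_iff.2 fun c hc i => ?_
    rw [Fin.sum_univ_three] at hc
    simp only [Matrix.cons_val_zero, Matrix.cons_val_one, Matrix.cons_val_two, Matrix.tail_cons,
      Matrix.head_cons, Matrix.cons_val] at hc
    have e : ∀ y, hf (c 0 • q + c 1 • p + c 2 • f) y = 0 := fun y => by rw [hc, h0l]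
    have e1 := e f
    have e2 := e p
    simp only [hl, sl, hqf, hs1 hfp, hf0, hqp, h.1.2, hfp, mul_zero, mul_one, add_zero, zero_add] at e1 e2
    rw [e1, e2, zero_smul, zero_smul, add_zero, add_zero, smul_eq_zero] at hc
    have e0 : c 0 = 0 := hc.resolve_right h.2.1.1
    fin_cases i
    exacts [e0, e1, e2]
  obtain ⟨g, hg0, hg1, hg2⟩ := exists_iso_dual (k := 2) (u := ![q, p, f]) li h.2.1.2
    (fun i => by fin_cases i; exacts [h.2.1.2, hqp, hqf])
  exact ⟨f, g, ⟨h.1.2, h.2.1.2, hf0, hg0, h.2.2.1, hs0 (hg2 2 (by decide)), hfp, hg1, hfq, hg2 1 (by decide)⟩⟩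

/-- The standard isotropic vectors. -/
def p₀ : V4 := ![1, 1, 0, 0]
/-- See `p₀`. -/
def q₀ : V4 := ![0, 0, 1, 1]

theorem std_pair : OrthPair p₀ q₀ := by
  refine ⟨⟨?_, ?_⟩, ⟨?_, ?_⟩, ?_, ?_⟩ <;> decide +kernel

theorem exists_orth {p : V4} (hp : Iso p) : ∃ q, OrthPair p q := by
  obtain ⟨a, ha⟩ := exists_act cardK (by norm_num) std_pair.1 hp
  refine ⟨act a q₀, hp, std_pair.2.1.act a, ?_, fun c e => ?_⟩
  · rw [← ha, act_hf]; exact std_pair.2.2.1
  · rw [← ha, ← act_smul] at e
    exact std_pair.2.2.2 c ((act_eq_iff a).1 e)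

theorem exists_frame_one {p : V4} (hp : Iso p) : ∃ q f g, Frame p q f g := by
  obtain ⟨q, hq⟩ := exists_orth hp
  exact ⟨q, exists_frame hq⟩

/-- A vector isotropic, orthogonal to `p` with product one with an independent orthogonal `r`. -/
theorem exists_witness {p r : V4} (h : OrthPair p r) : ∃ w, Iso w ∧ hf w p = 0 ∧ hf w r = 1 := by
  obtain ⟨f, g, hfr⟩ := exists_frame h
  exact ⟨g, hfr.iso_g, hfr.gp, hfr.gq⟩

/-! ### Involutions -/

theorem invol_cases {r : U4} (hr : r * r = 1) (hne : r ≠ 1) :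
    (∃ p, Iso p ∧ r = t4 p) ∨ ∃ p q, OrthPair p q ∧ r = t4 p * t4 q := by
  obtain ⟨m, u, hli, horth, hprod⟩ := exists_indep cardK r hr
  have hm := two_mul_le cardK hli horth
  have hiso : ∀ i, Iso (u i) := fun i => ⟨hli.ne_zero i, horth i i⟩
  match m, u, hli, horth, hprod, hm, hiso with
  | 0, u, _, _, hprod, _, _ => exact absurd (by simpa using hprod) hne
  | 1, u, _, _, hprod, _, hiso => exact Or.inl ⟨u 0, hiso 0, by simpa using hprod⟩
  | 2, u, hli, horth, hprod, _, hiso =>
    refine Or.inr ⟨u 0, u 1, ⟨hiso 0, hiso 1, horth 0 1, fun c e => ?_⟩, by simpa [List.ofFn_succ] using hprod⟩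
    have h2 := Fintype.linearIndependent_iff.1 hli ![c, 1] (by
      rw [Fin.sum_univ_two]
      simp only [Matrix.cons_val_zero, Matrix.cons_val_one]
      rw [one_smul, e]
      exact vv _) 1
    simp at h2
  | k + 3, _, _, _, _, hm, _ => omega

/-- The difference map of an element. -/
noncomputable def R (r : U4) (x : V4) : V4 := x + act r x

theorem R_add (r : U4) (x y : V4) : R r (x + y) = R r x + R r y := by
  simp only [R, act_add]; abel

theorem R_smul (r : U4) (c : K) (x : V4) : R r (c • x) = c • R r x := by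
  simp only [R, act_smul, smul_add]

theorem act_eq_add (r : U4) (x : V4) : act r x = x + R r x := by
  rw [R, ← add_assoc, vv, zero_add]

theorem fix_iff (r : U4) (x : V4) : act r x = x ↔ R r x = 0 :=
  ⟨fun h => by rw [R, h, vv], fun h => by rw [act_eq_add, h, add_zero]⟩

theorem R_iso {r : U4} (hr : r * r = 1) (x : V4) : hf (R r x) (R r x) = 0 := by
  have h1 : hf (act r x) x = hf x (act r x) := by
    conv_lhs => rw [← act_hf r, ← act_mul, hr, act_one]
  simp only [R, hl, ThreeTransSU.hf_add_right cardK, act_hf, h1]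
  linear_combination (hf x x + hf x (act r x)) * two_eq_zero cardK

theorem R_one {p : V4} (hp : Iso p) (x : V4) : R (t4 p) x = hf x p • p := by
  rw [R, act_tv cardK hp.2, ← add_assoc, vv, zero_add]

theorem R_two {p q : V4} (h : OrthPair p q) (x : V4) :
    R (t4 p * t4 q) x = hf x p • p + hf x q • q := by
  have e : act (t4 p) q = q := act_tv_of_orth cardK h.1.2 (hs0 h.2.2.1)
  rw [R, act_mul, act_tv cardK h.2.1.2, act_add, act_smul, e, act_tv cardK h.1.2, ← add_assoc, ← add_assoc,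
    vv, zero_add]

theorem fix_one {p : V4} (hp : Iso p) (x : V4) : act (t4 p) x = x ↔ hf x p = 0 := by
  rw [fix_iff, R_one hp]
  exact ⟨fun h => (smul_eq_zero.1 h).resolve_right hp.1, fun h => by rw [h, zero_smul]⟩

theorem fix_two {p q : V4} (h : OrthPair p q) (x : V4) :
    act (t4 p * t4 q) x = x ↔ hf x p = 0 ∧ hf x q = 0 := by
  rw [fix_iff, R_two h]
  refine ⟨fun e => ?_, fun e => by rw [e.1, e.2, zero_smul, zero_smul, add_zero]⟩
  obtain ⟨f, g, hfr⟩ := exists_frame h
  have e1 : hf (hf x p • p + hf x q • q) f = 0 := by rw [e, h0l]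
  have e2 : hf (hf x p • p + hf x q • q) g = 0 := by rw [e, h0l]
  simp only [hl, sl, hfr.pf, hfr.qf, hfr.pg, hfr.qg, mul_zero, mul_one, add_zero, zero_add] at e1 e2
  exact ⟨e1, e2⟩

/-- Conjugates fixing the centre line fix the transvection. -/
theorem commute_tv {p : V4} (hp : Iso p) {a : U4} {c : K} (hc : c ≠ 0) (h : act a p = c • p) :
    Commute a (t4 p) := by
  show a * t4 p = t4 p * a
  rw [← mul_inv_eq_iff_eq_mul, tv_conj_inv cardK a hp.2, h, tv_smul cardK hp hc]

theorem line_of_commute {p : V4} (hp : Iso p) {a : U4} (h : Commute a (t4 p)) :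
    ∃ c : K, c ≠ 0 ∧ act a p = c • p := by
  refine tv_inj cardK hp (hp.act a) ?_
  rw [← tv_conj_inv cardK a hp.2, h.eq, mul_assoc, mul_inv_cancel, mul_one]

/-! ### Special elements -/

namespace Frame

variable {p q f g : V4} (h : Frame p q f g)
include h

/-- An element exchanging the two pairs up to the scalar `m`. -/
theorem exists_swap {m : K} (hm : m ≠ 0) :
    ∃ a : U4, ThreeTransSU.act a p = m • q ∧ ThreeTransSU.act a q = m ^ 2 • p ∧ a * a = 1 := by
  obtain ⟨w, -, -, hw⟩ := k_omega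
  have h3 := k_cube m hm
  have hm2 : m * m ^ 2 = 1 := h3
  set P := p + m • q with hP
  set G := f + m • g with hG
  have hPG : hf P G = 0 := by
    simp only [hP, hG, hl, hr, sl, sr, h.pf, h.qf, h.pg, h.qg, mul_zero, mul_one, add_zero, zero_add]
    rw [mul_comm (m ^ 2), hm2]; exact k_add_self 1
  have hPP : hf P P = 0 := by
    simp only [hP, hl, hr, sl, sr, h.pp, h.qp, h.pq, h.qq, mul_zero, add_zero]
  have hGG : hf G G = 0 := by
    simp only [hG, hl, hr, sl, sr, h.ff, h.gf, h.fg, h.gg, mul_zero, add_zero]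
  have hGP : hf G P = 0 := hs0 hPG
  set v := P + w • G with hv
  set v' := P + (w + 1) • G with hv'
  have hvv : hf v v = 0 := by simp only [hv, hl, hr, sl, sr, hPP, hPG, hGP, hGG, mul_zero, add_zero]
  have hv'v' : hf v' v' = 0 := by simp only [hv', hl, hr, sl, sr, hPP, hPG, hGP, hGG, mul_zero, add_zero]
  have hv'v : hf v' v = 0 := by simp only [hv, hv', hl, hr, sl, sr, hPP, hPG, hGP, hGG, mul_zero, add_zero]
  have hPp : hf p P = 0 := by simp only [hP, hr, sr, h.pp, h.pq, mul_zero, add_zero]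
  have hGp : hf p G = 1 := by simp only [hG, hr, sr, h.pf, h.pg, mul_zero, add_zero]
  have hPq : hf q P = 0 := by simp only [hP, hr, sr, h.qp, h.qq, mul_zero, add_zero]
  have hGq : hf q G = m ^ 2 := by simp only [hG, hr, sr, h.qf, h.qg, mul_one, zero_add]
  have hact : ∀ x, hf x P = 0 → ThreeTransSU.act (t4 v * t4 v') x = x + hf x G • P := by
    intro x hx
    rw [act_mul, act_tv cardK hv'v', act_add, act_smul, act_tv cardK hvv, act_tv cardK hvv, hv'v, zero_smul,
      add_zero]
    have e1 : hf x v = w ^ 2 * hf x G := by simp only [hv, hr, sr, hx, zero_add]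
    have e2 : hf x v' = (w + 1) ^ 2 * hf x G := by simp only [hv', hr, sr, hx, zero_add]
    rw [e1, e2, hv, hv']
    simp only [smul_add, smul_smul, add_assoc]
    have c1 : w ^ 2 * hf x G + (w + 1) ^ 2 * hf x G = hf x G := by
      linear_combination hf x G * (w ^ 2 + w) * two_eq_zero cardK
    have c2 : w ^ 2 * hf x G * w + (w + 1) ^ 2 * hf x G * (w + 1) = 0 := by
      have hc : ∀ a : K, a ^ 2 = a + 1 → a ^ 2 * a + (a + 1) ^ 2 * (a + 1) = 0 := by decide +kernel
      linear_combination hf x G * hc w hw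
    calc x + ((w ^ 2 * hf x G) • P + ((w ^ 2 * hf x G * w) • G + (((w + 1) ^ 2 * hf x G) • P
          + ((w + 1) ^ 2 * hf x G * (w + 1)) • G)))
        = x + ((w ^ 2 * hf x G + (w + 1) ^ 2 * hf x G) • P
          + (w ^ 2 * hf x G * w + (w + 1) ^ 2 * hf x G * (w + 1)) • G) := by
            rw [add_smul, add_smul]; abel
      _ = x + hf x G • P := by rw [c1, c2, zero_smul, add_zero]
  refine ⟨t4 v * t4 v', ?_, ?_, ?_⟩
  · rw [hact p hPp, hGp, one_smul, hP, ← add_assoc, vv, zero_add]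
  · rw [hact q hPq, hGq, hP, smul_add, smul_smul, mul_comm, hm2, one_smul]
    rw [add_comm (m ^ 2 • p) q, ← add_assoc, vv, zero_add]
  · have hc : t4 v * t4 v' = t4 v' * t4 v := tv_comm cardK hvv hv'v' hv'v
    calc t4 v * t4 v' * (t4 v * t4 v') = t4 v * t4 v' * (t4 v' * t4 v) := by rw [← hc]
      _ = t4 v * (t4 v' * t4 v') * t4 v := by group
      _ = 1 := by rw [tv_sq cardK hv'v', mul_one, tv_sq cardK hvv]

/-- An element scaling the two pairs oppositely. -/
theorem exists_diag {w : K} (hw : w ≠ 0) :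
    ∃ a : U4, ThreeTransSU.act a p = w • p ∧ ThreeTransSU.act a q = w ^ 2 • q := by
  obtain ⟨a, a1, a2, -⟩ := h.exists_swap (m := 1) one_ne_zero
  obtain ⟨b, b1, b2, -⟩ := h.exists_swap (m := w ^ 2) (pow_ne_zero 2 hw)
  rw [one_smul] at a1
  rw [one_pow, one_smul] at a2
  refine ⟨b * a, ?_, ?_⟩
  · rw [act_mul, a1, b2, k_sq_sq]
  · rw [act_mul, a2, b1]

set_option maxRecDepth 20000 in
/-- The elements fixing `p` and `q` form a set of at most 16 elements. -/
theorem card_fix_two : {a : U4 | ThreeTransSU.act a p = p ∧ ThreeTransSU.act a q = q}.ncard ≤ 16 := by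
  classical
  have hfix : ∀ a : U4, ThreeTransSU.act a p = p → ThreeTransSU.act a q = q → ∀ x,
      hf (ThreeTransSU.act a x) p = hf x p ∧ hf (ThreeTransSU.act a x) q = hf x q := fun a e1 e2 x =>
    ⟨by conv_lhs => rw [← e1, act_hf], by conv_lhs => rw [← e2, act_hf]⟩
  let T : Finset (K × K × K) :=
    ({0, 1} : Finset K) ×ˢ ((Finset.univ : Finset K) ×ˢ ({0, 1} : Finset K))
  have hT : T.card = 16 := by decide +kernel
  rw [← hT, ← Set.ncard_coe_finset]
  refine Set.ncard_le_ncard_of_injOn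
    (fun a => (hf (ThreeTransSU.act a f) f, hf (ThreeTransSU.act a f) g, hf (ThreeTransSU.act a g) g)) ?_ ?_
  · rintro a ⟨e1, e2⟩
    have k1 := (h.act a).ff
    have k2 := (h.act a).gg
    rw [h.expand (ThreeTransSU.act a f), (hfix a e1 e2 f).1, (hfix a e1 e2 f).2, h.fp, h.fq] at k1
    rw [h.expand (ThreeTransSU.act a g), (hfix a e1 e2 g).1, (hfix a e1 e2 g).2, h.gp, h.gq] at k2
    simp only [hl, hr, sl, sr, h.pf, h.qf, h.ff, h.gf, h.pg, h.qg, h.fg, h.gg, h.pp, h.qp, h.fp, h.gp,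
      h.pq, h.qq, h.fq, h.gq, sq_zero, one_pow, mul_zero, mul_one, one_mul, zero_mul, add_zero, zero_add] at k1 k2
    simp only [T, Finset.mem_coe, Finset.mem_product, Finset.mem_insert, Finset.mem_singleton, Finset.mem_univ,
      true_and]
    exact ⟨k_tr_zero _ (by linear_combination k1), k_tr_zero _ (by linear_combination k2)⟩
  · rintro a ⟨a1, a2⟩ b ⟨b1, b2⟩ e
    simp only [Prod.mk.injEq] at e
    obtain ⟨e1, e2, e3⟩ := e
    have key : ∀ c : U4, ThreeTransSU.act c p = p → ThreeTransSU.act c q = q →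
        hf (ThreeTransSU.act c g) f = hf (ThreeTransSU.act c f) g ^ 2 := by
      intro c c1 c2
      have k3 := (h.act c).fg
      rw [h.expand (ThreeTransSU.act c f), (hfix c c1 c2 f).1, (hfix c c1 c2 f).2, h.fp, h.fq,
        h.expand (ThreeTransSU.act c g), (hfix c c1 c2 g).1, (hfix c c1 c2 g).2, h.gp, h.gq] at k3
      simp only [hl, hr, sl, sr, h.pf, h.qf, h.ff, h.gf, h.pg, h.qg, h.fg, h.gg, h.pp, h.qp, h.fp, h.gp,
        h.pq, h.qq, h.fq, h.gq, sq_zero, one_pow, mul_zero, mul_one, one_mul, zero_mul, add_zero, zero_add] at k3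
      have key' : ∀ β γ : K, β + γ ^ 2 = 0 → γ = β ^ 2 := by decide +kernel
      exact key' _ _ (by linear_combination k3)
    refine h.ext (a1.trans b1.symm) (a2.trans b2.symm) ?_ ?_
    · exact h.eq_of (by rw [(hfix a a1 a2 f).1, (hfix b b1 b2 f).1]) (by rw [(hfix a a1 a2 f).2, (hfix b b1 b2 f).2]) e1 e2
    · refine h.eq_of (by rw [(hfix a a1 a2 g).1, (hfix b b1 b2 g).1]) (by rw [(hfix a a1 a2 g).2, (hfix b b1 b2 g).2]) ?_ e3
      rw [key a a1 a2, key b b1 b2, e2]

/-- The elements fixing `p`, `q` and `g` are at most two. -/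
theorem card_fix_three :
    {a : U4 | ThreeTransSU.act a p = p ∧ ThreeTransSU.act a q = q ∧ ThreeTransSU.act a g = g}.ncard ≤ 2 := by
  classical
  have hT : ({0, 1} : Finset K).card = 2 := by decide +kernel
  rw [← hT, ← Set.ncard_coe_finset]
  have hval : ∀ a : U4, ThreeTransSU.act a p = p → ThreeTransSU.act a q = q → ThreeTransSU.act a g = g →
      hf (ThreeTransSU.act a f) p = 1 ∧ hf (ThreeTransSU.act a f) q = 0 ∧ hf (ThreeTransSU.act a f) g = 0 := by
    intro a e1 e2 e3
    refine ⟨?_, ?_, ?_⟩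
    · conv_lhs => rw [← e1, act_hf, h.fp]
    · conv_lhs => rw [← e2, act_hf, h.fq]
    · conv_lhs => rw [← e3, act_hf, h.fg]
  refine Set.ncard_le_ncard_of_injOn (fun a => hf (ThreeTransSU.act a f) f) ?_ ?_
  · rintro a ⟨e1, e2, e3⟩
    obtain ⟨v1, v2, v3⟩ := hval a e1 e2 e3
    have k1 := (h.act a).ff
    rw [h.expand (ThreeTransSU.act a f), v1, v2, v3] at k1
    simp only [hl, hr, sl, sr, h.pf, h.ff, h.pp, h.fp, one_smul, zero_smul, add_zero, sq_zero, one_pow,
      mul_zero, mul_one, one_mul, zero_add] at k1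
    simp only [Finset.mem_coe, Finset.mem_insert, Finset.mem_singleton]
    exact k_tr_zero _ (by linear_combination k1)
  · rintro a ⟨a1, a2, a3⟩ b ⟨b1, b2, b3⟩ e
    obtain ⟨u1, u2, u3⟩ := hval a a1 a2 a3
    obtain ⟨v1, v2, v3⟩ := hval b b1 b2 b3
    exact h.ext (a1.trans b1.symm) (a2.trans b2.symm) (h.eq_of (u1.trans v1.symm) (u2.trans v2.symm) e
      (u3.trans v3.symm)) (a3.trans b3.symm)

end Frame

/-! ### Counting -/

/-- The transvections. -/
def tvs : Set U4 := {x | ∃ p, Iso p ∧ x = t4 p}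

theorem tvs_fibre {p : V4} (hp : Iso p) : {a | t4 a = t4 p ∧ Iso a}.ncard = 3 := by
  classical
  have e : {a | t4 a = t4 p ∧ Iso a} = ↑(((Finset.univ : Finset K).erase 0).image fun c => c • p) := by
    ext a
    simp only [Set.mem_ofPred_eq, Finset.coe_image, Set.mem_image, Finset.mem_coe, Finset.mem_erase,
      Finset.mem_univ, and_true]
    constructor
    · rintro ⟨h, ha⟩
      obtain ⟨c, hc, rfl⟩ := tv_inj cardK hp ha h.symm
      exact ⟨c, hc, rfl⟩
    · rintro ⟨c, hc, rfl⟩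
      exact ⟨tv_smul cardK hp hc, hp.smul cardK hc⟩
  rw [e, Set.ncard_coe_finset, Finset.card_image_of_injective _ (smul_left_injective K hp.1),
    Finset.card_erase_of_mem (Finset.mem_univ _), Finset.card_univ, cardK]

set_option maxRecDepth 20000 in
theorem iso_count : (Finset.univ.filter fun x : V4 => x ≠ 0 ∧ hf x x = 0).card = 135 := by decide +kernel

set_option maxRecDepth 20000 in
theorem apart_count :
    (Finset.univ.filter fun x : V4 => x ≠ 0 ∧ hf x x = 0 ∧ hf x p₀ ≠ 0).card = 96 := by decide +kernel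

theorem card_fibres (P : V4 → Prop) (hP : ∀ (p : V4) (c : K), c ≠ 0 → Iso p → (P (c • p) ↔ P p)) :
    {x | ∃ p, Iso p ∧ P p ∧ x = t4 p}.ncard * 3 = {a : V4 | Iso a ∧ P a}.ncard := by
  have h := M22Cover.ncard_fibres (t4) (fun a => Iso a ∧ P a) {x | ∃ p, Iso p ∧ P p ∧ x = t4 p} 3 (by
    rintro _ ⟨p, hp, hPp, rfl⟩
    rw [← tvs_fibre hp]
    congr 1
    ext a
    refine ⟨fun h => ⟨h.1, h.2.1⟩, fun h => ⟨h.1, h.2, ?_⟩⟩
    obtain ⟨c, hc, rfl⟩ := tv_inj cardK hp h.2 h.1.symm
    exact (hP p c hc hp).2 hPp)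
  rw [← h]
  congr 1
  exact Set.ext fun a => ⟨fun ha => ha.2, fun ha => ⟨⟨a, ha.1, ha.2, rfl⟩, ha⟩⟩

theorem card_tvs : tvs.ncard = 45 := by
  classical
  have h := card_fibres (fun _ => True) fun _ _ _ _ => Iff.rfl
  have e : {x | ∃ p, Iso p ∧ True ∧ x = t4 p} = tvs := by ext; simp [tvs]
  have e2 : {a : V4 | Iso a ∧ True}.ncard = 135 := by
    rw [← iso_count, ← Set.ncard_coe_finset]
    congr 1
    ext a
    simp [Iso]
  rw [e, e2] at h
  omega

/-- The transvections not commuting with the one of `p`. -/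
theorem card_tvs_apart {p : V4} (hp : Iso p) : {x ∈ tvs | ¬ Commute x (t4 p)}.ncard = 32 := by
  classical
  obtain ⟨a, ha⟩ := exists_act cardK (by norm_num) std_pair.1 hp
  have h := card_fibres (fun x => hf x p ≠ 0) fun (x : V4) (c : K) hc _ => by
    show hf (c • x) p ≠ 0 ↔ _
    rw [sl]; simp [hc]
  have e : {x | ∃ q, Iso q ∧ hf q p ≠ 0 ∧ x = t4 q} = {x ∈ tvs | ¬ Commute x (t4 p)} := by
    ext x
    constructor
    · rintro ⟨q, hq, hne, rfl⟩
      exact ⟨⟨q, hq, rfl⟩, fun hc => hne (hs0 ((tv_comm_iff cardK hq hp).1 hc))⟩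
    · rintro ⟨⟨q, hq, rfl⟩, hne⟩
      exact ⟨q, hq, fun h0 => hne ((tv_comm_iff cardK hq hp).2 (hs0 h0)), rfl⟩
  have e2 : {x : V4 | Iso x ∧ hf x p ≠ 0}.ncard = 96 := by
    rw [← apart_count, ← Set.ncard_coe_finset]
    have hi : Function.Injective (act a) := fun x y => (act_eq_iff a).1
    rw [← Set.ncard_image_of_injective (↑(Finset.univ.filter fun x : V4 => x ≠ 0 ∧ hf x x = 0 ∧ hf x p₀ ≠ 0)) hi]
    congr 1
    ext x
    simp only [Set.mem_image, Finset.coe_filter, Finset.mem_univ, true_and, Set.mem_ofPred_eq]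
    constructor
    · rintro ⟨hx, hne⟩
      refine ⟨act a⁻¹ x, ⟨(hx.act a⁻¹).1, (hx.act a⁻¹).2, ?_⟩, act_act_inv a x⟩
      rw [← act_hf a, act_act_inv, ha]
      exact hne
    · rintro ⟨y, ⟨h1, h2, h3⟩, rfl⟩
      refine ⟨Iso.act ⟨h1, h2⟩ a, ?_⟩
      rw [← ha, act_hf]
      exact h3
  rw [e, e2] at h
  omega

theorem card_SU4 : Nat.card U4 = 25920 := by
  have h := card_SU (n := 4) (card_sq cardK) (by norm_num)
  simp [Finset.prod_range_succ, Nat.even_iff] at h
  change Nat.card ↥(Cfsg.SU 4 K 2) = 25920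
  omega

/-- The transvections generate. -/
theorem closure_tvs : Subgroup.closure tvs = ⊤ := closure_tv cardK le_rfl

end Cfsg.Agent.U62Rec
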