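/-
The diagonal subgroup of SU(4,2) and monomial transvections, for identifying the module of an
extraspecial radical.

* `tor a` : the diagonal element with exponents `e a`; `tor_add`, `w2_tor` : the monomial action;
* `g₀` : an element of order three fixing the first coordinate line; `gens_top` : generation;
* `exists_conj_pair` : products of two orthogonal transvections are conjugate.
-/
import Cfsg.Agent.Lib.U62Rec.Space

set_option autoImplicit false

namespace Cfsg.Agent.U62Rec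

open Cfsg.Agent.ThreeTransSU Cfsg.Agent.U62Cover

/-- A primitive cube root of one. -/
def om : K := Cfsg.Agent.SU32.K4.w

/-- Index set of the diagonal subgroup. -/
abbrev A3 : Type := ZMod 3 × ZMod 3 × ZMod 3

/-- The four exponents. -/
def e (a : A3) : Fin 4 → ZMod 3 := ![a.1, a.2.1, a.2.2, -(a.1 + a.2.1 + a.2.2)]

/-- Powers of `om`. -/
def pw (n : ZMod 3) : K := om ^ n.val

/-- The diagonal map. -/
def dg (a : A3) (x : V4) : V4 := fun i => pw (e a i) * x i

/-- A vector of weight two. -/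
def w2 (i j : Fin 4) (n : ZMod 3) : V4 := fun k => if k = i then 1 else if k = j then pw n else 0

theorem iso_w2 : ∀ i j n, i ≠ j → hf (w2 i j n) (w2 i j n) = 0 := by
  unfold hf Cfsg.hermForm; decide +kernel

theorem w2_ne (i j : Fin 4) (n : ZMod 3) : w2 i j n ≠ 0 := fun h => by
  have := congrFun h i
  simp [w2] at this

theorem w2_iso {i j : Fin 4} (h : i ≠ j) (n : ZMod 3) : Iso (w2 i j n) := ⟨w2_ne i j n, iso_w2 i j n h⟩

/-- The transvection as a map. -/
def tvf (p x : V4) : V4 := x + Cfsg.hermForm 4 K 2 x p • p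

theorem act_t4 {p : V4} (hp : hf p p = 0) (x : V4) : act (t4 p) x = tvf p x := act_tv cardK hp x

theorem ext_basis {g h : U4} (H : ∀ i, act g (Pi.single i 1) = act h (Pi.single i 1)) : g = h := by
  refine act_ext fun x => ?_
  have hx : x = x 0 • Pi.single 0 1 + x 1 • Pi.single 1 1 + x 2 • Pi.single 2 1 + x 3 • Pi.single 3 1 := by
    funext i; fin_cases i <;> simp
  conv_lhs => rw [hx]
  conv_rhs => rw [hx]
  simp only [act_add, act_smul, H]

/-- The first diagonal generator. -/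
noncomputable def d₁ : U4 := t4 (w2 0 3 2) * t4 (w2 0 3 0)
/-- The second diagonal generator. -/
noncomputable def d₂ : U4 := t4 (w2 1 3 2) * t4 (w2 1 3 0)
/-- The third diagonal generator. -/
noncomputable def d₃ : U4 := t4 (w2 2 3 2) * t4 (w2 2 3 0)

theorem d₁_tbl : ∀ i : Fin 4, tvf (w2 0 3 2) (tvf (w2 0 3 0) (Pi.single i 1)) = dg (1, 0, 0) (Pi.single i 1) := by
  decide +kernel
theorem d₂_tbl : ∀ i : Fin 4, tvf (w2 1 3 2) (tvf (w2 1 3 0) (Pi.single i 1)) = dg (0, 1, 0) (Pi.single i 1) := by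
  decide +kernel
theorem d₃_tbl : ∀ i : Fin 4, tvf (w2 2 3 2) (tvf (w2 2 3 0) (Pi.single i 1)) = dg (0, 0, 1) (Pi.single i 1) := by
  decide +kernel

theorem dg_add_v (a : A3) (x y : V4) : dg a (x + y) = dg a x + dg a y := funext fun _ => mul_add _ _ _
theorem dg_smul (a : A3) (c : K) (x : V4) : dg a (c • x) = c • dg a x := funext fun i => by
  simp only [dg, Pi.smul_apply, smul_eq_mul]; ring

theorem act_eq_dg {g : U4} {a : A3} (H : ∀ i : Fin 4, act g (Pi.single i 1) = dg a (Pi.single i 1)) (x : V4) :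
    act g x = dg a x := by
  have hx : x = x 0 • Pi.single 0 1 + x 1 • Pi.single 1 1 + x 2 • Pi.single 2 1 + x 3 • Pi.single 3 1 := by
    funext i; fin_cases i <;> simp
  conv_lhs => rw [hx]
  conv_rhs => rw [hx]
  simp only [act_add, act_smul, dg_add_v, dg_smul, H]

theorem pw_add : ∀ m n : ZMod 3, pw (m + n) = pw m * pw n := by decide +kernel

theorem e_add (a b : A3) (i : Fin 4) : e (a + b) i = e a i + e b i := by
  fin_cases i <;> simp [e]; ring

theorem e_zero : ∀ i, e 0 i = 0 := by decide +kernel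

theorem dg_dg (a b : A3) (x : V4) : dg a (dg b x) = dg (a + b) x := by
  funext i; simp only [dg, e_add, pw_add]; ring

theorem dg_zero (x : V4) : dg 0 x = x := by
  funext i; simp [dg, e_zero, pw]

/-- The diagonal element. -/
noncomputable def tor (a : A3) : U4 := d₁ ^ a.1.val * d₂ ^ a.2.1.val * d₃ ^ a.2.2.val

theorem act_d₁ (x : V4) : act d₁ x = dg (1, 0, 0) x := act_eq_dg (fun i => by
  rw [d₁, act_mul, act_t4 (iso_w2 _ _ _ (by decide)), act_t4 (iso_w2 _ _ _ (by decide)), d₁_tbl]) x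
theorem act_d₂ (x : V4) : act d₂ x = dg (0, 1, 0) x := act_eq_dg (fun i => by
  rw [d₂, act_mul, act_t4 (iso_w2 _ _ _ (by decide)), act_t4 (iso_w2 _ _ _ (by decide)), d₂_tbl]) x
theorem act_d₃ (x : V4) : act d₃ x = dg (0, 0, 1) x := act_eq_dg (fun i => by
  rw [d₃, act_mul, act_t4 (iso_w2 _ _ _ (by decide)), act_t4 (iso_w2 _ _ _ (by decide)), d₃_tbl]) x

theorem act_pow {g : U4} {a : A3} (h : ∀ x, act g x = dg a x) : ∀ (n : ℕ) (x : V4), act (g ^ n) x = dg (n • a) x
  | 0, x => by rw [pow_zero, act_one, zero_smul, dg_zero]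
  | n + 1, x => by rw [pow_succ, act_mul, act_pow h n, h, dg_dg, succ_nsmul]

theorem a_decomp : ∀ a : A3, a.1.val • ((1, 0, 0) : A3) + a.2.1.val • (0, 1, 0) + a.2.2.val • (0, 0, 1) = a := by
  decide +kernel

theorem act_tor (a : A3) (x : V4) : act (tor a) x = dg a x := by
  rw [tor, act_mul, act_mul, act_pow act_d₁, act_pow act_d₂, act_pow act_d₃, dg_dg, dg_dg, a_decomp]

theorem tor_add (a b : A3) : tor (a + b) = tor a * tor b :=
  act_ext fun x => by simp only [act_mul, act_tor, dg_dg]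

theorem tor_zero : tor 0 = 1 := act_ext fun x => by rw [act_tor, dg_zero, act_one]

theorem tor_inj : Function.Injective tor := by
  have key : ∀ a : A3, (∀ i, pw (e a i) = 1) → a = 0 := by decide +kernel
  intro a b h
  refine sub_eq_zero.1 (key _ fun i => ?_)
  have h2 : tor (a - b) = 1 := by
    refine mul_right_cancel (b := tor b) ?_
    rw [← tor_add, sub_add_cancel, h, one_mul]
  have := congrFun (congrArg (fun g => act g (Pi.single i (1 : K))) h2) i
  simpa [act_tor, act_one, dg] using this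

/-- The exponents after exchanging two coordinates. -/
def sw (i j : Fin 4) (a : A3) : A3 :=
  let f := fun k => e a (Equiv.swap i j k)
  (f 0, f 1, f 2)

theorem w2_tbl : ∀ i j : Fin 4, i ≠ j → ∀ n a, ∀ k : Fin 4,
    tvf (w2 i j n) (dg a (Pi.single k 1)) = dg (sw i j a) (tvf (w2 i j n) (Pi.single k 1)) := by decide +kernel

theorem w2_tor {i j : Fin 4} (h : i ≠ j) (n : ZMod 3) (a : A3) :
    t4 (w2 i j n) * tor a = tor (sw i j a) * t4 (w2 i j n) := by
  refine ext_basis fun k => ?_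
  rw [act_mul, act_mul, act_tor, act_tor, act_t4 (iso_w2 i j n h), act_t4 (iso_w2 i j n h), w2_tbl i j h n a k]

/-! ### An element mixing the last three coordinates -/

/-- The centre of a transvection of weight four. -/
def r₁ : V4 := ![1, om, om, om]
/-- See `r₁`. -/
def r₂ : V4 := ![1, 1, 1, 1]

theorem iso_r₁ : hf r₁ r₁ = 0 := by decide +kernel
theorem iso_r₂ : hf r₂ r₂ = 0 := by decide +kernel

/-- The element. -/
noncomputable def g₀ : U4 := t4 r₁ * t4 r₂

theorem act_g₀ (x : V4) : act g₀ x = tvf r₁ (tvf r₂ x) := by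
  rw [g₀, act_mul, act_t4 iso_r₁, act_t4 iso_r₂]

/-- The diagonal element commuting with `g₀`. -/
def a₀ : A3 := (0, 1, 1)

theorem g₀_tor : g₀ * tor a₀ = tor a₀ * g₀ := by
  refine ext_basis fun k => ?_
  simp only [act_mul, act_tor, act_g₀]
  revert k
  decide +kernel

theorem g₀_cube : g₀ * (g₀ * g₀) = 1 := by
  refine ext_basis fun k => ?_
  simp only [act_mul, act_g₀, act_one]
  revert k
  decide +kernel

/-- The centre of weight four reached from weight two. -/
def p₄ : V4 := fun _ => pw 2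

theorem g₀_w2 : ∃ c : K, c ≠ 0 ∧ act g₀ (w2 0 3 0) = c • fun i => ![1, 1, 1, om ^ 2] i := by
  rw [act_g₀]
  decide +kernel

/-- The monomial transvections and `g₀`. -/
def gens : Set U4 := {x | ∃ i j n, i ≠ j ∧ x = t4 (w2 i j n)} ∪ {g₀}

theorem iso_cases : ∀ x : V4, x ≠ 0 → hf x x = 0 →
    (∃ i j : Fin 4, i ≠ j ∧ ∃ n : ZMod 3, ∃ c : K, c ≠ 0 ∧ x = c • w2 i j n) ∨
      ∃ a : A3, ∃ c : K, c ≠ 0 ∧ x = c • dg a ![1, 1, 1, om ^ 2] := by decide +kernel

theorem tor_mem (a : A3) : tor a ∈ Subgroup.closure gens := by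
  have h : ∀ i j n, i ≠ j → t4 (w2 i j n) ∈ Subgroup.closure gens := fun i j n h =>
    Subgroup.subset_closure (Or.inl ⟨i, j, n, h, rfl⟩)
  refine mul_mem (mul_mem (pow_mem ?_ _) (pow_mem ?_ _)) (pow_mem ?_ _) <;>
    exact mul_mem (h _ _ _ (by decide)) (h _ _ _ (by decide))

theorem gens_top : Subgroup.closure gens = ⊤ := by
  rw [eq_top_iff, ← closure_tvs, Subgroup.closure_le]
  rintro _ ⟨x, hx, rfl⟩
  rcases iso_cases x hx.1 hx.2 with ⟨i, j, hij, n, c, hc, rfl⟩ | ⟨a, c, hc, rfl⟩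
  · rw [t4, tv_smul cardK (w2_iso hij n) hc]
    exact Subgroup.subset_closure (Or.inl ⟨i, j, n, hij, rfl⟩)
  · obtain ⟨c', hc', e'⟩ := g₀_w2
    set y : V4 := ![1, 1, 1, om ^ 2] with hy
    have hyi : Iso y := ⟨by rw [hy]; decide +kernel, by rw [hy]; decide +kernel⟩
    have hz : t4 y = g₀ * t4 (w2 0 3 0) * g₀⁻¹ := by
      rw [t4, t4, tv_conj_inv cardK g₀ (iso_w2 0 3 0 (by decide)), e']
      exact (tv_smul cardK hyi hc').symm
    have hm : t4 y ∈ Subgroup.closure gens := by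
      rw [hz]
      exact mul_mem (mul_mem (Subgroup.subset_closure (Or.inr rfl))
        (Subgroup.subset_closure (Or.inl ⟨0, 3, 0, by decide, rfl⟩))) (inv_mem (Subgroup.subset_closure (Or.inr rfl)))
    rw [← act_tor, t4, tv_smul cardK (hyi.act _) hc, ← tv_conj_inv cardK (tor a) hyi.2]
    exact mul_mem (mul_mem (tor_mem a) hm) (inv_mem (tor_mem a))

/-! ### Two transvections -/

/-- A product of two orthogonal monomial transvections. -/
noncomputable def s₂ : U4 := t4 (w2 0 1 0) * t4 (w2 2 3 0)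

/-- The centres of a shear at `p₀`. -/
def sh (m : K) : V4 := p₀ + m • ![0, 0, 1, om]

theorem iso_sh : ∀ m, hf (sh m) (sh m) = 0 := by decide +kernel

theorem pair_tbl : ∀ x : V4, x ≠ 0 → hf x x = 0 → hf p₀ x = 0 → (∀ c : K, x ≠ c • p₀) →
    ∃ a : A3, ∃ m m' d : K, d ≠ 0 ∧ (∃ c : K, c ≠ 0 ∧ tvf (sh m) (tvf (sh m') (dg a p₀)) = c • p₀) ∧
      tvf (sh m) (tvf (sh m') (dg a x)) = d • q₀ := by decide +kernel

theorem exists_conj_pair {p q : V4} (h : OrthPair p q) : ∃ g : U4, g * (t4 p * t4 q) * g⁻¹ = s₂ := by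
  obtain ⟨b, hb⟩ := exists_act cardK (by norm_num) h.1 std_pair.1
  have hq : Iso (act b q) := h.2.1.act b
  obtain ⟨a, m, m', d, hd, ⟨c, hc, h1⟩, h2⟩ := pair_tbl (act b q) hq.1 hq.2
    (by rw [← hb, act_hf]; exact h.2.2.1) (fun c e => h.2.2.2 c ((act_eq_iff b).1 (by rw [act_smul, hb, e])))
  set g := t4 (sh m) * t4 (sh m') * tor a * b with hg
  have e1 : act g p = c • p₀ := by
    rw [hg, act_mul, hb, act_mul, act_mul, act_tor, act_t4 (iso_sh m'), act_t4 (iso_sh m), h1]
  have e2 : act g q = d • q₀ := by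
    rw [hg, act_mul, act_mul, act_mul, act_tor, act_t4 (iso_sh m'), act_t4 (iso_sh m), h2]
  refine ⟨g, ?_⟩
  have e3 : p₀ = w2 0 1 0 ∧ q₀ = w2 2 3 0 := by decide +kernel
  rw [show g * (t4 p * t4 q) * g⁻¹ = g * t4 p * g⁻¹ * (g * t4 q * g⁻¹) by group, t4, t4,
    tv_conj_inv cardK g h.1.2, tv_conj_inv cardK g h.2.1.2, e1, e2, tv_smul cardK std_pair.1 hc,
    tv_smul cardK std_pair.2.1 hd, e3.1, e3.2]
  rfl

/-- The involutions up to conjugation. -/
theorem invol_conj {r : U4} (hr : r * r = 1) (hne : r ≠ 1) :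
    ∃ g : U4, g * r * g⁻¹ = t4 (w2 0 1 0) ∨ g * r * g⁻¹ = s₂ := by
  rcases invol_cases hr hne with ⟨p, hp, rfl⟩ | ⟨p, q, h, rfl⟩
  · obtain ⟨g, hg⟩ := exists_act cardK (by norm_num) hp (w2_iso (i := 0) (j := 1) (by decide) 0)
    exact ⟨g, Or.inl (by rw [t4, tv_conj_inv cardK g hp.2, hg])⟩
  · obtain ⟨g, hg⟩ := exists_conj_pair h
    exact ⟨g, Or.inr hg⟩

end Cfsg.Agent.U62Rec
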