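/-
Eight-dimensional orthogonal modules of SU(4,2) over two elements, split by the diagonal subgroup.

* `Rep V` : the module; `Rep.W k` : the thirteen homogeneous parts, `Rep.fixT` the fixed part;
* `Rep.dichotomy` : either four parts of order four at the weight-one characters, or the fixed part and
  three parts, each of order four.
-/
import Cfsg.Agent.Lib.U62Rec.HypTorus

set_option autoImplicit false

namespace Cfsg.Agent.U62Rec

open Cfsg.Agent.ThreeTransSU

/-- A faithful orthogonal module of order 256. -/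
structure Rep (V : Type*) [AddCommGroup V] where
  /-- The action. -/
  act : U4 → V →+ V
  /-- The quadratic form. -/
  q : V → ZMod 2
  /-- The alternating form. -/
  β : V → V → ZMod 2
  act_one : ∀ v, act 1 v = v
  act_mul : ∀ g h v, act (g * h) v = act g (act h v)
  self : ∀ v : V, v + v = 0
  q_add : ∀ x y, q (x + y) = q x + q y + β x y
  β_add : ∀ x y w, β (x + y) w = β x w + β y w
  β_nondeg : ∀ x, (∀ y, β x y = 0) → x = 0
  q_act : ∀ g v, q (act g v) = q v
  faithful : ∀ g, (∀ v, act g v = v) → g = 1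
  card : Nat.card V = 256

theorem two_cases (a : ZMod 2) : a = 0 ∨ a = 1 := by revert a; decide

/-- The pairing of exponents. -/
def dot (a b : A3) : ZMod 3 := e a 0 * e b 0 + e a 1 * e b 1 + e a 2 * e b 2 + e a 3 * e b 3

/-- The thirteen characters up to sign: four of weight one, three of weight four, six of weight two. -/
def chr : Fin 13 → A3 :=
  ![(0, 1, 1), (1, 0, 1), (1, 1, 0), (1, 1, 1), (1, 1, 2), (1, 2, 1), (1, 2, 2),
    (1, 2, 0), (1, 0, 2), (1, 0, 0), (0, 1, 2), (0, 1, 0), (0, 0, 1)]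

theorem cnt_thirteen : ∀ a : A3,
    (Finset.univ.filter fun k => dot a (chr k) = 0).card % 2 = if a = 0 then 1 else 0 := by decide +kernel
theorem cnt_cross : ∀ k l, k ≠ l → ∀ r : ZMod 3,
    (Finset.univ.filter fun a : A3 => dot a (chr l) = 0 ∧ dot a (chr k) = r).card = 3 := by decide +kernel
theorem cnt_all : ∀ k, ∀ r : ZMod 3,
    (Finset.univ.filter fun a : A3 => dot a (chr k) = r).card = 9 := by decide +kernel
theorem dot_add : ∀ a b c : A3, dot (a + b) c = dot a c + dot b c := by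
  intro a b c; simp only [dot, e_add]; ring
theorem card_A3 : Fintype.card A3 = 27 := by decide +kernel

section
variable {M : Type*} [AddCommGroup M] (h2 : ∀ v : M, v + v = 0)
include h2

theorem nsmul_eq (n : ℕ) (v : M) : n • v = if n % 2 = 1 then v else 0 := by
  induction n with
  | zero => simp
  | succ m ih =>
    rw [succ_nsmul, ih]
    rcases Nat.mod_two_eq_zero_or_one m with h | h
    · simp [h, Nat.add_mod]
    · simp [h, Nat.add_mod, h2]

theorem odd_smul {n : ℕ} (h : n % 2 = 1) (v : M) : n • v = v := by rw [nsmul_eq h2, if_pos h]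

end

theorem count_aux (u a b c : ℕ) (h : u + 4 * a + 3 * b + 6 * c = 8) (ha : a ≠ 1) (hb : b ≠ 1) (hc : c ≠ 1) :
    c = 0 ∧ ((a = 2 ∧ b = 0 ∧ u = 0) ∨ (b = 2 ∧ a = 0 ∧ u = 2) ∨ (a = 0 ∧ b = 0 ∧ u = 8)) := by omega

theorem triv_of_card {M : Type*} [AddCommGroup M] {S : AddSubgroup M} (h : Nat.card S = 1) : ∀ v ∈ S, v = 0 := by
  intro v hv
  haveI : Subsingleton S := (Nat.card_eq_one_iff_unique.1 h).1
  exact congrArg Subtype.val (Subsingleton.elim (⟨v, hv⟩ : S) 0)

namespace Rep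

variable {V : Type*} [AddCommGroup V] (ρ : Rep V)
include ρ

/-- The action of the diagonal subgroup. -/
noncomputable def ta (a : A3) : V →+ V := ρ.act (tor a)

/-- The projection on the fixed part. -/
noncomputable def eT (v : V) : V := ∑ a : A3, ρ.ta a v

/-- The projection on a part. -/
noncomputable def prj (k : Fin 13) (v : V) : V :=
  (∑ a ∈ Finset.univ.filter (fun a : A3 => dot a (chr k) = 0), ρ.ta a v) + ρ.eT v

theorem ta_add (a b : A3) (v : V) : ρ.ta (a + b) v = ρ.ta a (ρ.ta b v) := by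
  rw [ta, ta, ta, tor_add, ρ.act_mul]

theorem ta_zero (v : V) : ρ.ta 0 v = v := by rw [ta, tor_zero, ρ.act_one]

theorem neg_eq (v : V) : -v = v := neg_eq_of_add_eq_zero_left (ρ.self v)

theorem eq_of_add {x y : V} (h : x + y = 0) : x = y := (eq_neg_of_add_eq_zero_left h).trans (ρ.neg_eq y)

theorem ta_eT (b : A3) (v : V) : ρ.ta b (ρ.eT v) = ρ.eT v := by
  rw [eT, map_sum]
  exact Fintype.sum_equiv (Equiv.addLeft b) _ _ fun a => (ρ.ta_add b a v).symm

theorem eT_fix {v : V} (h : ∀ a, ρ.ta a v = v) : ρ.eT v = v := by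
  rw [eT, Finset.sum_congr rfl fun a _ => h a, Finset.sum_const, Finset.card_univ, card_A3]
  exact odd_smul ρ.self (by norm_num) v

theorem eT_add (x y : V) : ρ.eT (x + y) = ρ.eT x + ρ.eT y := by
  simp only [eT, map_add, Finset.sum_add_distrib]

theorem eT_zero : ρ.eT 0 = 0 := by simp [eT]

theorem prj_add (k : Fin 13) (x y : V) : ρ.prj k (x + y) = ρ.prj k x + ρ.prj k y := by
  simp only [prj, ρ.eT_add, map_add, Finset.sum_add_distrib]; abel

theorem prj_zero (k : Fin 13) : ρ.prj k 0 = 0 := by simp [prj, ρ.eT_zero]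

theorem eT_eT (v : V) : ρ.eT (ρ.eT v) = ρ.eT v := ρ.eT_fix fun a => ρ.ta_eT a v

theorem eT_comm (b : A3) (v : V) : ρ.eT (ρ.ta b v) = ρ.eT v := by
  rw [eT, eT]
  exact Fintype.sum_equiv (Equiv.addRight b) _ _ fun a => (ρ.ta_add a b v).symm

theorem eT_prj (k : Fin 13) (v : V) : ρ.eT (ρ.prj k v) = 0 := by
  have hs : ∀ s : Finset A3, ρ.eT (∑ a ∈ s, ρ.ta a v) = s.card • ρ.eT v := fun s => by
    induction s using Finset.induction_on with
    | empty => simp [ρ.eT_zero]
    | insert a t ha ih => rw [Finset.sum_insert ha, ρ.eT_add, ih, ρ.eT_comm, Finset.card_insert_of_notMem ha, succ_nsmul']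
  rw [prj, ρ.eT_add, hs, ρ.eT_eT, cnt_all k 0, odd_smul ρ.self (by norm_num), ρ.self]

theorem prj_fix (k : Fin 13) {b : A3} (hb : dot b (chr k) = 0) (v : V) : ρ.ta b (ρ.prj k v) = ρ.prj k v := by
  rw [prj, map_add, ρ.ta_eT, map_sum]
  congr 1
  refine Finset.sum_equiv (Equiv.addLeft b) (fun a => ?_) fun a _ => (ρ.ta_add b a v).symm
  simp [dot_add, hb]

theorem sum_prj (v : V) : ∑ k : Fin 13, ρ.prj k v + ρ.eT v = v := by
  simp only [prj, Finset.sum_add_distrib, Finset.sum_filter]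
  rw [Finset.sum_comm (f := fun k (a : A3) => if dot a (chr k) = 0 then ρ.ta a v else 0)]
  have h : ∀ a : A3, (∑ k : Fin 13, if dot a (chr k) = 0 then ρ.ta a v else 0) = if a = 0 then v else 0 := by
    intro a
    rw [← Finset.sum_filter, Finset.sum_const, nsmul_eq ρ.self, cnt_thirteen a]
    by_cases ha : a = 0
    · simp [ha, ρ.ta_zero]
    · simp [ha]
  rw [Finset.sum_congr rfl fun a _ => h a, Finset.sum_ite_eq' Finset.univ (0 : A3), if_pos (Finset.mem_univ _),
    Finset.sum_const, Finset.card_univ, Fintype.card_fin, odd_smul ρ.self (by norm_num), add_assoc, ρ.self,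
    add_zero]

/-- The fixed part. -/
noncomputable def fixT : AddSubgroup V where
  carrier := {v | ∀ a, ρ.ta a v = v}
  zero_mem' := fun a => map_zero _
  add_mem' := fun {x y} hx hy a => by rw [map_add, hx a, hy a]
  neg_mem' := fun {x} hx a => by rw [map_neg, hx a]

/-- A homogeneous part. -/
noncomputable def W (k : Fin 13) : AddSubgroup V where
  carrier := {v | (∀ a, dot a (chr k) = 0 → ρ.ta a v = v) ∧ ρ.eT v = 0}
  zero_mem' := ⟨fun a _ => map_zero _, ρ.eT_zero⟩
  add_mem' := fun {x y} hx hy => ⟨fun a ha => by rw [map_add, hx.1 a ha, hy.1 a ha], by rw [ρ.eT_add, hx.2, hy.2, add_zero]⟩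
  neg_mem' := fun {x} hx => by rw [ρ.neg_eq]; exact hx

theorem mem_fixT {v : V} : v ∈ ρ.fixT ↔ ∀ a, ρ.ta a v = v := Iff.rfl

theorem mem_W {k : Fin 13} {v : V} : v ∈ ρ.W k ↔ (∀ a, dot a (chr k) = 0 → ρ.ta a v = v) ∧ ρ.eT v = 0 := Iff.rfl

theorem eT_mem (v : V) : ρ.eT v ∈ ρ.fixT := fun a => ρ.ta_eT a v

theorem prj_mem (k : Fin 13) (v : V) : ρ.prj k v ∈ ρ.W k :=
  ⟨fun _ ha => ρ.prj_fix k ha v, ρ.eT_prj k v⟩

theorem W_ta {k : Fin 13} {w : V} (hw : w ∈ ρ.W k) {a b : A3} (h : dot a (chr k) = dot b (chr k)) :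
    ρ.ta a w = ρ.ta b w := by
  have h0 : dot (-b + a) (chr k) = 0 := by
    have := dot_add b (-b + a) (chr k)
    rw [add_neg_cancel_left, h] at this
    simpa using this
  calc ρ.ta a w = ρ.ta (b + (-b + a)) w := by rw [add_neg_cancel_left]
    _ = ρ.ta b w := by rw [ρ.ta_add, hw.1 _ h0]

theorem prj_W_self {k : Fin 13} {w : V} (hw : w ∈ ρ.W k) : ρ.prj k w = w := by
  rw [prj, hw.2, add_zero, Finset.sum_congr rfl (fun a ha => hw.1 a (Finset.mem_filter.1 ha).2), Finset.sum_const,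
    cnt_all k 0]
  exact odd_smul ρ.self (by norm_num) w

theorem prj_W_other {k l : Fin 13} (hkl : k ≠ l) {w : V} (hw : w ∈ ρ.W k) : ρ.prj l w = 0 := by
  classical
  have hrep : ∀ r : ZMod 3, ∃ a : A3, dot a (chr k) = r := fun r => by
    have h := cnt_all k r
    have hne : (Finset.univ.filter fun a : A3 => dot a (chr k) = r).Nonempty := Finset.card_pos.1 (by omega)
    exact ⟨_, (Finset.mem_filter.1 hne.choose_spec).2⟩
  choose rep hr using hrep
  have key : ∀ s : Finset A3, (∀ r, (s.filter fun a => dot a (chr k) = r).card % 2 = 1) →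
      ∑ a ∈ s, ρ.ta a w = ∑ r : ZMod 3, ρ.ta (rep r) w := by
    intro s hs
    rw [← Finset.sum_fiberwise s (fun a => dot a (chr k))]
    refine Finset.sum_congr rfl fun r _ => ?_
    rw [Finset.sum_congr rfl (fun a ha => ρ.W_ta hw ((Finset.mem_filter.1 ha).2.trans (hr r).symm)),
      Finset.sum_const, odd_smul ρ.self (hs r)]
  have h1 := key Finset.univ fun r => by rw [cnt_all k r]
  have h2 := key (Finset.univ.filter fun a : A3 => dot a (chr l) = 0) fun r => by
    rw [Finset.filter_filter, cnt_cross k l hkl r]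
  rw [prj, hw.2, add_zero, h2, ← h1]
  exact hw.2

theorem fix_prj {u : V} (hu : u ∈ ρ.fixT) (k : Fin 13) : ρ.prj k u = 0 := by
  rw [prj, ρ.eT_fix hu, Finset.sum_congr rfl (fun a _ => hu a), Finset.sum_const, cnt_all k 0,
    odd_smul ρ.self (by norm_num)]
  exact ρ.self u

/-- The decomposition. -/
noncomputable def split : V ≃ ↥ρ.fixT × ((k : Fin 13) → ↥(ρ.W k)) where
  toFun v := (⟨ρ.eT v, ρ.eT_mem v⟩, fun k => ⟨ρ.prj k v, ρ.prj_mem k v⟩)
  invFun p := (∑ k, (p.2 k : V)) + p.1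
  left_inv v := ρ.sum_prj v
  right_inv := by
    rintro ⟨u, w⟩
    refine Prod.ext (Subtype.ext ?_) (funext fun l => Subtype.ext ?_)
    · show ρ.eT _ = _
      rw [ρ.eT_add, ρ.eT_fix u.2]
      have hz : ∀ s : Finset (Fin 13), ρ.eT (∑ k ∈ s, (w k : V)) = 0 := fun s => by
        induction s using Finset.induction_on with
        | empty => simp [ρ.eT_zero]
        | insert a t ha ih => rw [Finset.sum_insert ha, ρ.eT_add, (w a).2.2, ih, add_zero]
      rw [hz, zero_add]
    · show ρ.prj l _ = _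
      rw [ρ.prj_add, ρ.fix_prj u.2, add_zero]
      have hz : ∀ s : Finset (Fin 13), ρ.prj l (∑ k ∈ s, (w k : V)) = if l ∈ s then (w l : V) else 0 := fun s => by
        induction s using Finset.induction_on with
        | empty => simp [ρ.prj_zero]
        | insert a t ha ih =>
          rw [Finset.sum_insert ha, ρ.prj_add, ih]
          by_cases h : a = l
          · subst h; simp [ρ.prj_W_self (w a).2, ha]
          · simp [ρ.prj_W_other h (w a).2, h, Ne.symm h]
      rw [hz, if_pos (Finset.mem_univ l)]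

/-! ### The monomial transvections permute the parts -/

theorem act_tor_comm {s : U4} {σ : A3 → A3} (hσ : ∀ a, s * tor a = tor (σ a) * s) (a : A3) (v : V) :
    ρ.act s (ρ.ta a v) = ρ.ta (σ a) (ρ.act s v) := by
  rw [ta, ta, ← ρ.act_mul, hσ, ρ.act_mul]

theorem eT_s {s : U4} {σ : A3 ≃ A3} (hσ : ∀ a, s * tor a = tor (σ a) * s) (v : V) :
    ρ.act s (ρ.eT v) = ρ.eT (ρ.act s v) := by
  rw [eT, map_sum, eT]
  exact Fintype.sum_equiv σ _ _ fun a => ρ.act_tor_comm hσ a v

theorem prj_s {s : U4} {σ : A3 ≃ A3} (hσ : ∀ a, s * tor a = tor (σ a) * s) {k l : Fin 13}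
    (hkl : ∀ a, dot (σ a) (chr l) = 0 ↔ dot a (chr k) = 0) (v : V) :
    ρ.act s (ρ.prj k v) = ρ.prj l (ρ.act s v) := by
  rw [prj, prj, map_add, ρ.eT_s hσ, map_sum]
  congr 1
  exact Finset.sum_equiv σ (fun a => by simp [hkl a]) fun a _ => ρ.act_tor_comm hσ a v

end Rep

/-- The exchange as a permutation. -/
def swE (i j : Fin 4) : A3 ≃ A3 where
  toFun := sw i j
  invFun := sw i j
  left_inv := by revert i j; decide +kernel
  right_inv := by revert i j; decide +kernel

/-- The pair exchanged by the `m`-th adjacent transposition. -/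
def adj : Fin 3 → Fin 4 × Fin 4 := ![(0, 1), (1, 2), (2, 3)]

/-- The image of a part under an exchange. -/
def imgChr (i j : Fin 4) (k : Fin 13) : Fin 13 :=
  ((List.finRange 13).find? fun l => decide (∀ a, dot (sw i j a) (chr l) = 0 ↔ dot a (chr k) = 0)).getD 0

theorem imgChr_spec : ∀ i j : Fin 4, ∀ k, ∀ a, dot (sw i j a) (chr (imgChr i j k)) = 0 ↔ dot a (chr k) = 0 := by
  decide +kernel

theorem imgChr_invol : ∀ i j : Fin 4, ∀ k, imgChr i j (imgChr i j k) = k := by decide +kernel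

/-- The class of a part. -/
def lev (k : Fin 13) : Fin 3 := if k.val < 4 then 0 else if k.val < 7 then 1 else 2

theorem lev_path : ∀ k l, lev k = lev l → ∃ a b c : Fin 4 × Fin 4, a.1 ≠ a.2 ∧ b.1 ≠ b.2 ∧ c.1 ≠ c.2 ∧
    (l = imgChr a.1 a.2 k ∨ l = imgChr b.1 b.2 (imgChr a.1 a.2 k) ∨
      l = imgChr c.1 c.2 (imgChr b.1 b.2 (imgChr a.1 a.2 k))) := by decide +kernel

namespace Rep

variable {V : Type*} [AddCommGroup V] (ρ : Rep V)
include ρ

/-- A monomial transvection carries a part to its image. -/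
theorem w2_prj {i j : Fin 4} (h : i ≠ j) (n : ZMod 3) (k : Fin 13) (v : V) :
    ρ.act (t4 (w2 i j n)) (ρ.prj k v) = ρ.prj (imgChr i j k) (ρ.act (t4 (w2 i j n)) v) :=
  ρ.prj_s (σ := swE i j) (fun a => w2_tor h n a) (imgChr_spec i j k) v

theorem w2_W {i j : Fin 4} (h : i ≠ j) (n : ZMod 3) {k : Fin 13} {w : V} (hw : w ∈ ρ.W k) :
    ρ.act (t4 (w2 i j n)) w ∈ ρ.W (imgChr i j k) := by
  rw [← ρ.prj_W_self hw, ρ.w2_prj h n]
  exact ρ.prj_mem _ _

theorem finite : Finite V := Nat.finite_of_card_ne_zero (by rw [ρ.card]; norm_num)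

theorem act_injective (g : U4) : Function.Injective (ρ.act g) := fun x y h => by
  have := congrArg (ρ.act g⁻¹) h
  rwa [← ρ.act_mul, ← ρ.act_mul, inv_mul_cancel, ρ.act_one, ρ.act_one] at this

theorem card_W_img {i j : Fin 4} (h : i ≠ j) (k : Fin 13) :
    Nat.card (ρ.W k) = Nat.card (ρ.W (imgChr i j k)) := by
  haveI := ρ.finite
  have key : ∀ k, Nat.card (ρ.W k) ≤ Nat.card (ρ.W (imgChr i j k)) := fun k =>
    Nat.card_le_card_of_injective (fun w : ρ.W k => (⟨_, ρ.w2_W h 0 w.2⟩ : ρ.W (imgChr i j k)))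
      fun x y hxy => Subtype.ext (ρ.act_injective _ (congrArg Subtype.val hxy))
  refine le_antisymm (key k) ?_
  have := key (imgChr i j k)
  rwa [imgChr_invol] at this

theorem card_W_lev {k l : Fin 13} (h : lev k = lev l) : Nat.card (ρ.W k) = Nat.card (ρ.W l) := by
  obtain ⟨a, b, c, ha, hb, hc, e | e | e⟩ := lev_path k l h <;> subst e
  · exact ρ.card_W_img ha k
  · exact (ρ.card_W_img ha k).trans (ρ.card_W_img hb _)
  · exact ((ρ.card_W_img ha k).trans (ρ.card_W_img hb _)).trans (ρ.card_W_img hc _)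

theorem card_sub (S : AddSubgroup V) : ∃ m, m ≤ 8 ∧ Nat.card S = 2 ^ m := by
  have h := AddSubgroup.card_addSubgroup_dvd_card S
  rw [ρ.card, show 256 = 2 ^ 8 by norm_num] at h
  exact (Nat.dvd_prime_pow Nat.prime_two).1 h

theorem card_W_ne_two (k : Fin 13) : Nat.card (ρ.W k) ≠ 2 := by
  classical
  intro h
  haveI := ρ.finite
  haveI : Nontrivial (ρ.W k) := Finite.one_lt_card_iff_nontrivial.1 (by omega)
  obtain ⟨⟨w, hw⟩, hne⟩ := exists_ne (0 : ρ.W k)
  have hall : ∀ a, ρ.ta a w = w := by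
    intro a
    have hm : ρ.ta a w ∈ ρ.W k := ⟨fun b hb => by
      rw [← ρ.ta_add, add_comm, ρ.ta_add, hw.1 b hb], by rw [ρ.eT_comm, hw.2]⟩
    obtain ⟨x, y, -, hu⟩ := Nat.card_eq_two_iff.1 h
    have m : ∀ s : ρ.W k, s = x ∨ s = y := fun s => by
      have := Set.mem_univ s
      rw [← hu] at this
      simpa using this
    have hne' : (⟨_, hm⟩ : ρ.W k) ≠ 0 := fun e0 => hne (Subtype.ext (ρ.act_injective (tor a)
      (show ρ.ta a w = ρ.ta a 0 from (congrArg Subtype.val e0).trans (map_zero (ρ.ta a)).symm)))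
    have : (⟨_, hm⟩ : ρ.W k) = ⟨w, hw⟩ := by
      rcases m 0 with e0 | e0 <;> rcases m ⟨_, hm⟩ with e1 | e1 <;> rcases m ⟨w, hw⟩ with e2 | e2 <;>
        first | exact e1.trans e2.symm | exact absurd (e1.trans e0.symm) hne' | exact absurd (e2.trans e0.symm) hne
    exact congrArg Subtype.val this
  exact hne (Subtype.ext ((ρ.eT_fix hall).symm.trans hw.2))

/-- The natural shape. -/
def IsNat : Prop :=
  (∀ k, lev k = 0 → Nat.card (ρ.W k) = 4) ∧ (∀ k, lev k ≠ 0 → ∀ v ∈ ρ.W k, v = 0) ∧ ∀ v ∈ ρ.fixT, v = 0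

/-- The reducible shape. -/
def IsRed : Prop :=
  Nat.card ρ.fixT = 4 ∧ (∀ k, lev k = 1 → Nat.card (ρ.W k) = 4) ∧ ∀ k, lev k ≠ 1 → ∀ v ∈ ρ.W k, v = 0

theorem dichotomy : ρ.IsNat ∨ ρ.IsRed := by
  haveI := ρ.finite
  obtain ⟨u, hu8, hu⟩ := ρ.card_sub ρ.fixT
  obtain ⟨a, ha8, ha⟩ := ρ.card_sub (ρ.W 0)
  obtain ⟨b, hb8, hb⟩ := ρ.card_sub (ρ.W 4)
  obtain ⟨c, hc8, hc⟩ := ρ.card_sub (ρ.W 7)
  have h := Nat.card_congr ρ.split
  rw [ρ.card, Nat.card_prod, Nat.card_pi, hu] at h
  have hW : ∀ k, Nat.card (ρ.W k) = 2 ^ (if lev k = 0 then a else if lev k = 1 then b else c) := by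
    intro k
    rcases (show lev k = 0 ∨ lev k = 1 ∨ lev k = 2 from by revert k; decide) with e | e | e
    · rw [ρ.card_W_lev (l := 0) (by rw [e]; decide), ha, if_pos e]
    · rw [ρ.card_W_lev (l := 4) (by rw [e]; decide), hb, if_neg (by rw [e]; decide), if_pos e]
    · rw [ρ.card_W_lev (l := 7) (by rw [e]; decide), hc, if_neg (by rw [e]; decide), if_neg (by rw [e]; decide)]
  rw [Finset.prod_congr rfl (fun k _ => hW k), Finset.prod_pow_eq_pow_sum, ← pow_add] at h
  have h' : u + 4 * a + 3 * b + 6 * c = 8 := by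
    have e8 := Nat.pow_right_injective le_rfl ((show (2 : ℕ) ^ 8 = 256 by norm_num).trans h)
    simp [Fin.sum_univ_succ, lev] at e8
    omega
  have n1 : ∀ k m, Nat.card (ρ.W k) = 2 ^ m → m ≠ 1 := fun k m hm e1 =>
    ρ.card_W_ne_two k (by rw [hm, e1, pow_one])
  have hh := count_aux u a b c h' (n1 0 a ha) (n1 4 b hb) (n1 7 c hc)
  obtain ⟨rfl, ⟨rfl, rfl, rfl⟩ | ⟨rfl, rfl, rfl⟩ | ⟨rfl, rfl, rfl⟩⟩ := hh
  · refine Or.inl ⟨fun k hk => by rw [hW, if_pos hk]; norm_num, fun k hk => triv_of_card ?_, triv_of_card (by rw [hu]; norm_num)⟩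
    rw [hW, if_neg hk]; split_ifs <;> norm_num
  · refine Or.inr ⟨by rw [hu]; norm_num, fun k hk => by rw [hW, if_neg (by rw [hk]; decide), if_pos hk]; norm_num,
      fun k hk => triv_of_card ?_⟩
    rw [hW, if_neg hk]; split_ifs <;> norm_num
  · exfalso
    have h0 : ∀ k, ∀ v ∈ ρ.W k, v = 0 := fun k => triv_of_card (by rw [hW]; split_ifs <;> norm_num)
    have hfix : ∀ v, ρ.act (tor (1, 0, 0)) v = v := fun v => by
      have hv := ρ.sum_prj v
      rw [Finset.sum_eq_zero fun k _ => h0 k _ (ρ.prj_mem k v), zero_add] at hv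
      rw [← hv]
      exact ρ.ta_eT _ v
    have := tor_inj ((ρ.faithful _ hfix).trans tor_zero.symm)
    exact absurd this (by decide)

end Rep

end Cfsg.Agent.U62Rec
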