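/-
A module of natural shape is the natural module: a field structure commuting with the action.

* `Rep.exists_natural` : coordinates and an automorphism of SU(4,2) carrying the action to the natural one.
-/
import Cfsg.Agent.Lib.U62Rec.HypRep

set_option autoImplicit false

namespace Cfsg.Agent.U62Rec

open Cfsg.Agent.ThreeTransSU
open scoped Matrix

/-- A part of weight one. -/
def blk (j : Fin 4) : Fin 13 := Fin.castLE (by norm_num) j

/-- An element acting on the `j`-th part by `om`. -/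
def aj : Fin 4 → A3 := ![(1, 0, 0), (0, 1, 0), (0, 0, 1), (0, 0, 2)]

theorem lev_blk : ∀ j, lev (blk j) = 0 := by decide
theorem lev_zero : ∀ k, lev k = 0 → ∃ j, k = blk j := by decide
theorem dot_blk : ∀ a j, dot a (chr (blk j)) = - e a j := by decide +kernel
theorem e_aj : ∀ j, e (aj j) j = 1 := by decide
theorem blk_inj : ∀ i j, blk i = blk j → i = j := by decide
theorem imgChr_blk : ∀ i j k : Fin 4, i ≠ j → imgChr i j (blk k) = blk (Equiv.swap i j k) := by decide +kernel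
theorem e_sw : ∀ i j k : Fin 4, ∀ a : A3, i ≠ j → e (sw i j a) (Equiv.swap i j k) = e a k := by decide +kernel
theorem e_a₀ : ∀ j : Fin 4, e a₀ j = if j = 0 then 0 else 1 := by decide
theorem dot_aj : ∀ j, ∀ r : ZMod 3, dot (r.val • aj j) (chr (blk j)) = -r := by decide +kernel
theorem aj_sep : ∀ k l : Fin 4, k ≠ l → ∃ b : A3, e b k = 0 ∧ e b l = 1 := by decide +kernel

/-- Indicator of nonzero. -/
def nz (c : K) : ZMod 2 := if c = 0 then 0 else 1

theorem nz_hf : ∀ x : V4, (nz (x 0) + nz (x 1) + nz (x 2) + nz (x 3) = 0 ↔ hf x x = 0) := by decide +kernel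
theorem k_pow_four : ∀ c : K, c ^ 4 = c := by decide +kernel
theorem k_four : ∀ c : K, c = 0 ∨ c = 1 ∨ c = om ∨ c = om * om := by decide +kernel
theorem k_tbl : (1 : K) + 1 = 0 ∧ (1 : K) + om = om * om ∧ (1 : K) + om * om = om ∧ om + om * om = 1 ∧
    om * (om * om) = 1 ∧ om ≠ 0 ∧ om ≠ 1 ∧ om * om ≠ 0 ∧ om * om ≠ 1 ∧ om * om ≠ om := by decide +kernel

theorem SU_eq_one {n : ℕ} {d : K} (hn : n = 2) (h : d ^ n = 1) : d = 1 := by
  subst hn
  revert h; revert d; decide +kernel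

namespace Rep

variable {V : Type*} [AddCommGroup V] (ρ : Rep V) (hN : ρ.IsNat)

/-- The scalar of order three. -/
noncomputable def Om : V →+ V where
  toFun v := ∑ j : Fin 4, ρ.ta (aj j) (ρ.prj (blk j) v)
  map_zero' := by simp [ρ.prj_zero]
  map_add' x y := by simp [ρ.prj_add, map_add, Finset.sum_add_distrib]

include hN

theorem sum_blk (v : V) : ∑ j : Fin 4, ρ.prj (blk j) v = v := by
  classical
  have h := ρ.sum_prj v
  rw [hN.2.2 _ (ρ.eT_mem v), add_zero] at h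
  conv_rhs => rw [← h]
  refine Finset.sum_bij_ne_zero (fun j _ _ => blk j) (fun j _ _ => Finset.mem_univ _)
    (fun i _ _ j _ _ e => blk_inj i j e) (fun k _ hk => ?_) fun j _ _ => rfl
  by_cases hl : lev k = 0
  · obtain ⟨j, rfl⟩ := lev_zero k hl
    exact ⟨j, Finset.mem_univ _, hk, rfl⟩
  · exact absurd (hN.2.1 k hl _ (ρ.prj_mem k v)) hk

theorem Om_W {j : Fin 4} {w : V} (hw : w ∈ ρ.W (blk j)) {a : A3} (ha : e a j = 1) : ρ.Om w = ρ.ta a w := by
  show ∑ i : Fin 4, ρ.ta (aj i) (ρ.prj (blk i) w) = _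
  rw [Finset.sum_eq_single j (fun i _ hi => by
      rw [ρ.prj_W_other (fun h => hi (blk_inj _ _ h).symm) hw, map_zero])
    (fun h => absurd (Finset.mem_univ j) h), ρ.prj_W_self hw]
  exact ρ.W_ta hw (by rw [dot_blk, dot_blk, ha, e_aj])

omit hN in
theorem ta_W {k : Fin 13} {w : V} (hw : w ∈ ρ.W k) (b : A3) : ρ.ta b w ∈ ρ.W k :=
  ⟨fun a ha => by rw [← ρ.ta_add, add_comm, ρ.ta_add, hw.1 a ha], by rw [ρ.eT_comm, hw.2]⟩

theorem Om_rel (v : V) : v + ρ.Om v + ρ.Om (ρ.Om v) = 0 := by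
  have key : ∀ j, ∀ w ∈ ρ.W (blk j), w + ρ.Om w + ρ.Om (ρ.Om w) = 0 := by
    intro j w hw
    rw [ρ.Om_W hN hw (e_aj j), ρ.Om_W hN (ρ.ta_W hw _) (e_aj j), ← ρ.ta_add]
    have h := hw.2
    rw [eT, ← Finset.sum_fiberwise Finset.univ (fun a : A3 => dot a (chr (blk j)))] at h
    have hr := dot_aj j
    rw [Finset.sum_congr rfl fun r _ => by
      rw [Finset.sum_congr rfl fun a ha => ρ.W_ta hw (b := (-r).val • aj j)
          ((Finset.mem_filter.1 ha).2.trans (by rw [hr, neg_neg])),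
        Finset.sum_const, cnt_all, odd_smul ρ.self (by norm_num)],
      show (Finset.univ : Finset (ZMod 3)) = {0, 2, 1} from by decide,
      Finset.sum_insert (by decide), Finset.sum_insert (by decide), Finset.sum_singleton] at h
    rw [show (-(0 : ZMod 3)).val = 0 from by decide, show (-(2 : ZMod 3)).val = 1 from by decide,
      show (-(1 : ZMod 3)).val = 2 from by decide, zero_smul, one_smul, two_nsmul, ρ.ta_zero, ← add_assoc] at h
    exact h
  conv_lhs => rw [← ρ.sum_blk hN v]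
  rw [map_sum, map_sum, ← Finset.sum_add_distrib, ← Finset.sum_add_distrib]
  exact Finset.sum_eq_zero fun j _ => key j _ (ρ.prj_mem _ v)

theorem Om_sq (v : V) : ρ.Om (ρ.Om v) = v + ρ.Om v :=
  ρ.eq_of_add ((add_comm _ _).trans (ρ.Om_rel hN v))

omit hN in
/-- Multiplication by a scalar. -/
noncomputable def sc (c : K) (v : V) : V :=
  if c = 0 then 0 else if c = 1 then v else if c = om then ρ.Om v else ρ.Om (ρ.Om v)

omit hN in
theorem sc_vals (v : V) : ρ.sc 0 v = 0 ∧ ρ.sc 1 v = v ∧ ρ.sc om v = ρ.Om v ∧ ρ.sc (om * om) v = ρ.Om (ρ.Om v) := by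
  obtain ⟨-, -, -, -, -, h1, h2, h3, h4, h5⟩ := k_tbl
  simp [sc, h1, h2, h3, h4, h5]

omit hN in
theorem sc_map (g : V →+ V) (hg : ∀ v, g (ρ.Om v) = ρ.Om (g v)) (c : K) (v : V) : g (ρ.sc c v) = ρ.sc c (g v) := by
  unfold sc
  split_ifs
  exacts [map_zero _, rfl, hg v, by rw [hg, hg]]

omit hN in
theorem sc_addv (c : K) (x y : V) : ρ.sc c (x + y) = ρ.sc c x + ρ.sc c y := by
  unfold sc; split_ifs <;> simp [map_add]

omit hN in
theorem sc_zero (c : K) : ρ.sc c 0 = 0 := by unfold sc; split_ifs <;> simp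

theorem sc_add (c d : K) (v : V) : ρ.sc (c + d) v = ρ.sc c v + ρ.sc d v := by
  obtain ⟨v0, v1, v2, v3⟩ := ρ.sc_vals v
  obtain ⟨t1, t2, t3, t4, -, -⟩ := k_tbl
  have h := ρ.Om_sq hN v
  have s := ρ.self
  have hx : ∀ a b : V, a + (a + b) = b := fun a b => by rw [← add_assoc, s, zero_add]
  rcases k_four c with rfl | rfl | rfl | rfl <;> rcases k_four d with rfl | rfl | rfl | rfl <;>
    simp only [k_add_self, zero_add, add_zero, v0, v1, v2, v3, t1, t2, t3, t4, add_comm om 1, add_comm (om * om) 1,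
      add_comm (om * om) om, s] <;>
    simp [h, add_comm, add_left_comm, add_assoc, s, hx]

theorem Om_cube (v : V) : ρ.Om (ρ.Om (ρ.Om v)) = v := by
  rw [ρ.Om_sq hN v, map_add, ρ.Om_sq hN v, add_left_comm, ρ.self, add_zero]

theorem sc_om (c : K) (v : V) : ρ.sc (om * c) v = ρ.Om (ρ.sc c v) := by
  obtain ⟨v0, v1, v2, v3⟩ := ρ.sc_vals v
  rcases k_four c with rfl | rfl | rfl | rfl
  · rw [mul_zero, v0, map_zero]
  · rw [mul_one, v1, v2]
  · rw [v2, v3]
  · rw [k_tbl.2.2.2.2.1, v1, v3, ρ.Om_cube hN]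

theorem sc_mul (c d : K) (v : V) : ρ.sc (c * d) v = ρ.sc c (ρ.sc d v) := by
  obtain ⟨v0, v1, v2, v3⟩ := ρ.sc_vals (ρ.sc d v)
  rcases k_four c with rfl | rfl | rfl | rfl
  · rw [zero_mul, v0, (ρ.sc_vals v).1]
  · rw [one_mul, v1]
  · rw [v2, ρ.sc_om hN]
  · rw [v3, mul_assoc, ρ.sc_om hN, ρ.sc_om hN]

theorem sc_W {j : Fin 4} {w : V} (hw : w ∈ ρ.W (blk j)) (c : K) : ρ.sc c w ∈ ρ.W (blk j) := by
  have hO : ∀ w ∈ ρ.W (blk j), ρ.Om w ∈ ρ.W (blk j) := fun w hw => by
    rw [ρ.Om_W hN hw (e_aj j)]; exact ρ.ta_W hw _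
  unfold sc; split_ifs
  exacts [zero_mem _, hw, hO w hw, hO _ (hO w hw)]

theorem sc_eq_zero {c : K} {v : V} (hc : c ≠ 0) (h : ρ.sc c v = 0) : v = 0 := by
  have := congrArg (ρ.sc c⁻¹) h
  rwa [← ρ.sc_mul hN, inv_mul_cancel₀ hc, (ρ.sc_vals v).2.1, ρ.sc_zero] at this

theorem exists_basis (j : Fin 4) : ∃ f ∈ ρ.W (blk j), f ≠ 0 := by
  by_contra! h
  have h4 := hN.1 _ (lev_blk j)
  haveI : Subsingleton (ρ.W (blk j)) := ⟨fun x y => Subtype.ext ((h x x.2).trans (h y y.2).symm)⟩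
  rw [Nat.card_of_subsingleton (0 : ρ.W (blk j))] at h4
  exact absurd h4 (by norm_num)

omit hN in
theorem β_comm (x y : V) : ρ.β x y = ρ.β y x := by
  have h1 := ρ.q_add x y
  have h2 := ρ.q_add y x
  rw [add_comm y x, h1, add_comm (ρ.q y)] at h2
  exact add_left_cancel h2

omit hN in
theorem β_addr (x y w : V) : ρ.β x (y + w) = ρ.β x y + ρ.β x w := by
  rw [ρ.β_comm, ρ.β_add, ρ.β_comm y, ρ.β_comm w]

omit hN in
theorem β_zero (x : V) : ρ.β x 0 = 0 := by
  have := ρ.β_addr x 0 0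
  rw [add_zero] at this
  simpa using this

omit hN in
theorem q_zero : ρ.q 0 = 0 := by
  have := ρ.q_add 0 0
  rw [add_zero, ρ.β_zero, add_zero] at this
  simpa using this

omit hN in
theorem β_act (g : U4) (x y : V) : ρ.β (ρ.act g x) (ρ.act g y) = ρ.β x y := by
  have h1 := ρ.q_add (ρ.act g x) (ρ.act g y)
  rw [← map_add, ρ.q_act, ρ.q_act, ρ.q_act, ρ.q_add x y] at h1
  exact (add_left_cancel h1).symm

theorem orth {k l : Fin 4} (hkl : k ≠ l) {w u : V} (hw : w ∈ ρ.W (blk k)) (hu : u ∈ ρ.W (blk l)) :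
    ρ.β w u = 0 := by
  obtain ⟨b, hbk, hbl⟩ := aj_sep k l hkl
  have hfix : ρ.act (tor b) w = w := hw.1 b (by rw [dot_blk, hbk, neg_zero])
  have key : ∀ y ∈ ρ.W (blk l), ρ.β w (y + ρ.Om y) = 0 := fun y hy => by
    rw [ρ.β_addr, ρ.Om_W hN hy hbl]
    have h1 := ρ.β_act (tor b) w y
    rw [hfix] at h1
    rw [ta, h1]
    exact ZModModule.add_self _
  have h2 := key _ (by rw [ρ.Om_W hN hu (e_aj l)]; exact ρ.ta_W hu _ : ρ.Om u ∈ ρ.W (blk l))
  rw [ρ.Om_sq hN, add_left_comm, ρ.self, add_zero] at h2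
  exact h2

theorem q_block {j : Fin 4} {f : V} (hf : f ∈ ρ.W (blk j)) (hne : f ≠ 0) (c : K) :
    ρ.q (ρ.sc c f) = nz c := by
  have hO : ∀ y ∈ ρ.W (blk j), ρ.q (ρ.Om y) = ρ.q y := fun y hy => by
    rw [ρ.Om_W hN hy (e_aj j), ta, ρ.q_act]
  have hOm : ρ.Om f ∈ ρ.W (blk j) := by rw [ρ.Om_W hN hf (e_aj j)]; exact ρ.ta_W hf _
  have hq : ρ.q f = 1 := by
    refine (two_cases _).resolve_left fun h0 => hne (ρ.β_nondeg f fun y => ?_)
    have hb : ∀ d : K, ρ.β f (ρ.sc d f) = 0 := by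
      have hff : ρ.β f f = 0 := by
        have := ρ.q_add f f
        rwa [ρ.self, ρ.q_zero, h0, zero_add, zero_add, eq_comm] at this
      have hfO : ρ.β f (ρ.Om f) = 0 := by
        have := ρ.q_add f (ρ.Om f)
        rwa [← ρ.Om_sq hN, hO _ hOm, hO _ hf, h0, zero_add, zero_add, eq_comm] at this
      intro d
      obtain ⟨v0, v1, v2, v3⟩ := ρ.sc_vals f
      rcases k_four d with rfl | rfl | rfl | rfl
      exacts [by rw [v0, ρ.β_zero], by rw [v1, hff], by rw [v2, hfO],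
        by rw [v3, ρ.Om_sq hN, ρ.β_addr, hff, hfO, add_zero]]
    have hsurj : ∀ w ∈ ρ.W (blk j), ∃ d : K, w = ρ.sc d f := by
      have hinj : Function.Injective (fun d : K => (⟨_, ρ.sc_W hN hf d⟩ : ρ.W (blk j))) := by
        intro c d h
        have h' : ρ.sc c f = ρ.sc d f := congrArg Subtype.val h
        by_contra hne'
        refine hne (ρ.sc_eq_zero hN (c := c + d) (fun e => hne' (k_eq_of_add _ _ e)) ?_)
        rw [ρ.sc_add hN, h', ρ.self]
      haveI := ρ.finite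
      have hbij := Nat.bijective_iff_injective_and_card _ |>.2 ⟨hinj, by
        rw [hN.1 _ (lev_blk j), Nat.card_eq_fintype_card, cardK]⟩
      intro w hw
      obtain ⟨d, hd⟩ := hbij.2 ⟨w, hw⟩
      exact ⟨d, (congrArg Subtype.val hd).symm⟩
    rw [← ρ.sum_blk hN y]
    have hz : ∀ s : Finset (Fin 4), ρ.β f (∑ i ∈ s, ρ.prj (blk i) y) = 0 := fun s => by
      induction s using Finset.induction_on with
      | empty => rw [Finset.sum_empty, ρ.β_zero]
      | insert a t ha ih =>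
        rw [Finset.sum_insert ha, ρ.β_addr, ih, add_zero]
        by_cases h : j = a
        · subst h
          obtain ⟨d, hd⟩ := hsurj _ (ρ.prj_mem _ y)
          rw [hd, hb]
        · exact ρ.orth hN h hf (ρ.prj_mem _ y)
    exact hz _
  obtain ⟨v0, v1, v2, v3⟩ := ρ.sc_vals f
  obtain ⟨-, -, -, -, -, h1, -, h3, -, -⟩ := k_tbl
  rcases k_four c with rfl | rfl | rfl | rfl
  · rw [v0, ρ.q_zero]; rfl
  · rw [v1, hq]; exact (if_neg one_ne_zero).symm
  · rw [v2, hO f hf, hq]; exact (if_neg h1).symm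
  · rw [v3, hO _ hOm, hO f hf, hq]; exact (if_neg h3).symm

/-! ### The action commutes with the scalars -/

theorem Om_w2 {i j : Fin 4} (h : i ≠ j) (n : ZMod 3) (v : V) :
    ρ.act (t4 (w2 i j n)) (ρ.Om v) = ρ.Om (ρ.act (t4 (w2 i j n)) v) := by
  have key : ∀ k, ∀ w ∈ ρ.W (blk k), ρ.act (t4 (w2 i j n)) (ρ.Om w) = ρ.Om (ρ.act (t4 (w2 i j n)) w) := by
    intro k w hw
    have hm := ρ.w2_W h n hw
    rw [imgChr_blk i j k h] at hm
    rw [ρ.Om_W hN hw (e_aj k), ρ.act_tor_comm (fun a => w2_tor h n a),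
      ρ.Om_W hN hm (a := sw i j (aj k)) (by rw [e_sw i j k _ h, e_aj])]
  conv_lhs => rw [← ρ.sum_blk hN v]
  conv_rhs => rw [← ρ.sum_blk hN v]
  simp only [map_sum]
  exact Finset.sum_congr rfl fun k _ => key k _ (ρ.prj_mem _ v)

theorem prj_zero_eq (v : V) : ρ.prj (blk 0) v = v + ρ.ta a₀ v + ρ.ta a₀ (ρ.ta a₀ v) := by
  have key : ∀ j, ∀ w ∈ ρ.W (blk j), w + ρ.ta a₀ w + ρ.ta a₀ (ρ.ta a₀ w) = ρ.prj (blk 0) w := by
    intro j w hw
    by_cases h : j = 0
    · subst h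
      have h1 := hw.1 a₀ (by rw [dot_blk, e_a₀]; rfl)
      rw [h1, h1, ρ.prj_W_self hw, ρ.self, zero_add]
    · have hO : ρ.Om w ∈ ρ.W (blk j) := by rw [ρ.Om_W hN hw (e_aj j)]; exact ρ.ta_W hw _
      have he : e a₀ j = 1 := by rw [e_a₀, if_neg h]
      rw [ρ.prj_W_other (fun e => h (blk_inj _ _ e)) hw, ← ρ.Om_W hN hw he, ← ρ.Om_W hN hO he, ρ.Om_rel hN]
  conv_lhs => rw [← ρ.sum_blk hN v]
  conv_rhs => rw [← ρ.sum_blk hN v]
  have hz : ∀ s : Finset (Fin 4), ρ.prj (blk 0) (∑ i ∈ s, ρ.prj (blk i) v) =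
      ∑ i ∈ s, ρ.prj (blk 0) (ρ.prj (blk i) v) := fun s => by
    induction s using Finset.induction_on with
    | empty => simp [ρ.prj_zero]
    | insert a t ha ih => rw [Finset.sum_insert ha, Finset.sum_insert ha, ρ.prj_add, ih]
  rw [hz]
  simp only [map_sum, ← Finset.sum_add_distrib]
  exact Finset.sum_congr rfl fun j _ => (key j _ (ρ.prj_mem _ v)).symm

theorem g₀_prj (v : V) : ρ.act g₀ (ρ.prj (blk 0) v) = ρ.prj (blk 0) (ρ.act g₀ v) := by
  have h : ∀ u, ρ.act g₀ (ρ.ta a₀ u) = ρ.ta a₀ (ρ.act g₀ u) := fun u => by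
    rw [ta, ← ρ.act_mul, g₀_tor, ρ.act_mul]
  rw [ρ.prj_zero_eq hN, ρ.prj_zero_eq hN, map_add, map_add, h, h, h]

theorem klein {g : V → V} (hadd : ∀ x y, g (x + y) = g x + g y) (h3 : ∀ x, g (g (g x)) = x)
    (hW : ∀ w ∈ ρ.W (blk 0), g w ∈ ρ.W (blk 0)) : ∀ w ∈ ρ.W (blk 0), g (ρ.Om w) = ρ.Om (g w) := by
  intro w hw
  by_cases h0 : w = 0
  · subst h0
    have hg0 : g 0 = 0 := by
      have := hadd 0 0
      rw [add_zero] at this
      exact left_eq_add.1 this
    rw [map_zero, hg0, map_zero]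
  have hcase : ∀ y ∈ ρ.W (blk 0), y = 0 ∨ y = w ∨ y = ρ.Om w ∨ y = ρ.Om (ρ.Om w) := by
    haveI := ρ.finite
    have hinj : Function.Injective (fun d : K => (⟨_, ρ.sc_W hN hw d⟩ : ρ.W (blk 0))) := by
      intro c d h
      have h' : ρ.sc c w = ρ.sc d w := congrArg Subtype.val h
      by_contra hne'
      refine h0 (ρ.sc_eq_zero hN (c := c + d) (fun e => hne' (k_eq_of_add _ _ e)) ?_)
      rw [ρ.sc_add hN, h', ρ.self]
    have hbij := Nat.bijective_iff_injective_and_card _ |>.2 ⟨hinj, by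
      rw [hN.1 _ (lev_blk 0), Nat.card_eq_fintype_card, cardK]⟩
    intro y hy
    obtain ⟨d, hd⟩ := hbij.2 ⟨y, hy⟩
    have hd' : ρ.sc d w = y := congrArg Subtype.val hd
    obtain ⟨v0, v1, v2, v3⟩ := ρ.sc_vals w
    rcases k_four d with rfl | rfl | rfl | rfl <;> simp [← hd', v0, v1, v2, v3]
  have ne1 : ρ.Om w ≠ w := fun e => h0 (by
    have := ρ.Om_rel hN w
    rwa [e, e, ρ.self, zero_add] at this)
  have hO : ρ.Om w ∈ ρ.W (blk 0) := by rw [ρ.Om_W hN hw (e_aj 0)]; exact ρ.ta_W hw _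
  have hg0 : ∀ y, g y = 0 → y = 0 := fun y hy => by
    have hz : g 0 = 0 := by
      have := hadd 0 0
      rw [add_zero] at this
      exact left_eq_add.1 this
    rw [← h3 y, hy, hz, hz]
  have ginj : ∀ x y, g x = g y → x = y := fun x y h => by rw [← h3 x, h, h3]
  have hc3 := ρ.Om_cube hN w
  have hP : ρ.Om (ρ.Om w) = w + ρ.Om w := ρ.Om_sq hN w
  have neP : ρ.Om (ρ.Om w) ≠ w := fun e => ne1 (by
    have := congrArg ρ.Om e
    rw [hc3] at this
    exact this.symm)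
  have nePO : ρ.Om (ρ.Om w) ≠ ρ.Om w := fun e => neP (by
    have := congrArg ρ.Om e
    rw [hc3] at this
    exact this.symm)
  have hgP : g (ρ.Om (ρ.Om w)) = g w + g (ρ.Om w) := by rw [hP, hadd]
  have hO0 : g (ρ.Om w) ≠ 0 := fun x => h0 (by rw [← hc3, hg0 _ x, map_zero, map_zero])
  rcases hcase _ (hW w hw) with e | e | e | e
  · exact absurd (hg0 _ e) h0
  · rcases hcase _ (hW _ hO) with d | d | d | d
    · exact absurd d hO0
    · exact absurd (ginj _ _ (d.trans e.symm)) ne1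
    · rw [d, e]
    · exfalso
      have h1 : g (ρ.Om (ρ.Om w)) = ρ.Om w := by rw [hgP, e, d, hP, ← add_assoc, ρ.self, zero_add]
      have h2 := h3 (ρ.Om w)
      rw [d, h1, d] at h2
      exact nePO h2
  · rcases hcase _ (hW _ hO) with d | d | d | d
    · exact absurd d hO0
    · exfalso
      have h2 := h3 w
      rw [e, d, e] at h2
      exact ne1 h2
    · exact absurd (ginj _ _ (d.trans e.symm)) ne1
    · rw [d, e]
  · rcases hcase _ (hW _ hO) with d | d | d | d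
    · exact absurd d hO0
    · rw [d, e, hc3]
    · exfalso
      have h1 : g (ρ.Om (ρ.Om w)) = w := by rw [hgP, e, d, hP, add_assoc, ρ.self, add_zero]
      have h2 := h3 w
      rw [e, h1, e] at h2
      exact neP h2
    · exact absurd (ginj _ _ (d.trans e.symm)) ne1

theorem g₀_Om (v : V) : ρ.act g₀ (ρ.Om v) = ρ.Om (ρ.act g₀ v) := by
  have hOm : ∀ u, ρ.Om u = ρ.ta a₀ (u + ρ.prj (blk 0) u) + ρ.Om (ρ.prj (blk 0) u) := by
    intro u
    have key : ∀ j, ∀ w ∈ ρ.W (blk j), ρ.Om w = ρ.ta a₀ (w + ρ.prj (blk 0) w) + ρ.Om (ρ.prj (blk 0) w) := by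
      intro j w hw
      by_cases h : j = 0
      · subst h
        rw [ρ.prj_W_self hw, ρ.self, map_zero, zero_add]
      · rw [ρ.prj_W_other (fun e => h (blk_inj _ _ e)) hw, add_zero, map_zero, add_zero,
          ρ.Om_W hN hw (show e a₀ j = 1 by rw [e_a₀, if_neg h])]
    have hz : ∀ s : Finset (Fin 4), ρ.Om (∑ i ∈ s, ρ.prj (blk i) u) = ρ.ta a₀ ((∑ i ∈ s, ρ.prj (blk i) u) +
        ρ.prj (blk 0) (∑ i ∈ s, ρ.prj (blk i) u)) + ρ.Om (ρ.prj (blk 0) (∑ i ∈ s, ρ.prj (blk i) u)) := fun s => by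
      induction s using Finset.induction_on with
      | empty => simp [ρ.prj_zero]
      | insert a t ha ih =>
        rw [Finset.sum_insert ha, map_add, key a _ (ρ.prj_mem _ u), ih, ρ.prj_add]
        simp only [map_add]
        abel
    have := hz Finset.univ
    rwa [ρ.sum_blk hN u] at this
  have hg : ∀ u, ρ.act g₀ (ρ.ta a₀ u) = ρ.ta a₀ (ρ.act g₀ u) := fun u => by
    rw [ta, ← ρ.act_mul, g₀_tor, ρ.act_mul]
  rw [hOm v, hOm (ρ.act g₀ v), map_add, hg, map_add, ρ.g₀_prj hN]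
  congr 1
  rw [← ρ.g₀_prj hN]
  exact ρ.klein hN (g := fun x => ρ.act g₀ x) (fun x y => map_add _ x y)
    (fun x => by rw [← ρ.act_mul, ← ρ.act_mul, mul_assoc, g₀_cube, ρ.act_one])
    (fun w hw => by show ρ.act g₀ w ∈ _; rw [← ρ.prj_W_self hw, ρ.g₀_prj hN]; exact ρ.prj_mem _ _)
    _ (ρ.prj_mem _ v)

theorem Om_act (g : U4) (v : V) : ρ.act g (ρ.Om v) = ρ.Om (ρ.act g v) := by
  let S : Subgroup U4 :=
    { carrier := {g | ∀ v, ρ.act g (ρ.Om v) = ρ.Om (ρ.act g v)}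
      one_mem' := fun v => by rw [ρ.act_one, ρ.act_one]
      mul_mem' := fun {a b} ha hb v => by rw [ρ.act_mul, hb, ha, ρ.act_mul]
      inv_mem' := fun {a} ha v => by
        refine ρ.act_injective a ?_
        rw [← ρ.act_mul, mul_inv_cancel, ρ.act_one, ha, ← ρ.act_mul, mul_inv_cancel, ρ.act_one] }
  have hS : (⊤ : Subgroup U4) ≤ S := by
    rw [← gens_top, Subgroup.closure_le]
    rintro x (⟨i, j, n, hij, rfl⟩ | hx)
    · exact fun v => ρ.Om_w2 hN hij n v
    · rw [Set.mem_singleton_iff.1 hx]; exact fun v => ρ.g₀_Om hN v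
  exact hS (Subgroup.mem_top g) v

/-- The identification. -/
theorem exists_natural : ∃ (f : V → V4) (ψ : U4 ≃* U4), Function.Bijective f ∧
    (∀ x y, f (x + y) = f x + f y) ∧ (∀ g v, f (ρ.act g v) = ThreeTransSU.act (ψ g) (f v)) ∧
    ∀ v, ρ.q v = 0 ↔ hf (f v) (f v) = 0 := by
  classical
  haveI := ρ.finite
  choose b hb hb0 using fun j => ρ.exists_basis hN j
  set F : V4 → V := fun x => ∑ j, ρ.sc (x j) (b j) with hF
  have hFadd : ∀ x y, F (x + y) = F x + F y := fun x y => by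
    simp only [hF, Pi.add_apply, ρ.sc_add hN, Finset.sum_add_distrib]
  have hFzero : F 0 = 0 := by simp [hF, (ρ.sc_vals _).1]
  have hscsum : ∀ (c : K) (h : Fin 4 → V), ρ.sc c (∑ j, h j) = ∑ j, ρ.sc c (h j) := fun c h =>
    map_sum (AddMonoidHom.mk' (ρ.sc c) (ρ.sc_addv c)) h _
  have hFsmul : ∀ (c : K) x, F (c • x) = ρ.sc c (F x) := fun c x => by
    simp only [hF, hscsum, Pi.smul_apply, smul_eq_mul, ρ.sc_mul hN]
  have hprj : ∀ x i, ρ.prj (blk i) (F x) = ρ.sc (x i) (b i) := fun x i => by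
    have hz : ∀ s : Finset (Fin 4), ρ.prj (blk i) (∑ j ∈ s, ρ.sc (x j) (b j)) =
        if i ∈ s then ρ.sc (x i) (b i) else 0 := fun s => by
      induction s using Finset.induction_on with
      | empty => simp [ρ.prj_zero]
      | insert a t ha ih =>
        rw [Finset.sum_insert ha, ρ.prj_add, ih]
        by_cases h : a = i
        · subst h; simp [ρ.prj_W_self (ρ.sc_W hN (hb a) _), ha]
        · simp [ρ.prj_W_other (fun e => h (blk_inj _ _ e)) (ρ.sc_W hN (hb a) _), h, Ne.symm h]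
    rw [hF, hz, if_pos (Finset.mem_univ i)]
  have hinj : Function.Injective F := fun x y h => funext fun i => by
    by_contra hne
    refine hb0 i (ρ.sc_eq_zero hN (c := x i + y i) (fun e => hne (k_eq_of_add _ _ e)) ?_)
    rw [ρ.sc_add hN, ← hprj, ← hprj, h, ρ.self]
  have hbij : Function.Bijective F := (Nat.bijective_iff_injective_and_card F).2 ⟨hinj, by
    rw [ρ.card, Nat.card_eq_fintype_card, Fintype.card_fun, cardK, Fintype.card_fin]; norm_num⟩
  let E := Equiv.ofBijective F hbij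
  have hqF : ∀ x, ρ.q (F x) = 0 ↔ hf x x = 0 := fun x => by
    rw [← nz_hf x, ← ρ.q_block hN (hb 0) (hb0 0), ← ρ.q_block hN (hb 1) (hb0 1), ← ρ.q_block hN (hb 2) (hb0 2),
      ← ρ.q_block hN (hb 3) (hb0 3)]
    simp only [hF, Fin.sum_univ_four]
    have o : ∀ i j : Fin 4, i ≠ j → ρ.β (ρ.sc (x i) (b i)) (ρ.sc (x j) (b j)) = 0 := fun i j h =>
      ρ.orth hN h (ρ.sc_W hN (hb i) _) (ρ.sc_W hN (hb j) _)
    rw [ρ.q_add, ρ.q_add, ρ.q_add, ρ.β_add, ρ.β_add, ρ.β_add, o 0 1 (by decide), o 0 2 (by decide),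
      o 0 3 (by decide), o 1 2 (by decide), o 1 3 (by decide), o 2 3 (by decide)]
    simp only [add_zero]
  have hEF : ∀ v, F (E.symm v) = v := E.apply_symm_apply
  have hEadd : ∀ x y, E.symm (x + y) = E.symm x + E.symm y := fun x y => hinj (by rw [hFadd, hEF, hEF, hEF])
  let lin : U4 → (V4 →ₗ[K] V4) := fun g =>
    { toFun := fun x => E.symm (ρ.act g (F x))
      map_add' := fun x y => by rw [hFadd, map_add, hEadd]
      map_smul' := fun c x => hinj (by
        rw [hEF, hFsmul, ρ.sc_map (ρ.act g) (ρ.Om_act hN g), RingHom.id_apply, hFsmul, hEF]) }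
  have hlin : ∀ g x, F (lin g x) = ρ.act g (F x) := fun g x => hEF _
  let M : U4 →* Matrix (Fin 4) (Fin 4) K :=
    { toFun := fun g => LinearMap.toMatrix' (lin g)
      map_one' := by
        rw [← LinearMap.toMatrix'_id]
        exact congrArg _ (LinearMap.ext fun x => hinj (by rw [hlin, ρ.act_one]; rfl))
      map_mul' := fun g h => by
        rw [← LinearMap.toMatrix'_comp]
        exact congrArg _ (LinearMap.ext fun x => hinj (by rw [hlin, LinearMap.comp_apply, hlin, hlin, ρ.act_mul])) }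
  have hM : ∀ g x, M g *ᵥ x = lin g x := fun g x => LinearMap.toMatrix'_mulVec _ x
  have hdet : ∀ g, (M g).det = 1 := by
    let δ : U4 →* K := Matrix.detMonoidHom.comp M
    let S : Subgroup U4 :=
      { carrier := {g | δ g = 1}
        one_mem' := map_one δ
        mul_mem' := fun {a b} ha hb => by show δ (a * b) = 1; rw [map_mul, (ha : δ a = 1), (hb : δ b = 1), one_mul]
        inv_mem' := fun {a} ha => by
          show δ a⁻¹ = 1
          rw [← one_mul (δ a⁻¹), ← (ha : δ a = 1), ← map_mul, mul_inv_cancel, map_one]; exact (ha : δ a = 1).symm }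
    have hS : (⊤ : Subgroup U4) ≤ S := by
      rw [← closure_tvs, Subgroup.closure_le]
      rintro _ ⟨p, hp, rfl⟩
      refine SU_eq_one rfl ?_
      rw [← map_pow, pow_two, U62Cover.tv_sq cardK hp.2, map_one]
    exact fun g => hS (Subgroup.mem_top g)
  have hpol : ∀ g x y, hf (M g *ᵥ x) (M g *ᵥ y) = hf x y := by
    intro g
    have hd : ∀ x, hf (lin g x) (lin g x) = hf x x := fun x => by
      have hv : ∀ t : V4, hf t t = 0 ∨ hf t t = 1 := fun t => k_cases _ ((herm cardK).self_fixed t)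
      have hiff : hf (lin g x) (lin g x) = 0 ↔ hf x x = 0 := by rw [← hqF, ← hqF, hlin, ρ.q_act]
      rcases hv (lin g x) with a | a <;> rcases hv x with c | c <;> simp [a, c] at hiff ⊢
    intro x y
    rw [hM, hM]
    refine k_eq_of_add _ _ ?_
    have key : ∀ c : K, c ^ 2 * (hf (lin g x) (lin g y) + hf x y) + (c ^ 2 * (hf (lin g x) (lin g y) + hf x y)) ^ 2 = 0 := by
      intro c
      have h := hd (x + c • y)
      rw [map_add, map_smul] at h
      simp only [hl, hr, sl, sr, hd, hs (lin g x) (lin g y), hs x y] at h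
      have h2 : (2 : K) = 0 := U62Cover.two_eq_zero cardK
      have k4 : c ^ 4 = c := k_pow_four c
      linear_combination h + (hf x y ^ 2 * c + c ^ 2 * hf x y + (hf (lin g x) (lin g y)) * hf x y * c) * h2 +
        (hf (lin g x) (lin g y) + hf x y) ^ 2 * k4
    revert key
    generalize hf (lin g x) (lin g y) + hf x y = a
    revert a
    decide +kernel
  let ψ₀ : U4 →* U4 :=
    { toFun := fun g => ⟨⟨M g, hdet g⟩, hpol g⟩
      map_one' := Subtype.ext (Subtype.ext (map_one M))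
      map_mul' := fun g h => Subtype.ext (Subtype.ext (map_mul M g h)) }
  have hψ : ∀ g x, ThreeTransSU.act (ψ₀ g) x = lin g x := fun g x => hM g x
  have hψi : Function.Injective ψ₀ := (injective_iff_map_eq_one _).2 fun g hg => ρ.faithful g fun v => by
    rw [← hEF v, ← hlin, ← hψ, hg, ThreeTransSU.act_one]
  refine ⟨E.symm, MulEquiv.ofBijective ψ₀ (Finite.injective_iff_bijective.1 hψi), E.symm.bijective, hEadd,
    fun g v => ?_, fun v => ?_⟩
  · show _ = ThreeTransSU.act (ψ₀ g) _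
    rw [hψ]
    exact hinj (by rw [hEF, hlin, hEF])
  · rw [← hqF, hEF]

end Rep

end Cfsg.Agent.U62Rec
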