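/-
An involution whose centraliser is an extraspecial group of order 2^9 extended by SU(4,2): the module.

* `Pre z` : the setting; `Pre.conj` : at a conjugate;
* `Modl P V` : coordinates of the extraspecial group modulo the centre; `Pre.exists_modl`;
* `Pre.lift_fix` : lifting the stabiliser of a vector to the centraliser of a representative.
-/
import Cfsg.Agent.Lib.U62Rec.HypRep
import Cfsg.Agent.Lib.LargeExtraspecial.Pair
import Cfsg.Agent.Lib.LargeExtraspecial.OutForm
import Cfsg.Agent.Lib.LargeExtraspecial.Simple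

set_option autoImplicit false

namespace Cfsg.Agent.U62Rec

open Cfsg.Agent.LargeExtraspecial
open scoped commutatorElement

universe u v

variable {L : Type u} [Group L]

theorem commute_conj₀ (g : L) {x y : L} (h : Commute x y) : Commute (g * x * g⁻¹) (g * y * g⁻¹) :=
  h.map (MulAut.conj g).toMonoidHom

theorem commute_conj₀' (g : L) {x z : L} (h : Commute x (g * z * g⁻¹)) : Commute (g⁻¹ * x * g) z := by
  have := commute_conj₀ g⁻¹ h
  simpa [mul_assoc] using this

/-- The setting. -/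
structure Pre (z : L) where
  /-- The extraspecial subgroup. -/
  J : Subgroup L
  /-- The map onto SU(4,2). -/
  φ : L → U4
  D : Data J z
  extra : Cfsg.IsExtraspecial 2 ↥J
  card : Nat.card J = 512
  φ_mul : ∀ g h, Commute g z → Commute h z → φ (g * h) = φ g * φ h
  φ_ker : ∀ h, Commute h z → (φ h = 1 ↔ h ∈ J)
  φ_surj : ∀ x : U4, ∃ h, Commute h z ∧ φ h = x

/-- Coordinates modulo the centre. -/
structure Modl {z : L} (P : Pre z) (V : Type v) [AddCommGroup V] where
  /-- The coordinates. -/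
  vc : L → V
  /-- The module. -/
  rep : Rep V
  vc_mul : ∀ i ∈ P.J, ∀ j ∈ P.J, vc (i * j) = vc i + vc j
  vc_surj : ∀ x : V, ∃ j ∈ P.J, vc j = x
  vc_ker : ∀ j ∈ P.J, vc j = 0 → j = 1 ∨ j = z
  vc_z : vc z = 0
  sq_iff : ∀ j ∈ P.J, (j * j = 1 ↔ rep.q (vc j) = 0)
  comm_iff : ∀ i ∈ P.J, ∀ j ∈ P.J, (Commute i j ↔ rep.β (vc i) (vc j) = 0)
  vc_conj : ∀ h, Commute h z → ∀ j ∈ P.J, vc (h * j * h⁻¹) = rep.act (P.φ h) (vc j)

namespace Pre

variable {z : L} (P : Pre z)

/-- The setting at a conjugate. -/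
def conj (g : L) : Pre (g * z * g⁻¹) where
  J := conjS g P.J
  φ h := P.φ (g⁻¹ * h * g)
  D := P.D.conjugate g
  extra := by
    exact isExtraspecial_congr (Subgroup.equivMapOfInjective P.J (MulAut.conj g).toMonoidHom (MulAut.conj g).injective) P.extra
  card := by
    rw [← P.card]
    exact (Nat.card_congr (Subgroup.equivMapOfInjective P.J (MulAut.conj g).toMonoidHom (MulAut.conj g).injective).toEquiv).symm
  φ_mul x y hx hy := by
    rw [← P.φ_mul _ _ (commute_conj₀' g hx) (commute_conj₀' g hy)]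
    congr 1
    group
  φ_ker h hh := by rw [P.φ_ker _ (commute_conj₀' g hh), mem_conjS]
  φ_surj x := by
    obtain ⟨h, hh, rfl⟩ := P.φ_surj x
    exact ⟨g * h * g⁻¹, commute_conj₀ g hh, by simp [mul_assoc]⟩

include P

theorem sq : z * z = 1 := P.D.z_sq
theorem inv : z⁻¹ = z := inv_eq_of_mul_eq_one_right P.sq
theorem ne_one : z ≠ 1 := P.D.z_ne

theorem J_comm {j : L} (hj : j ∈ P.J) : Commute j z := P.D.z_central j hj

theorem φ_J {j : L} (hj : j ∈ P.J) : P.φ j = 1 := (P.φ_ker j (P.J_comm hj)).2 hj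

theorem φ_one : P.φ 1 = 1 := P.φ_J (one_mem _)

theorem φ_inv {g : L} (hg : Commute g z) : P.φ g⁻¹ = (P.φ g)⁻¹ :=
  eq_inv_of_mul_eq_one_left (by rw [← P.φ_mul _ _ hg.inv_left hg, inv_mul_cancel, P.φ_one])

theorem φ_pow {g : L} (hg : Commute g z) : ∀ n : ℕ, P.φ (g ^ n) = P.φ g ^ n
  | 0 => by rw [pow_zero, pow_zero, P.φ_one]
  | n + 1 => by rw [pow_succ, pow_succ, P.φ_mul _ _ (hg.pow_left n) hg, φ_pow hg n]

theorem φ_conj {g h : L} (hg : Commute g z) (hh : Commute h z) :
    P.φ (g * h * g⁻¹) = P.φ g * P.φ h * (P.φ g)⁻¹ := by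
  rw [P.φ_mul _ _ (hg.mul_left hh) hg.inv_left, P.φ_mul _ _ hg hh, P.φ_inv hg]

theorem inner_of_trivial [Finite L] {h : L} (hh : Commute h z)
    (hj : ∀ j ∈ P.J, h * j * h⁻¹ = j ∨ h * j * h⁻¹ = j * z) : h ∈ P.J := by
  classical
  haveI : Fact (Cfsg.IsExtraspecial 2 ↥P.J) := ⟨P.extra⟩
  have hin : ∀ j ∈ P.J, h * j * h⁻¹ ∈ P.J := fun j hj => P.D.norm h hh j hj
  let α : MulAut ↥P.J :=
    { toFun := fun j => ⟨h * j * h⁻¹, hin j j.2⟩
      invFun := fun j => ⟨h⁻¹ * j * h, by
        have := P.D.norm h⁻¹ hh.inv_left j j.2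
        rwa [inv_inv] at this⟩
      left_inv := fun j => Subtype.ext (by simp [mul_assoc])
      right_inv := fun j => Subtype.ext (by simp [mul_assoc])
      map_mul' := fun i j => Subtype.ext (by simp [mul_assoc]) }
  have hk : α ∈ (OutForm.act ↥P.J).ker := by
    rw [MonoidHom.mem_ker]
    refine Subtype.ext (LinearEquiv.ext fun v => ?_)
    obtain ⟨j, rfl⟩ := OutForm.pr_surjective v
    show OutForm.actLin α (OutForm.pr j) = OutForm.pr j
    rw [OutForm.actLin_pr]
    rcases hj j j.2 with e | e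
    · congr 1; exact Subtype.ext e
    · have : α j = j * ⟨z, P.D.z_mem⟩ := Subtype.ext e
      rw [this, OutForm.pr_mul, OutForm.pr_eq_zero.2 (Subgroup.mem_center_iff.2 fun g =>
        Subtype.ext (P.D.z_central g g.2) : (⟨z, P.D.z_mem⟩ : P.J) ∈ _), add_zero]
  rw [OutForm.ker_eq] at hk
  obtain ⟨g, hg⟩ := hk
  have hc : ∀ q ∈ P.J, q * ((g : L)⁻¹ * h) = (g : L)⁻¹ * h * q := fun q hq => by
    have e : (g : L) * q * (g : L)⁻¹ = h * q * h⁻¹ := by
      have e0 := congrArg Subtype.val (DFunLike.congr_fun hg (⟨q, hq⟩ : P.J))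
      simpa [α] using e0
    calc q * ((g : L)⁻¹ * h) = (g : L)⁻¹ * ((g : L) * q * (g : L)⁻¹) * h := by group
      _ = (g : L)⁻¹ * (h * q * h⁻¹) * h := by rw [e]
      _ = (g : L)⁻¹ * h * q := by group
  have hm : (g : L)⁻¹ * h ∈ P.J := by
    rcases P.D.cent _ hc with e | e <;> rw [e]
    exacts [one_mem _, P.D.z_mem]
  simpa using mul_mem g.2 hm

theorem exists_modl [Finite L] : ∃ (V : Type u) (_ : AddCommGroup V), Nonempty (Modl P V) := by
  classical
  haveI : Fact (Cfsg.IsExtraspecial 2 ↥P.J) := ⟨P.extra⟩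
  have hz : OutForm.zeta ↥P.J = ⟨z, P.D.z_mem⟩ := by
    have hc : (⟨z, P.D.z_mem⟩ : P.J) ∈ Subgroup.center ↥P.J :=
      Subgroup.mem_center_iff.2 fun g => Subtype.ext (P.D.z_central g g.2)
    exact ((OutForm.zeta_cases hc).resolve_left fun h => P.ne_one (congrArg Subtype.val h)).symm
  set vc : L → OutForm.Vm ↥P.J := fun j => if h : j ∈ P.J then OutForm.pr ⟨j, h⟩ else 0 with hvc
  have hv : ∀ j : P.J, vc j = OutForm.pr j := fun j => by rw [hvc]; simp [j.2]
  have hin : ∀ h, Commute h z → ∀ j ∈ P.J, h * j * h⁻¹ ∈ P.J := fun h hh j hj => P.D.norm h hh j hj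
  choose lift hl hl' using P.φ_surj
  -- conjugation as an automorphism
  let cj : (x : U4) → MulAut ↥P.J := fun x =>
    { toFun := fun j => ⟨lift x * j * (lift x)⁻¹, hin _ (hl x) j j.2⟩
      invFun := fun j => ⟨(lift x)⁻¹ * j * lift x, by
        have := hin _ (hl x).inv_left j j.2
        rwa [inv_inv] at this⟩
      left_inv := fun j => Subtype.ext (by simp [mul_assoc])
      right_inv := fun j => Subtype.ext (by simp [mul_assoc])
      map_mul' := fun i j => Subtype.ext (by simp [mul_assoc]) }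
  let act : U4 → OutForm.Vm ↥P.J →+ OutForm.Vm ↥P.J := fun x =>
    (OutForm.actLin (cj x)).toLinearMap.toAddMonoidHom
  have hact : ∀ (h : L) (hh : Commute h z) (j : P.J),
      act (P.φ h) (OutForm.pr j) = OutForm.pr ⟨h * j * h⁻¹, hin h hh j j.2⟩ := by
    intro h hh j
    show OutForm.actLin (cj (P.φ h)) (OutForm.pr j) = _
    rw [OutForm.actLin_pr]
    set l := lift (P.φ h)
    have hm : l⁻¹ * h ∈ P.J := by
      rw [← P.φ_ker _ ((hl _).inv_left.mul_left hh), P.φ_mul _ _ (hl _).inv_left hh, P.φ_inv (hl _), hl',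
        inv_mul_cancel]
    set i : P.J := ⟨l⁻¹ * h, hm⟩
    have : (⟨h * j * h⁻¹, hin h hh j j.2⟩ : P.J) = cj (P.φ h) (i * j * i⁻¹) := Subtype.ext (by
      show h * (j : L) * h⁻¹ = l * (l⁻¹ * h * (j : L) * (l⁻¹ * h)⁻¹) * l⁻¹
      group)
    rw [this]
    refine OutForm.pr_map ?_
    rw [OutForm.pr_mul, OutForm.pr_mul, OutForm.pr_inv, add_comm (OutForm.pr i), add_assoc, ZModModule.add_self, add_zero]
  have hcomm : ∀ i j : P.J, (Commute (i : L) j ↔ QuadraticMap.polar (OutForm.qfun (E := ↥P.J)) (OutForm.pr i) (OutForm.pr j) = 0) := by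
    intro i j
    rw [OutForm.polar_pr]
    constructor
    · intro h
      rw [commutatorElement_eq_one_iff_mul_comm.2 (Subtype.ext h.eq : i * j = j * i), OutForm.eps_one]
    · intro h
      have := OutForm.eps_inj (OutForm.comm_mem i j) (one_mem _) (h.trans OutForm.eps_one.symm)
      exact congrArg Subtype.val (commutatorElement_eq_one_iff_mul_comm.1 this)
  have hsq : ∀ j : P.J, ((j : L) * j = 1 ↔ OutForm.qfun (OutForm.pr j) = 0) := by
    intro j
    rw [OutForm.qfun_pr]
    constructor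
    · intro h
      rw [(Subtype.ext h : j * j = 1), OutForm.eps_one]
    · intro h
      exact congrArg Subtype.val (OutForm.eps_inj (OutForm.sq_mem j) (one_mem _) (h.trans OutForm.eps_one.symm))
  have hsurj : ∀ v : OutForm.Vm ↥P.J, ∃ j : P.J, OutForm.pr j = v := OutForm.pr_surjective
  refine ⟨OutForm.Vm ↥P.J, inferInstance, ⟨
    { vc := vc
      rep :=
        { act := act
          q := OutForm.qfun
          β := fun x y => QuadraticMap.polar (OutForm.qfun (E := ↥P.J)) x y
          act_one := fun v => by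
            obtain ⟨j, rfl⟩ := hsurj v
            have := hact 1 (Commute.one_left z) j
            rw [P.φ_one] at this
            rw [this]
            congr 1
            exact Subtype.ext (by simp)
          act_mul := fun x y v => by
            obtain ⟨j, rfl⟩ := hsurj v
            have e := hact _ ((hl x).mul_left (hl y)) j
            rw [P.φ_mul _ _ (hl x) (hl y), hl', hl'] at e
            have e2 := hact _ (hl y) j
            rw [hl'] at e2
            have e3 := hact _ (hl x) ⟨lift y * j * (lift y)⁻¹, hin _ (hl y) j j.2⟩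
            rw [hl'] at e3
            rw [e, e2, e3]
            congr 1
            exact Subtype.ext (by simp [mul_assoc])
          self := ZModModule.add_self
          q_add := fun x y => by simp only [QuadraticMap.polar]; abel
          β_add := fun x y w => (OutForm.qf ↥P.J).polar_add_left x y w
          β_nondeg := fun x h => (Forms.nondegenerate_polarBilin_iff _).1 (OutForm.qf_nondegenerate (E := ↥P.J)) x h
          q_act := fun x v => by
            obtain ⟨j, rfl⟩ := hsurj v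
            have := hact _ (hl x) j
            rw [hl'] at this
            rw [this, OutForm.qfun_pr, OutForm.qfun_pr, ← OutForm.eps_map (cj x) (j * j), map_mul]
            rfl
          faithful := fun x hx => ?_
          card := by rw [OutForm.card_Vm (E := ↥P.J) (n := 4) (by rw [P.card]; norm_num)]; norm_num }
      vc_mul := fun i hi j hj => by
        rw [hv ⟨i, hi⟩, hv ⟨j, hj⟩, ← OutForm.pr_mul]
        exact hv (⟨i, hi⟩ * ⟨j, hj⟩)
      vc_surj := fun x => by
        obtain ⟨j, rfl⟩ := hsurj x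
        exact ⟨j, j.2, hv j⟩
      vc_ker := fun j hj h => by
        rw [hv ⟨j, hj⟩, OutForm.pr_eq_zero] at h
        rcases OutForm.zeta_cases h with e | e
        · exact Or.inl (congrArg Subtype.val e)
        · exact Or.inr (by rw [hz] at e; exact congrArg Subtype.val e)
      vc_z := by rw [hv ⟨z, P.D.z_mem⟩, OutForm.pr_eq_zero, ← hz]; exact OutForm.zeta_mem
      sq_iff := fun j hj => by rw [hv ⟨j, hj⟩]; exact hsq ⟨j, hj⟩
      comm_iff := fun i hi j hj => by rw [hv ⟨i, hi⟩, hv ⟨j, hj⟩]; exact hcomm ⟨i, hi⟩ ⟨j, hj⟩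
      vc_conj := fun h hh j hj => by
        rw [hv ⟨j, hj⟩, hv ⟨_, hin h hh j hj⟩]
        exact (hact h hh ⟨j, hj⟩).symm }⟩⟩
  -- faithfulness
  obtain ⟨h, hh, rfl⟩ : ∃ h, Commute h z ∧ P.φ h = x := P.φ_surj x
  rw [P.φ_ker h hh]
  exact P.inner_of_trivial hh fun j hj => by
    have := hact h hh ⟨j, hj⟩
    rw [hx] at this
    obtain ⟨c, hc, he⟩ := OutForm.eq_mul_center this
    rcases OutForm.zeta_cases hc with e | e
    · left
      rw [e, mul_one] at he
      exact (congrArg Subtype.val he).symm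
    · right
      rw [e, hz] at he
      have he' : j = h * j * h⁻¹ * z := congrArg Subtype.val he
      calc h * j * h⁻¹ = h * j * h⁻¹ * z * z := by rw [mul_assoc (h * j * h⁻¹) z z, P.sq, mul_one]
        _ = j * z := by rw [← he']

end Pre

namespace Modl

variable {z : L} {P : Pre z} {V : Type v} [AddCommGroup V] (M : Modl P V)

/-- The coordinates at a conjugate. -/
def conj (g : L) : Modl (P.conj g) V where
  vc x := M.vc (g⁻¹ * x * g)
  rep := M.rep
  vc_mul i hi j hj := by
    rw [← M.vc_mul _ (mem_conjS.1 hi) _ (mem_conjS.1 hj)]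
    congr 1
    group
  vc_surj x := by
    obtain ⟨j, hj, rfl⟩ := M.vc_surj x
    exact ⟨g * j * g⁻¹, mem_conjS.2 (by simpa [mul_assoc] using hj), by simp [mul_assoc]⟩
  vc_ker j hj h := by
    rcases M.vc_ker _ (mem_conjS.1 hj) h with e | e
    · exact Or.inl (by have := congrArg (fun y => g * y * g⁻¹) e; simpa [mul_assoc] using this)
    · exact Or.inr (by have := congrArg (fun y => g * y * g⁻¹) e; simpa [mul_assoc] using this)
  vc_z := by simpa [mul_assoc] using M.vc_z
  sq_iff j hj := by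
    rw [← M.sq_iff _ (mem_conjS.1 hj)]
    constructor <;> intro h
    · rw [show g⁻¹ * j * g * (g⁻¹ * j * g) = g⁻¹ * (j * j) * g by group, h, mul_one, inv_mul_cancel]
    · have := congrArg (fun y => g * y * g⁻¹) h
      simpa [mul_assoc] using this
  comm_iff i hi j hj := by
    rw [← M.comm_iff _ (mem_conjS.1 hi) _ (mem_conjS.1 hj)]
    constructor <;> intro h
    · have := commute_conj₀ g⁻¹ h
      simpa [mul_assoc] using this
    · have := commute_conj₀ g h
      simpa [mul_assoc] using this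
  vc_conj h hh j hj := by
    show M.vc (g⁻¹ * (h * j * h⁻¹) * g) = M.rep.act (P.φ (g⁻¹ * h * g)) (M.vc (g⁻¹ * j * g))
    rw [← M.vc_conj _ (commute_conj₀' g hh) _ (mem_conjS.1 hj)]
    congr 1
    group

include M

theorem vc_one : M.vc 1 = 0 := by
  have h := M.vc_mul 1 (one_mem _) 1 (one_mem _)
  rw [one_mul, M.rep.self] at h
  exact h

theorem vc_inv {j : L} (hj : j ∈ P.J) : M.vc j⁻¹ = M.vc j := by
  have h := M.vc_mul j hj j⁻¹ (inv_mem hj)
  rw [mul_inv_cancel, M.vc_one] at h
  exact (M.rep.eq_of_add h.symm).symm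

theorem vc_zmul {j : L} (hj : j ∈ P.J) : M.vc (j * z) = M.vc j := by
  rw [M.vc_mul j hj z P.D.z_mem, M.vc_z, add_zero]

theorem vc_eq_cases {i j : L} (hi : i ∈ P.J) (hj : j ∈ P.J) (h : M.vc i = M.vc j) : i = j ∨ i = j * z := by
  have h0 : M.vc (j⁻¹ * i) = 0 := by rw [M.vc_mul _ (inv_mem hj) _ hi, M.vc_inv hj, h, M.rep.self]
  rcases M.vc_ker _ (mul_mem (inv_mem hj) hi) h0 with e | e
  · exact Or.inl (inv_mul_eq_one.1 e).symm
  · exact Or.inr (inv_mul_eq_iff_eq_mul.1 e)

theorem vc_ne_zero {j : L} (hj : j ∈ P.J) (h1 : j ≠ 1) (h2 : j ≠ z) : M.vc j ≠ 0 := fun e =>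
  (M.vc_ker j hj e).elim h1 h2

/-- Lifting the stabiliser of a vector into the centraliser of a representative. -/
theorem lift_fix {t : L} (ht : t ∈ P.J) (h1 : t ≠ 1) (h2 : t ≠ z) {a : U4} (ha : M.rep.act a (M.vc t) = M.vc t) :
    ∃ h, Commute h z ∧ Commute h t ∧ P.φ h = a := by
  obtain ⟨h, hh, rfl⟩ := P.φ_surj a
  have hm : h * t * h⁻¹ ∈ P.J := P.D.norm h hh t ht
  have hv : M.vc (h * t * h⁻¹) = M.vc t := by rw [M.vc_conj h hh t ht, ha]
  rcases M.vc_eq_cases hm ht hv with e | e
  · exact ⟨h, hh, mul_inv_eq_iff_eq_mul.1 e, rfl⟩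
  · obtain ⟨j, hj, hjt⟩ := P.D.exists_conj_eq ht h1 h2
    refine ⟨j * h, (P.J_comm hj).mul_left hh, mul_inv_eq_iff_eq_mul.1 ?_, ?_⟩
    · calc j * h * t * (j * h)⁻¹ = j * (h * t * h⁻¹) * j⁻¹ := by group
        _ = j * (t * z) * j⁻¹ := by rw [e]
        _ = j * t * j⁻¹ * (j * z * j⁻¹) := by group
        _ = t * z * z := by rw [hjt, (P.J_comm hj).eq, mul_inv_cancel_right]
        _ = t := by rw [mul_assoc, P.sq, mul_one]
    · rw [P.φ_mul _ _ (P.J_comm hj) hh, P.φ_J hj, one_mul]

end Modl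

end Cfsg.Agent.U62Rec
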