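/-
SU(4,2): simplicity, and the elements squaring to a product of two orthogonal transvections.

* `simple_U4`, `commutator_U4`;
* `square_root_s₂` : such an element inverts the diagonal element `x₂` on the commutator plane.
-/
import Cfsg.Agent.Lib.U62Rec.HypTorus
import Cfsg.Agent.Lib.Unitary.Simple
import Cfsg.Agent.Lib.Unitary.Center

set_option autoImplicit false

namespace Cfsg.Agent.U62Rec

open Cfsg.Agent.ThreeTransSU Cfsg.Agent.U62Cover

theorem card_sqK : Fintype.card K = 2 ^ 2 := by rw [cardK]; norm_num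

theorem center_U4 : Subgroup.center U4 = ⊥ := by
  rw [← Subgroup.card_eq_one]
  rw [Unitary.card_center_SU card_sqK (by norm_num : 2 ≤ 4)]
  decide

theorem simple_U4 : IsSimpleGroup U4 := by
  haveI := Unitary.isSimpleGroup_PSU (n := 4) card_sqK (Or.inl le_rfl)
  exact MulEquiv.isSimpleGroup ((QuotientGroup.quotientMulEquivOfEq center_U4).trans QuotientGroup.quotientBot).symm

theorem commutator_U4 : commutator U4 = ⊤ := Unitary.commutator_SU_eq_top card_sqK (Or.inl le_rfl)

/-- A normal subgroup containing a nontrivial element is everything. -/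
theorem normal_eq_top {N : Subgroup U4} (hN : N.Normal) {x : U4} (hx : x ∈ N) (hne : x ≠ 1) : N = ⊤ := by
  haveI := simple_U4
  rcases hN.eq_bot_or_eq_top with h | h
  · exact absurd (by rw [h] at hx; exact hx) hne
  · exact h

/-- The diagonal element attached to `s₂`. -/
noncomputable def x₂ : U4 := tor (1, 1, 2)

theorem x₂_tbl : act x₂ p₀ = om • p₀ ∧ act x₂ q₀ = (om * om) • q₀ := by
  simp only [x₂, act_tor]
  decide +kernel

theorem k_pair : ∀ a b c d : K, a ^ 2 * a + b ^ 2 * b = 1 → c ^ 2 * a + d ^ 2 * b = 0 → c ^ 2 * c + d ^ 2 * d = 1 →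
    (b = 0 ∧ c = 0 ∧ a ≠ 0 ∧ d ≠ 0) ∨ (a = 0 ∧ d = 0 ∧ b ≠ 0 ∧ c ≠ 0) := by decide +kernel

theorem k_sq_one : ∀ a : K, a * a = 1 → a = 1 := by decide +kernel

theorem e₂ : p₀ = w2 0 1 0 ∧ q₀ = w2 2 3 0 := by decide +kernel

theorem s₂_eq : s₂ = t4 p₀ * t4 q₀ := by rw [e₂.1, e₂.2]; rfl

theorem s₂_sq : s₂ * s₂ = 1 := by
  rw [s₂_eq]
  have hc : t4 p₀ * t4 q₀ = t4 q₀ * t4 p₀ := tv_comm cardK std_pair.1.2 std_pair.2.1.2 std_pair.2.2.1
  calc t4 p₀ * t4 q₀ * (t4 p₀ * t4 q₀) = t4 p₀ * t4 q₀ * (t4 q₀ * t4 p₀) := by rw [← hc]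
    _ = t4 p₀ * (t4 q₀ * t4 q₀) * t4 p₀ := by group
    _ = 1 := by rw [tv_sq cardK std_pair.2.1.2, mul_one, tv_sq cardK std_pair.1.2]

theorem s₂_ne : s₂ ≠ 1 := by
  intro h
  obtain ⟨f, g, hfr⟩ := exists_frame std_pair
  have := (fix_two std_pair f).1 (by rw [← s₂_eq, h, act_one])
  rw [hfr.fp] at this
  exact one_ne_zero this.1

/-- An element fixing both centres squares to one. -/
theorem sq_of_fix_plane {h : U4} (h1 : act h p₀ = p₀) (h2 : act h q₀ = q₀) : h * h = 1 := by
  obtain ⟨f, g, hfr⟩ := exists_frame std_pair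
  refine act_ext fun x => ?_
  have y1 : hf (x + act h x) p₀ = 0 := by
    rw [hl]; conv_lhs => arg 2; rw [← h1, act_hf]
    exact k_add_self _
  have y2 : hf (x + act h x) q₀ = 0 := by
    rw [hl]; conv_lhs => arg 2; rw [← h2, act_hf]
    exact k_add_self _
  have hy : act h (x + act h x) = x + act h x := by
    conv_lhs => rw [hfr.expand (x + act h x)]
    conv_rhs => rw [hfr.expand (x + act h x)]
    simp only [y1, y2, zero_smul, add_zero, act_add, act_smul, h1, h2]
  rw [act_add, add_comm x] at hy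
  rw [act_mul, act_one]
  exact add_left_cancel hy

/-- Conjugating `x₂` by a square root of `s₂` nearly inverts it. -/
theorem square_root_s₂ {k : U4} (hk : k * k = s₂) : k * x₂ * k⁻¹ * x₂ * (k * x₂ * k⁻¹ * x₂) = 1 := by
  obtain ⟨f, g, hfr⟩ := exists_frame std_pair
  have hcomm : k * s₂ = s₂ * k := by rw [← hk, mul_assoc]
  have hR : ∀ x, hf (act k x) p₀ • p₀ + hf (act k x) q₀ • q₀ = hf x p₀ • act k p₀ + hf x q₀ • act k q₀ := by
    intro x
    rw [← R_two std_pair, ← s₂_eq, R, ← act_mul, ← hcomm, act_mul, ← act_add, ← act_smul, ← act_smul, ← act_add,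
      ← R_two std_pair, ← s₂_eq, R]
  have e1 := hR f
  have e2 := hR g
  rw [hfr.fp, hfr.fq, one_smul, zero_smul, add_zero] at e1
  rw [hfr.gp, hfr.gq, one_smul, zero_smul, zero_add] at e2
  set a := hf (act k f) p₀
  set b := hf (act k f) q₀
  set c := hf (act k g) p₀
  set d := hf (act k g) q₀
  have r1 : a ^ 2 * a + b ^ 2 * b = 1 := by
    have := act_hf k f p₀
    rwa [← e1, hr, sr, sr, hfr.fp] at this
  have r2 : c ^ 2 * a + d ^ 2 * b = 0 := by
    have := act_hf k f q₀
    rwa [← e2, hr, sr, sr, hfr.fq] at this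
  have r3 : c ^ 2 * c + d ^ 2 * d = 1 := by
    have := act_hf k g q₀
    rwa [← e2, hr, sr, sr, hfr.gq] at this
  have hs : ∀ v, hf v p₀ = 0 → hf v q₀ = 0 → act (k * k) v = v := fun v h1 h2 => by
    rw [hk, s₂_eq]; exact (fix_two std_pair v).2 ⟨h1, h2⟩
  have hpq : hf p₀ q₀ = 0 := std_pair.2.2.1
  have sp : act (k * k) p₀ = p₀ := hs p₀ std_pair.1.2 hpq
  have sq' : act (k * k) q₀ = q₀ := hs q₀ hfr.qp std_pair.2.1.2
  rcases k_pair a b c d r1 r2 r3 with ⟨hb, hc, -, -⟩ | ⟨ha, hd, hb, hc⟩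
  · exfalso
    rw [hb, zero_smul, add_zero] at e1
    rw [hc, zero_smul, zero_add] at e2
    rw [act_mul, ← e1, act_smul, ← e1, smul_smul] at sp
    rw [act_mul, ← e2, act_smul, ← e2, smul_smul] at sq'
    have a1 : a = 1 := k_sq_one a (smul_left_injective K std_pair.1.1 (sp.trans (one_smul K p₀).symm))
    have d1 : d = 1 := k_sq_one d (smul_left_injective K std_pair.2.1.1 (sq'.trans (one_smul K q₀).symm))
    exact s₂_ne (hk.symm.trans (sq_of_fix_plane (by rw [← e1, a1, one_smul]) (by rw [← e2, d1, one_smul])))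
  · rw [ha, zero_smul, zero_add] at e1
    rw [hd, zero_smul, add_zero] at e2
    have hbc : b * c = 1 := by
      rw [act_mul, ← e1, act_smul, ← e2, smul_smul] at sp
      exact smul_left_injective K std_pair.1.1 (sp.trans (one_smul K p₀).symm)
    have ki : k⁻¹ = k * s₂ := by
      refine inv_eq_of_mul_eq_one_right ?_
      rw [← mul_assoc, hk, s₂_sq]
    have kip : act k⁻¹ p₀ = b • q₀ := by
      rw [ki, act_mul, ← hk, sp, e1]
    have kiq : act k⁻¹ q₀ = c • p₀ := by
      rw [ki, act_mul, ← hk, sq', e2]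
    obtain ⟨x1, x2⟩ := x₂_tbl
    have ho : om * (om * om) = 1 := by decide +kernel
    refine sq_of_fix_plane ?_ ?_
    · simp only [act_mul, x1, act_smul, kip, x2, ← e2, smul_smul]
      rw [show om * (b * (om * om * c)) = (om * (om * om)) * (b * c) by ring, ho, hbc, one_mul, one_smul]
    · simp only [act_mul, x2, act_smul, kiq, x1, ← e1, smul_smul]
      rw [show om * om * (c * (om * b)) = (om * (om * om)) * (b * c) by ring, ho, hbc, one_mul, one_smul]

end Cfsg.Agent.U62Rec
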