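/-
The reducible shape: fixed plane, no involution with commutator space of order two, elements of order five,
square roots of involutions.

* `Rep.fix_act`, `Rep.eT_act` : the fixed plane is central and the projection on it is equivariant;
* `Rep.two_moves` : every involution moves two vectors to different differences;
* `Rep.exists_five`, `Rep.five_small`, `Rep.five_invol` : elements of order five;
* `Rep.no_root` : no element fixing the kernel of a functional on C(s) squares to an involution s.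
-/
import Cfsg.Agent.Lib.U62Rec.HypRep
import Cfsg.Agent.Lib.U62Rec.HypSimple

set_option autoImplicit false

namespace Cfsg.Agent.U62Rec

open Cfsg.Agent.ThreeTransSU

/-- A part of weight four. -/
def mid (i : Fin 3) : Fin 13 := ⟨4 + i.val, by omega⟩

/-- An element of pairing one with a part. -/
def ak (k : Fin 13) : A3 :=
  ((((List.finRange 3).flatMap fun a => (List.finRange 3).flatMap fun b => (List.finRange 3).map fun c =>
    (((a.val : ZMod 3), (b.val : ZMod 3), (c.val : ZMod 3)) : A3))).find? fun a => decide (dot a (chr k) = 1)).getD 0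

theorem dot_ak : ∀ k, dot (ak k) (chr k) = 1 := by decide +kernel
theorem dot_ak_mul : ∀ k, ∀ r : ZMod 3, dot (r.val • ak k) (chr k) = r := by decide +kernel
theorem lev_mid : ∀ i, lev (mid i) = 1 := by decide
theorem lev_one : ∀ k, lev k = 1 → ∃ i, k = mid i := by decide
theorem mid_inj : ∀ i j, mid i = mid j → i = j := by decide
theorem a₀_sep : ∀ i, dot a₀ (chr (mid i)) ≠ 0 := by decide +kernel
theorem dot_independent : ∀ d0 d1 d2 : ZMod 3, ∃ a : A3,
    dot a (chr (mid 0)) = d0 ∧ dot a (chr (mid 1)) = d1 ∧ dot a (chr (mid 2)) = d2 := by decide +kernel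
theorem swap_mid : imgChr 0 1 (mid 1) = mid 2 ∧ imgChr 0 1 (mid 2) = mid 1 ∧ imgChr 0 1 (mid 0) = mid 0 ∧
    imgChr 1 2 (mid 0) = mid 1 ∧ imgChr 1 2 (mid 1) = mid 0 ∧ imgChr 1 2 (mid 2) = mid 2 ∧
    (∀ i, imgChr 2 3 (imgChr 0 1 (mid i)) = if i = 1 then mid 1 else if i = 2 then mid 2 else mid 0) ∧
    imgChr 2 3 (mid 0) = mid 0 ∧ imgChr 2 3 (mid 1) = mid 2 ∧ imgChr 2 3 (mid 2) = mid 1 := by decide +kernel
theorem sw_zero_mid : ∀ a, dot (sw 0 1 a) (chr (mid 0)) = dot a (chr (mid 0)) ∧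
    dot (sw 2 3 a) (chr (mid 0)) = dot a (chr (mid 0)) := by decide +kernel
theorem dot_flip : ∀ i : Fin 3, i ≠ 0 → ∀ a,
    dot (sw 0 1 (sw 2 3 a)) (chr (mid i)) = - dot a (chr (mid i)) := by decide +kernel
theorem sep_chr : ∀ k l : Fin 13, k ≠ l → ∃ a, dot a (chr k) = 0 ∧ dot a (chr l) ≠ 0 := by decide +kernel
theorem shift_ne : ∀ m m' : ZMod 3, m ≠ m' → -m' + m ≠ 0 := by decide
theorem sw_double : ∀ a, dot (sw 0 1 (sw 2 3 a)) (chr (mid 1)) = - dot a (chr (mid 1)) ∧
    dot (sw 0 1 (sw 2 3 a)) (chr (mid 2)) = - dot a (chr (mid 2)) ∧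
    dot (sw 0 1 (sw 2 3 a)) (chr (mid 0)) = dot a (chr (mid 0)) := by decide +kernel

/-- Patterns of supports. -/
theorem orbit_count : ∀ P : Fin 8 → Bool, P 0 = false → (∀ b : Fin 8, P b = P ⟨b.val % 2 * 2 + b.val / 2 % 2 + b.val / 4 * 4, by omega⟩) →
    (∀ b : Fin 8, P b = P ⟨b.val % 2 + b.val / 4 * 2 + b.val / 2 % 2 * 4, by omega⟩) →
    (∑ b : Fin 8, if P b then [1, 3, 3, 9, 3, 9, 9, 27].getD b.val 0 else 0) % 5 = 0 →
    ∀ b, P b = false := by decide +kernel

theorem exists_order_five_of_dvd {G : Type*} [Group G] [Finite G] (h : 5 ∣ Nat.card G) :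
    ∃ c : G, orderOf c = 5 := by
  haveI : Fact (Nat.Prime 5) := ⟨by norm_num⟩
  exact exists_prime_orderOf_dvd_card' 5 h

theorem code_lt (f : Fin 3 → Bool) :
    (if f 0 then 1 else 0) + (if f 1 then 2 else 0) + (if f 2 then 4 else 0) < 8 := by split_ifs <;> omega

/-- The number of a pattern. -/
def code (f : Fin 3 → Bool) : Fin 8 :=
  ⟨(if f 0 then 1 else 0) + (if f 1 then 2 else 0) + (if f 2 then 4 else 0), code_lt f⟩

theorem code_inj : ∀ f g : Fin 3 → Bool, code f = code g → ∀ i, f i = g i := by decide +kernel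
theorem code_zero : ∀ f : Fin 3 → Bool, code f = 0 → ∀ i, f i = false := by decide +kernel
theorem code_swap₁ : ∀ f : Fin 3 → Bool, code (fun l => f (![1, 0, 2] l)) =
    ⟨(code f).val % 2 * 2 + (code f).val / 2 % 2 + (code f).val / 4 * 4, by omega⟩ := by decide +kernel
theorem code_swap₂ : ∀ f : Fin 3 → Bool, code (fun l => f (![0, 2, 1] l)) =
    ⟨(code f).val % 2 + (code f).val / 4 * 2 + (code f).val / 2 % 2 * 4, by omega⟩ := by decide +kernel

theorem pat_card : ∀ n : Fin 8, (Finset.univ.filter fun x : Fin 3 → Option (ZMod 3) =>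
    code (fun i => (x i).isSome) = n).card = [1, 3, 3, 9, 3, 9, 9, 27].getD n.val 0 := by decide +kernel

/-- A symmetry of the patterns. -/
theorem sym_pat {X : Type*} (P : Fin 8 → Bool) (pat : X → Fin 8) (M : X → Bool) (hM : ∀ x, M x = P (pat x))
    {σ : Fin 8 → Fin 8} {R : X → X → Prop} (h : ∀ x, M x = true → ∃ y, R x y ∧ M y = true)
    (hσ : ∀ n, σ (σ n) = n) (hR : ∀ x y, R x y → pat y = σ (pat x))
    (hall : ∀ n, P n = true → ∃ x, pat x = n := by intro n hn; exact ⟨_, (of_decide_eq_true hn).choose_spec.1⟩) :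
    ∀ n, P n = P (σ n) := by
  have one : ∀ n, P n = true → P (σ n) = true := fun n hn => by
    obtain ⟨x, rfl⟩ := hall n hn
    obtain ⟨y, hy, hy'⟩ := h x (by rw [hM]; exact hn)
    rw [← hR x y hy, ← hM]
    exact hy'
  intro n
  cases hn : P n
  · cases hs : P (σ n)
    · rfl
    · have := one _ hs
      rw [hσ, hn] at this
      exact this
  · exact (one n hn).symm

/-- The points fixed by a permutation of order dividing five. -/
theorem perm_five_count {X : Type*} [Finite X] (σ : Equiv.Perm X) (h : σ ^ 5 = 1) :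
    Nat.card X % 5 = Nat.card {x // σ x = x} % 5 := by
  haveI : Fact (Nat.Prime 5) := ⟨by norm_num⟩
  have hp : IsPGroup 5 (Subgroup.zpowers σ) := by
    intro g
    obtain ⟨g, hg⟩ := g
    obtain ⟨n, rfl⟩ := Subgroup.mem_zpowers_iff.1 hg
    refine ⟨1, Subtype.ext ?_⟩
    show (σ ^ n) ^ (5 ^ 1) = 1
    rw [pow_one, ← zpow_natCast, ← zpow_mul, mul_comm, zpow_mul, zpow_natCast, h, one_zpow]
  rw [hp.card_modEq_card_fixedPoints (α := X)]
  congr 1
  refine Nat.card_congr (Equiv.subtypeEquivRight fun x => ⟨fun hx => hx ⟨σ, Subgroup.mem_zpowers σ⟩, fun hx g => ?_⟩)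
  have hs : Subgroup.zpowers σ ≤ MulAction.stabilizer (Equiv.Perm X) x := Subgroup.zpowers_le.2 hx
  exact hs g.2

/-- Separation by the pairing. -/
theorem sep_aux {M : Type*} [AddCommGroup M] [Finite M] (h2 : ∀ v : M, v + v = 0) (β : M → M → ZMod 2)
    (hl : ∀ x y w, β (x + y) w = β x w + β y w) (hc : ∀ x y, β x y = β y x)
    (hn : ∀ x, (∀ y, β x y = 0) → x = 0) (S : AddSubgroup M) {x : M} (hx : x ∉ S) :
    ∃ y, (∀ s ∈ S, β s y = 0) ∧ β x y = 1 := by
  classical
  letI : Module (ZMod 2) M := AddCommGroup.zmodModule (n := 2) fun v => by rw [two_nsmul]; exact h2 v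
  obtain ⟨f, hf1, hf2⟩ := Submodule.exists_dual_map_eq_bot_of_notMem (R := ZMod 2)
    (p := AddSubgroup.toZModSubmodule 2 S) (x := x) hx inferInstance
  have hrr : ∀ a b c, β a (b + c) = β a b + β a c := fun a b c => by rw [hc, hl, hc b, hc c]
  let row : M → Module.Dual (ZMod 2) M := fun y =>
    (AddMonoidHom.mk' (fun a => β a y) fun a b => hl a b y).toZModLinearMap 2
  let T : M →ₗ[ZMod 2] Module.Dual (ZMod 2) M :=
    (AddMonoidHom.mk' row fun a b => LinearMap.ext fun c => hrr c a b).toZModLinearMap 2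
  have hTi : Function.Injective T := fun a b h => by
    refine (eq_neg_of_add_eq_zero_left (hn (a + b) fun y => ?_)).trans (neg_eq_of_add_eq_zero_left (h2 b))
    have hy : β y a = β y b := LinearMap.congr_fun h y
    rw [hl, hc a, hc b, hy]
    exact ZModModule.add_self _
  haveI : Module.Finite (ZMod 2) M := Module.Finite.of_finite
  obtain ⟨y, hy⟩ := (LinearMap.injective_iff_surjective_of_finrank_eq_finrank
    (Subspace.dual_finrank_eq).symm).1 hTi f
  have hy' : ∀ a, β a y = f a := fun a => LinearMap.congr_fun hy a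
  refine ⟨y, fun s hs => ?_, ?_⟩
  · rw [hy']
    have : f s ∈ (AddSubgroup.toZModSubmodule 2 S).map f := Submodule.mem_map_of_mem hs
    rw [hf2] at this
    exact (Submodule.mem_bot _).1 this
  · rw [hy']
    exact (two_cases _).resolve_left hf1

namespace Rep

variable {V : Type*} [AddCommGroup V] (ρ : Rep V)
include ρ

theorem bsymm (x y : V) : ρ.β x y = ρ.β y x := by
  have h1 := ρ.q_add x y
  have h2 := ρ.q_add y x
  rw [add_comm y x, h1, add_comm (ρ.q y)] at h2
  exact add_left_cancel h2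

theorem sep (S : AddSubgroup V) {x : V} (hx : x ∉ S) : ∃ y, (∀ s ∈ S, ρ.β s y = 0) ∧ ρ.β x y = 1 := by
  haveI := ρ.finite
  exact sep_aux ρ.self ρ.β ρ.β_add (fun a b => ρ.bsymm a b) ρ.β_nondeg S hx

/-- The difference of an element. -/
noncomputable def D (k : U4) (v : V) : V := v + ρ.act k v

theorem D_add (k : U4) (x y : V) : ρ.D k (x + y) = ρ.D k x + ρ.D k y := by
  simp only [D, map_add]; abel

theorem act_D (k : U4) (v : V) : ρ.act k v = v + ρ.D k v := by rw [D, ← add_assoc, ρ.self, zero_add]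

theorem bact (g : U4) (x y : V) : ρ.β (ρ.act g x) (ρ.act g y) = ρ.β x y := by
  have h1 := ρ.q_add (ρ.act g x) (ρ.act g y)
  rw [← map_add, ρ.q_act, ρ.q_act, ρ.q_act, ρ.q_add x y] at h1
  exact (add_left_cancel h1).symm

theorem baddr (x y w : V) : ρ.β x (y + w) = ρ.β x y + ρ.β x w := by
  rw [ρ.bsymm, ρ.β_add, ρ.bsymm y, ρ.bsymm w]

theorem bzero (x : V) : ρ.β x 0 = 0 := by
  have h := ρ.baddr x 0 0
  rw [add_zero] at h
  simpa using h

theorem bzero' (x : V) : ρ.β 0 x = 0 := by rw [ρ.bsymm, ρ.bzero]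

theorem qzero : ρ.q 0 = 0 := by
  have h := ρ.q_add 0 0
  rw [add_zero, ρ.bzero, add_zero] at h
  simpa using h

theorem bsum {ι : Type*} (x : V) (s : Finset ι) (h : ι → V) : ρ.β x (∑ i ∈ s, h i) = ∑ i ∈ s, ρ.β x (h i) :=
  map_sum (AddMonoidHom.mk' (fun y => ρ.β x y) (ρ.baddr x)) h s

theorem ta_eq_mul {k : Fin 13} {w : V} (hw : w ∈ ρ.W k) (a : A3) :
    ρ.ta a w = ρ.ta ((dot a (chr k)).val • ak k) w :=
  ρ.W_ta hw (dot_ak_mul k _).symm

theorem ta_mem {k : Fin 13} {w : V} (hw : w ∈ ρ.W k) (b : A3) : ρ.ta b w ∈ ρ.W k :=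
  ⟨fun a ha => by rw [← ρ.ta_add, add_comm, ρ.ta_add, hw.1 a ha], by rw [ρ.eT_comm, hw.2]⟩

/-- An element fixed by one moving element of the diagonal subgroup is zero. -/
theorem W_moved {k : Fin 13} {w : V} (hw : w ∈ ρ.W k) {a : A3} (ha : dot a (chr k) ≠ 0) (h : ρ.ta a w = w) :
    w = 0 := by
  have h2 : ρ.ta (a + a) w = w := by rw [ρ.ta_add, h, h]
  have key : ∀ b, ρ.ta b w = w := by
    intro b
    rcases (show dot b (chr k) = 0 ∨ dot b (chr k) = dot a (chr k) ∨ dot b (chr k) = dot (a + a) (chr k) from by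
      rw [dot_add]; revert ha; generalize dot a (chr k) = u; generalize dot b (chr k) = v; revert u v; decide) with e | e | e
    · exact hw.1 b e
    · rw [ρ.W_ta hw e, h]
    · rw [ρ.W_ta hw e, h2]
  rw [← ρ.eT_fix key]
  exact hw.2

theorem fix_orth {u w : V} (hu : u ∈ ρ.fixT) {k : Fin 13} (hw : w ∈ ρ.W k) : ρ.β u w = 0 := by
  haveI := ρ.finite
  have key : ∀ y, ρ.β u (y + ρ.ta (ak k) y) = 0 := fun y => by
    have h1 := ρ.bact (tor (ak k)) u y
    rw [show ρ.act (tor (ak k)) u = u from hu _] at h1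
    rw [ρ.baddr, ta, h1]
    exact ZModModule.add_self _
  let F : ρ.W k → ρ.W k := fun y => ⟨y + ρ.ta (ak k) y, add_mem y.2 (ρ.ta_mem y.2 _)⟩
  have hFi : Function.Injective F := fun a b h => by
    have e : (a : V) + ρ.ta (ak k) a = b + ρ.ta (ak k) b := congrArg Subtype.val h
    refine Subtype.ext (ρ.eq_of_add (ρ.W_moved (add_mem a.2 b.2) (a := ak k) (by rw [dot_ak]; decide) ?_))
    rw [map_add]
    refine ρ.eq_of_add ?_
    rw [add_add_add_comm, add_comm (ρ.ta (ak k) a), add_comm (ρ.ta (ak k) b), e]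
    exact ρ.self _
  obtain ⟨y, hy⟩ := (Finite.injective_iff_surjective.1 hFi) ⟨w, hw⟩
  rw [← show (y : V) + ρ.ta (ak k) y = w from congrArg Subtype.val hy]
  exact key y

theorem mid_orth {k l : Fin 13} (hne : k ≠ l) {w u : V} (hw : w ∈ ρ.W k) (hu : u ∈ ρ.W l) : ρ.β w u = 0 := by
  haveI := ρ.finite
  obtain ⟨a, ha, ha'⟩ := sep_chr k l hne
  have key : ∀ y, ρ.β w (y + ρ.ta a y) = 0 := fun y => by
    have h1 := ρ.bact (tor a) w y
    rw [show ρ.act (tor a) w = w from hw.1 a ha] at h1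
    rw [ρ.baddr, ta, h1]
    exact ZModModule.add_self _
  let F : ρ.W l → ρ.W l := fun y => ⟨y + ρ.ta a y, add_mem y.2 (ρ.ta_mem y.2 _)⟩
  have hFi : Function.Injective F := fun x y h => by
    have e : (x : V) + ρ.ta a x = y + ρ.ta a y := congrArg Subtype.val h
    refine Subtype.ext (ρ.eq_of_add (ρ.W_moved (add_mem x.2 y.2) ha' ?_))
    rw [map_add]
    refine ρ.eq_of_add ?_
    rw [add_add_add_comm, add_comm (ρ.ta a x), add_comm (ρ.ta a y), e]
    exact ρ.self _
  obtain ⟨y, hy⟩ := (Finite.injective_iff_surjective.1 hFi) ⟨u, hu⟩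
  rw [← show (y : V) + ρ.ta a y = u from congrArg Subtype.val hy]
  exact key y

theorem fix_orth_eT {u : V} (hu : u ∈ ρ.fixT) (v : V) : ρ.β u v = ρ.β u (ρ.eT v) := by
  conv_lhs => rw [← ρ.sum_prj v, ρ.baddr, ρ.bsum]
  rw [Finset.sum_eq_zero fun k _ => ρ.fix_orth hu (ρ.prj_mem k v), zero_add]

theorem fix_nondeg {u : V} (hu : u ∈ ρ.fixT) (h : ∀ v ∈ ρ.fixT, ρ.β u v = 0) : u = 0 :=
  ρ.β_nondeg u fun v => by rw [ρ.fix_orth_eT hu]; exact h _ (ρ.eT_mem v)

variable (hR : ρ.IsRed)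
include hR

theorem sum_mid (v : V) : ρ.prj (mid 0) v + ρ.prj (mid 1) v + ρ.prj (mid 2) v + ρ.eT v = v := by
  classical
  have h := ρ.sum_prj v
  rw [← Finset.sum_subset (Finset.subset_univ ({mid 0, mid 1, mid 2} : Finset (Fin 13))) (fun k _ hk =>
    hR.2.2 k (fun hl => by
      obtain ⟨i, rfl⟩ := lev_one k hl
      fin_cases i <;> simp at hk) _ (ρ.prj_mem k v))] at h
  rw [Finset.sum_insert (by decide), Finset.sum_insert (by decide), Finset.sum_singleton, ← add_assoc] at h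
  exact h

theorem fix_w2 {i j : Fin 4} (h : i ≠ j) (n : ZMod 3) {u : V} (hu : u ∈ ρ.fixT) :
    ρ.act (t4 (w2 i j n)) u ∈ ρ.fixT := by
  intro a
  have h2 := ρ.act_tor_comm (fun a => w2_tor h n a) ((swE i j).symm a) u
  rw [show sw i j ((swE i j).symm a) = a from (swE i j).apply_symm_apply a] at h2
  rw [← h2, hu]

theorem fix_g₀ {u : V} (hu : u ∈ ρ.fixT) : ρ.act g₀ u ∈ ρ.fixT := by
  set v := ρ.act g₀ u with hv
  have h : ρ.ta a₀ v = v := by
    rw [hv, ta, ← ρ.act_mul, ← g₀_tor, ρ.act_mul, show ρ.act (tor a₀) u = u from hu _]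
  have hz : ∀ i, ρ.prj (mid i) v = 0 := fun i => ρ.W_moved (ρ.prj_mem _ v) (a₀_sep i) (by
    have hc : ρ.ta a₀ (ρ.prj (mid i) v) = ρ.prj (mid i) (ρ.ta a₀ v) := by
      rw [prj, prj, map_add, map_sum, ρ.ta_eT, ρ.eT_comm]
      congr 1
      exact Finset.sum_congr rfl fun a _ => by rw [← ρ.ta_add, ← ρ.ta_add, add_comm]
    rw [hc, h])
  rw [← ρ.sum_mid hR v, hz, hz, hz, zero_add, zero_add, zero_add]
  exact ρ.eT_mem v

theorem fix_inv (g : U4) : ∀ u ∈ ρ.fixT, ρ.act g u ∈ ρ.fixT := by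
  let S : Submonoid U4 :=
    { carrier := {g | ∀ u ∈ ρ.fixT, ρ.act g u ∈ ρ.fixT}
      one_mem' := fun u hu => by rw [ρ.act_one]; exact hu
      mul_mem' := fun {a b} ha hb u hu => by rw [ρ.act_mul]; exact ha _ (hb u hu) }
  have hS : (Subgroup.closure gens).toSubmonoid ≤ S := by
    rw [Subgroup.closure_toSubmonoid_of_finite, Submonoid.closure_le]
    rintro x (⟨i, j, n, hij, rfl⟩ | hx)
    · exact fun u hu => ρ.fix_w2 hR hij n hu
    · rw [Set.mem_singleton_iff.1 hx]; exact fun u hu => ρ.fix_g₀ hR hu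
  rw [gens_top] at hS
  exact hS (Subgroup.mem_top g)

/-- The fixed plane is fixed by the whole group. -/
theorem fix_act {u : V} (hu : u ∈ ρ.fixT) (g : U4) : ρ.act g u = u := by
  let N : Subgroup U4 :=
    { carrier := {g | ∀ u ∈ ρ.fixT, ρ.act g u = u}
      one_mem' := fun u _ => ρ.act_one u
      mul_mem' := fun {a b} ha hb u hu => by rw [ρ.act_mul, hb u hu, ha u hu]
      inv_mem' := fun {a} ha u hu => by
        conv_lhs => rw [← ha u hu]
        rw [← ρ.act_mul, inv_mul_cancel, ρ.act_one] }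
  have hn : N.Normal := ⟨fun a ha g u hu => by
    rw [ρ.act_mul, ρ.act_mul, ha _ (ρ.fix_inv hR _ u hu), ← ρ.act_mul, mul_inv_cancel, ρ.act_one]⟩
  have htop : N = ⊤ := normal_eq_top hn (x := tor (1, 0, 0)) (fun u hu => hu _)
    (fun h => absurd (tor_inj (h.trans tor_zero.symm)) (by decide))
  have hg : g ∈ N := by rw [htop]; exact Subgroup.mem_top g
  exact hg u hu

theorem eT_act (g : U4) (v : V) : ρ.eT (ρ.act g v) = ρ.eT v := by
  refine ρ.eq_of_add (ρ.fix_nondeg (add_mem (ρ.eT_mem _) (ρ.eT_mem _)) fun u hu => ?_)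
  rw [ρ.β_add, ρ.bsymm, ← ρ.fix_orth_eT hu, ρ.bsymm (ρ.eT v), ← ρ.fix_orth_eT hu]
  have h1 := ρ.bact g u v
  rw [ρ.fix_act hR hu g] at h1
  rw [h1]
  exact ZModModule.add_self _

theorem mid_ne (i : Fin 3) : ∃ a b, a ∈ ρ.W (mid i) ∧ b ∈ ρ.W (mid i) ∧ a ≠ 0 ∧ b ≠ 0 ∧ a ≠ b := by
  haveI := ρ.finite
  have h := hR.2.1 _ (lev_mid i)
  have : ∃ a ∈ ρ.W (mid i), a ≠ 0 := by
    by_contra! h0
    haveI : Subsingleton (ρ.W (mid i)) := ⟨fun x y => Subtype.ext ((h0 x x.2).trans (h0 y y.2).symm)⟩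
    rw [Nat.card_of_subsingleton (0 : ρ.W (mid i))] at h
    exact absurd h (by norm_num)
  obtain ⟨a, ha, ha0⟩ := this
  refine ⟨a, ρ.ta (ak (mid i)) a, ha, ρ.ta_mem ha _, ha0, fun h0 => ha0 ?_, fun h0 => ha0 ?_⟩
  · exact ρ.act_injective _ (h0.trans (map_zero (ρ.act (tor (ak (mid i))))).symm)
  · exact ρ.W_moved ha (by rw [dot_ak]; decide) h0.symm

omit hR in
/-- The action of the two-fold exchange commutes with the torus up to inversion. -/
theorem s₂_comm (a : A3) (v : V) : ρ.act s₂ (ρ.ta a v) = ρ.ta (sw 0 1 (sw 2 3 a)) (ρ.act s₂ v) := by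
  rw [s₂, ρ.act_mul, ρ.act_mul, ρ.act_tor_comm (fun a => w2_tor (by decide) 0 a),
    ρ.act_tor_comm (fun a => w2_tor (by decide) 0 a)]

omit hR in
theorem s₂_W (i : Fin 3) {w : V} (hw : w ∈ ρ.W (mid i)) : ρ.act s₂ w ∈ ρ.W (mid i) := by
  rw [s₂, ρ.act_mul]
  have h := ρ.w2_W (i := 0) (j := 1) (by decide) 0 (ρ.w2_W (i := 2) (j := 3) (by decide) 0 hw)
  obtain ⟨a1, a2, a3, a4, a5, a6, -, b0, b1, b2⟩ := swap_mid
  fin_cases i <;> simp [b0, b1, b2, a1, a2, a3] at h ⊢ <;> exact h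

theorem W_four (i : Fin 3) {w : V} (hw : w ∈ ρ.W (mid i)) (h0 : w ≠ 0) {y : V} (hy : y ∈ ρ.W (mid i)) :
    y = 0 ∨ y = w ∨ y = ρ.ta (ak (mid i)) w ∨ y = ρ.ta (ak (mid i)) (ρ.ta (ak (mid i)) w) := by
  classical
  haveI := ρ.finite
  haveI : Fintype (ρ.W (mid i)) := Fintype.ofFinite _
  set a := ak (mid i) with ha
  have hd : dot a (chr (mid i)) ≠ 0 := by rw [ha, dot_ak]; decide
  have hd2 : dot (a + a) (chr (mid i)) ≠ 0 := by rw [dot_add, ha, dot_ak]; decide
  let l : Finset (ρ.W (mid i)) := {0, ⟨w, hw⟩, ⟨_, ρ.ta_mem hw a⟩, ⟨_, ρ.ta_mem (ρ.ta_mem hw a) a⟩}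
  have n0 : ∀ b, ρ.ta b w ≠ 0 := fun b e => h0 (ρ.act_injective _ (e.trans (map_zero (ρ.act (tor b))).symm))
  have n1 : ρ.ta a w ≠ w := fun e => h0 (ρ.W_moved hw hd e)
  have n2 : ρ.ta a (ρ.ta a w) ≠ w := fun e => h0 (ρ.W_moved hw hd2 (by rw [ρ.ta_add, e]))
  have n3 : ρ.ta a (ρ.ta a w) ≠ ρ.ta a w := fun e => n1 (ρ.act_injective _ e)
  have hl : l.card = 4 := by
    have n0' : ρ.ta a (ρ.ta a w) ≠ 0 := by rw [← ρ.ta_add]; exact n0 _
    simp [l, Finset.card_insert_of_notMem, Subtype.ext_iff, h0, Ne.symm h0, n1, Ne.symm n1, n2, Ne.symm n2, n3, Ne.symm n3,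
      n0 a, Ne.symm (n0 a), n0', Ne.symm n0']
  have hu : l = Finset.univ := Finset.eq_univ_of_card l (by rw [hl, ← Nat.card_eq_fintype_card, hR.2.1 _ (lev_mid i)])
  have hm : (⟨y, hy⟩ : ρ.W (mid i)) ∈ l := by rw [hu]; exact Finset.mem_univ _
  simpa [l, Subtype.ext_iff] using hm

/-- On the part of the first pairing class an involutory monomial element is trivial. -/
theorem mid_zero_fix {k : U4} (hk : k * k = 1) (hm : ∀ w ∈ ρ.W (mid 0), ρ.act k w ∈ ρ.W (mid 0))
    (hc : ∀ a, ∀ w ∈ ρ.W (mid 0), ρ.act k (ρ.ta a w) = ρ.ta a (ρ.act k w)) {w : V} (hw : w ∈ ρ.W (mid 0)) :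
    ρ.act k w = w := by
  by_cases h0 : w = 0
  · rw [h0, map_zero]
  set a := ak (mid 0) with ha
  have h2 : ρ.act k (ρ.act k w) = w := by rw [← ρ.act_mul, hk, ρ.act_one]
  rcases ρ.W_four hR 0 hw h0 (hm w hw) with e | e | e | e
  · exact absurd (ρ.act_injective k (e.trans (map_zero (ρ.act k)).symm)) h0
  · exact e
  · rw [e, hc a w hw, e, ← ρ.ta_add] at h2
    exact absurd (ρ.W_moved hw (by rw [dot_add, dot_ak]; decide) h2) h0
  · rw [e, hc a _ (ρ.ta_mem hw a), hc a w hw, e, ← ρ.ta_add, ← ρ.ta_add, ← ρ.ta_add] at h2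
    exact absurd (ρ.W_moved hw (by simp only [dot_add, dot_ak]; decide) h2) h0

theorem t_fix_zero {w : V} (hw : w ∈ ρ.W (mid 0)) : ρ.act (t4 (w2 0 1 0)) w = w :=
  ρ.mid_zero_fix hR (U62Cover.tv_sq cardK (iso_w2 0 1 0 (by decide))) (fun w hw => by
    have := ρ.w2_W (i := 0) (j := 1) (by decide) 0 hw
    rwa [swap_mid.2.2.1] at this) (fun a w hw => by
    rw [ρ.act_tor_comm (fun a => w2_tor (by decide) 0 a)]
    have hm := ρ.w2_W (i := 0) (j := 1) (by decide) 0 hw
    rw [swap_mid.2.2.1] at hm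
    exact ρ.W_ta hm (sw_zero_mid a).1) hw

theorem s₂_fix_zero {w : V} (hw : w ∈ ρ.W (mid 0)) : ρ.act s₂ w = w :=
  ρ.mid_zero_fix hR s₂_sq (fun w hw => ρ.s₂_W 0 hw) (fun a w hw => by
    rw [ρ.s₂_comm]
    exact ρ.W_ta (ρ.s₂_W 0 hw) (sw_double a).2.2) hw

omit hR in
theorem s₂_moves (i : Fin 3) (hi : i ≠ 0) : ∀ w ∈ ρ.W (mid i), w ≠ 0 → ∃ y ∈ ρ.W (mid i), ρ.D s₂ y ≠ 0 := by
  intro w hw h0
  by_contra! hD
  have hfix : ∀ y ∈ ρ.W (mid i), ρ.act s₂ y = y := fun y hy => (ρ.eq_of_add (hD y hy)).symm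
  set a := ak (mid i)
  have h := ρ.s₂_comm a w
  rw [hfix _ (ρ.ta_mem hw a), hfix w hw, ρ.W_ta hw (a := sw 0 1 (sw 2 3 a)) (b := a + a) (by
    rw [dot_flip i hi, dot_add, dot_ak]; decide), ρ.ta_add] at h
  exact h0 (ρ.W_moved hw (by rw [dot_ak]; decide) (ρ.act_injective _ h).symm)

theorem t_singular_aux (i : Fin 3) (hi : i ≠ 0) {a : V} (ha : a ∈ ρ.W (mid i)) :
    ρ.q (a + ρ.act (t4 (w2 0 1 0)) a) = 0 := by
  obtain ⟨j, hj, hne⟩ : ∃ j, imgChr 0 1 (mid i) = mid j ∧ mid i ≠ mid j := by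
    fin_cases i
    · exact absurd rfl hi
    · exact ⟨2, swap_mid.1, by decide⟩
    · exact ⟨1, swap_mid.2.1, by decide⟩
  have hm := ρ.w2_W (i := 0) (j := 1) (by decide) 0 ha
  rw [hj] at hm
  rw [ρ.q_add, ρ.q_act]
  have hb : ρ.β a (ρ.act (t4 (w2 0 1 0)) a) = 0 := ρ.mid_orth hne ha hm
  rw [hb, add_zero]
  exact ZModModule.add_self _

theorem q_D_transvection (v : V) : ρ.q (ρ.D (t4 (w2 0 1 0)) v) = 0 := by
  set t := t4 (w2 0 1 0)
  have h0 : ρ.D t (ρ.prj (mid 0) v) = 0 := by rw [D, ρ.t_fix_zero hR (ρ.prj_mem _ v), ρ.self]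
  have hu : ρ.D t (ρ.eT v) = 0 := by rw [D, ρ.fix_act hR (ρ.eT_mem v), ρ.self]
  have h1 : ρ.prj (mid 2) v ∈ ρ.W (mid 2) := ρ.prj_mem _ v
  have hm := ρ.w2_W (i := 0) (j := 1) (by decide) 0 h1
  rw [swap_mid.2.1] at hm
  have e : ρ.D t v = ρ.D t (ρ.prj (mid 1) v + ρ.act t (ρ.prj (mid 2) v)) := by
    conv_lhs => rw [← ρ.sum_mid hR v]
    rw [ρ.D_add, ρ.D_add, ρ.D_add, ρ.D_add, h0, hu, zero_add, add_zero]
    congr 1
    simp only [D, ← ρ.act_mul, t, U62Cover.tv_sq cardK (iso_w2 0 1 0 (by decide)), ρ.act_one]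
    exact add_comm _ _
  rw [e]
  exact ρ.t_singular_aux hR 1 (by decide) (add_mem (ρ.prj_mem _ v) hm)

/-- The standard case of `no_root`. -/
theorem no_root_std {k : U4} (hk : k * k = s₂) (hC : ∀ x, ρ.act s₂ x = x → ∃ v, ρ.D k x = ρ.D s₂ v) : False := by
  obtain ⟨a, -, ha, -, ha0, -, -⟩ := ρ.mid_ne hR 0
  have hp0 : ∀ v, ρ.prj (mid 0) (ρ.D s₂ v) = 0 := by
    intro v
    have hsW : ∀ i, ρ.prj (mid 0) (ρ.D s₂ (ρ.prj (mid i) v)) = 0 := by
      intro i
      by_cases hi : i = 0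
      · subst hi
        rw [D, ρ.s₂_fix_zero hR (ρ.prj_mem _ v), ρ.self, ρ.prj_zero]
      · exact ρ.prj_W_other (fun e => hi (mid_inj _ _ e)) (add_mem (ρ.prj_mem _ v) (ρ.s₂_W i (ρ.prj_mem _ v)))
    have hu : ρ.D s₂ (ρ.eT v) = 0 := by rw [D, ρ.fix_act hR (ρ.eT_mem v), ρ.self]
    conv_lhs => rw [← ρ.sum_mid hR v]
    rw [ρ.D_add, ρ.D_add, ρ.D_add, hu, add_zero, ρ.prj_add, ρ.prj_add, hsW, hsW, hsW, add_zero, add_zero]
  -- equality modulo the commutators
  let E : V → V → Prop := fun x y => ∃ v, x + y = ρ.D s₂ v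
  have hDzero : ρ.D s₂ 0 = 0 := by simp [D]
  have Erefl : ∀ x, E x x := fun x => ⟨0, by rw [ρ.self, hDzero]⟩
  have Etrans : ∀ x y z, E x y → E y z → E x z := by
    rintro x y z ⟨u, hu⟩ ⟨w, hw⟩
    refine ⟨u + w, ?_⟩
    rw [ρ.D_add, ← hu, ← hw, add_add_add_comm, add_comm y z, ← add_assoc]
    rw [add_comm (x + y + z), ← add_assoc, ← add_assoc, add_comm y x]
    rw [add_assoc (x + y), add_assoc x, ← add_assoc y, ρ.self, zero_add]
  have hcommk : s₂ * k = k * s₂ := by rw [← hk, mul_assoc]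
  have hcommx : s₂ * x₂ = x₂ * s₂ := by
    rw [s₂, x₂, mul_assoc, w2_tor (by decide), ← mul_assoc, w2_tor (by decide), show sw 0 1 (sw 2 3 (1, 1, 2)) = (1, 1, 2) from by decide +kernel, mul_assoc]
  have hpres : ∀ g : U4, s₂ * g = g * s₂ → ∀ x y, E x y → E (ρ.act g x) (ρ.act g y) := by
    rintro g hg x y ⟨v, hv⟩
    refine ⟨ρ.act g v, ?_⟩
    rw [← map_add, hv, D, D, map_add, ← ρ.act_mul, ← ρ.act_mul, hg]
  have hk' : ∀ x, ρ.act s₂ x = x → E (ρ.act k x) x := fun x hx => by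
    obtain ⟨v, hv⟩ := hC x hx
    exact ⟨v, by rw [← hv, D, add_comm]⟩
  have hfixA : ∀ g : U4, s₂ * g = g * s₂ → ρ.act s₂ (ρ.act g a) = ρ.act g a := fun g hg => by
    rw [← ρ.act_mul, hg, ρ.act_mul, ρ.s₂_fix_zero hR ha]
  have hkinv : s₂ * k⁻¹ = k⁻¹ * s₂ := by
    calc s₂ * k⁻¹ = k⁻¹ * (k * s₂) * k⁻¹ := by group
      _ = k⁻¹ * (s₂ * k) * k⁻¹ := by rw [hcommk]
      _ = k⁻¹ * s₂ := by group
  set h := k * x₂ * k⁻¹ * x₂ with hh
  have hhh : h * h = 1 := square_root_s₂ hk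
  have hsh : s₂ * h = h * s₂ :=
    Commute.mul_right (Commute.mul_right (Commute.mul_right hcommk hcommx) hkinv) hcommx
  -- `h` acts as the square of `x₂` on the fixed space modulo commutators
  have step : ∀ x, ρ.act s₂ x = x → E (ρ.act h x) (ρ.act x₂ (ρ.act x₂ x)) := by
    intro x hx
    have hy : ρ.act s₂ (ρ.act x₂ x) = ρ.act x₂ x := by rw [← ρ.act_mul, hcommx, ρ.act_mul, hx]
    set y := ρ.act x₂ x
    have hki : ρ.act s₂ (ρ.act k⁻¹ y) = ρ.act k⁻¹ y := by rw [← ρ.act_mul, hkinv, ρ.act_mul, hy]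
    have e1 : E (ρ.act k⁻¹ y) y := by
      have := hk' _ hki
      rw [← ρ.act_mul, mul_inv_cancel, ρ.act_one] at this
      obtain ⟨v, hv⟩ := this
      exact ⟨v, by rw [add_comm]; exact hv⟩
    have e2 := hpres x₂ hcommx _ _ e1
    have e3 := hpres k hcommk _ _ e2
    have e4 := hk' (ρ.act x₂ y) (by rw [← ρ.act_mul, hcommx, ρ.act_mul, hy])
    have e5 := Etrans _ _ _ e3 e4
    rw [hh, ρ.act_mul, ρ.act_mul, ρ.act_mul]
    exact e5
  have hA2 : ρ.act s₂ (ρ.act x₂ (ρ.act x₂ a)) = ρ.act x₂ (ρ.act x₂ a) := by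
    rw [← ρ.act_mul x₂ x₂, hfixA _ (Commute.mul_right hcommx hcommx)]
  have e1 : E (ρ.act h (ρ.act h a)) (ρ.act h (ρ.act x₂ (ρ.act x₂ a))) := hpres h hsh _ _ (step a (ρ.s₂_fix_zero hR ha))
  have e2 := Etrans _ _ _ e1 (step _ hA2)
  rw [← ρ.act_mul, hhh, ρ.act_one] at e2
  obtain ⟨v, hv⟩ := e2
  have hx4 : ρ.act x₂ (ρ.act x₂ (ρ.act x₂ (ρ.act x₂ a))) = ρ.ta (1, 1, 2) a := by
    show ρ.ta _ (ρ.ta _ (ρ.ta _ (ρ.ta _ a))) = _
    rw [← ρ.ta_add, ← ρ.ta_add, ← ρ.ta_add]
    rfl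
  rw [hx4] at hv
  have := congrArg (ρ.prj (mid 0)) hv
  rw [hp0, ρ.prj_add, ρ.prj_W_self ha, ρ.prj_W_self (ρ.ta_mem ha _)] at this
  exact ha0 (ρ.W_moved ha (by decide +kernel) (ρ.eq_of_add this).symm)

/-- Every involution has at least two nonzero differences. -/
theorem two_moves {k : U4} (hk : k * k = 1) (hne : k ≠ 1) :
    ∃ x y, ρ.D k x ≠ 0 ∧ ρ.D k y ≠ 0 ∧ ρ.D k x ≠ ρ.D k y := by
  obtain ⟨g, hg⟩ := invol_conj hk hne
  suffices h : ∃ x y, ρ.D (g * k * g⁻¹) x ≠ 0 ∧ ρ.D (g * k * g⁻¹) y ≠ 0 ∧ ρ.D (g * k * g⁻¹) x ≠ ρ.D (g * k * g⁻¹) y by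
    obtain ⟨x, y, h1, h2, h3⟩ := h
    have hD : ∀ v, ρ.D (g * k * g⁻¹) v = ρ.act g (ρ.D k (ρ.act g⁻¹ v)) := fun v => by
      rw [D, D, map_add, ← ρ.act_mul, ← ρ.act_mul, ← ρ.act_mul, mul_inv_cancel, ρ.act_one]
    rw [hD] at h1 h2 h3
    rw [hD] at h3
    exact ⟨_, _, fun e => h1 (by rw [e, map_zero]), fun e => h2 (by rw [e, map_zero]), fun e => h3 (by rw [e])⟩
  rcases hg with hg | hg <;> rw [hg]
  · obtain ⟨a, b, ha, hb, ha0, hb0, hab⟩ := ρ.mid_ne hR 1
    have hp : ∀ w ∈ ρ.W (mid 1), ρ.prj (mid 1) (ρ.D (t4 (w2 0 1 0)) w) = w := fun w hw => by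
      have hm := ρ.w2_W (i := 0) (j := 1) (by decide) 0 hw
      rw [swap_mid.1] at hm
      rw [D, ρ.prj_add, ρ.prj_W_self hw, ρ.prj_W_other (by decide) hm, add_zero]
    refine ⟨a, b, fun e => ha0 ?_, fun e => hb0 ?_, fun e => hab ?_⟩
    · rw [← hp a ha, e, ρ.prj_zero]
    · rw [← hp b hb, e, ρ.prj_zero]
    · rw [← hp a ha, e, hp b hb]
  · obtain ⟨a, -, ha, -, ha0, -, -⟩ := ρ.mid_ne hR 1
    obtain ⟨b, -, hb, -, hb0, -, -⟩ := ρ.mid_ne hR 2
    obtain ⟨x, hx, hx'⟩ := ρ.s₂_moves 1 (by decide) a ha ha0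
    obtain ⟨y, hy, hy'⟩ := ρ.s₂_moves 2 (by decide) b hb hb0
    refine ⟨x, y, hx', hy', fun e => hx' ?_⟩
    have h1 : ρ.D s₂ x ∈ ρ.W (mid 1) := add_mem hx (ρ.s₂_W 1 hx)
    have h2 : ρ.D s₂ y ∈ ρ.W (mid 2) := add_mem hy (ρ.s₂_W 2 hy)
    rw [← ρ.prj_W_self h1, e, ρ.prj_W_other (by decide) h2]

/-! ### Elements of order five -/

/-- An element of order five stabilising a given vector. -/
theorem exists_five (v : V) : ∃ c : U4, orderOf c = 5 ∧ ρ.act c v = v := by
  classical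
  haveI := ρ.finite
  haveI : Fintype V := Fintype.ofFinite _
  letI : MulAction U4 V :=
    { smul := fun g x => ρ.act g x, one_smul := ρ.act_one, mul_smul := ρ.act_mul }
  suffices h : ¬ 5 ∣ Nat.card (MulAction.orbit U4 v) by
    have h5 : Nat.card (MulAction.orbit U4 v) * Nat.card (MulAction.stabilizer U4 v) = 25920 := by
      rw [← card_SU4, Nat.card_congr (MulAction.orbitProdStabilizerEquivGroup U4 v).symm, Nat.card_prod]
    have : 5 ∣ Nat.card (MulAction.stabilizer U4 v) :=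
      ((Nat.Prime.dvd_mul (by norm_num)).1 ⟨5184, h5⟩).resolve_left h
    obtain ⟨c, hc⟩ := exists_order_five_of_dvd this
    exact ⟨c.1, by rwa [Subgroup.orderOf_coe], c.2⟩
  set O := (MulAction.orbit U4 v).toFinset with hO
  rw [Nat.card_eq_card_toFinset, ← hO]
  set w := v + ρ.eT v with hw
  have hadd : ∀ x, ρ.eT (x + ρ.eT x) = 0 := fun x => by rw [ρ.eT_add, ρ.eT_eT, ρ.self]
  by_cases hw0 : w = 0
  · have : O = {v} := by
      rw [hO]
      ext x
      simp only [Set.mem_toFinset, Finset.mem_singleton, MulAction.mem_orbit_iff]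
      refine ⟨fun ⟨g, hg⟩ => ?_, fun h => ⟨1, by rw [h]; exact one_smul _ _⟩⟩
      rw [← hg]
      show ρ.act g v = v
      exact ρ.fix_act hR (ρ.eq_of_add hw0 ▸ ρ.eT_mem v) g
    rw [this, Finset.card_singleton]
    norm_num
  -- coordinates
  choose b b' hb hb' hb0 hb0' hbb using ρ.mid_ne hR
  let cd : Fin 3 → Option (ZMod 3) → V := fun i o => o.elim 0 fun m => ρ.ta (m.val • ak (mid i)) (b i)
  have hcdm : ∀ i o, cd i o ∈ ρ.W (mid i) := fun i o => by
    cases o with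
    | none => exact zero_mem _
    | some m => exact ρ.ta_mem (hb i) _
  have hcds : ∀ i, ∀ y ∈ ρ.W (mid i), ∃ o, cd i o = y := by
    intro i y hy
    rcases ρ.W_four hR i (hb i) (hb0 i) hy with e | e | e | e
    · exact ⟨none, e.symm⟩
    · exact ⟨some 0, by rw [e]; simp [cd, ρ.ta_zero]⟩
    · exact ⟨some 1, by rw [e]; simp [cd, show (1 : ZMod 3).val = 1 from rfl]⟩
    · refine ⟨some 2, ?_⟩
      show ρ.ta ((2 : ZMod 3).val • ak (mid i)) (b i) = y
      rw [e, ← ρ.ta_add, show (2 : ZMod 3).val = 2 from rfl, two_nsmul]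
  have hshift : ∀ i m a, ρ.ta a (cd i (some m)) = cd i (some (dot a (chr (mid i)) + m)) := fun i m a => by
    show ρ.ta a (ρ.ta _ (b i)) = ρ.ta _ (b i)
    rw [← ρ.ta_add]
    exact ρ.W_ta (hb i) (by rw [dot_add, dot_ak_mul, dot_ak_mul])
  let P : (Fin 3 → Option (ZMod 3)) → V := fun x => cd 0 (x 0) + cd 1 (x 1) + cd 2 (x 2)
  have hproj : ∀ x i, ρ.prj (mid i) (P x) = cd i (x i) := by
    intro x i
    simp only [P, ρ.prj_add]
    fin_cases i <;>
      simp [ρ.prj_W_self (hcdm 0 _), ρ.prj_W_self (hcdm 1 _), ρ.prj_W_self (hcdm 2 _),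
        ρ.prj_W_other (show mid 0 ≠ mid 1 by decide) (hcdm 0 _), ρ.prj_W_other (show mid 0 ≠ mid 2 by decide) (hcdm 0 _),
        ρ.prj_W_other (show mid 1 ≠ mid 0 by decide) (hcdm 1 _), ρ.prj_W_other (show mid 1 ≠ mid 2 by decide) (hcdm 1 _),
        ρ.prj_W_other (show mid 2 ≠ mid 0 by decide) (hcdm 2 _), ρ.prj_W_other (show mid 2 ≠ mid 1 by decide) (hcdm 2 _)]
  have hsome : ∀ i m, cd i (some m) ≠ 0 := fun i m e =>
    hb0 i (ρ.act_injective _ (e.trans (map_zero (ρ.act (tor (m.val • ak (mid i))))).symm))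
  have hcdi : ∀ i, Function.Injective (cd i) := by
    intro i o o' h
    cases o with
    | none =>
      cases o' with
      | none => rfl
      | some m => exact absurd h.symm (hsome i m)
    | some m =>
      cases o' with
      | none => exact absurd h (hsome i m)
      | some m' =>
        by_contra hne
        have hne' : m ≠ m' := fun e => hne (by rw [e])
        have h' : ρ.ta (m.val • ak (mid i)) (b i) = ρ.ta (m'.val • ak (mid i)) (b i) := h
        have hz := congrArg (ρ.ta ((-m').val • ak (mid i))) h'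
        rw [← ρ.ta_add, ← ρ.ta_add, ρ.W_ta (hb i) (a := (-m').val • ak (mid i) + m'.val • ak (mid i)) (b := 0)
          (by rw [dot_add, dot_ak_mul, dot_ak_mul, neg_add_cancel]; simp [dot, e_zero]), ρ.ta_zero] at hz
        exact hb0 i (ρ.W_moved (hb i) (by
          rw [dot_add, dot_ak_mul, dot_ak_mul]
          exact shift_ne m m' hne') hz)
  have hPi : Function.Injective P := fun x y h => funext fun i => hcdi i (by rw [← hproj, h, hproj])
  let Q : (Fin 3 → Option (ZMod 3)) → V := fun x => P x + ρ.eT v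
  have hQi : Function.Injective Q := fun x y h => hPi (add_right_cancel h)
  have hQs : ∀ x, ρ.eT x = ρ.eT v → ∃ p, Q p = x := by
    intro x hx
    choose p hp using fun i => hcds i _ (ρ.prj_mem (mid i) x)
    refine ⟨p, ?_⟩
    show cd 0 (p 0) + cd 1 (p 1) + cd 2 (p 2) + ρ.eT v = x
    rw [hp, hp, hp, ← hx, ρ.sum_mid hR]
  have hOi : ∀ g, ∀ x ∈ O, ρ.act g x ∈ O := fun g x hx => by
    rw [hO, Set.mem_toFinset] at hx ⊢
    exact MulAction.mem_orbit_of_mem_orbit g hx
  have hOe : ∀ x ∈ O, ρ.eT x = ρ.eT v := fun x hx => by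
    rw [hO, Set.mem_toFinset, MulAction.mem_orbit_iff] at hx
    obtain ⟨g, rfl⟩ := hx
    exact ρ.eT_act hR g v
  have hO0 : Q (fun _ => none) ∉ O := fun hx => hw0 (by
    rw [hO, Set.mem_toFinset, MulAction.mem_orbit_iff] at hx
    obtain ⟨g, hg⟩ := hx
    have hq : Q (fun _ => none) = ρ.eT v := by simp [Q, P, cd]
    rw [hq] at hg
    have hv : v = ρ.eT v := ρ.act_injective g (hg.trans (ρ.fix_act hR (ρ.eT_mem v) g).symm)
    rw [hw, ← hv, ρ.self])
  let pat : (Fin 3 → Option (ZMod 3)) → Fin 8 := fun x => code fun i => (x i).isSome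
  let M : (Fin 3 → Option (ZMod 3)) → Bool := fun x => decide (Q x ∈ O)
  -- the torus is transitive on a pattern
  have hsame : ∀ x y, pat x = pat y → M x = true → M y = true := by
    intro x y hxy hx
    simp only [M, decide_eq_true_eq] at hx ⊢
    have hex : ∀ i, ∃ d, (x i).map (fun m => d + m) = y i := by
      intro i
      have hs : (x i).isSome = (y i).isSome := code_inj _ _ hxy i
      cases hxi : x i <;> cases hyi : y i <;> simp [hxi, hyi] at hs ⊢
      rename_i m n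
      exact ⟨n - m, sub_add_cancel n m⟩
    choose d hd using hex
    obtain ⟨a, a0, a1, a2⟩ := dot_independent (d 0) (d 1) (d 2)
    have key : ρ.ta a (Q x) = Q y := by
      have hk : ∀ i, dot a (chr (mid i)) = d i → ρ.ta a (cd i (x i)) = cd i (y i) := fun i hai => by
        cases hxi : x i with
        | none =>
          have := hd i
          rw [hxi, Option.map_none] at this
          rw [← this]
          exact map_zero _
        | some m =>
          have := hd i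
          rw [hxi, Option.map_some] at this
          rw [← this, hshift, hai]
      show ρ.ta a (cd 0 (x 0) + cd 1 (x 1) + cd 2 (x 2) + ρ.eT v) = _
      rw [map_add, map_add, map_add, hk 0 a0, hk 1 a1, hk 2 a2, ρ.ta_eT]
    rw [← key]
    exact hOi _ _ hx
  let P8 : Fin 8 → Bool := fun n => decide (∃ x, pat x = n ∧ M x = true)
  have hM : ∀ x, M x = P8 (pat x) := fun x => by
    simp only [P8]
    cases h : M x
    · refine (decide_eq_false ?_).symm
      rintro ⟨y, hy, hy'⟩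
      rw [hsame y x hy hy'] at h
      exact Bool.noConfusion h
    · exact (decide_eq_true ⟨x, rfl, h⟩).symm
  -- exchanging supports
  have hswap : ∀ (i j : Fin 4) (π : Fin 3 → Fin 3), i ≠ j → (∀ l, imgChr i j (mid l) = mid (π l)) →
      (∀ l, π (π l) = l) → ∀ x, M x = true → ∃ y, (∀ l, (y l).isSome = (x (π l)).isSome) ∧ M y = true := by
    intro i j π hij hπ hππ x hx
    simp only [M, decide_eq_true_eq] at hx ⊢
    have hm := hOi (t4 (w2 i j 0)) _ hx
    obtain ⟨y, hy⟩ := hQs _ (hOe _ hm)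
    refine ⟨y, fun l => ?_, hy ▸ hm⟩
    have e1 : ρ.prj (mid l) (ρ.act (t4 (w2 i j 0)) (Q x)) = cd l (y l) := by
      rw [← hy]; show ρ.prj _ (P y + ρ.eT v) = _
      rw [ρ.prj_add, hproj, ρ.fix_prj (ρ.eT_mem v), add_zero]
    have e2 : ρ.prj (mid l) (ρ.act (t4 (w2 i j 0)) (Q x)) = ρ.act (t4 (w2 i j 0)) (cd (π l) (x (π l))) := by
      have := ρ.w2_prj hij 0 (mid (π l)) (Q x)
      rw [hπ, hππ] at this
      rw [← this]
      congr 1
      show ρ.prj _ (P x + ρ.eT v) = _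
      rw [ρ.prj_add, hproj, ρ.fix_prj (ρ.eT_mem v), add_zero]
    have e3 : cd l (y l) = 0 ↔ cd (π l) (x (π l)) = 0 := by
      rw [← e1, e2]
      exact ⟨fun h => ρ.act_injective _ (h.trans (map_zero (ρ.act (t4 (w2 i j 0)))).symm), fun h => by rw [h, map_zero]⟩
    cases hyl : y l <;> cases hxl : x (π l) <;> simp [hyl, hxl] at e3 ⊢
    · exact hsome _ _ (e3.1 rfl)
    · exact hsome _ _ (e3.2 rfl)
  have hcard : O.card = ∑ n : Fin 8, if P8 n then [1, 3, 3, 9, 3, 9, 9, 27].getD n.val 0 else 0 := by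
    have h1 : O = (Finset.univ.filter fun x => P8 (pat x) = true).image Q := by
      ext x
      simp only [Finset.mem_image, Finset.mem_filter, Finset.mem_univ, true_and]
      constructor
      · intro hx
        obtain ⟨p, rfl⟩ := hQs x (hOe x hx)
        exact ⟨p, by rw [← hM]; exact decide_eq_true hx, rfl⟩
      · rintro ⟨p, hp, rfl⟩
        rw [← hM] at hp
        exact of_decide_eq_true hp
    rw [h1, Finset.card_image_of_injective _ hQi, Finset.card_filter]
    rw [← Finset.sum_fiberwise Finset.univ pat]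
    refine Finset.sum_congr rfl fun n _ => ?_
    rw [Finset.sum_congr rfl (fun x hx => by rw [(Finset.mem_filter.1 hx).2]), Finset.sum_const, smul_eq_mul]
    cases P8 n
    · simp
    · rw [if_pos rfl, mul_one, if_pos rfl]
      exact pat_card n
  intro h5
  have hz := orbit_count P8 ?_ ?_ ?_ (by rw [hcard] at h5; exact Nat.mod_eq_zero_of_dvd h5)
  · obtain ⟨p, hp⟩ := hQs v rfl
    have : M p = true := decide_eq_true (by rw [hp, hO, Set.mem_toFinset]; exact MulAction.mem_orbit_self v)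
    rw [hM, hz] at this
    exact Bool.noConfusion this
  · refine decide_eq_false ?_
    rintro ⟨x, hx, hx'⟩
    have : x = fun _ => none := by
      funext i
      have := code_zero _ hx i
      cases hxi : x i with
      | none => rfl
      | some m => simp [hxi] at this
    rw [this] at hx'
    exact hO0 (of_decide_eq_true hx')
  · exact sym_pat P8 pat M hM (fun x hx => hswap 1 2 ![1, 0, 2] (by decide) (by decide +kernel) (by decide) x hx)
      (by decide) (fun x y h => (congrArg code (funext h)).trans (code_swap₁ fun i => (x i).isSome))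
  · exact sym_pat P8 pat M hM (fun x hx => hswap 0 1 ![0, 2, 1] (by decide) (by decide +kernel) (by decide) x hx)
      (by decide) (fun x y h => (congrArg code (funext h)).trans (code_swap₂ fun i => (x i).isSome))

omit hR in
/-- Repeated action. -/
noncomputable def P5 (c : U4) (v : V) : V := ∑ i ∈ Finset.range 5, ρ.act (c ^ i) v

omit hR in
theorem P5_add (c : U4) (x y : V) : ρ.P5 c (x + y) = ρ.P5 c x + ρ.P5 c y := by
  simp only [P5, map_add, Finset.sum_add_distrib]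

omit hR in
theorem P5_act {c : U4} (hc : c ^ 5 = 1) (v : V) : ρ.P5 c (ρ.act c v) = ρ.P5 c v ∧ ρ.act c (ρ.P5 c v) = ρ.P5 c v := by
  have h : ∑ i ∈ Finset.range 5, ρ.act (c ^ (i + 1)) v = ρ.P5 c v := by
    rw [P5]
    simp only [Finset.sum_range_succ, Finset.range_zero, Finset.sum_empty, zero_add, hc]
    simp only [pow_zero]
    abel
  refine ⟨?_, ?_⟩
  · refine Eq.trans ?_ h
    exact Finset.sum_congr rfl fun i _ => by rw [← ρ.act_mul, ← pow_succ]
  · refine Eq.trans ?_ h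
    rw [P5, map_sum]
    exact Finset.sum_congr rfl fun i _ => by rw [← ρ.act_mul, ← pow_succ']

omit hR in
theorem pow_fixed {c : U4} {v : V} (h : ρ.act c v = v) : ∀ i : ℕ, ρ.act (c ^ i) v = v
  | 0 => by rw [pow_zero, ρ.act_one]
  | i + 1 => by rw [pow_succ, ρ.act_mul, h, pow_fixed h i]

omit hR in
theorem P5_fixed {c : U4} {v : V} (h : ρ.act c v = v) : ρ.P5 c v = v := by
  rw [P5, Finset.sum_congr rfl fun i _ => ρ.pow_fixed h i, Finset.sum_const, Finset.card_range]
  exact odd_smul ρ.self (by norm_num) v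

omit hR in
/-- The fixed vectors. -/
noncomputable def fixV (c : U4) : AddSubgroup V where
  carrier := {v | ρ.act c v = v}
  zero_mem' := map_zero _
  add_mem' := fun {x y} hx hy => by show ρ.act c (x + y) = x + y; rw [map_add, hx, hy]
  neg_mem' := fun {x} hx => by rw [ρ.neg_eq]; exact hx

omit hR in
theorem five_count {c : U4} (hc : c ^ 5 = 1) (S : AddSubgroup V) (hS : ∀ v ∈ S, ρ.act c v ∈ S) :
    Nat.card S % 5 = Nat.card {v : V // v ∈ S ∧ ρ.act c v = v} % 5 := by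
  haveI := ρ.finite
  have h5 : ∀ v, ρ.act c (ρ.act (c ^ 4) v) = v ∧ ρ.act (c ^ 4) (ρ.act c v) = v := fun v => by
    rw [← ρ.act_mul, ← ρ.act_mul, ← pow_succ', ← pow_succ]
    norm_num [hc, ρ.act_one]
  have hS4 : ∀ v ∈ S, ρ.act (c ^ 4) v ∈ S := fun v hv => by
    rw [pow_succ, pow_succ, pow_succ, pow_one, ρ.act_mul, ρ.act_mul, ρ.act_mul]
    exact hS _ (hS _ (hS _ (hS _ hv)))
  let σ : Equiv.Perm S :=
    { toFun := fun v => ⟨ρ.act c v, hS _ v.2⟩
      invFun := fun v => ⟨ρ.act (c ^ 4) v, hS4 _ v.2⟩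
      left_inv := fun v => Subtype.ext (h5 v).2
      right_inv := fun v => Subtype.ext (h5 v).1 }
  have hpow : ∀ (n : ℕ) (v : S), ((σ ^ n) v : V) = ρ.act (c ^ n) v := fun n => by
    induction n with
    | zero => intro v; rw [pow_zero, pow_zero, ρ.act_one]; rfl
    | succ n ih => intro v; rw [pow_succ', pow_succ', Equiv.Perm.mul_apply, ρ.act_mul, ← ih]; rfl
  have hσ : σ ^ 5 = 1 := Equiv.ext fun v => Subtype.ext (by rw [hpow, hc, ρ.act_one]; rfl)
  rw [perm_five_count σ hσ]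
  congr 1
  exact Nat.card_congr
    { toFun := fun x => ⟨x.1.1, x.1.2, congrArg Subtype.val x.2⟩
      invFun := fun x => ⟨⟨x.1, x.2.1⟩, Subtype.ext x.2.2⟩
      left_inv := fun _ => rfl
      right_inv := fun _ => rfl }

/-- The fixed space of an element of order five. -/
theorem five_fix {c : U4} (hc : orderOf c = 5) : Nat.card (ρ.fixV c) = 16 := by
  haveI := ρ.finite
  have hc5 : c ^ 5 = 1 := hc ▸ pow_orderOf_eq_one c
  have h := ρ.five_count hc5 ⊤ (fun v _ => AddSubgroup.mem_top _)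
  rw [AddSubgroup.card_top, ρ.card, Nat.card_congr (Equiv.subtypeEquivRight (p := fun v => v ∈ (⊤ : AddSubgroup V) ∧ ρ.act c v = v)
    (q := fun v => v ∈ ρ.fixV c) fun v => ⟨fun h => h.2, fun h => ⟨AddSubgroup.mem_top _, h⟩⟩)] at h
  obtain ⟨m, hm8, hm⟩ := ρ.card_sub (ρ.fixV c)
  have h4 : 4 ≤ Nat.card (ρ.fixV c) := by
    rw [← hR.1]
    exact AddSubgroup.card_le_of_le (show ρ.fixT ≤ ρ.fixV c from fun u hu => ρ.fix_act hR hu c)
  have hne : m ≠ 8 := fun e => by
    have hall : ∀ v, ρ.act c v = v := fun v => by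
      have htop : ρ.fixV c = ⊤ := (AddSubgroup.card_eq_iff_eq_top _).1 (by rw [hm, e, ρ.card]; norm_num)
      have : v ∈ ρ.fixV c := by rw [htop]; exact AddSubgroup.mem_top v
      exact this
    rw [ρ.faithful c hall, orderOf_one] at hc
    norm_num at hc
  rw [hm] at h h4 ⊢
  obtain rfl : m = 4 := by interval_cases m <;> simp_all
  norm_num

omit hR in
theorem five_orth {c : U4} (hc : c ^ 5 = 1) {f d : V} (hf : ρ.act c f = f) (hd : ρ.P5 c d = 0) : ρ.β f d = 0 := by
  have h : ρ.β f (ρ.P5 c d) = ∑ _i ∈ Finset.range 5, ρ.β f d := by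
    rw [P5, ρ.bsum]
    exact Finset.sum_congr rfl fun i _ => by rw [← ρ.bact (c ^ i) f d, ρ.pow_fixed hf i]
  rw [hd, ρ.bzero, Finset.sum_const, Finset.card_range, odd_smul ZModModule.add_self (by norm_num)] at h
  exact h.symm

omit hR in
theorem P5_split {c : U4} (hc : c ^ 5 = 1) (v : V) : ρ.P5 c (v + ρ.P5 c v) = 0 := by
  rw [ρ.P5_add, ρ.P5_fixed (ρ.P5_act hc v).2, ρ.self]

omit hR in
/-- The kernel of the projection. -/
noncomputable def kerP (c : U4) : AddSubgroup V where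
  carrier := {v | ρ.P5 c v = 0}
  zero_mem' := by simp [P5]
  add_mem' := fun {x y} hx hy => by show ρ.P5 c (x + y) = 0; rw [ρ.P5_add, hx, hy, add_zero]
  neg_mem' := fun {x} hx => by rw [ρ.neg_eq]; exact hx

theorem kerP_card {c : U4} (hc : orderOf c = 5) : Nat.card (ρ.kerP c) = 16 := by
  have hc5 : c ^ 5 = 1 := hc ▸ pow_orderOf_eq_one c
  have h : Nat.card V = Nat.card (ρ.fixV c × ρ.kerP c) := Nat.card_congr
    { toFun := fun v => (⟨ρ.P5 c v, (ρ.P5_act hc5 v).2⟩, ⟨v + ρ.P5 c v, ρ.P5_split hc5 v⟩)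
      invFun := fun p => p.1 + p.2
      left_inv := fun v => by show ρ.P5 c v + (v + ρ.P5 c v) = v; rw [add_left_comm, ρ.self, add_zero]
      right_inv := by
        rintro ⟨⟨f, hf⟩, ⟨d, hd⟩⟩
        have e : ρ.P5 c (f + d) = f := by rw [ρ.P5_add, ρ.P5_fixed hf, hd, add_zero]
        refine Prod.ext (Subtype.ext e) (Subtype.ext ?_)
        show f + d + ρ.P5 c (f + d) = d
        rw [e, add_comm, ← add_assoc, ρ.self, zero_add] }
  rw [ρ.card, Nat.card_prod, ρ.five_fix hR hc] at h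
  omega

theorem five_irr {c : U4} (hc : orderOf c = 5) {S : AddSubgroup V} (hS : ∀ v ∈ S, ρ.act c v ∈ S)
    (hK : ∀ v ∈ S, ρ.P5 c v = 0) : (∀ v ∈ S, v = 0) ∨ ∀ v, ρ.P5 c v = 0 → v ∈ S := by
  haveI := ρ.finite
  have hc5 : c ^ 5 = 1 := hc ▸ pow_orderOf_eq_one c
  have h := ρ.five_count hc5 S hS
  haveI : Unique {v : V // v ∈ S ∧ ρ.act c v = v} :=
    { default := ⟨0, S.zero_mem, map_zero _⟩
      uniq := fun x => Subtype.ext (by rw [← ρ.P5_fixed x.2.2, hK _ x.2.1]) }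
  rw [Nat.card_unique (α := {v : V // v ∈ S ∧ ρ.act c v = v})] at h
  obtain ⟨m, hm8, hm⟩ := ρ.card_sub S
  have hle : S ≤ ρ.kerP c := fun v hv => hK v hv
  have h16 := AddSubgroup.card_le_of_le hle
  rw [ρ.kerP_card hR hc, hm] at h16
  rw [hm] at h
  have : m = 0 ∨ m = 4 := by
    have : m ≤ 4 := by
      by_contra hlt
      have := Nat.pow_le_pow_right (show 0 < 2 by norm_num) (show 5 ≤ m by omega)
      omega
    interval_cases m <;> simp_all
  rcases this with rfl | rfl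
  · exact Or.inl (triv_of_card (by rw [hm]; norm_num))
  · refine Or.inr fun v hv => ?_
    have he : S = ρ.kerP c := AddSubgroup.eq_of_le_of_card_ge hle (by rw [ρ.kerP_card hR hc, hm]; norm_num)
    rw [he]; exact hv

/-- An invariant totally isotropic subgroup. -/
theorem five_small {c : U4} (hc : orderOf c = 5) (S : AddSubgroup V) (hS : ∀ v ∈ S, ρ.act c v ∈ S)
    (hb : ∀ x ∈ S, ∀ y ∈ S, ρ.β x y = 0) : (∀ v ∈ S, ρ.act c v = v) ∧ Nat.card S ≤ 4 := by
  classical
  haveI := ρ.finite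
  have hc5 : c ^ 5 = 1 := hc ▸ pow_orderOf_eq_one c
  have hpow : ∀ (n : ℕ), ∀ v ∈ S, ρ.act (c ^ n) v ∈ S := fun n => by
    induction n with
    | zero => intro v hv; rw [pow_zero, ρ.act_one]; exact hv
    | succ n ih => intro v hv; rw [pow_succ', ρ.act_mul]; exact hS _ (ih v hv)
  have hP : ∀ v ∈ S, ρ.P5 c v ∈ S := fun v hv => sum_mem fun i _ => hpow i v hv
  have hzero : ∀ v ∈ S ⊓ ρ.kerP c, v = 0 := by
    rcases ρ.five_irr hR hc (S := S ⊓ ρ.kerP c) (fun v hv => ⟨hS v hv.1, by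
        show ρ.P5 c _ = 0
        rw [(ρ.P5_act hc5 v).1]; exact hv.2⟩) (fun v hv => hv.2) with h | h
    · exact h
    · intro v hv
      refine ρ.β_nondeg v fun y => ?_
      conv_lhs => rw [show y = ρ.P5 c y + (y + ρ.P5 c y) by rw [add_left_comm, ρ.self, add_zero], ρ.baddr]
      rw [ρ.bsymm, ρ.five_orth hc5 (ρ.P5_act hc5 y).2 hv.2, zero_add]
      exact hb _ hv.1 _ (h _ (ρ.P5_split hc5 y)).1
  have hfix : ∀ v ∈ S, ρ.act c v = v := fun v hv => by
    have := hzero (v + ρ.P5 c v) ⟨add_mem hv (hP v hv), ρ.P5_split hc5 v⟩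
    rw [ρ.eq_of_add this, (ρ.P5_act hc5 v).2]
  refine ⟨hfix, ?_⟩
  by_contra h5
  obtain ⟨m, -, hm⟩ := ρ.card_sub S
  have hle : S ≤ ρ.fixV c := hfix
  have h16 := AddSubgroup.card_le_of_le hle
  rw [ρ.five_fix hR hc, hm] at h16
  rw [hm] at h5
  obtain ⟨hm2, hm4⟩ : 3 ≤ m ∧ m ≤ 4 := by
    constructor <;> by_contra hlt
    · have := Nat.pow_le_pow_right (show 0 < 2 by norm_num) (show m ≤ 2 by omega); omega
    · have := Nat.pow_le_pow_right (show 0 < 2 by norm_num) (show 5 ≤ m by omega); omega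
  -- an element of the fixed space outside the span, orthogonal to everything
  have full : ∀ v, ρ.act c v = v → (∀ y, ρ.act c y = y → ρ.β v y = 0) → v = 0 := fun v hv h => ρ.β_nondeg v fun y => by
    conv_lhs => rw [show y = ρ.P5 c y + (y + ρ.P5 c y) by rw [add_left_comm, ρ.self, add_zero], ρ.baddr]
    rw [h _ (ρ.P5_act hc5 y).2, ρ.five_orth hc5 hv (ρ.P5_split hc5 y), add_zero]
  have hS0 : ∃ v ∈ S, v ≠ 0 ∧ ∀ y, ρ.act c y = y → ρ.β v y = 0 := by
    by_cases heq : ∀ x, ρ.act c x = x → x ∈ S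
    · have h1 : Nat.card S ≠ 1 := by
        rw [hm]; intro h
        have := (Nat.pow_eq_one.1 h).resolve_left (by norm_num); omega
      obtain ⟨v, hv, hne⟩ : ∃ v ∈ S, v ≠ 0 := by
        by_contra! h0
        haveI : Subsingleton S := ⟨fun x y => Subtype.ext ((h0 x x.2).trans (h0 y y.2).symm)⟩
        exact h1 (Nat.card_of_subsingleton (0 : S))
      exact ⟨v, hv, hne, fun y hy => hb v hv y (heq y hy)⟩
    · simp only [not_forall] at heq
      obtain ⟨x, hx, hxS⟩ := heq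
      -- `S` has index two in the fixed space
      have hcover : ∀ y, ρ.act c y = y → y ∈ S ∨ y + x ∈ S := by
        intro y hy
        by_contra! h
        have hinj : Function.Injective (fun p : S × Fin 3 => (⟨(p.1 : V) + ![0, x, y] p.2, by
            refine add_mem (hle p.1.2) ?_
            rcases p with ⟨_, j⟩; fin_cases j
            exacts [zero_mem _, hx, hy]⟩ : ρ.fixV c)) := by
          rintro ⟨a, i⟩ ⟨b, j⟩ e
          have e' : (a : V) + ![0, x, y] i = b + ![0, x, y] j := congrArg Subtype.val e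
          have hd : ![0, x, y] i + ![0, x, y] j ∈ S := by
            have h2 : ![0, x, y] i + ![0, x, y] j = a + b := by
              refine ρ.eq_of_add ?_
              rw [add_add_add_comm, add_comm (![0, x, y] i), add_comm (![0, x, y] j), e']
              exact ρ.self _
            rw [h2]; exact add_mem a.2 b.2
          have hij : i = j := by
            fin_cases i <;> fin_cases j <;> simp [add_comm x y] at hd ⊢ <;>
              first | exact absurd hd hxS | exact absurd hd h.1 | exact absurd hd h.2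
          subst hij
          exact Prod.ext (Subtype.ext (add_right_cancel e')) rfl
        have := Nat.card_le_card_of_injective _ hinj
        rw [Nat.card_prod, hm, Nat.card_eq_fintype_card, Fintype.card_fin, ρ.five_fix hR hc] at this
        have h8 := Nat.pow_le_pow_right (show 0 < 2 by norm_num) hm2
        omega
      have hex : ∃ v ∈ S, v ≠ 0 ∧ ρ.β x v = 0 := by
        by_contra! h0
        have hinj : Function.Injective (fun v : S => ρ.β x v) := fun a b e => by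
          by_contra hne
          exact h0 _ (add_mem a.2 b.2) (fun e0 => hne (Subtype.ext (ρ.eq_of_add e0))) (by
            rw [ρ.baddr, show ρ.β x a = ρ.β x b from e]; exact ZModModule.add_self _)
        have := Nat.card_le_card_of_injective _ hinj
        rw [hm, Nat.card_zmod] at this
        have h8 := Nat.pow_le_pow_right (show 0 < 2 by norm_num) hm2
        omega
      obtain ⟨v, hv, hne, hxv⟩ := hex
      refine ⟨v, hv, hne, fun y hy => ?_⟩
      rcases hcover y hy with hy' | hy'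
      · exact hb v hv y hy'
      · have := hb v hv _ hy'
        rwa [ρ.baddr, ρ.bsymm v x, hxv, add_zero] at this
  obtain ⟨v, hv, hne, h⟩ := hS0
  exact hne (full v (hfix v hv) h)

/-- No involution commutes with an element of order five. -/
theorem five_invol {c : U4} (hc : orderOf c = 5) {k : U4} (hk : k * k = 1) (hcomm : c * k = k * c) : k = 1 := by
  classical
  haveI := ρ.finite
  by_contra hne
  have hc5 : c ^ 5 = 1 := hc ▸ pow_orderOf_eq_one c
  have hkc : ∀ v, ρ.act c (ρ.act k v) = ρ.act k (ρ.act c v) := fun v => by rw [← ρ.act_mul, hcomm, ρ.act_mul]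
  have hD2 : ∀ v, ρ.act k (ρ.D k v) = ρ.D k v := fun v => by
    rw [D, map_add, ← ρ.act_mul, hk, ρ.act_one, add_comm]
  have hkP : ∀ v, ρ.P5 c (ρ.act k v) = ρ.act k (ρ.P5 c v) := fun v => by
    rw [P5, P5, map_sum]
    refine Finset.sum_congr rfl fun i _ => ?_
    have hci : c ^ i * k = k * c ^ i := (Commute.pow_left hcomm i).eq
    rw [← ρ.act_mul, hci, ρ.act_mul]
  have hker : ∀ v, ρ.P5 c v = 0 → ρ.act k v = v := by
    let S : AddSubgroup V := ρ.fixV k ⊓ ρ.kerP c
    rcases ρ.five_irr hR hc (S := S) (fun v hv => ⟨by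
        show ρ.act k (ρ.act c v) = _; rw [← hkc]; exact congrArg (ρ.act c) hv.1, by
        show ρ.P5 c _ = 0; rw [(ρ.P5_act hc5 v).1]; exact hv.2⟩) (fun v hv => hv.2) with h | h
    · intro v hv
      have hDz : ρ.D k v = 0 := h _ ⟨hD2 v, by
        show ρ.P5 c _ = 0; rw [D, ρ.P5_add, hkP, hv, map_zero, add_zero]⟩
      exact (ρ.eq_of_add hDz).symm
    · exact fun v hv => (h v hv).1
  -- differences lie in the fixed space outside the plane
  have hF : ∀ v, ∃ f, ρ.act c f = f ∧ ρ.eT f = 0 ∧ ρ.D k f = ρ.D k v := by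
    intro v
    refine ⟨ρ.P5 c v + ρ.eT (ρ.P5 c v), ?_, by rw [ρ.eT_add, ρ.eT_eT, ρ.self], ?_⟩
    · rw [map_add, (ρ.P5_act hc5 v).2, ρ.fix_act hR (ρ.eT_mem _) c]
    · have h1 : ρ.D k (v + ρ.P5 c v) = 0 := by rw [D, hker _ (ρ.P5_split hc5 v), ρ.self]
      have h2 : ρ.D k (ρ.eT (ρ.P5 c v)) = 0 := by rw [D, ρ.fix_act hR (ρ.eT_mem _) k, ρ.self]
      rw [ρ.D_add, h2, add_zero]
      rw [ρ.D_add] at h1
      exact (ρ.eq_of_add h1).symm
  let FW : AddSubgroup V :=
    { carrier := {f | ρ.act c f = f ∧ ρ.eT f = 0}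
      zero_mem' := ⟨map_zero _, ρ.eT_zero⟩
      add_mem' := fun {a b} ha hb => ⟨by rw [map_add, ha.1, hb.1], by rw [ρ.eT_add, ha.2, hb.2, add_zero]⟩
      neg_mem' := fun {a} ha => by rw [ρ.neg_eq]; exact ha }
  have hFW : Nat.card FW = 4 := by
    have h : Nat.card (ρ.fixV c) = Nat.card (ρ.fixT × FW) := Nat.card_congr
      { toFun := fun v => (⟨ρ.eT v, ρ.eT_mem _⟩, ⟨v.1 + ρ.eT v, by
          rw [map_add, show ρ.act c v.1 = v.1 from v.2, ρ.fix_act hR (ρ.eT_mem _) c], by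
          rw [ρ.eT_add, ρ.eT_eT, ρ.self]⟩)
        invFun := fun p => ⟨p.1.1 + p.2.1, add_mem (show p.1.1 ∈ ρ.fixV c from ρ.fix_act hR p.1.2 c) p.2.2.1⟩
        left_inv := fun v => Subtype.ext (by
          show ρ.eT v + (v.1 + ρ.eT v) = v.1; rw [add_left_comm, ρ.self, add_zero])
        right_inv := by
          rintro ⟨⟨u, hu⟩, ⟨f, hf⟩⟩
          have e : ρ.eT (u + f) = u := by rw [ρ.eT_add, ρ.eT_fix hu, hf.2, add_zero]
          refine Prod.ext (Subtype.ext e) (Subtype.ext ?_)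
          show u + f + ρ.eT (u + f) = f
          rw [e, add_comm, ← add_assoc, ρ.self, zero_add] }
    rw [ρ.five_fix hR hc, Nat.card_prod, hR.1] at h
    omega
  obtain ⟨x, y, hx, hy, hxy⟩ := ρ.two_moves hR hk hne
  obtain ⟨f, hf1, hf2, hf3⟩ := hF x
  obtain ⟨g, hg1, hg2, hg3⟩ := hF y
  rw [← hf3] at hx hxy
  rw [← hg3] at hy hxy
  have hmem : ∀ f, ρ.act c f = f → ρ.eT f = 0 → ρ.D k f ∈ FW := fun f h1 h2 => ⟨by
    rw [D, map_add, hkc, h1], by rw [D, ρ.eT_add, ρ.eT_act hR, h2, add_zero]⟩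
  haveI : Fintype FW := Fintype.ofFinite _
  let l : Finset FW := {0, ⟨_, hmem f hf1 hf2⟩, ⟨_, hmem g hg1 hg2⟩, ⟨_, add_mem (hmem f hf1 hf2) (hmem g hg1 hg2)⟩}
  have n1 : ρ.D k f + ρ.D k g ≠ 0 := fun e => hxy (ρ.eq_of_add e)
  have hlc : l.card = 4 := by
    simp [l, Finset.card_insert_of_notMem, Subtype.ext_iff, hx, hy, Ne.symm hx, Ne.symm hy, hxy, n1, Ne.symm n1]
  have hlu : l = Finset.univ := Finset.eq_univ_of_card l (by rw [hlc, ← Nat.card_eq_fintype_card, hFW])
  have hDf : ρ.D k f = 0 := by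
    have hfl : (⟨f, hf1, hf2⟩ : FW) ∈ l := by rw [hlu]; exact Finset.mem_univ _
    have hfx : ρ.act k f = f := by
      simp only [l, Finset.mem_insert, Finset.mem_singleton, Subtype.ext_iff] at hfl
      rcases hfl with e | e | e | e <;> rw [e]
      · exact map_zero _
      · exact hD2 f
      · exact hD2 g
      · rw [map_add, hD2, hD2]
    rw [D, hfx, ρ.self]
  exact hx hDf

/-- No element fixing the kernel of a functional on the centraliser of an involution `s`
(agreeing with the form on the commutators) squares to `s`. -/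
theorem no_root {k s : U4} (hks : k * k = s) (hs : s * s = 1) (hne : s ≠ 1) (ε : V → ZMod 2)
    (hadd : ∀ x y, ρ.act s x = x → ρ.act s y = y → ε (x + y) = ε x + ε y)
    (hq : ∀ v, ε (ρ.D s v) = ρ.q (ρ.D s v))
    (hfix : ∀ x, ρ.act s x = x → ε x = 0 → ρ.act k x = x) : False := by
  haveI := ρ.finite
  have hsk : s * k = k * s := by rw [← hks, mul_assoc]
  have hDfix : ∀ v, ρ.act s (ρ.D s v) = ρ.D s v := fun v => by
    rw [D, map_add, ← ρ.act_mul, hs, ρ.act_one, add_comm]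
  by_cases hsing : ∀ v, ρ.q (ρ.D s v) = 0
  · -- the commutators are singular
    obtain ⟨x, -, hx, -, -⟩ := ρ.two_moves hR hs hne
    refine hx ?_
    set y := ρ.D k x with hy
    have hyy : ρ.D k y = ρ.D s x := by
      rw [hy, D, D, D, map_add, ← ρ.act_mul, hks]
      rw [add_assoc, ← add_assoc (ρ.act k x), ρ.self, zero_add]
    have hperp : ∀ b, ρ.act s b = b → ε b = 0 → ρ.β y b = 0 := fun b hb hb' => by
      have h1 := ρ.bact k x b
      rw [hfix b hb hb'] at h1
      rw [hy, D, ρ.β_add, h1]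
      exact ZModModule.add_self _
    let R : AddSubgroup V := (AddMonoidHom.mk' (ρ.D s) (ρ.D_add s)).range
    have hperpR : ∀ a, (∀ r ∈ R, ρ.β r a = 0) → ρ.act s a = a := by
      intro a ha
      refine ρ.eq_of_add (ρ.β_nondeg _ fun v => ?_)
      rw [ρ.β_add]
      have h1 := ha _ ⟨v, rfl⟩
      change ρ.β (ρ.D s v) a = 0 at h1
      rw [D, ρ.β_add, ρ.bsymm v, ρ.bsymm (ρ.act s v)] at h1
      have h2 : ρ.β (ρ.act s a) v = ρ.β a (ρ.act s v) := by
        rw [← ρ.bact s a (ρ.act s v), ← ρ.act_mul, hs, ρ.act_one]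
      rw [h2, add_comm]
      exact h1
    have hys : ρ.act s y = y := by
      refine hperpR y fun r hr => ?_
      obtain ⟨v, rfl⟩ := hr
      rw [ρ.bsymm]
      exact hperp _ (hDfix v) ((hq v).trans (hsing v))
    have hey : ε y = 0 := by
      refine (two_cases _).resolve_right fun h1 => ?_
      have hyR : y ∈ R := by
        by_contra hyR
        obtain ⟨a, ha, ha'⟩ := ρ.sep R hyR
        have has : ρ.act s a = a := hperpR a ha
        rcases two_cases (ε a) with e | e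
        · rw [hperp a has e] at ha'
          exact zero_ne_one ha'
        · have hay : ρ.β y (a + y) = 0 := hperp _ (by rw [map_add, has, hys]) (by rw [hadd a y has hys, e, h1]; rfl)
          rw [ρ.baddr, ha'] at hay
          have hyy' : ρ.β y y = 0 := by
            have := ρ.q_add y y
            rw [ρ.self, ρ.qzero, ZModModule.add_self (ρ.q y), zero_add] at this
            exact this.symm
          rw [hyy', add_zero] at hay
          exact one_ne_zero hay
      obtain ⟨v, hv⟩ := hyR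
      change ρ.D s v = y at hv
      rw [← hv, hq, hsing] at h1
      exact zero_ne_one h1
    rw [← hyy, D, hfix y hys hey, ρ.self]
  · -- some commutator is not singular
    simp only [not_forall] at hsing
    obtain ⟨r0, hr0⟩ := hsing
    have hr0' : ε (ρ.D s r0) = 1 := (hq r0).trans ((two_cases _).resolve_left hr0)
    have hDk : ∀ v, ρ.D k (ρ.D s v) = ρ.D s (ρ.D k v) := fun v => by
      simp only [D, map_add, ← ρ.act_mul, hsk]
      abel
    have hC : ∀ x, ρ.act s x = x → ∃ v, ρ.D k x = ρ.D s v := by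
      intro x hx
      rcases two_cases (ε x) with e | e
      · exact ⟨0, by rw [show ρ.D k x = 0 from by rw [D, hfix x hx e, ρ.self]]; simp [D]⟩
      · refine ⟨ρ.D k r0, ?_⟩
        have hb : ρ.D k (x + ρ.D s r0) = 0 := by
          rw [D, hfix _ (by rw [map_add, hx, hDfix]) (by rw [hadd _ _ hx (hDfix r0), e, hr0']; rfl), ρ.self]
        rw [ρ.D_add] at hb
        rw [ρ.eq_of_add hb, hDk]
    obtain ⟨g, hg | hg⟩ := invol_conj hs hne
    · -- a transvection has singular commutators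
      refine hr0 ?_
      have key : ∀ v, ρ.q (ρ.D (t4 (w2 0 1 0)) v) = 0 := fun v => ρ.q_D_transvection hR v
      rw [← ρ.q_act g]
      have : ρ.act g (ρ.D s r0) = ρ.D (g * s * g⁻¹) (ρ.act g r0) := by
        rw [D, D, map_add, ← ρ.act_mul, ← ρ.act_mul]
        simp
      rw [this, hg]
      exact key _
    · -- transported to the standard product
      set k' := g * k * g⁻¹ with hk'
      have hk2 : k' * k' = s₂ := by rw [← hg, ← hks, hk']; group
      have hC' : ∀ x, ρ.act s₂ x = x → ∃ v, ρ.D k' x = ρ.D s₂ v := by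
        intro x hx
        have hgi : ∀ z, ρ.act g (ρ.act g⁻¹ z) = z := fun z => by rw [← ρ.act_mul, mul_inv_cancel, ρ.act_one]
        have hx' : ρ.act s (ρ.act g⁻¹ x) = ρ.act g⁻¹ x := by
          apply ρ.act_injective g
          rw [hgi, ← ρ.act_mul, ← ρ.act_mul, hg, hx]
        obtain ⟨v, hv⟩ := hC _ hx'
        refine ⟨ρ.act g v, ?_⟩
        have hv' := congrArg (ρ.act g) hv
        rw [D, D, map_add, map_add, hgi, ← ρ.act_mul, ← ρ.act_mul, ← ρ.act_mul] at hv'
        rw [D, D, hk', ← hg, ← ρ.act_mul]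
        simpa [mul_assoc] using hv'
      exact ρ.no_root_std hR hk2 hC'

end Rep

end Cfsg.Agent.U62Rec
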