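/-
An involution whose centraliser is an extraspecial group of order 2^9 extended by SU(4,2), the extension
acting as on the natural module, and which is weakly closed in the extraspecial group.

* `Setup z`, `Setup.conj`, `exists_setup` : the setting, at every conjugate of `z`;
* `Setup.commute_iff`, `Setup.card_pre` : the commutator form, counting preimages.
-/
import Cfsg.Agent.Lib.U62Rec.Space

set_option autoImplicit false

namespace Cfsg.Agent.U62Rec

open Cfsg.Agent.ThreeTransSU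

universe u

variable {L : Type u} [Group L]

/-- The conjugates. -/
def Dset (z : L) : Set L := {x | ∃ g : L, g * z * g⁻¹ = x}

/-- The setting. -/
structure Setup (z : L) where
  /-- The extraspecial subgroup. -/
  J : Subgroup L
  /-- The map onto SU(4,2). -/
  φ : L → U4
  /-- The map onto the module. -/
  vec : L → V4
  z_ord : orderOf z = 2
  z_mem : z ∈ J
  J_le : ∀ j ∈ J, Commute j z
  φ_mul : ∀ g h, Commute g z → Commute h z → φ (g * h) = φ g * φ h
  φ_ker : ∀ h, Commute h z → (φ h = 1 ↔ h ∈ J)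
  φ_surj : ∀ x : U4, ∃ h, Commute h z ∧ φ h = x
  vec_mul : ∀ i ∈ J, ∀ j ∈ J, vec (i * j) = vec i + vec j
  vec_surj : ∀ x : V4, ∃ j ∈ J, vec j = x
  vec_ker : ∀ j ∈ J, vec j = 0 → j = 1 ∨ j = z
  vec_z : vec z = 0
  sq_one : ∀ j ∈ J, hf (vec j) (vec j) = 0 → j * j = 1
  sq_z : ∀ j ∈ J, hf (vec j) (vec j) ≠ 0 → j * j = z
  vec_conj : ∀ h, Commute h z → ∀ j ∈ J, h * j * h⁻¹ ∈ J ∧ vec (h * j * h⁻¹) = act (φ h) (vec j)
  wc : ∀ g : L, g * z * g⁻¹ ∈ J → g * z * g⁻¹ = z

/-- Conjugating a commuting pair. -/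
theorem commute_conj (g : L) {x y : L} (h : Commute x y) : Commute (g * x * g⁻¹) (g * y * g⁻¹) :=
  h.map (MulAut.conj g).toMonoidHom

theorem commute_conj' (g : L) {x z : L} (h : Commute x (g * z * g⁻¹)) : Commute (g⁻¹ * x * g) z := by
  have := commute_conj g⁻¹ h
  simpa [mul_assoc] using this

theorem mem_map_conj {H : Subgroup L} {g x : L} :
    x ∈ H.map (MulAut.conj g).toMonoidHom ↔ g⁻¹ * x * g ∈ H := by
  rw [Subgroup.mem_map]
  constructor
  · rintro ⟨y, hy, rfl⟩
    simpa [mul_assoc] using hy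
  · exact fun h => ⟨_, h, by simp [mul_assoc]⟩

namespace Setup

variable {z : L} (S : Setup z)

/-- The setting at a conjugate. -/
def conj (g : L) : Setup (g * z * g⁻¹) where
  J := S.J.map (MulAut.conj g).toMonoidHom
  φ h := S.φ (g⁻¹ * h * g)
  vec j := S.vec (g⁻¹ * j * g)
  z_ord := by
    rw [← S.z_ord]
    exact orderOf_injective (MulAut.conj g).toMonoidHom (MulAut.conj g).injective z
  z_mem := mem_map_conj.2 (by simpa [mul_assoc] using S.z_mem)
  J_le j hj := by
    have := commute_conj g (S.J_le _ (mem_map_conj.1 hj))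
    simpa [mul_assoc] using this
  φ_mul x y hx hy := by
    rw [← S.φ_mul _ _ (commute_conj' g hx) (commute_conj' g hy)]
    congr 1
    group
  φ_ker h hh := by rw [S.φ_ker _ (commute_conj' g hh), mem_map_conj]
  φ_surj x := by
    obtain ⟨h, hh, rfl⟩ := S.φ_surj x
    exact ⟨g * h * g⁻¹, commute_conj g hh, by simp [mul_assoc]⟩
  vec_mul i hi j hj := by
    rw [← S.vec_mul _ (mem_map_conj.1 hi) _ (mem_map_conj.1 hj)]
    congr 1
    group
  vec_surj x := by
    obtain ⟨j, hj, rfl⟩ := S.vec_surj x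
    exact ⟨g * j * g⁻¹, mem_map_conj.2 (by simpa [mul_assoc] using hj), by simp [mul_assoc]⟩
  vec_ker j hj h := by
    rcases S.vec_ker _ (mem_map_conj.1 hj) h with e | e
    · exact Or.inl (by have := congrArg (fun y => g * y * g⁻¹) e; simpa [mul_assoc] using this)
    · exact Or.inr (by have := congrArg (fun y => g * y * g⁻¹) e; simpa [mul_assoc] using this)
  vec_z := by simpa [mul_assoc] using S.vec_z
  sq_one j hj h := by
    have := congrArg (fun y => g * y * g⁻¹) (S.sq_one _ (mem_map_conj.1 hj) h)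
    simpa [mul_assoc] using this
  sq_z j hj h := by
    have := congrArg (fun y => g * y * g⁻¹) (S.sq_z _ (mem_map_conj.1 hj) h)
    simpa [mul_assoc] using this
  vec_conj h hh j hj := by
    obtain ⟨h1, h2⟩ := S.vec_conj _ (commute_conj' g hh) _ (mem_map_conj.1 hj)
    have e : g⁻¹ * (h * j * h⁻¹) * g = g⁻¹ * h * g * (g⁻¹ * j * g) * (g⁻¹ * h * g)⁻¹ := by group
    exact ⟨mem_map_conj.2 (by rwa [e]), by rw [e]; exact h2⟩
  wc k hk := by
    have h1 := mem_map_conj.1 hk
    have e : g⁻¹ * (k * (g * z * g⁻¹) * k⁻¹) * g = g⁻¹ * k * g * z * (g⁻¹ * k * g)⁻¹ := by group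
    rw [e] at h1
    have h2 := congrArg (fun y => g * y * g⁻¹) (S.wc _ h1)
    simpa [mul_assoc] using h2

theorem exists_setup (S : Setup z) {a : L} (ha : a ∈ Dset z) : Nonempty (Setup a) := by
  obtain ⟨g, rfl⟩ := ha
  exact ⟨S.conj g⟩

theorem Dset_eq {a : L} (ha : a ∈ Dset z) : Dset a = Dset z := by
  obtain ⟨g, rfl⟩ := ha
  ext x
  constructor
  · rintro ⟨k, rfl⟩; exact ⟨k * g, by group⟩
  · rintro ⟨k, rfl⟩; exact ⟨k * g⁻¹, by group⟩

theorem Dset_conj (g : L) {a : L} (ha : a ∈ Dset z) : g * a * g⁻¹ ∈ Dset z := by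
  obtain ⟨k, rfl⟩ := ha
  exact ⟨g * k, by group⟩

theorem self_mem : z ∈ Dset z := ⟨1, by group⟩

include S

theorem sq : z * z = 1 := by
  have := pow_orderOf_eq_one z
  rwa [S.z_ord, pow_two] at this

theorem ne_one : z ≠ 1 := fun h => by
  have := S.z_ord
  rw [h, orderOf_one] at this
  exact absurd this (by norm_num)

theorem inv : z⁻¹ = z := inv_eq_of_mul_eq_one_right S.sq

theorem D_sq {a : L} (ha : a ∈ Dset z) : a * a = 1 := by
  obtain ⟨g, rfl⟩ := ha
  rw [show g * z * g⁻¹ * (g * z * g⁻¹) = g * (z * z) * g⁻¹ by group, S.sq, mul_one, mul_inv_cancel]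

theorem D_inv {a : L} (ha : a ∈ Dset z) : a⁻¹ = a := inv_eq_of_mul_eq_one_right (S.D_sq ha)

theorem D_ne_one {a : L} (ha : a ∈ Dset z) : a ≠ 1 := fun e => by
  obtain ⟨g, hg⟩ := ha
  exact S.ne_one (conj_eq_one_iff.1 (hg.trans e))

theorem φ_one : S.φ 1 = 1 := (S.φ_ker 1 (Commute.one_left z)).2 (one_mem _)

theorem φ_inv {g : L} (hg : Commute g z) : S.φ g⁻¹ = (S.φ g)⁻¹ :=
  eq_inv_of_mul_eq_one_left (by rw [← S.φ_mul _ _ hg.inv_left hg, inv_mul_cancel, S.φ_one])

theorem φ_conj {g h : L} (hg : Commute g z) (hh : Commute h z) :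
    S.φ (g * h * g⁻¹) = S.φ g * S.φ h * (S.φ g)⁻¹ := by
  rw [S.φ_mul _ _ (hg.mul_left hh) hg.inv_left, S.φ_mul _ _ hg hh, S.φ_inv hg]

theorem φ_J {j : L} (hj : j ∈ S.J) : S.φ j = 1 := (S.φ_ker j (S.J_le j hj)).2 hj

theorem φ_eq_iff {g h : L} (hg : Commute g z) (hh : Commute h z) : S.φ g = S.φ h ↔ g⁻¹ * h ∈ S.J := by
  rw [← S.φ_ker _ (hg.inv_left.mul_left hh), S.φ_mul _ _ hg.inv_left hh, S.φ_inv hg, inv_mul_eq_one]

theorem vec_one : S.vec 1 = 0 := by
  have h := S.vec_mul 1 (one_mem _) 1 (one_mem _)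
  rw [one_mul, vv] at h
  exact h

theorem vec_inv {j : L} (hj : j ∈ S.J) : S.vec j⁻¹ = S.vec j := by
  have h := S.vec_mul j hj j⁻¹ (inv_mem hj)
  rw [mul_inv_cancel, S.vec_one] at h
  exact (veq h.symm).symm

theorem vec_eq_cases {i j : L} (hi : i ∈ S.J) (hj : j ∈ S.J) (h : S.vec i = S.vec j) :
    i = j ∨ i = z * j := by
  have h0 : S.vec (i * j⁻¹) = 0 := by rw [S.vec_mul i hi _ (inv_mem hj), S.vec_inv hj, h, vv]
  rcases S.vec_ker _ (mul_mem hi (inv_mem hj)) h0 with e | e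
  · exact Or.inl (mul_inv_eq_one.1 e)
  · exact Or.inr (mul_inv_eq_iff_eq_mul.1 e)

theorem z_ne_mul (j : L) : z * j ≠ j := fun h => S.ne_one (mul_eq_right.1 h)

theorem vec_zmul {j : L} (hj : j ∈ S.J) : S.vec (z * j) = S.vec j := by
  rw [S.vec_mul z S.z_mem j hj, S.vec_z, zero_add]

theorem commute_iff {i j : L} (hi : i ∈ S.J) (hj : j ∈ S.J) :
    Commute i j ↔ B (S.vec i) (S.vec j) = 0 := by
  classical
  have hcJ : i * j * (j * i)⁻¹ ∈ S.J := mul_mem (mul_mem hi hj) (inv_mem (mul_mem hj hi))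
  have hc0 : S.vec (i * j * (j * i)⁻¹) = 0 := by
    rw [S.vec_mul _ (mul_mem hi hj) _ (inv_mem (mul_mem hj hi)), S.vec_inv (mul_mem hj hi),
      S.vec_mul i hi j hj, S.vec_mul j hj i hi, add_comm (S.vec j), vv]
  set c := i * j * (j * i)⁻¹ with hc
  have hcm : i * j = c * (j * i) := by rw [hc]; group
  have hcc : c = 1 ∨ c = z := S.vec_ker c hcJ hc0
  have hcomm : Commute i j ↔ c = 1 := by
    rw [hc, mul_inv_eq_one]
    exact Iff.rfl
  have hc2 : c * c = 1 := by rcases hcc with e | e <;> rw [e]; exacts [one_mul 1, S.sq]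
  have hcz : ∀ x ∈ S.J, c * x = x * c := fun x hx => by
    rcases hcc with e | e <;> rw [e]
    exacts [by group, (S.J_le x hx).eq.symm]
  have hsq : i * j * (i * j) = c * (i * i * (j * j)) := by
    have hji : j * i = c * (i * j) := by rw [hcm, ← mul_assoc, hc2, one_mul]
    calc i * j * (i * j) = i * (j * i) * j := by group
      _ = i * c * (i * j * j) := by rw [hji]; group
      _ = c * (i * i * (j * j)) := by rw [← hcz i hi]; group
  have hB : hf (S.vec (i * j)) (S.vec (i * j))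
      = hf (S.vec i) (S.vec i) + hf (S.vec j) (S.vec j) + B (S.vec i) (S.vec j) := by
    rw [S.vec_mul i hi j hj]
    simp only [hl, hr, B, hs (S.vec i) (S.vec j)]
    ring
  have hs' : ∀ x : V4, hf x x = 0 ∨ hf x x = 1 := fun x => k_cases _ ((herm cardK).self_fixed x)
  have hB' : B (S.vec i) (S.vec j) = 0 ∨ B (S.vec i) (S.vec j) = 1 := k_cases _ (by
    have : ∀ t : K, (t + t ^ 2) ^ 2 = t + t ^ 2 := by decide +kernel
    exact this _)
  have val : ∀ x ∈ S.J, x * x = if hf (S.vec x) (S.vec x) = 0 then 1 else z := fun x hx => by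
    split
    exacts [S.sq_one x hx ‹_›, S.sq_z x hx ‹_›]
  rw [val _ (mul_mem hi hj), val i hi, val j hj, hB] at hsq
  rw [hcomm]
  clear_value c
  have h11 : (1 : K) + 1 = 0 := k_add_self 1
  have h1 : (1 : K) ≠ 0 := one_ne_zero
  have hz : z ≠ 1 := S.ne_one
  have hz' : (1 : L) ≠ z := hz.symm
  rcases hs' (S.vec i) with a | a <;> rcases hs' (S.vec j) with b | b <;>
    rcases hB' with d | d <;> rcases hcc with e | e <;>
    simp only [a, b, d, e, add_zero, zero_add, h11, h1, if_true, if_false, one_mul, mul_one, S.sq, hz, hz',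
      iff_self] at hsq ⊢

/-- Membership of the preimage. -/
theorem card_pre [Finite L] (P : V4 → Prop) :
    {j | j ∈ S.J ∧ P (S.vec j)}.ncard = {x | P x}.ncard * 2 := by
  have h := M22Cover.ncard_fibres S.vec (fun j => j ∈ S.J) {x | P x} 2 (fun x _ => by
    obtain ⟨j, hj, rfl⟩ := S.vec_surj x
    rw [← Set.ncard_pair (S.z_ne_mul j).symm]
    congr 1
    ext i
    constructor
    · rintro ⟨e, hi⟩
      exact (S.vec_eq_cases hi hj e).imp id id
    · rintro (rfl | rfl)
      exacts [⟨rfl, hj⟩, ⟨S.vec_zmul hj, mul_mem S.z_mem hj⟩])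
  rw [← h]
  congr 1
  exact Set.ext fun j => ⟨fun hj => ⟨hj.2, hj.1⟩, fun hj => ⟨hj.2, hj.1⟩⟩

end Setup

end Cfsg.Agent.U62Rec
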