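/-
The natural case: the involution is weakly closed in the extraspecial group, and the setting follows.

* `sylow_nonabelian` : a commutative 2-subgroup of SU(4,2) has fewer than 64 elements;
* `Modl.setup_of_nat` : the setting of the recognition.
-/
import Cfsg.Agent.Lib.U62Rec.HypNat
import Cfsg.Agent.Lib.U62Rec.HypRed
import Cfsg.Agent.Lib.U62Rec.HypPre
import Cfsg.Agent.Lib.U62Rec.Setup

set_option autoImplicit false

namespace Cfsg.Agent.U62Rec

open Cfsg.Agent.ThreeTransSU Cfsg.Agent.U62Cover Cfsg.Agent.LargeExtraspecial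
open scoped commutatorElement

universe u v

theorem sylow_nonabelian (I : Subgroup U4) (hI : IsPGroup 2 I) (hcomm : ∀ x ∈ I, ∀ y ∈ I, x * y = y * x) :
    Nat.card I < 64 := by
  haveI : Fact (Nat.Prime 2) := ⟨Nat.prime_two⟩
  by_contra h
  obtain ⟨P, hP⟩ := hI.exists_le_sylow
  have hPc : Nat.card P = 64 := by
    obtain ⟨n, hn⟩ := IsPGroup.iff_card.1 P.isPGroup'
    have hidx : ¬ 2 ∣ (P : Subgroup U4).index := P.not_dvd_index
    have h1 := (P : Subgroup U4).card_mul_index
    rw [card_SU4, hn] at h1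
    rw [hn]
    have hn14 : n ≤ 14 := by
      by_contra hlt
      have h2 := Nat.pow_le_pow_right (show 0 < 2 by norm_num) (show 15 ≤ n by omega)
      have h3 : 0 < (P : Subgroup U4).index := Nat.pos_of_ne_zero fun h0 => hidx (by rw [h0]; exact dvd_zero 2)
      have := Nat.le_mul_of_pos_right (2 ^ n) h3
      omega
    interval_cases n <;> simp only [Nat.reducePow] at h1 ⊢ <;> omega
  have heq : I = (P : Subgroup U4) := Subgroup.eq_of_le_of_card_ge hP (by rw [hPc]; omega)
  set a : U4 := t4 (w2 0 1 0) with ha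
  set b : U4 := t4 (w2 0 2 0) * t4 (w2 1 3 0) with hb
  have act_a : ∀ x, act a x = tvf (w2 0 1 0) x := fun x => act_t4 (iso_w2 _ _ _ (by decide)) x
  have act_b : ∀ x, act b x = tvf (w2 0 2 0) (tvf (w2 1 3 0) x) := fun x => by
    rw [hb, act_mul, act_t4 (iso_w2 _ _ _ (by decide)), act_t4 (iso_w2 _ _ _ (by decide))]
  set d := a * b with hd
  have hd4 : d * d * (d * d) = 1 := by
    refine ext_basis fun k => ?_
    simp only [hd, act_mul, act_one, act_a, act_b]
    revert k; decide +kernel
  have haa : a * a = 1 := tv_sq cardK (iso_w2 _ _ _ (by decide))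
  have hbb : b * b = 1 := by
    refine ext_basis fun k => ?_
    simp only [act_mul, act_one, act_b]
    revert k; decide +kernel
  have hne : a * b ≠ b * a := by
    intro e
    have e' := congrArg (fun g => act g (Pi.single (0 : Fin 4) (1 : K))) e
    simp only [act_mul, act_a, act_b] at e'
    revert e'; decide +kernel
  have hpd : IsPGroup 2 (Subgroup.zpowers d) := by
    intro g
    obtain ⟨g, hg⟩ := g
    obtain ⟨n, rfl⟩ := Subgroup.mem_zpowers_iff.1 hg
    refine ⟨2, Subtype.ext ?_⟩
    show (d ^ n) ^ (2 ^ 2) = 1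
    rw [← zpow_natCast, ← zpow_mul, mul_comm, zpow_mul, zpow_natCast,
      show d ^ (2 ^ 2) = d * d * (d * d) by simp [pow_succ, mul_assoc], hd4, one_zpow]
  have hpa : IsPGroup 2 (Subgroup.zpowers a) := by
    intro g
    obtain ⟨g, hg⟩ := g
    obtain ⟨n, rfl⟩ := Subgroup.mem_zpowers_iff.1 hg
    refine ⟨1, Subtype.ext ?_⟩
    show (a ^ n) ^ (2 ^ 1) = 1
    rw [← zpow_natCast, ← zpow_mul, mul_comm, zpow_mul, zpow_natCast,
      show a ^ (2 ^ 1) = a * a by simp [pow_succ], haa, one_zpow]
  have hnorm : Subgroup.zpowers a ≤ Subgroup.normalizer (Subgroup.zpowers d : Set U4) := by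
    rw [Subgroup.zpowers_le, Subgroup.mem_normalizer_iff]
    have ai : a⁻¹ = a := inv_eq_of_mul_eq_one_right haa
    have bi : b⁻¹ = b := inv_eq_of_mul_eq_one_right hbb
    have hc : a * d * a⁻¹ = d⁻¹ := by
      rw [hd, mul_inv_rev, ai, bi, ← mul_assoc a a b, haa, one_mul]
    intro x
    refine ⟨fun hx => ?_, fun hx => ?_⟩
    · obtain ⟨n, rfl⟩ := Subgroup.mem_zpowers_iff.1 hx
      rw [← conj_zpow, hc]
      exact zpow_mem (inv_mem (Subgroup.mem_zpowers d)) n
    · obtain ⟨n, hn⟩ := Subgroup.mem_zpowers_iff.1 hx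
      have : x = a * d ^ n * a⁻¹ := by
        rw [hn]
        calc x = (a * a) * x * (a * a) := by rw [haa, one_mul, mul_one]
          _ = _ := by rw [ai]; group
      rw [this, ← conj_zpow, hc]
      exact zpow_mem (inv_mem (Subgroup.mem_zpowers d)) n
  obtain ⟨Q, hQ⟩ := (hpa.to_sup_of_normal_right' hpd hnorm).exists_le_sylow
  obtain ⟨g, hg⟩ := MulAction.exists_smul_eq U4 Q P
  have hmem : ∀ x ∈ (Q : Subgroup U4), g * x * g⁻¹ ∈ I := fun x hx => by
    rw [heq, ← hg]
    exact ⟨x, hx, rfl⟩
  have hA : a ∈ (Q : Subgroup U4) := hQ (Subgroup.mem_sup_left (Subgroup.mem_zpowers a))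
  have hB : b ∈ (Q : Subgroup U4) := by
    have := hQ (Subgroup.mem_sup_right (Subgroup.mem_zpowers d))
    rw [hd] at this
    have := mul_mem (inv_mem hA) this
    rwa [inv_mul_cancel_left] at this
  refine hne ?_
  have := hcomm _ (hmem a hA) _ (hmem b hB)
  calc a * b = g⁻¹ * (g * a * g⁻¹ * (g * b * g⁻¹)) * g := by group
    _ = g⁻¹ * (g * b * g⁻¹ * (g * a * g⁻¹)) * g := by rw [this]
    _ = b * a := by group

theorem shear_tbl : ∀ h : K, (om ^ 2 * h + (om + 1) ^ 2 * h = h) ∧ (om ^ 2 * h * om + (om + 1) ^ 2 * h * (om + 1) = 0) := by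
  decide +kernel

/-- A shear fixing `p`. -/
theorem Frame.exists_shear {p q f g : V4} (h : Frame p q f g) (c : K) :
    ∃ a : U4, ThreeTransSU.act a p = p ∧ ∀ x, hf x p = 0 → ThreeTransSU.act a x = x + hf x (c • g) • p := by
  set G := c • g with hG
  have hpG : hf p G = 0 := by rw [hG, sr, h.pg, mul_zero]
  have hGG : hf G G = 0 := by rw [hG, sl, sr, h.gg, mul_zero, mul_zero]
  set v := p + om • G with hv
  set v' := p + (om + 1) • G with hv'
  have hvv : hf v v = 0 := by simp only [hv, hl, hr, sl, sr, h.pp, hpG, hs0 hpG, hGG, mul_zero, add_zero]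
  have hv'v' : hf v' v' = 0 := by simp only [hv', hl, hr, sl, sr, h.pp, hpG, hs0 hpG, hGG, mul_zero, add_zero]
  have hv'v : hf v' v = 0 := by simp only [hv, hv', hl, hr, sl, sr, h.pp, hpG, hs0 hpG, hGG, mul_zero, add_zero]
  have hact : ∀ x, hf x p = 0 → ThreeTransSU.act (t4 v * t4 v') x = x + hf x G • p := by
    intro x hx
    rw [act_mul, act_tv cardK hv'v', act_add, act_smul, act_tv cardK hvv, act_tv cardK hvv, hv'v, zero_smul,
      add_zero]
    have e1 : hf x v = om ^ 2 * hf x G := by simp only [hv, hr, sr, hx, zero_add]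
    have e2 : hf x v' = (om + 1) ^ 2 * hf x G := by simp only [hv', hr, sr, hx, zero_add]
    obtain ⟨c1, c2⟩ := shear_tbl (hf x G)
    rw [e1, e2, hv, hv']
    simp only [smul_add, smul_smul, add_assoc]
    calc x + ((om ^ 2 * hf x G) • p + ((om ^ 2 * hf x G * om) • G + (((om + 1) ^ 2 * hf x G) • p
          + ((om + 1) ^ 2 * hf x G * (om + 1)) • G)))
        = x + ((om ^ 2 * hf x G + (om + 1) ^ 2 * hf x G) • p
          + (om ^ 2 * hf x G * om + (om + 1) ^ 2 * hf x G * (om + 1)) • G) := by
            rw [add_smul, add_smul]; abel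
      _ = x + hf x G • p := by rw [c1, c2, zero_smul, add_zero]
  exact ⟨t4 v * t4 v', by rw [hact p h.pp, hpG, zero_smul, add_zero], hact⟩

variable {L : Type u} [Group L] {z : L} {P : Pre z} {V : Type v} [AddCommGroup V] (M : Modl P V)

namespace Modl

theorem nat_wc [Finite L] {f : V → V4} {ψ : U4 ≃* U4} (hfb : Function.Bijective f)
    (hfa : ∀ x y, f (x + y) = f x + f y) (hfc : ∀ a w, f (M.rep.act a w) = ThreeTransSU.act (ψ a) (f w))
    (hfq : ∀ w, M.rep.q w = 0 ↔ hf (f w) (f w) = 0) (g : L) (ht : g * z * g⁻¹ ∈ P.J) : g * z * g⁻¹ = z := by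
  classical
  by_contra hne
  set t := g * z * g⁻¹ with htdef
  have ht1 : t ≠ 1 := fun e => P.ne_one (conj_eq_one_iff.1 e)
  let N := M.conj g
  have hzQ : z ∈ (P.conj g).J := P.D.mem_conj ht hne (by rw [P.card]; norm_num)
  have htQ : t ∈ (P.conj g).J := (P.conj g).D.z_mem
  have hf0 : f 0 = 0 := by
    have := hfa 0 0
    rw [add_zero] at this
    exact left_eq_add.1 this
  set v := f (M.vc t) with hvdef
  have hv0 : v ≠ 0 := fun e => M.vc_ne_zero ht ht1 hne (hfb.1 (e.trans hf0.symm))
  have htt : t * t = 1 := (P.conj g).sq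
  have hvv : hf v v = 0 := (hfq _).1 ((M.sq_iff t ht).1 htt)
  let S : Set V4 := {u | ∃ x ∈ P.J, x ∈ (P.conj g).J ∧ f (M.vc x) = u}
  have hadd : ∀ u w, u ∈ S → w ∈ S → u + w ∈ S := by
    rintro _ _ ⟨x, hx, hx', rfl⟩ ⟨y, hy, hy', rfl⟩
    exact ⟨x * y, mul_mem hx hy, mul_mem hx' hy', by rw [M.vc_mul x hx y hy, hfa]⟩
  have hvS : v ∈ S := ⟨t, ht, htQ, rfl⟩
  have hinv : ∀ a : U4, ThreeTransSU.act a v = v → ∀ u ∈ S, ThreeTransSU.act a u ∈ S := by
    rintro a ha _ ⟨x, hx, hx', rfl⟩
    have hfix : M.rep.act (ψ.symm a) (M.vc t) = M.vc t := hfb.1 (by rw [hfc, MulEquiv.apply_symm_apply, ← hvdef, ha])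
    obtain ⟨h, hhz, hht, hha⟩ := M.lift_fix ht ht1 hne hfix
    refine ⟨h * x * h⁻¹, P.D.norm h hhz x hx, (P.conj g).D.norm h hht x hx', ?_⟩
    rw [M.vc_conj h hhz x hx, hfc, hha, MulEquiv.apply_symm_apply]
  have hsing : ∀ u ∈ S, hf u u = 0 := by
    rintro _ ⟨x, hx, hx', rfl⟩
    refine (hfq _).1 ((M.sq_iff x hx).1 ?_)
    rcases P.D.sq hx with e | e
    · exact e
    · rcases (P.conj g).D.sq hx' with e' | e'
      · exact e'
      · exact absurd (e'.symm.trans e) hne
  have hperp : ∀ u ∈ S, hf u v = 0 ∨ hf u v = 1 := by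
    intro u hu
    have h := hsing _ (hadd u v hu hvS)
    simp only [hl, hr, hsing u hu, hvv, hs u v, zero_add, add_zero] at h
    exact k_tr_zero _ (by rw [add_comm]; exact h)
  obtain ⟨q, ff, gg, hfr⟩ := exists_frame_one (p := v) ⟨hv0, hvv⟩
  by_cases hom : om • v ∈ S
  · -- the line lies in both groups
    obtain ⟨w, hw, hwQ, hwv⟩ := hom
    obtain ⟨-, -, -, -, -, hom0, hom1, -, -, -⟩ := k_tbl
    let S0 : AddSubgroup V :=
      { carrier := {x | x = 0 ∨ x = N.vc z}
        zero_mem' := Or.inl rfl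
        add_mem' := fun {x y} hx hy => by
          rcases hx with rfl | rfl <;> rcases hy with rfl | rfl
          exacts [Or.inl (add_zero _), Or.inr (zero_add _), Or.inr (add_zero _), Or.inl (M.rep.self _)]
        neg_mem' := fun {x} hx => by rw [M.rep.neg_eq]; exact hx }
    have hwS : N.vc w ∉ S0 := by
      rintro (e | e)
      · rcases N.vc_ker w hwQ e with e' | e'
        · rw [e', M.vc_one, hf0] at hwv
          exact hv0 ((smul_eq_zero.1 hwv.symm).resolve_left hom0)
        · rw [e'] at hwv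
          exact hom1 (smul_left_injective K hv0 (hwv.symm.trans (one_smul K v).symm))
      · rcases N.vc_eq_cases hwQ hzQ e with e' | e'
        · rw [e', M.vc_z, hf0] at hwv
          exact hv0 ((smul_eq_zero.1 hwv.symm).resolve_left hom0)
        · rw [e', M.vc_mul z P.D.z_mem t ht, M.vc_z, zero_add] at hwv
          exact hom1 (smul_left_injective K hv0 (hwv.symm.trans (one_smul K v).symm))
    obtain ⟨y, hy0, hy1⟩ := M.rep.sep S0 hwS
    obtain ⟨j, hj, rfl⟩ := N.vc_surj y
    have hjz : Commute j z := ((N.comm_iff z hzQ j hj).2 (hy0 _ (Or.inr rfl))).symm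
    have hjw : ¬ Commute j w := fun h => by
      have : M.rep.β (N.vc w) (N.vc j) = 0 := (N.comm_iff w hwQ j hj).1 h.symm
      rw [this] at hy1
      exact zero_ne_one hy1
    have hjt : Commute j t := (P.conj g).D.z_central j hj
    have hjwt : j * w * j⁻¹ = w * t := by
      rcases (P.conj g).D.comm j hj w hwQ with e | e
      · exact absurd (commutatorElement_eq_one_iff_mul_comm.1 e) hjw
      · calc j * w * j⁻¹ = ⁅j, w⁆ * w := by rw [commutatorElement_def]; group
          _ = w * t := by rw [e]; exact ((P.conj g).D.z_central w hwQ).symm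
    have hav : ThreeTransSU.act (ψ (P.φ j)) v = v := by
      rw [hvdef, ← hfc, ← M.vc_conj j hjz t ht]
      congr 2
      rw [hjt.eq, mul_inv_cancel_right]
    have : f (M.vc (w * t)) = f (M.vc w) := by
      rw [← hjwt, M.vc_conj j hjz w hw, hfc, hwv, act_smul, hav]
    rw [M.vc_mul w hw t ht, hfa, add_eq_left] at this
    exact hv0 this
  · -- otherwise the common part is too small
    have key : ∀ u ∈ S, hf u v = 0 → ∃ c : K, u = c • v := by
      intro u hu huv
      by_contra hno
      simp only [not_exists] at hno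
      have hu0 : u ≠ 0 := fun e => hno 0 (by rw [e, zero_smul])
      obtain ⟨f', g', hfr'⟩ := exists_frame (p := v) (q := u) ⟨⟨hv0, hvv⟩, ⟨hu0, hsing u hu⟩, hs0 huv, hno⟩
      obtain ⟨a, hap, hax⟩ := hfr'.exists_shear (om * om)
      have hm := hinv a hap u hu
      rw [hax u huv, sr, hfr'.qg, mul_one] at hm
      have h2 := hadd _ _ hu hm
      rw [← add_assoc, vv, zero_add, show (om * om) ^ 2 = om from by decide +kernel] at h2
      exact hom h2
    have hS : ∀ u ∈ S, u = 0 ∨ u = v := by
      intro u hu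
      rcases hperp u hu with huv | huv
      · obtain ⟨c, rfl⟩ := key u hu huv
        rcases k_four c with rfl | rfl | rfl | rfl
        · exact Or.inl (zero_smul K v)
        · exact Or.inr (one_smul K v)
        · exact absurd hu hom
        · refine absurd ?_ hom
          have := hadd _ _ hu hvS
          rwa [show (om * om) • v + v = (om * om + 1) • v by rw [add_smul, one_smul],
            show om * om + 1 = om from by decide +kernel] at this
      · exfalso
        obtain ⟨r, hr, hrv, hur, hrnot⟩ : ∃ r, hf r r = 0 ∧ hf v r = 0 ∧ hf u r ≠ 0 ∧ ∀ c : K, r ≠ c • v := by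
          by_cases h : hf u q = 0
          · refine ⟨q + v, ?_, ?_, ?_, fun c e => ?_⟩
            · simp only [hl, hr, hfr.qq, hfr.qp, hfr.pq, hvv, add_zero]
            · simp only [hr, hfr.pq, hvv, add_zero]
            · simp only [hr, h, huv, zero_add]; exact one_ne_zero
            · have := congrArg (fun x => hf x gg) e
              simp only [hl, sl, hfr.qg, hfr.pg, mul_zero, add_zero] at this
              exact one_ne_zero this
          · refine ⟨q, hfr.qq, hfr.pq, h, fun c e => ?_⟩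
            have := congrArg (fun x => hf x gg) e
            simp only [sl, hfr.qg, hfr.pg, mul_zero] at this
            exact one_ne_zero this
        have hm := hinv (t4 r) (act_tv_of_orth cardK hr hrv) u hu
        have h2 := hadd _ _ hu hm
        rw [act_tv cardK hr, ← add_assoc, vv, zero_add] at h2
        obtain ⟨c, hc⟩ := key _ h2 (by rw [sl, hs0 hrv, mul_zero])
        refine hrnot ((hf u r)⁻¹ * c) ?_
        rw [mul_smul, ← hc, inv_smul_smul₀ hur]
    -- the image of the centraliser of `t` in `J`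
    let A : Subgroup L := P.J ⊓ Subgroup.centralizer ({t} : Set L)
    have hAt : ∀ x ∈ A, Commute x t := fun x hx => (Subgroup.mem_centralizer_singleton_iff.1 hx.2)
    let θ : A →* U4 := MonoidHom.mk' (fun x => (P.conj g).φ x) fun x y =>
      (P.conj g).φ_mul _ _ (hAt _ x.2) (hAt _ y.2)
    have hker : Nat.card θ.ker ≤ 4 := by
      have hmem : ∀ x : θ.ker, ((x : A) : L) ∈ ({1, z, t, t * z} : Set L) := by
        rintro ⟨⟨x, hx⟩, hk⟩
        have hxQ : x ∈ (P.conj g).J := ((P.conj g).φ_ker x (hAt x hx)).1 hk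
        rcases hS _ ⟨x, hx.1, hxQ, rfl⟩ with e | e
        · rcases M.vc_ker x hx.1 (hfb.1 (e.trans hf0.symm)) with e' | e' <;> simp [e']
        · rcases M.vc_eq_cases hx.1 ht (hfb.1 e) with e' | e' <;> simp [e']
      let i : θ.ker → ({1, z, t, t * z} : Set L) := fun x => ⟨_, hmem x⟩
      refine le_trans (Nat.card_le_card_of_injective i fun a b h => ?_) ?_
      · exact Subtype.ext (Subtype.ext (congrArg (fun y : ({1, z, t, t * z} : Set L) => (y : L)) h))
      · rw [Nat.card_coe_set_eq]
        refine le_trans (Set.ncard_insert_le _ _) ?_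
        refine Nat.succ_le_succ (le_trans (Set.ncard_insert_le _ _) ?_)
        refine Nat.succ_le_succ (le_trans (Set.ncard_insert_le _ _) ?_)
        simp
    have hA : 256 ≤ Nat.card A := by
      obtain ⟨j0, hj0, hj0t⟩ := P.D.exists_conj_eq ht ht1 hne
      have hmv : ∀ j ∈ P.J, ¬ Commute j t → j0⁻¹ * j ∈ A := by
        intro j hj hjt
        refine Subgroup.mem_inf.2 ⟨mul_mem (inv_mem hj0) hj, Subgroup.mem_centralizer_singleton_iff.2 ?_⟩
        have e : j * t * j⁻¹ = t * z := by
          rcases P.D.comm j hj t ht with e | e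
          · exact absurd (commutatorElement_eq_one_iff_mul_comm.1 e) hjt
          · calc j * t * j⁻¹ = ⁅j, t⁆ * t := by rw [commutatorElement_def]; group
              _ = t * z := by rw [e]; exact (P.D.z_central t ht).symm
        calc j0⁻¹ * j * t = j0⁻¹ * (j * t * j⁻¹) * j := by group
          _ = j0⁻¹ * (j0 * t * j0⁻¹) * j := by rw [e, hj0t]
          _ = t * (j0⁻¹ * j) := by group
      let i : P.J → A × Bool := fun j =>
        if h : Commute (j : L) t then (⟨j, j.2, Subgroup.mem_centralizer_singleton_iff.2 h⟩, false)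
        else (⟨j0⁻¹ * j, hmv j j.2 h⟩, true)
      have hi : Function.Injective i := fun x y h => by
        simp only [i] at h
        split_ifs at h with h1 h2 h2 <;> simp only [Prod.mk.injEq, Subtype.mk.injEq, Bool.false_eq_true,
          Bool.true_eq_false, and_false, and_true] at h
        · exact Subtype.ext (congrArg Subtype.val h : (_ : L) = _)
        · exact Subtype.ext (mul_left_cancel (a := j0⁻¹) h)
      have := Nat.card_le_card_of_injective i hi
      rw [P.card, Nat.card_prod, Nat.card_eq_fintype_card (α := Bool), Fintype.card_bool] at this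
      omega
    have hI : IsPGroup 2 θ.range := by
      haveI : Fact (Nat.Prime 2) := ⟨Nat.prime_two⟩
      have hJp : IsPGroup 2 P.J := IsPGroup.of_card (n := 9) (by rw [P.card]; norm_num)
      exact (hJp.to_le (inf_le_left : A ≤ P.J)).of_surjective θ.rangeRestrict θ.rangeRestrict_surjective
    have hIc : ∀ x ∈ θ.range, ∀ y ∈ θ.range, x * y = y * x := by
      rintro _ ⟨x, rfl⟩ _ ⟨y, rfl⟩
      have hk : θ ⁅x, y⁆ = 1 := by
        refine ((P.conj g).φ_ker _ (hAt _ (⁅x, y⁆).2)).2 ?_
        rcases P.D.comm x x.2.1 y y.2.1 with e | e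
        · rw [show ((⁅x, y⁆ : A) : L) = ⁅(x : L), (y : L)⁆ from rfl, e]; exact one_mem _
        · rw [show ((⁅x, y⁆ : A) : L) = ⁅(x : L), (y : L)⁆ from rfl, e]; exact hzQ
      rw [map_commutatorElement, commutatorElement_eq_one_iff_mul_comm] at hk
      exact hk
    have hlt := sylow_nonabelian θ.range hI hIc
    have hprod := θ.ker.card_mul_index
    rw [Subgroup.index_ker] at hprod
    have : Nat.card θ.ker * Nat.card θ.range ≤ 4 * 63 := Nat.mul_le_mul hker (by omega)
    omega

/-- The natural case. -/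
theorem exists_setup_of_nat [Finite L] (hN : M.rep.IsNat) : ∃ S : Setup z, S.J = P.J := by
  obtain ⟨f, ψ, hfb, hfa, hfc, hfq⟩ := M.rep.exists_natural hN
  have hf0 : f 0 = 0 := by
    have := hfa 0 0
    rw [add_zero] at this
    exact left_eq_add.1 this
  exact ⟨{
    J := P.J
    φ := fun h => ψ (P.φ h)
    vec := fun j => f (M.vc j)
    z_ord := orderOf_eq_prime (by rw [pow_two, P.sq]) P.ne_one
    z_mem := P.D.z_mem
    J_le := fun j hj => P.J_comm hj
    φ_mul := fun x y hx hy => by rw [P.φ_mul x y hx hy, map_mul]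
    φ_ker := fun h hh => by rw [← P.φ_ker h hh]; exact MulEquiv.map_eq_one_iff ψ
    φ_surj := fun x => by
      obtain ⟨h, hh, e⟩ := P.φ_surj (ψ.symm x)
      exact ⟨h, hh, by rw [e, MulEquiv.apply_symm_apply]⟩
    vec_mul := fun i hi j hj => by rw [M.vc_mul i hi j hj, hfa]
    vec_surj := fun x => by
      obtain ⟨w, rfl⟩ := hfb.2 x
      obtain ⟨j, hj, rfl⟩ := M.vc_surj w
      exact ⟨j, hj, rfl⟩
    vec_ker := fun j hj h => M.vc_ker j hj (hfb.1 (h.trans hf0.symm))
    vec_z := by rw [M.vc_z, hf0]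
    sq_one := fun j hj h => (M.sq_iff j hj).2 ((hfq _).2 h)
    sq_z := fun j hj h => (P.D.sq hj).resolve_left fun e => h ((hfq _).1 ((M.sq_iff j hj).1 e))
    vec_conj := fun h hh j hj => ⟨P.D.norm h hh j hj, by rw [M.vc_conj h hh j hj, hfc]⟩
    wc := fun g hg => M.nat_wc hfb hfa hfc hfq g hg }, rfl⟩

/-- The setting of the recognition exists in the natural case. -/
theorem setup_of_nat [Finite L] (hN : M.rep.IsNat) : Nonempty (Setup z) :=
  let ⟨S, _⟩ := M.exists_setup_of_nat hN
  ⟨S⟩

end Modl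

end Cfsg.Agent.U62Rec
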