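/-
The conjugates of `z` commuting with it: their images are transvections, and each centralises the whole
preimage of the perpendicular of its centre.

* `Near z a` : a conjugate commuting with `z`, different from it;
* `Setup.near_shape` : the image of such a conjugate, its centraliser in J, and z a is not a conjugate.
-/
import Cfsg.Agent.Lib.U62Rec.Setup

set_option autoImplicit false

namespace Cfsg.Agent.U62Rec

open Cfsg.Agent.ThreeTransSU Cfsg.Agent.U62Cover

universe u

variable {L : Type u} [Group L] {z a : L}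

/-- A conjugate commuting with `z` and different from it. -/
structure Near (z a : L) : Prop where
  mem : a ∈ Dset z
  comm : Commute a z
  ne : a ≠ z

theorem Near.symm (h : Near z a) : Near a z :=
  ⟨by rw [Setup.Dset_eq h.mem]; exact Setup.self_mem, h.comm.symm, h.ne.symm⟩

/-- The common part of the two extraspecial groups. -/
def meetJ {z a : L} (S : Setup z) (T : Setup a) : Set L := {w | w ∈ S.J ∧ w ∈ T.J}

/-- The elements of J commuting with `a`. -/
def centJ {z : L} (S : Setup z) (a : L) : Set L := {e | e ∈ S.J ∧ Commute e a}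

/-- Counting through fibres of bounded size. -/
theorem ncard_le_mul {α β : Type*} [Finite α] [Finite β] (f : α → β) {s : Set α} {t : Set β} {k : ℕ}
    (hmap : ∀ x ∈ s, f x ∈ t) (h : ∀ y ∈ t, {x ∈ s | f x = y}.ncard ≤ k) : s.ncard ≤ t.ncard * k := by
  classical
  have := Fintype.ofFinite α
  have := Fintype.ofFinite β
  rw [Set.ncard_eq_toFinset_card' s, Set.ncard_eq_toFinset_card' t]
  rw [mul_comm]
  refine Finset.card_le_mul_card_image_of_maps_to (f := f) (fun x hx => ?_) k fun y hy => ?_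
  · exact Set.mem_toFinset.2 (hmap x (Set.mem_toFinset.1 hx))
  · refine le_trans (le_of_eq ?_) (h y (Set.mem_toFinset.1 hy))
    rw [← Set.ncard_coe_finset]
    congr 1
    ext x
    simp

theorem trace_all {h : K} (H : ∀ c : K, c * h + (c * h) ^ 2 = 0) : h = 0 := by
  revert H; revert h; decide +kernel

namespace Setup

variable (S : Setup z) (T : Setup a) (hn : Near z a)

/-- The commutator with `a`. -/
def dd (_ : Setup z) (a j : L) : L := j * a * j⁻¹ * a

include S

include hn

theorem a_notMem : a ∉ S.J := by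
  obtain ⟨g, hg⟩ := hn.mem
  intro h
  have := S.wc g (hg.symm ▸ h)
  exact hn.ne (hg.symm.trans this)

theorem a_sq : a * a = 1 := S.D_sq hn.mem

theorem a_inv : a⁻¹ = a := S.D_inv hn.mem

theorem φ_ne : S.φ a ≠ 1 := fun h => S.a_notMem hn ((S.φ_ker a hn.comm).1 h)

theorem φ_sq : S.φ a * S.φ a = 1 := by rw [← S.φ_mul _ _ hn.comm hn.comm, S.a_sq hn, S.φ_one]

theorem conj_a {j : L} (hj : j ∈ S.J) :
    a * j * a ∈ S.J ∧ S.vec (a * j * a) = act (S.φ a) (S.vec j) := by
  have := S.vec_conj a hn.comm j hj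
  rwa [S.a_inv hn] at this

theorem dd_mem {j : L} (hj : j ∈ S.J) :
    S.dd a j ∈ S.J ∧ S.vec (S.dd a j) = R (S.φ a) (S.vec j) := by
  have h := S.conj_a hn (inv_mem hj)
  have e : S.dd a j = j * (a * j⁻¹ * a) := by rw [dd]; group
  exact ⟨e ▸ mul_mem hj h.1, by rw [e, S.vec_mul j hj _ h.1, h.2, S.vec_inv hj, R]⟩

theorem dd_mul_a (j : L) : S.dd a j * a = j * a * j⁻¹ := by
  rw [dd, mul_assoc (j * a * j⁻¹), S.a_sq hn, mul_one]

theorem dd_near {j : L} (hj : j ∈ S.J) : S.dd a j * a ∈ Dset z ∧ Commute (S.dd a j * a) z := by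
  rw [S.dd_mul_a hn]
  exact ⟨Dset_conj j hn.mem, ((S.J_le j hj).mul_left hn.comm).mul_left (S.J_le j hj).inv_left⟩

theorem dd_comm {j : L} (hj : j ∈ S.J) : Commute (S.dd a j) a := by
  obtain ⟨hm, hv⟩ := S.dd_mem hn hj
  have h1 : S.dd a j * S.dd a j = 1 := S.sq_one _ hm (by rw [hv]; exact R_iso (S.φ_sq hn) _)
  have h2 := S.D_sq (S.dd_near hn hj).1
  show S.dd a j * a = a * S.dd a j
  have h3 : a * (S.dd a j * a) = S.dd a j := by
    have := congrArg (fun x => (S.dd a j)⁻¹ * x) h2
    simp only [mul_one, ← mul_assoc, inv_mul_cancel, one_mul] at this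
    rw [← mul_assoc, this]
    exact inv_eq_of_mul_eq_one_right h1
  conv_rhs => rw [← h3, ← mul_assoc, S.a_sq hn, one_mul]

theorem image_comm {e : L} (he : e ∈ S.J) {x : V4} (h : S.vec e = R (S.φ a) x) : Commute e a := by
  obtain ⟨j, hj, rfl⟩ := S.vec_surj x
  obtain ⟨hm, hv⟩ := S.dd_mem hn hj
  rcases S.vec_eq_cases he hm (h.trans hv.symm) with rfl | rfl
  exacts [S.dd_comm hn hj, hn.comm.symm.mul_left (S.dd_comm hn hj)]

theorem fix_of_comm {e : L} (he : e ∈ S.J) (hc : Commute e a) :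
    act (S.φ a) (S.vec e) = S.vec e := by
  rw [← (S.conj_a hn he).2]
  congr 1
  rw [← hc.eq, mul_assoc, S.a_sq hn, mul_one]

theorem dist_mem {x : L} (hx : x ∈ Dset z) (hxa : Commute x a) : x ∈ T.J → x = a := by
  intro h
  by_contra hne
  obtain ⟨g, hg⟩ := (Dset_eq hn.mem).symm ▸ hx
  exact T.a_notMem ⟨⟨g, hg⟩, hxa, hne⟩ h

theorem z_notMem : z ∉ T.J := T.a_notMem hn.symm

theorem meet_comm_a {w : L} (hw : w ∈ meetJ S T) : Commute w a := T.J_le w hw.2

theorem meet_one {w : L} (hw : w ∈ meetJ S T) (h : S.vec w = 0) : w = 1 :=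
  (S.vec_ker w hw.1 h).resolve_right fun e => S.z_notMem T hn (e ▸ hw.2)

theorem meet_mul {v w : L} (hv : v ∈ meetJ S T) (hw : w ∈ meetJ S T) : v * w ∈ meetJ S T :=
  ⟨mul_mem hv.1 hw.1, mul_mem hv.2 hw.2⟩

theorem comm_meet {k e : L} (hk : k ∈ T.J) (hkz : Commute k z) (he : e ∈ S.J) (hea : Commute e a) :
    k * e * k⁻¹ * e⁻¹ ∈ meetJ S T := by
  refine ⟨mul_mem (S.vec_conj k hkz e he).1 (inv_mem he), ?_⟩
  rw [show k * e * k⁻¹ * e⁻¹ = k * (e * k⁻¹ * e⁻¹) by group]
  exact mul_mem hk (T.vec_conj e hea _ (inv_mem hk)).1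

theorem meet_comm {w y : L} (hw : w ∈ meetJ S T) (hy : y ∈ S.J) (hya : Commute y a) : Commute w y := by
  have hm := S.comm_meet T hn hw.2 (S.J_le w hw.1) hy hya
  have h0 : S.vec (w * y * w⁻¹ * y⁻¹) = 0 := by
    rw [S.vec_mul _ (mul_mem (mul_mem hw.1 hy) (inv_mem hw.1)) _ (inv_mem hy),
      S.vec_mul _ (mul_mem hw.1 hy) _ (inv_mem hw.1), S.vec_mul _ hw.1 _ hy, S.vec_inv hw.1,
      S.vec_inv hy]
    have e : ∀ p q : V4, p + q + p + q = (p + p) + (q + q) := fun p q => by abel
    rw [e, vv, vv, add_zero]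
  have := S.meet_one T hn hm h0
  exact mul_inv_eq_iff_eq_mul.1 (mul_inv_eq_one.1 this)

theorem meet_sq {w : L} (hw : w ∈ meetJ S T) : w * w = 1 :=
  S.meet_one T hn (S.meet_mul T hn hw hw) (by rw [S.vec_mul w hw.1 w hw.1, vv])

theorem meet_eq {v w : L} (hv : v ∈ meetJ S T) (hw : w ∈ meetJ S T) (h : S.vec v = S.vec w) : v = w := by
  rw [← mul_inv_eq_one]
  exact S.meet_one T hn ⟨mul_mem hv.1 (inv_mem hw.1), mul_mem hv.2 (inv_mem hw.2)⟩
    (by rw [S.vec_mul _ hv.1 _ (inv_mem hw.1), S.vec_inv hw.1, h, vv])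

theorem dd_meet {j : L} (hj : j ∈ S.J) (h : S.dd a j ∈ T.J) : S.dd a j = 1 := by
  have := S.dist_mem T hn (S.dd_near hn hj).1 ((S.dd_comm hn hj).mul_left (Commute.refl a))
    (mul_mem h T.z_mem)
  exact mul_eq_right.1 this

theorem twisted (hza : z * a ∈ Dset z) {w : L} (hw : w ∈ meetJ S T) {x : V4}
    (h : S.vec w = R (S.φ a) x) : w = 1 := by
  obtain ⟨j, hj, rfl⟩ := S.vec_surj x
  obtain ⟨hm, hv⟩ := S.dd_mem hn hj
  rcases S.vec_eq_cases hw.1 hm (h.trans hv.symm) with rfl | e
  · exact S.dd_meet T hn hj hw.2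
  · have hD : w * a ∈ Dset z := by
      have := Dset_conj j hza
      rwa [show j * (z * a) * j⁻¹ = w * a by
        rw [e, mul_assoc z, S.dd_mul_a hn, ← mul_assoc j z a, (S.J_le j hj).eq]; group] at this
    exact mul_eq_right.1 (S.dist_mem T hn hD ((S.meet_comm_a T hn hw).mul_left (Commute.refl a))
      (mul_mem hw.2 T.z_mem))

theorem conj_twisted {e : L} (he : e ∈ S.J) (hf0 : act (S.φ a) (S.vec e) = S.vec e) (hc : ¬ Commute e a) :
    z * a ∈ Dset z := by
  obtain ⟨hm, hv⟩ := S.dd_mem hn he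
  have h0 : S.vec (S.dd a e) = 0 := by rw [hv]; exact (fix_iff _ _).1 hf0
  rcases S.vec_ker _ hm h0 with h1 | h1
  · refine absurd ?_ hc
    show e * a = a * e
    have h2 := S.dd_mul_a hn e
    rw [h1, one_mul] at h2
    exact mul_inv_eq_iff_eq_mul.1 h2.symm
  · have h2 := (S.dd_near hn he).1
    rwa [h1] at h2

theorem card_centJ_one [Finite L] {p : V4} (hp : Iso p) (h : S.φ a = t4 p) : 64 ≤ (centJ S a).ncard := by
  classical
  set P := {j | j ∈ S.J ∧ hf (S.vec j) p = 0} with hP
  have hsub : centJ S a ⊆ P := fun e he => ⟨he.1, by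
    have := S.fix_of_comm hn he.1 he.2; rwa [h, fix_one hp] at this⟩
  have hcard : P.ncard = 128 := by
    rw [S.card_pre fun x => hf x p = 0]
    obtain ⟨g, hg⟩ := exists_act cardK (by norm_num) std_pair.1 hp
    have e : {x : V4 | hf x p = 0} = act g '' {x | hf x p₀ = 0} := by
      ext x
      constructor
      · intro hx
        refine ⟨act g⁻¹ x, ?_, act_act_inv g x⟩
        show hf _ _ = 0
        rw [← act_hf g, act_act_inv, hg]
        exact hx
      · rintro ⟨y, hy, rfl⟩
        show hf _ _ = 0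
        rw [← hg, act_hf]
        exact hy
    rw [e, Set.ncard_image_of_injective _ fun x y => (act_eq_iff g).1,
      show {x : V4 | hf x p₀ = 0} = ↑(Finset.univ.filter fun x : V4 => hf x p₀ = 0) by ext; simp,
      Set.ncard_coe_finset, perp_count]
  by_cases hall : P ⊆ centJ S a
  · have := Set.ncard_le_ncard hall (Set.toFinite _)
    omega
  obtain ⟨e, he, hec⟩ := Set.not_subset.1 hall
  have hec' : ¬ Commute e a := fun hc => hec ⟨he.1, hc⟩
  have hprod : ∀ y ∈ P, ¬ Commute y a → Commute (e * y) a := by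
    intro y hy hyc
    have key : ∀ x ∈ P, ¬ Commute x a → a * x * a = z * x := fun x hx hxc => by
      have hfix : act (S.φ a) (S.vec x) = S.vec x := by rw [h, fix_one hp]; exact hx.2
      refine (S.vec_eq_cases (S.conj_a hn hx.1).1 hx.1 ((S.conj_a hn hx.1).2.trans hfix)).resolve_left fun hh => hxc ?_
      show x * a = a * x
      conv_lhs => rw [← hh, mul_assoc, S.a_sq hn, mul_one]
    show e * y * a = a * (e * y)
    have h1 := key e he hec'
    have h2 := key y hy hyc
    have h3 : a * (e * y) * a = e * y := by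
      calc a * (e * y) * a = a * e * (a * a) * y * a := by rw [S.a_sq hn]; group
        _ = (a * e * a) * (a * y * a) := by group
        _ = e * (z * z) * y := by rw [h1, h2, ← (S.J_le e he.1).eq]; group
        _ = e * y := by rw [S.sq, mul_one]
    conv_lhs => rw [← h3, mul_assoc, S.a_sq hn, mul_one]
  have hbig : P.ncard ≤ (centJ S a).ncard + (centJ S a).ncard := by
    refine le_trans (Set.ncard_le_ncard (t := centJ S a ∪ (fun x => e⁻¹ * x) '' centJ S a) ?_ (Set.toFinite _))
      ((Set.ncard_union_le _ _).trans (Nat.add_le_add_left (Set.ncard_image_le (Set.toFinite _)) _))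
    intro y hy
    by_cases hyc : Commute y a
    · exact Or.inl ⟨hy.1, hyc⟩
    · exact Or.inr ⟨e * y, ⟨mul_mem he.1 hy.1, hprod y hy hyc⟩, inv_mul_cancel_left e y⟩
  omega
where
  perp_count : (Finset.univ.filter fun x : V4 => hf x p₀ = 0).card = 64 := by decide +kernel

theorem card_centJ_two [Finite L] {p q : V4} (hpq : OrthPair p q) (h : S.φ a = t4 p * t4 q) :
    32 ≤ (centJ S a).ncard := by
  classical
  obtain ⟨f, g, hfr⟩ := exists_frame hpq
  have hsub : {j | j ∈ S.J ∧ ∃ s t : K, S.vec j = s • p + t • q} ⊆ centJ S a := by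
    rintro j ⟨hj, s, t, e⟩
    refine ⟨hj, S.image_comm hn hj (x := s • f + t • g) ?_⟩
    rw [e, h, R_two hpq]
    simp only [hl, sl, hfr.fp, hfr.gp, hfr.fq, hfr.gq, mul_one, mul_zero, add_zero, zero_add]
  refine le_trans ?_ (Set.ncard_le_ncard hsub (Set.toFinite _))
  rw [S.card_pre fun x => ∃ s t : K, x = s • p + t • q]
  have hi : Function.Injective fun st : K × K => st.1 • p + st.2 • q := by
    intro u v e
    have e1 := congrArg (fun x => hf x f) e
    have e2 := congrArg (fun x => hf x g) e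
    simp only [hl, sl, hfr.pf, hfr.qf, hfr.pg, hfr.qg, mul_zero, mul_one, add_zero, zero_add] at e1 e2
    exact Prod.ext e1 e2
  have e : {x | ∃ s t : K, x = s • p + t • q} = (fun st : K × K => st.1 • p + st.2 • q) '' Set.univ := by
    ext x; simp [eq_comm]
  rw [e, Set.ncard_image_of_injective _ hi, Set.ncard_univ, Nat.card_prod,
    Nat.card_eq_fintype_card, cardK]

theorem card_centJ [Finite L] : 32 ≤ (centJ S a).ncard := by
  rcases invol_cases (S.φ_sq hn) (S.φ_ne hn) with ⟨p, hp, h⟩ | ⟨p, q, hpq, h⟩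
  · exact le_trans (by norm_num) (S.card_centJ_one hn hp h)
  · exact S.card_centJ_two hn hpq h

omit hn in
theorem act_of_comm {k e : L} (hk : Commute k z) (he : e ∈ S.J) (h : Commute k e) :
    act (S.φ k) (S.vec e) = S.vec e := by
  rw [← (S.vec_conj k hk e he).2]
  congr 1
  rw [h.eq, mul_inv_cancel_right]

/-- No conjugate is a product of two transvections. -/
theorem not_two [Finite L] {p q : V4} (hpq : OrthPair p q) : S.φ a ≠ t4 p * t4 q := by
  classical
  intro h
  obtain ⟨T⟩ := S.exists_setup hn.mem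
  obtain ⟨f, g, hfr⟩ := exists_frame hpq
  set r := S.φ a with hrdef
  have himg : ∀ x, hf x p = 0 → hf x q = 0 → x = R r (hf x f • f + hf x g • g) := by
    intro x h1 h2
    rw [h, R_two hpq]
    simp only [hl, sl, hfr.fp, hfr.gp, hfr.fq, hfr.gq, mul_one, mul_zero, add_zero, zero_add]
    conv_lhs => rw [hfr.expand x, h1, h2, zero_smul, zero_smul, add_zero, add_zero]
  have hfix : ∀ e ∈ S.J, Commute e a → hf (S.vec e) p = 0 ∧ hf (S.vec e) q = 0 := fun e he hc => by
    have := S.fix_of_comm hn he hc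
    rwa [← hrdef, h, fix_two hpq] at this
  have hW : ∀ w ∈ meetJ S T, w = 1 := by
    intro w hw
    by_contra hw1
    obtain ⟨h1, h2⟩ := hfix w hw.1 (S.meet_comm_a T hn hw)
    have himgw := himg _ h1 h2
    by_cases hza : z * a ∈ Dset z
    · exact hw1 (S.twisted T hn hza hw himgw)
    have lift : ∀ k : U4, Commute k r → ∃ c, Commute c z ∧ Commute c a ∧ S.φ c = k := by
      intro k hk
      obtain ⟨c, hcz, rfl⟩ := S.φ_surj k
      have hxz : Commute (c * a * c⁻¹) z := (hcz.mul_left hn.comm).mul_left hcz.inv_left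
      have hφx : S.φ (c * a * c⁻¹) = r := by rw [S.φ_conj hcz hn.comm, hk.eq, mul_inv_cancel_right]
      have heJ : c * a * c⁻¹ * a ∈ S.J := by
        rw [← S.φ_ker _ (hxz.mul_left hn.comm), S.φ_mul _ _ hxz hn.comm, hφx, S.φ_sq hn]
      set e := c * a * c⁻¹ * a with he
      have hx2 : c * a * c⁻¹ * (c * a * c⁻¹) = 1 := S.D_sq (Dset_conj c hn.mem)
      have hea : a * e * a = e⁻¹ := by
        refine eq_inv_of_mul_eq_one_left ?_
        calc a * e * a * e = a * (c * a * c⁻¹) * (a * a) * (c * a * c⁻¹) * a := by rw [he]; group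
          _ = a * (c * a * c⁻¹ * (c * a * c⁻¹)) * a := by rw [S.a_sq hn]; group
          _ = 1 := by rw [hx2, mul_one, S.a_sq hn]
      have hfe : act r (S.vec e) = S.vec e := by
        rw [hrdef, ← (S.conj_a hn heJ).2, hea, S.vec_inv heJ]
      rw [h, fix_two hpq] at hfe
      obtain ⟨j, hj, hjv⟩ := S.vec_surj (hf (S.vec e) f • f + hf (S.vec e) g • g)
      obtain ⟨hm, hv⟩ := S.dd_mem hn hj
      have hee : S.vec e = S.vec (S.dd a j) := by rw [hv, hjv]; exact himg _ hfe.1 hfe.2
      have hea' : e * a = c * a * c⁻¹ := by rw [he, mul_assoc (c * a * c⁻¹), S.a_sq hn, mul_one]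
      rcases S.vec_eq_cases heJ hm hee with e' | e'
      · refine ⟨j⁻¹ * c, (S.J_le j hj).inv_left.mul_left hcz, ?_, ?_⟩
        · have e2 : c * a * c⁻¹ = j * a * j⁻¹ := by rw [← hea', e', S.dd_mul_a hn]
          show j⁻¹ * c * a = a * (j⁻¹ * c)
          calc j⁻¹ * c * a = j⁻¹ * (c * a * c⁻¹) * c := by group
            _ = a * (j⁻¹ * c) := by rw [e2]; group
        · rw [S.φ_mul _ _ (S.J_le j hj).inv_left hcz, S.φ_J (inv_mem hj), one_mul]
      · refine absurd ?_ hza
        have h4 : j⁻¹ * (c * a * c⁻¹) * j⁻¹⁻¹ = z * a := by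
          rw [← hea', e', mul_assoc z, S.dd_mul_a hn, ← mul_assoc, ← mul_assoc,
            (S.J_le j hj).inv_left.eq]
          group
        rw [← h4]
        exact Dset_conj _ (Dset_conj _ hn.mem)
    set s := hf (S.vec w) f with hs_def
    set t := hf (S.vec w) g with ht_def
    have hwv : S.vec w = s • p + t • q := by
      conv_lhs => rw [hfr.expand (S.vec w), h1, h2, zero_smul, zero_smul, add_zero, add_zero]
    -- a second element
    have main : ∀ k : U4, Commute k r → ∀ s' t' : K, act k (S.vec w) = s' • p + t' • q →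
        (s', t') ≠ (s, t) → B (s' • f + t' • g) (s • p + t • q) = 0 → False := by
      intro k hk s' t' hk2 hne hB
      obtain ⟨c, hcz, hca, rfl⟩ := lift k hk
      set w' := c * w * c⁻¹ with hw'
      have hw'm : w' ∈ meetJ S T := ⟨(S.vec_conj c hcz w hw.1).1, (T.vec_conj c hca w hw.2).1⟩
      have hw'v : S.vec w' = s' • p + t' • q := by rw [hw', (S.vec_conj c hcz w hw.1).2, hk2]
      obtain ⟨j, hj, hjv⟩ := S.vec_surj (s • f + t • g)
      obtain ⟨j', hj', hjv'⟩ := S.vec_surj (s' • f + t' • g)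
      have hR : ∀ u v : K, R r (u • f + v • g) = u • p + v • q := fun u v => by
        rw [h, R_two hpq]
        simp only [hl, sl, hfr.fp, hfr.gp, hfr.fq, hfr.gq, mul_one, mul_zero, add_zero, zero_add]
      have pick : ∀ v ∈ meetJ S T, ∀ i ∈ S.J, v ≠ 1 → S.vec v = R r (S.vec i) → v = z * S.dd a i := by
        intro v hv i hi hv1 e
        obtain ⟨hm, hmv⟩ := S.dd_mem hn hi
        refine (S.vec_eq_cases hv.1 hm (e.trans hmv.symm)).resolve_left fun e' => hv1 ?_
        rw [e'] at hv ⊢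
        exact S.dd_meet T hn hi hv.2
      have hw'1 : w' ≠ 1 := fun e => hw1 (conj_eq_one_iff.1 e)
      have p1 := pick w hw j hj hw1 (by rw [hjv, hR, hwv])
      have p2 := pick w' hw'm j' hj' hw'1 (by rw [hjv', hR, hw'v])
      obtain ⟨hm1, hv1⟩ := S.dd_mem hn hj
      obtain ⟨hm2, hv2⟩ := S.dd_mem hn hj'
      have hcm : Commute j' (S.dd a j) := (S.commute_iff hj' hm1).2 (by rw [hjv', hv1, hjv, hR]; exact hB)
      have hprod : S.dd a (j' * j) = S.dd a j * S.dd a j' := by
        calc S.dd a (j' * j) = j' * (S.dd a j * a) * j'⁻¹ * a := by rw [S.dd_mul_a hn, dd]; group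
          _ = S.dd a j * S.dd a j' := by
            rw [← mul_assoc j' (S.dd a j) a, hcm.eq, dd, dd]; group
      have hww : w * w' = S.dd a (j' * j) := by
        rw [hprod, p1, p2]
        calc z * S.dd a j * (z * S.dd a j') = z * (S.dd a j * z) * S.dd a j' := by group
          _ = z * z * (S.dd a j * S.dd a j') := by rw [(S.J_le _ hm1).eq]; group
          _ = _ := by rw [S.sq, one_mul]
      have h1' : w * w' = 1 := by
        rw [hww]; exact S.dd_meet T hn (mul_mem hj' hj) (hww ▸ (S.meet_mul T hn hw hw'm).2)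
      have hweq : w' = w := mul_left_cancel (h1'.trans (S.meet_sq T hn hw).symm)
      rw [hweq] at hw'v
      have e3 := hwv.symm.trans hw'v
      have e1 := congrArg (fun x => hf x f) e3
      have e2 := congrArg (fun x => hf x g) e3
      simp only [hl, sl, hfr.pf, hfr.qf, hfr.pg, hfr.qg, mul_zero, mul_one, add_zero, zero_add] at e1 e2
      exact hne (Prod.ext e1.symm e2.symm)
    have hst : ¬ (s = 0 ∧ t = 0) := fun e => hw1 (S.meet_one T hn hw (by
      rw [hwv, e.1, e.2, zero_smul, zero_smul, add_zero]))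
    have hBval : ∀ s t s' t' : K, B (s' • f + t' • g) (s • p + t • q)
        = (s' * s ^ 2 + t' * t ^ 2) + (s' * s ^ 2 + t' * t ^ 2) ^ 2 := fun s t s' t' => by
      simp only [B, hl, hr, sl, sr, hfr.fp, hfr.gp, hfr.fq, hfr.gq, mul_one, mul_zero, add_zero, zero_add]
      ring
    obtain ⟨w0, hw0, hw01, hw02⟩ := k_omega
    by_cases hboth : s ≠ 0 ∧ t ≠ 0
    · obtain ⟨k, k1, k2⟩ := hfr.exists_diag hw0
      have hk : Commute k r := by
        rw [h]
        exact (commute_tv hpq.1 hw0 k1).mul_right (commute_tv hpq.2.1 (pow_ne_zero 2 hw0) k2)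
      refine main k hk (s * w0) (t * w0 ^ 2) ?_ ?_ ?_
      · rw [hwv, act_add, act_smul, act_smul, k1, k2, smul_smul, smul_smul]
      · intro e
        simp only [Prod.mk.injEq] at e
        exact hw01 (mul_left_cancel₀ hboth.1 (by rw [e.1, mul_one]))
      · rw [hBval]
        have key : ∀ s t w : K, s ≠ 0 → t ≠ 0 → w ^ 2 = w + 1 →
            (s * w * s ^ 2 + t * w ^ 2 * t ^ 2) + (s * w * s ^ 2 + t * w ^ 2 * t ^ 2) ^ 2 = 0 := by
          decide +kernel
        exact key s t w0 hboth.1 hboth.2 hw02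
    · obtain ⟨k, k1, k2, -⟩ := hfr.exists_swap (m := 1) one_ne_zero
      rw [one_smul] at k1
      rw [one_pow, one_smul] at k2
      have hkp : k * t4 p * k⁻¹ = t4 q := by rw [tv_conj_inv cardK k hpq.1.2, k1]
      have hkq : k * t4 q * k⁻¹ = t4 p := by rw [tv_conj_inv cardK k hpq.2.1.2, k2]
      have hk : Commute k r := by
        show k * r = r * k
        rw [← mul_inv_eq_iff_eq_mul, h,
          show k * (t4 p * t4 q) * k⁻¹ = k * t4 p * k⁻¹ * (k * t4 q * k⁻¹) by group, hkp, hkq]
        exact tv_comm cardK hpq.2.1.2 hpq.1.2 hpq.2.2.1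
      refine main k hk t s ?_ ?_ ?_
      · rw [hwv, act_add, act_smul, act_smul, k1, k2, add_comm]
      · intro e
        simp only [Prod.mk.injEq] at e
        rcases not_and_or.1 hboth with e0 | e0 <;> rw [not_not] at e0
        · exact hst ⟨e0, e.1.trans e0⟩
        · exact hst ⟨e.2.trans e0, e0⟩
      · rw [hBval]
        rcases not_and_or.1 hboth with e0 | e0 <;> rw [not_not] at e0 <;> rw [e0] <;>
          simp [sq_zero]
  have hTc := T.card_centJ hn.symm
  have hinj : Set.InjOn S.φ (centJ T z) := by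
    rintro k ⟨hk, hkz⟩ k' ⟨hk', hkz'⟩ e
    rw [S.φ_eq_iff hkz hkz'] at e
    exact inv_mul_eq_one.1 (hW _ ⟨e, mul_mem (inv_mem hk) hk'⟩)
  have hle := Set.ncard_le_ncard_of_injOn S.φ (t := {b : U4 | act b p = p ∧ act b q = q}) (by
    rintro k ⟨hk, hkz⟩
    have fixv : ∀ x, (∃ y, x = R r y) → act (S.φ k) x = x := by
      rintro x ⟨y, rfl⟩
      obtain ⟨e, he, hev⟩ := S.vec_surj (R r y)
      have hea := S.image_comm hn he (x := y) hev
      have := hW _ (S.comm_meet T hn hk hkz he hea)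
      rw [← hev]
      exact S.act_of_comm hkz he (mul_inv_eq_iff_eq_mul.1 (mul_inv_eq_one.1 this))
    refine ⟨fixv p ⟨f, ?_⟩, fixv q ⟨g, ?_⟩⟩
    · rw [h, R_two hpq, hfr.fp, hfr.fq, one_smul, zero_smul, add_zero]
    · rw [h, R_two hpq, hfr.gp, hfr.gq, one_smul, zero_smul, zero_add]) hinj (Set.toFinite _)
  have := hfr.card_fix_two
  omega

/-- Few elements: the bound on the other side. -/
theorem small [Finite L] {p : V4} (hp : Iso p) (h : S.φ a = t4 p) {q g : V4} {f : V4} (hfr : Frame p q f g)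
    {c c' : K} (hc : c ≠ 0) (hc' : c' ≠ 0) {e1 e2 e3 : L} (h1 : e1 ∈ centJ S a) (h2 : e2 ∈ centJ S a)
    (h3 : e3 ∈ centJ S a) (v1 : S.vec e1 = p) (v2 : S.vec e2 = c • q) (v3 : S.vec e3 = c' • g)
    (hW : (meetJ S T).ncard ≤ 2) : (centJ T z).ncard ≤ 32 := by
  classical
  have _ := hp
  have _ := h
  have hTsub : ∀ k ∈ centJ T z, (k * e1 * k⁻¹ * e1⁻¹, k * e2 * k⁻¹ * e2⁻¹, k * e3 * k⁻¹ * e3⁻¹)
      ∈ meetJ S T ×ˢ (meetJ S T ×ˢ meetJ S T) := fun k hk =>
    ⟨S.comm_meet T hn hk.1 hk.2 h1.1 h1.2, S.comm_meet T hn hk.1 hk.2 h2.1 h2.2,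
      S.comm_meet T hn hk.1 hk.2 h3.1 h3.2⟩
  set ψ := fun k : L => (k * e1 * k⁻¹ * e1⁻¹, k * e2 * k⁻¹ * e2⁻¹, k * e3 * k⁻¹ * e3⁻¹) with hψ
  set T0 := {b : U4 | act b p = p ∧ act b q = q ∧ act b g = g}
  have hker : ∀ k ∈ centJ T z, ∀ k' ∈ centJ T z, ψ k = ψ k' → S.φ (k⁻¹ * k') ∈ T0 := by
    intro k hk k' hk' e
    simp only [hψ, Prod.mk.injEq, mul_left_inj] at e
    have hkk : Commute (k⁻¹ * k') z := hk.2.inv_left.mul_left hk'.2
    have cm : ∀ x, k * x * k⁻¹ = k' * x * k'⁻¹ → Commute (k⁻¹ * k') x := fun x hx => by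
      show k⁻¹ * k' * x = x * (k⁻¹ * k')
      calc k⁻¹ * k' * x = k⁻¹ * (k' * x * k'⁻¹) * k' := by group
        _ = x * (k⁻¹ * k') := by rw [← hx]; group
    have fixv : ∀ {x : V4} {d : K}, d ≠ 0 → act (S.φ (k⁻¹ * k')) (d • x) = d • x →
        act (S.φ (k⁻¹ * k')) x = x := fun {x d} hd hh => by
      rw [act_smul] at hh; exact smul_right_injective V4 hd hh
    refine ⟨?_, fixv hc ?_, fixv hc' ?_⟩
    · rw [← v1]; exact S.act_of_comm hkk h1.1 (cm _ e.1)
    · rw [← v2]; exact S.act_of_comm hkk h2.1 (cm _ e.2.1)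
    · rw [← v3]; exact S.act_of_comm hkk h3.1 (cm _ e.2.2)
  obtain ⟨Wf, hWf⟩ : ∃ Wf : Set L, Wf = meetJ S T := ⟨_, rfl⟩
  have hfib : ∀ y, {k ∈ centJ T z | ψ k = y}.ncard ≤ 4 := by
    intro y
    by_cases hne : {k ∈ centJ T z | ψ k = y}.Nonempty
    swap
    · rw [Set.not_nonempty_iff_eq_empty.1 hne]; simp
    obtain ⟨k₀, hk₀⟩ := hne
    have hsub : {k ∈ centJ T z | ψ k = y} ⊆
        (fun x => k₀ * x) '' {x | x ∈ T.J ∧ Commute x z ∧ S.φ x ∈ T0} := fun k hk =>
      ⟨k₀⁻¹ * k, ⟨mul_mem (inv_mem hk₀.1.1) hk.1.1, hk₀.1.2.inv_left.mul_left hk.1.2,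
        hker k₀ hk₀.1 k hk.1 (hk₀.2.trans hk.2.symm)⟩, mul_inv_cancel_left k₀ k⟩
    refine (Set.ncard_le_ncard hsub (Set.toFinite _)).trans
      ((Set.ncard_image_le (Set.toFinite _)).trans ?_)
    set X := {x | x ∈ T.J ∧ Commute x z ∧ S.φ x ∈ T0}
    have hT0 : T0.ncard ≤ 2 := hfr.card_fix_three
    have hb : ∀ b ∈ T0, {x ∈ X | S.φ x = b}.ncard ≤ 2 := by
      intro b _
      by_cases hne : {x ∈ X | S.φ x = b}.Nonempty
      swap
      · rw [Set.not_nonempty_iff_eq_empty.1 hne]; simp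
      obtain ⟨x₀, hx₀⟩ := hne
      refine (Set.ncard_le_ncard (t := (fun w => x₀ * w) '' meetJ S T) ?_ (Set.toFinite _)).trans
        ((Set.ncard_image_le (Set.toFinite _)).trans hW)
      intro x hx
      exact ⟨x₀⁻¹ * x, ⟨(S.φ_eq_iff hx₀.1.2.1 hx.1.2.1).1 (hx₀.2.trans hx.2.symm),
        mul_mem (inv_mem hx₀.1.1) hx.1.1⟩, mul_inv_cancel_left x₀ x⟩
    have := ncard_le_mul S.φ (s := X) (t := T0) (fun x hx => hx.2.2) hb
    omega
  set P := meetJ S T ×ˢ (meetJ S T ×ˢ meetJ S T) with hP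
  have hPc : P.ncard ≤ 8 := by
    rw [hP, Set.ncard_prod, Set.ncard_prod]
    calc _ ≤ 2 * (2 * 2) := Nat.mul_le_mul hW (Nat.mul_le_mul hW hW)
      _ = 8 := rfl
  have : Finite (L × L × L) := inferInstance
  have := ncard_le_mul ψ (s := centJ T z) (t := P) hTsub fun y _ => hfib y
  omega

/-- The shape of a conjugate commuting with `z`. -/
theorem near_shape [Finite L] : ∃ p, Iso p ∧ S.φ a = t4 p ∧
    (∀ e ∈ S.J, hf (S.vec e) p = 0 → Commute e a) ∧ z * a ∉ Dset z := by
  classical
  obtain ⟨T⟩ := S.exists_setup hn.mem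
  obtain ⟨p, hp, h⟩ : ∃ p, Iso p ∧ S.φ a = t4 p := by
    rcases invol_cases (S.φ_sq hn) (S.φ_ne hn) with h | ⟨p, q, hpq, h⟩
    exacts [h, absurd h (S.not_two hn hpq)]
  obtain ⟨p', hp', h'⟩ : ∃ p, Iso p ∧ T.φ z = t4 p := by
    rcases invol_cases (T.φ_sq hn.symm) (T.φ_ne hn.symm) with h | ⟨p, q, hpq, h⟩
    exacts [h, absurd h (T.not_two hn.symm hpq)]
  have hbig := T.card_centJ_one hn.symm hp' h'
  obtain ⟨q, f, g, hfr⟩ := exists_frame_one hp
  have hfix : ∀ e ∈ S.J, Commute e a → hf (S.vec e) p = 0 := fun e he hc => by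
    have := S.fix_of_comm hn he hc; rwa [h, fix_one hp] at this
  have hline : ∀ x : V4, hf x p = 0 → hf x q = 0 → hf x g = 0 → x = R (S.φ a) (hf x f • f) := by
    intro x h1 h2 h3
    rw [h, R_one hp, sl, hfr.fp, mul_one]
    conv_lhs => rw [hfr.expand x, h1, h2, h3, zero_smul, zero_smul, zero_smul, add_zero, add_zero, add_zero]
  have pcomm : ∀ e ∈ S.J, ∀ c : K, S.vec e = c • p → Commute e a := fun e he c hce =>
    S.image_comm hn he (x := c • f) (by rw [hce, h, R_one hp, sl, hfr.fp, mul_one])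
  have scaled : ∀ x : V4, hf x p = 0 → ∃ c : K, c ≠ 0 ∧ ∃ e ∈ centJ S a, S.vec e = c • x := by
    intro x hx
    choose J hJ hJv using fun c : K => S.vec_surj (c • x)
    have hperp : ∀ c, hf (S.vec (J c)) p = 0 := fun c => by rw [hJv, sl, hx, mul_zero]
    have hnc : ∀ j ∈ S.J, hf (S.vec j) p = 0 → ¬ Commute j a → a * j * a = z * j := fun j hj h0 hjc => by
      have hf' : act (S.φ a) (S.vec j) = S.vec j := by rw [h, fix_one hp]; exact h0
      refine (S.vec_eq_cases (S.conj_a hn hj).1 hj ((S.conj_a hn hj).2.trans hf')).resolve_left fun hh => hjc ?_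
      show j * a = a * j
      conv_lhs => rw [← hh, mul_assoc, S.a_sq hn, mul_one]
    have hcc : ∀ j ∈ S.J, Commute j a → a * j * a = j := fun j _ hjc => by
      rw [← hjc.eq, mul_assoc, S.a_sq hn, mul_one]
    have hback : ∀ j, a * j * a = j → Commute j a := fun j hj => by
      show j * a = a * j
      conv_lhs => rw [← hj, mul_assoc, S.a_sq hn, mul_one]
    have hadd : ∀ c d, decide (¬ Commute (J (c + d)) a)
        = (decide (¬ Commute (J c) a) != decide (¬ Commute (J d) a)) := by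
      intro c d
      have hm := mul_mem (hJ c) (hJ d)
      have hv : S.vec (J c * J d) = S.vec (J (c + d)) := by
        rw [S.vec_mul _ (hJ c) _ (hJ d), hJv, hJv, hJv, add_smul]
      have hiff : Commute (J (c + d)) a ↔ Commute (J c * J d) a := by
        rcases S.vec_eq_cases (hJ (c + d)) hm hv.symm with e | e
        · rw [e]
        · rw [e]
          refine ⟨fun hh => ?_, fun hh => hn.comm.symm.mul_left hh⟩
          have := hn.comm.symm.mul_left hh
          rwa [← mul_assoc, S.sq, one_mul] at this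
      have hval : a * (J c * J d) * a = (a * J c * a) * (a * J d * a) := by
        calc a * (J c * J d) * a = a * J c * (a * a) * J d * a := by rw [S.a_sq hn]; group
          _ = _ := by group
      have hz := S.z_ne_mul (J c * J d)
      by_cases hc1 : Commute (J c) a <;> by_cases hd1 : Commute (J d) a <;>
        simp only [hiff, hc1, hd1, not_true_eq_false, not_false_eq_true, decide_true, decide_false,
          bne_self_eq_false, Bool.false_bne, Bool.bne_false, decide_eq_false_iff_not, decide_eq_true_eq,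
          not_not]
      · exact hc1.mul_left hd1
      · rw [hcc _ (hJ c) hc1, hnc _ (hJ d) (hperp d) hd1, ← mul_assoc (J c) z, (S.J_le _ (hJ c)).eq,
          mul_assoc z] at hval
        exact fun hh => hz (hval.symm.trans (hcc _ hm hh))
      · rw [hnc _ (hJ c) (hperp c) hc1, hcc _ (hJ d) hd1, mul_assoc z] at hval
        exact fun hh => hz (hval.symm.trans (hcc _ hm hh))
      · rw [hnc _ (hJ c) (hperp c) hc1, hnc _ (hJ d) (hperp d) hd1] at hval
        refine hback _ ?_
        rw [hval]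
        calc z * J c * (z * J d) = z * (J c * z) * J d := by group
          _ = z * z * (J c * J d) := by rw [(S.J_le _ (hJ c)).eq]; group
          _ = _ := by rw [S.sq, one_mul]
    obtain ⟨c, hc, hcJ⟩ := k_scale (fun c => decide (¬ Commute (J c) a)) hadd
    exact ⟨c, hc, J c, ⟨hJ c, by simpa using hcJ⟩, hJv c⟩
  obtain ⟨c, hc, e2, he2, v2⟩ := scaled q (hs0 hfr.pq)
  obtain ⟨c', hc', e3, he3, v3⟩ := scaled g hfr.gp
  obtain ⟨e1, he1, v1⟩ := S.vec_surj p
  have he1' : e1 ∈ centJ S a := ⟨he1, pcomm e1 he1 1 (by rw [v1, one_smul])⟩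
  have hW2 : ∀ w ∈ meetJ S T, hf (S.vec w) p = 0 := fun w hw => hfix w hw.1 (S.meet_comm_a T hn hw)
  have full : ∀ e ∈ S.J, hf (S.vec e) p = 0 → Commute e a := by
    by_contra hnot
    simp only [not_forall, exists_prop] at hnot
    obtain ⟨e0, he0, he0p, he0c⟩ := hnot
    have hza := S.conj_twisted hn he0 (by rw [h, fix_one hp]; exact he0p) he0c
    have hW1 : ∀ w ∈ meetJ S T, Commute w e0 → w = 1 := by
      intro w hw hwe
      have hall : ∀ e ∈ S.J, hf (S.vec e) p = 0 → Commute w e := by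
        intro e he hep
        by_cases hea : Commute e a
        · exact S.meet_comm T hn hw he hea
        · have h2 : Commute (e0 * e) a := by
            have hnc : ∀ j ∈ S.J, hf (S.vec j) p = 0 → ¬ Commute j a → a * j * a = z * j := fun j hj h0 hjc => by
              have hf' : act (S.φ a) (S.vec j) = S.vec j := by rw [h, fix_one hp]; exact h0
              refine (S.vec_eq_cases (S.conj_a hn hj).1 hj ((S.conj_a hn hj).2.trans hf')).resolve_left fun hh => hjc ?_
              show j * a = a * j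
              conv_lhs => rw [← hh, mul_assoc, S.a_sq hn, mul_one]
            show e0 * e * a = a * (e0 * e)
            have h3 : a * (e0 * e) * a = e0 * e := by
              calc a * (e0 * e) * a = a * e0 * (a * a) * e * a := by rw [S.a_sq hn]; group
                _ = (a * e0 * a) * (a * e * a) := by group
                _ = e0 * (z * z) * e := by rw [hnc _ he0 he0p he0c, hnc _ he hep hea, ← (S.J_le e0 he0).eq]; group
                _ = _ := by rw [S.sq, mul_one]
            conv_lhs => rw [← h3, mul_assoc, S.a_sq hn, mul_one]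
          have h4 := (S.meet_comm T hn hw (mul_mem he0 he) h2)
          have := hwe.inv_right.mul_right h4
          rwa [inv_mul_cancel_left] at this
      have hzero : ∀ x, hf x p = 0 → hf (S.vec w) x = 0 := by
        intro x hx
        refine trace_all fun k => ?_
        obtain ⟨e, he, hev⟩ := S.vec_surj ((k ^ 2) • x)
        have := (S.commute_iff hw.1 he).1 (hall e he (by rw [hev, sl, hx, mul_zero]))
        rw [hev, B, sr, k_sq_sq] at this
        exact this
      exact S.twisted T hn hza hw (hline _ (hW2 w hw) (hzero q (hs0 hfr.pq)) (hzero g hfr.gp))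
    have hWc : (meetJ S T).ncard ≤ 2 := by
      by_cases hne : ∃ w ∈ meetJ S T, w ≠ 1
      · obtain ⟨w0, hw0, hw01⟩ := hne
        refine (Set.ncard_le_ncard (t := {1, w0}) ?_ (Set.toFinite _)).trans
          ((Set.ncard_insert_le _ _).trans (by rw [Set.ncard_singleton]))
        intro w hw
        by_cases hw1 : w = 1
        · exact Or.inl hw1
        refine Or.inr ?_
        have hn0 : ∀ v ∈ meetJ S T, v ≠ 1 → ¬ Commute v e0 := fun v hv hv1 hc => hv1 (hW1 v hv hc)
        have hB : ∀ v ∈ meetJ S T, v ≠ 1 → B (S.vec v) (S.vec e0) = 1 := fun v hv hv1 => by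
          have h01 := k_cases (B (S.vec v) (S.vec e0)) (by
            have : ∀ t : K, (t + t ^ 2) ^ 2 = t + t ^ 2 := by decide +kernel
            exact this _)
          exact h01.resolve_left fun h0 => hn0 v hv hv1 ((S.commute_iff hv.1 he0).2 h0)
        have hcm : Commute (w * w0) e0 := by
          refine (S.commute_iff (mul_mem hw.1 hw0.1) he0).2 ?_
          have hadd : ∀ x y u : V4, B (x + y) u = B x u + B y u := fun x y u => by
            simp only [B, hl]
            have : ∀ s t : K, s + t + (s + t) ^ 2 = s + s ^ 2 + (t + t ^ 2) := by decide +kernel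
            exact this _ _
          rw [S.vec_mul _ hw.1 _ hw0.1, hadd, hB w hw hw1, hB w0 hw0 hw01]
          exact k_add_self 1
        have := hW1 _ (S.meet_mul T hn hw hw0) hcm
        exact mul_right_cancel (this.trans (S.meet_sq T hn hw0).symm)
      · simp only [not_exists, not_and, ne_eq, not_not] at hne
        refine (Set.ncard_le_ncard (t := {1}) (fun w hw => hne w hw) (Set.toFinite _)).trans (by simp)
    have := S.small T hn hp h hfr hc hc' he1' he2 he3 v1 v2 v3 hWc
    omega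
  refine ⟨p, hp, h, full, fun hza => ?_⟩
  have hWc : (meetJ S T).ncard ≤ 2 := by
    refine (Set.ncard_le_ncard (t := {1}) (fun w hw => ?_) (Set.toFinite _)).trans (by simp)
    have hzero : ∀ x, hf x p = 0 → hf (S.vec w) x = 0 := by
      intro x hx
      refine trace_all fun k => ?_
      obtain ⟨e, he, hev⟩ := S.vec_surj ((k ^ 2) • x)
      have hep : hf (S.vec e) p = 0 := by rw [hev, sl, hx, mul_zero]
      have := (S.commute_iff hw.1 he).1 (S.meet_comm T hn hw he (full e he hep))
      rw [hev, B, sr, k_sq_sq] at this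
      exact this
    exact S.twisted T hn hza hw (hline _ (hW2 w hw) (hzero q (hs0 hfr.pq)) (hzero g hfr.gp))
  have := S.small T hn hp h hfr hc hc' he1' he2 he3 v1 v2 v3 hWc
  omega

end Setup

end Cfsg.Agent.U62Rec
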