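/-
The 180 conjugates commuting with `z`: fibres of four over the transvections, commutation and products.

* `Setup.fibre_conj`, `Setup.fibre_card`, `Setup.near_trans`, `Setup.near_card`;
* `Setup.comm_iff`, `Setup.braid` : they form a set of 3-transpositions with the images deciding;
* `Setup.card_cent`, `orbit_mul` : orders.
-/
import Cfsg.Agent.Lib.U62Rec.Fusion
import Cfsg.Agent.Lib.FischerM22.Order

set_option autoImplicit false

namespace Cfsg.Agent.U62Rec

open Cfsg.Agent.ThreeTransSU Cfsg.Agent.U62Cover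

universe u

variable {L : Type u} [Group L] [Finite L] {z : L}

/-- Orbit and centraliser. -/
theorem orbit_mul (H : Subgroup L) (x : L) :
    {y | ∃ g ∈ H, g * x * g⁻¹ = y}.ncard * Nat.card ↥(H ⊓ Subgroup.centralizer ({x} : Set L)) = Nat.card H := by
  have h := FischerM22.card_orbit_mul H x x
  rw [inf_assoc, inf_idem] at h
  rw [h]
  congr 1
  rw [← Set.ncard_image_of_injective _ (fun a b (e : (a, a) = (b, b)) => congrArg Prod.fst e)]
  congr 1
  ext ⟨p, q⟩
  constructor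
  · rintro ⟨y, ⟨g, hg, hy⟩, e⟩
    obtain ⟨rfl, rfl⟩ := Prod.ext_iff.1 e
    exact ⟨g, hg, hy, hy⟩
  · rintro ⟨g, hg, h1, h2⟩
    exact ⟨p, ⟨g, hg, h1⟩, Prod.ext rfl (h1.symm.trans h2)⟩

theorem mem_cent {g x : L} : g ∈ Subgroup.centralizer ({x} : Set L) ↔ Commute g x :=
  Subgroup.mem_centralizer_singleton_iff

namespace Setup

variable (S : Setup z)
include S

theorem card_J : Nat.card S.J = 512 := by
  have h := S.card_pre fun _ => True
  simp only [and_true, Set.ncard_univ, Set.ofPred_true] at h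
  rw [Nat.card_fun, Nat.card_fin, Nat.card_eq_fintype_card, cardK] at h
  rw [show Nat.card S.J = {j | j ∈ S.J}.ncard from Nat.card_coe_set_eq _, h]
  norm_num

/-- The map on the centraliser. -/
def hom : ↥(Subgroup.centralizer ({z} : Set L)) →* U4 where
  toFun h := S.φ h
  map_one' := S.φ_one
  map_mul' g h := S.φ_mul _ _ (mem_cent.1 g.2) (mem_cent.1 h.2)

theorem hom_surj : Function.Surjective S.hom := fun x => by
  obtain ⟨h, hh, rfl⟩ := S.φ_surj x
  exact ⟨⟨h, mem_cent.2 hh⟩, rfl⟩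

theorem card_cent : Nat.card ↥(Subgroup.centralizer ({z} : Set L)) = 13271040 := by
  have hk : S.hom.ker = S.J.subgroupOf (Subgroup.centralizer ({z} : Set L)) := by
    ext h
    rw [MonoidHom.mem_ker, Subgroup.mem_subgroupOf]
    exact S.φ_ker _ (mem_cent.1 h.2)
  have hJ : Nat.card S.hom.ker = 512 := by
    rw [hk, ← S.card_J]
    exact Nat.card_congr (Subgroup.subgroupOfEquivOfLe fun j hj => mem_cent.2 (S.J_le j hj)).toEquiv
  rw [Subgroup.card_eq_card_quotient_mul_card_subgroup S.hom.ker, hJ,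
    Nat.card_congr (QuotientGroup.quotientKerEquivOfSurjective _ S.hom_surj).toEquiv, card_SU4]

theorem near_conj {h a : L} (hh : Commute h z) (hn : Near z a) : Near z (h * a * h⁻¹) := by
  refine ⟨Dset_conj h hn.mem, (hh.mul_left hn.comm).mul_left hh.inv_left, fun e => hn.ne ?_⟩
  calc a = h⁻¹ * (h * a * h⁻¹) * h := by group
    _ = z := by rw [e, mul_assoc, ← hh.eq, inv_mul_cancel_left]

theorem near_mem_tvs {a : L} (hn : Near z a) : S.φ a ∈ tvs := by
  obtain ⟨p, hp, h, -⟩ := S.near_shape hn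
  exact ⟨p, hp, h⟩

theorem perp_comm {a : L} (hn : Near z a) {p : V4} (hp : Iso p) (h : S.φ a = t4 p) {e : L} (he : e ∈ S.J)
    (hep : hf (S.vec e) p = 0) : Commute e a := by
  obtain ⟨p', hp', h', hfull, -⟩ := S.near_shape hn
  obtain ⟨c, hc, rfl⟩ := tv_inj cardK hp hp' (h.symm.trans h')
  exact hfull e he (by rw [sr, hep, mul_zero])

theorem not_twisted {a : L} (hn : Near z a) : z * a ∉ Dset z := by
  obtain ⟨-, -, -, -, h⟩ := S.near_shape hn
  exact h

theorem quot_fix {x a : L} (hx : Near z x) (hn : Near z a) (he : x * a ∈ S.J) :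
    act (S.φ a) (S.vec (x * a)) = S.vec (x * a) := by
  have h : a * (x * a) * a = (x * a)⁻¹ := by
    rw [mul_inv_rev, S.D_inv hx.mem, S.D_inv hn.mem]
    simp only [mul_assoc, S.D_sq hn.mem, mul_one]
  rw [← (S.conj_a hn he).2, h, S.vec_inv he]

theorem quot_mem {x a : L} (hx : Near z x) (hn : Near z a) (h : S.φ x = S.φ a) : x * a ∈ S.J := by
  rw [← S.φ_ker _ (hx.comm.mul_left hn.comm), S.φ_mul _ _ hx.comm hn.comm, h, S.φ_sq hn]

theorem fibre_conj {x a : L} (hx : Near z x) (hn : Near z a) (h : S.φ x = S.φ a) :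
    ∃ j ∈ S.J, x = j * a * j⁻¹ := by
  obtain ⟨p, hp, hpa⟩ := S.near_mem_tvs hn
  obtain ⟨q, f, g, hfr⟩ := exists_frame_one hp
  set e := x * a with he
  have hx' : x = e * a := by rw [he, mul_assoc, S.D_sq hn.mem, mul_one]
  have heJ : e ∈ S.J := S.quot_mem hx hn h
  have hep : hf (S.vec e) p = 0 := (fix_one hp _).1 (hpa ▸ S.quot_fix hx hn heJ)
  have hzero : ∀ v, hf v p = 0 → hf (S.vec e) v = 0 := by
    intro v hv
    refine trace_all fun k => ?_
    obtain ⟨y, hy, hyv⟩ := S.vec_surj ((k ^ 2) • v)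
    have hyp : hf (S.vec y) p = 0 := by rw [hyv, sl, hv, mul_zero]
    have h1 : Commute y a := S.perp_comm hn hp hpa hy hyp
    have h2 : Commute y x := S.perp_comm hx hp (h.trans hpa) hy hyp
    have h3 : Commute y e := h2.mul_right h1
    have h4 := (S.commute_iff heJ hy).1 h3.symm
    rw [hyv, B, sr, k_sq_sq] at h4
    exact h4
  have hlin : S.vec e = hf (S.vec e) f • p := by
    conv_lhs => rw [hfr.expand (S.vec e), hep, hzero q (hs0 hfr.pq), hzero g hfr.gp, zero_smul, zero_smul,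
      zero_smul, add_zero, add_zero, add_zero]
  obtain ⟨j, hj, hjv⟩ := S.vec_surj (hf (S.vec e) f • f)
  obtain ⟨hm, hv⟩ := S.dd_mem hn hj
  have hee : S.vec e = S.vec (S.dd a j) := by
    rw [hv, hjv, hpa, R_one hp, sl, hfr.fp, mul_one, ← hlin]
  rcases S.vec_eq_cases heJ hm hee with e1 | e1
  · exact ⟨j, hj, by rw [hx', e1, S.dd_mul_a hn]⟩
  · refine absurd ?_ (S.not_twisted hn)
    have e2 : j⁻¹ * x * j⁻¹⁻¹ = z * a := by
      rw [hx', e1, mul_assoc z, S.dd_mul_a hn, ← mul_assoc, (S.J_le j hj).inv_left.eq]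
      group
    rw [← e2]
    exact Dset_conj _ hx.mem

theorem fibre_vec {x a : L} (hx : Near z x) (hn : Near z a) {p : V4} (hp : Iso p) (h : S.φ a = t4 p)
    (hxa : S.φ x = S.φ a) : ∃ c : K, S.vec (x * a) = c • p := by
  obtain ⟨j, hj, rfl⟩ := S.fibre_conj hx hn hxa
  exact ⟨hf (S.vec j) p, by rw [show j * a * j⁻¹ * a = S.dd a j from rfl, (S.dd_mem hn hj).2, h, R_one hp]⟩

theorem fibre_card {a : L} (hn : Near z a) : {x | Near z x ∧ S.φ x = S.φ a}.ncard = 4 := by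
  classical
  obtain ⟨p, hp, h⟩ := S.near_mem_tvs hn
  obtain ⟨q, f, g, hfr⟩ := exists_frame_one hp
  rw [← cardK, ← Nat.card_eq_fintype_card, ← Set.ncard_univ]
  refine Set.ncard_congr (fun x _ => hf (S.vec (x * a)) f) (fun _ _ => Set.mem_univ _) ?_ ?_
  · intro x y hx hy e
    obtain ⟨c, hc⟩ := S.fibre_vec hx.1 hn hp h hx.2
    obtain ⟨d, hd⟩ := S.fibre_vec hy.1 hn hp h hy.2
    rw [hc, hd, sl, sl, hfr.pf, mul_one, mul_one] at e
    rcases S.vec_eq_cases (S.quot_mem hx.1 hn hx.2) (S.quot_mem hy.1 hn hy.2) (by rw [hc, hd, e]) with k | k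
    · exact mul_right_cancel k
    · refine absurd ?_ (S.not_twisted hy.1)
      rw [← mul_assoc] at k
      rw [← mul_right_cancel k]
      exact hx.1.mem
  · intro c _
    obtain ⟨j, hj, hjv⟩ := S.vec_surj (c • f)
    have hjz := S.J_le j hj
    refine ⟨j * a * j⁻¹, ⟨S.near_conj hjz hn, ?_⟩, ?_⟩
    · rw [S.φ_conj hjz hn.comm, S.φ_J hj, one_mul, inv_one, mul_one]
    · show hf (S.vec (S.dd a j)) f = c
      rw [(S.dd_mem hn hj).2, h, R_one hp, sl, hjv, sl, hfr.fp, hfr.pf, mul_one, mul_one]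

theorem near_trans {a b : L} (ha : Near z a) (hb : Near z b) : ∃ h, Commute h z ∧ h * a * h⁻¹ = b := by
  obtain ⟨p, hp, h1⟩ := S.near_mem_tvs ha
  obtain ⟨q, hq, h2⟩ := S.near_mem_tvs hb
  obtain ⟨k, hk⟩ := exists_act cardK (by norm_num) hp hq
  obtain ⟨g, hg, rfl⟩ := S.φ_surj k
  have hφ : S.φ b = S.φ (g * a * g⁻¹) := by
    rw [S.φ_conj hg ha.comm, h1, tv_conj_inv cardK _ hp.2, hk, h2]
  obtain ⟨j, hj, e⟩ := S.fibre_conj hb (S.near_conj hg ha) hφ
  exact ⟨j * g, (S.J_le j hj).mul_left hg, by rw [e]; group⟩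

theorem exists_point {a : L} (ha : Near z a) {q : V4} (hq : Iso q) : ∃ b, Near z b ∧ S.φ b = t4 q := by
  obtain ⟨p, hp, h1⟩ := S.near_mem_tvs ha
  obtain ⟨k, hk⟩ := exists_act cardK (by norm_num) hp hq
  obtain ⟨g, hg, rfl⟩ := S.φ_surj k
  exact ⟨g * a * g⁻¹, S.near_conj hg ha, by rw [S.φ_conj hg ha.comm, h1, tv_conj_inv cardK _ hp.2, hk]⟩

theorem near_fibres {a : L} (ha : Near z a) (s : Set U4) (hs : s ⊆ tvs) :
    {x | Near z x ∧ S.φ x ∈ s}.ncard = s.ncard * 4 := by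
  rw [← M22Cover.ncard_fibres S.φ (fun x => Near z x) s 4 (fun b hb => ?_)]
  · congr 1
    exact Set.ext fun x => ⟨fun h => ⟨h.2, h.1⟩, fun h => ⟨h.2, h.1⟩⟩
  · obtain ⟨q, hq, rfl⟩ := hs hb
    obtain ⟨y, hy, hyq⟩ := S.exists_point ha hq
    rw [← S.fibre_card hy, hyq]
    congr 1
    exact Set.ext fun x => ⟨fun h => ⟨h.2, h.1⟩, fun h => ⟨h.2, h.1⟩⟩

theorem near_card {a : L} (ha : Near z a) : {x | Near z x}.ncard = 180 := by
  have h := S.near_fibres ha tvs subset_rfl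
  rw [card_tvs] at h
  rw [show (180 : ℕ) = 45 * 4 from rfl, ← h]
  congr 1
  exact Set.ext fun x => ⟨fun hx => ⟨hx, S.near_mem_tvs hx⟩, fun hx => hx.1⟩

theorem line_zero {p q : V4} {c d : K} (hp : Iso p) (hne : t4 p ≠ t4 q) (h : c • p = d • q) : c = 0 := by
  by_contra hc
  by_cases hd : d = 0
  · rw [hd, zero_smul, smul_eq_zero] at h
    exact hp.1 (h.resolve_left hc)
  refine hne ?_
  have hq : q = (d⁻¹ * c) • p := by rw [mul_smul, h, smul_smul, inv_mul_cancel₀ hd, one_smul]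
  rw [hq]
  exact (tv_smul cardK hp (mul_ne_zero (inv_ne_zero hd) hc)).symm

theorem comm_iff {a b : L} (ha : Near z a) (hb : Near z b) :
    Commute a b ↔ Commute (S.φ a) (S.φ b) := by
  refine ⟨fun h => ?_, fun h => ?_⟩
  · show S.φ a * S.φ b = S.φ b * S.φ a
    rw [← S.φ_mul _ _ ha.comm hb.comm, ← S.φ_mul _ _ hb.comm ha.comm, h.eq]
  by_cases he : S.φ b = S.φ a
  · obtain ⟨j, hj, rfl⟩ := S.fibre_conj hb ha he
    rw [← S.dd_mul_a ha]
    exact (S.dd_comm ha hj).symm.mul_right (Commute.refl a)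
  obtain ⟨p, hp, h1⟩ := S.near_mem_tvs ha
  obtain ⟨q, hq, h2⟩ := S.near_mem_tvs hb
  have hbab := S.near_conj hb.comm ha
  have haba := S.near_conj ha.comm hb
  have hf1 : S.φ (b * a * b⁻¹) = S.φ a := by rw [S.φ_conj hb.comm ha.comm, ← h.eq, mul_inv_cancel_right]
  have hf2 : S.φ (a * b * a⁻¹) = S.φ b := by rw [S.φ_conj ha.comm hb.comm, h.eq, mul_inv_cancel_right]
  obtain ⟨c, hc⟩ := S.fibre_vec hbab ha hp h1 hf1
  obtain ⟨d, hd⟩ := S.fibre_vec haba hb hq h2 hf2
  have hi : b * a * b⁻¹ * a = (a * b * a⁻¹ * b)⁻¹ := by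
    simp only [mul_inv_rev, inv_inv, S.D_inv ha.mem, S.D_inv hb.mem, mul_assoc]
  have hm := S.quot_mem hbab ha hf1
  rw [hi, S.vec_inv (S.quot_mem haba hb hf2), hd] at hc
  have hne : t4 q ≠ t4 p := fun e => he (by rw [h1, h2, e])
  have hd0 := S.line_zero hq hne hc
  rcases S.vec_ker _ hm (by rw [hi, S.vec_inv (S.quot_mem haba hb hf2), hd, hd0, zero_smul]) with e | e
  · show a * b = b * a
    have e1 : b * a * b⁻¹ = a := by rw [mul_eq_one_iff_eq_inv] at e; rw [e, S.D_inv ha.mem]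
    exact (mul_inv_eq_iff_eq_mul.1 e1).symm
  · refine absurd ?_ (S.not_twisted ha)
    rw [show z * a = b * a * b⁻¹ by rw [← e, mul_assoc _ a a, S.D_sq ha.mem, mul_one]]
    exact hbab.mem

theorem braid {a b : L} (ha : Near z a) (hb : Near z b) (h : ¬ Commute a b) :
    a * b * a = b * a * b := by
  obtain ⟨p, hp, h1⟩ := S.near_mem_tvs ha
  obtain ⟨q, hq, h2⟩ := S.near_mem_tvs hb
  have hpq : hf q p ≠ 0 := fun e => h ((S.comm_iff ha hb).2 (by rw [h1, h2]; exact (tv_comm_iff cardK hp hq).2 e))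
  have hx := S.near_conj ha.comm hb
  have hy := S.near_conj hb.comm ha
  have φx : S.φ (a * b * a⁻¹) = t4 (q + hf q p • p) := by
    rw [S.φ_conj ha.comm hb.comm, h1, h2, tv_conj_inv cardK _ hq.2, act_tv cardK hp.2]
  have φy : S.φ (b * a * b⁻¹) = t4 (p + hf p q • q) := by
    rw [S.φ_conj hb.comm ha.comm, h1, h2, tv_conj_inv cardK _ hp.2, act_tv cardK hq.2]
  have hr : Iso (q + hf q p • p) := by
    rw [← act_tv cardK hp.2]; exact hq.act _
  have hsc : p + hf p q • q = hf p q • (q + hf q p • p) := by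
    rw [smul_add, smul_smul, hs q p, mul_comm, k_cube _ hpq, one_smul, add_comm]
  have hne : hf p q ≠ 0 := fun e => hpq (hs0 e)
  have hyx : S.φ (b * a * b⁻¹) = S.φ (a * b * a⁻¹) := by
    rw [φx, φy, hsc]; exact tv_smul cardK hr hne
  obtain ⟨c, hc⟩ := S.fibre_vec hy hx hr φx hyx
  set e := b * a * b⁻¹ * (a * b * a⁻¹) with he
  have hm : e ∈ S.J := S.quot_mem hy hx hyx
  have hinv : a * e * a = e⁻¹ := by
    rw [he]
    simp only [mul_inv_rev, inv_inv, S.D_inv ha.mem, S.D_inv hb.mem, mul_assoc, S.D_sq ha.mem, mul_one]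
  have hfix : hf (S.vec e) p = 0 := by
    rw [← fix_one hp, ← h1, ← (S.conj_a ha hm).2, hinv, S.vec_inv hm]
  rw [hc, sl, hl, sl, hp.2, mul_zero, add_zero] at hfix
  have hc0 : c = 0 := (mul_eq_zero.1 hfix).resolve_right hpq
  rcases S.vec_ker _ hm (by rw [hc, hc0, zero_smul]) with k | k
  · rw [he, mul_eq_one_iff_eq_inv, S.D_inv hx.mem] at k
    rwa [S.D_inv ha.mem, S.D_inv hb.mem, eq_comm] at k
  · refine absurd ?_ (S.not_twisted hx)
    rw [show z * (a * b * a⁻¹) = b * a * b⁻¹ by rw [← k, he, mul_assoc _ (a * b * a⁻¹) (a * b * a⁻¹), S.D_sq hx.mem, mul_one]]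
    exact hy.mem

theorem braid_orderOf {a b : L} (ha : Near z a) (hb : Near z b) (h : ¬ Commute a b) : (a * b) ^ 3 = 1 := by
  have hbr := S.braid ha hb h
  calc (a * b) ^ 3 = a * b * a * (b * a * b) := by rw [pow_succ, pow_succ, pow_one]; group
    _ = a * b * a * (a * b * a) := by rw [hbr]
    _ = a * b * (a * a) * b * a := by group
    _ = a * (b * b) * a := by rw [S.D_sq ha.mem]; group
    _ = 1 := by rw [S.D_sq hb.mem, mul_one, S.D_sq ha.mem]

end Setup

end Cfsg.Agent.U62Rec
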