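/-
The component of `z` in the commuting graph of its conjugates: 693 members, a set of 3-transpositions.

* `Om z` : the conjugates at distance at most two;
* `Setup.pair_group` : for `z`, `d` at distance two, C(z,d) maps isomorphically onto SU(4,2);
* `Setup.om_closed`, `Setup.om_eq`, `Setup.om_card`, `Setup.om_trans`.
-/
import Cfsg.Agent.Lib.U62Rec.Local

set_option autoImplicit false

namespace Cfsg.Agent.U62Rec

open Cfsg.Agent.ThreeTransSU Cfsg.Agent.U62Cover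

universe u

theorem mul_le_ncard {α β : Type*} [Finite α] [Finite β] (f : α → β) {s : Set α} {t : Set β} {k : ℕ}
    (h : ∀ y ∈ t, k ≤ {x ∈ s | f x = y}.ncard) : t.ncard * k ≤ s.ncard := by
  classical
  have := Fintype.ofFinite α
  have := Fintype.ofFinite β
  rw [Set.ncard_eq_toFinset_card' s, Set.ncard_eq_toFinset_card' t, ← smul_eq_mul, ← Finset.sum_const]
  refine le_trans (Finset.sum_le_sum (f := fun _ => k) (g := fun y => (s.toFinset.filter fun x => f x = y).card)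
    fun y hy => ?_) ?_
  · refine le_trans (h y (Set.mem_toFinset.1 hy)) (le_of_eq ?_)
    rw [← Set.ncard_coe_finset]
    congr 1
    ext x
    simp
  · rw [← Finset.card_biUnion]
    · exact Finset.card_le_card fun x hx => by
        simp only [Finset.mem_biUnion, Finset.mem_filter] at hx
        obtain ⟨-, -, hx, -⟩ := hx
        exact hx
    · intro a _ b _ hab
      simp only [Function.onFun]
      rw [Finset.disjoint_left]
      intro x h1 h2
      simp only [Finset.mem_filter] at h1 h2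
      exact hab (h1.2.symm.trans h2.2)

theorem exists_frame_hyp {p f : V4} (hp : hf p p = 0) (hff : hf f f = 0) (hfp : hf f p = 1) :
    ∃ q g, Frame p q f g := by
  obtain ⟨q, f', g, h⟩ := exists_frame_one (p := p₀) std_pair.1
  obtain ⟨k, k1, k2⟩ := Unitary.su_transitive_hyperbolic (card_sq cardK) (show 3 ≤ 4 by norm_num)
    h.ff h.pp h.fp hff hp hfp
  refine ⟨act k q, act k g, ?_⟩
  have := h.act k
  rwa [show act k p₀ = p from k2, show act k f' = f from k1] at this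

/-- Two point stabilisers of a line generate. -/
theorem gen_top (H : Subgroup U4) {p q : V4} (h : OrthPair p q)
    (hp : ∀ k, Commute k (t4 p) → k ∈ H) (hq : ∀ k, Commute k (t4 q) → k ∈ H) : H = ⊤ := by
  have hper : ∀ u, Iso u → (hf u p = 0 ∨ hf u q = 0) → t4 u ∈ H := fun u hu e => e.elim
    (fun e => hp _ ((tv_comm_iff cardK hu h.1).2 (hs0 e)))
    (fun e => hq _ ((tv_comm_iff cardK hu h.2.1).2 (hs0 e)))
  rw [eq_top_iff, ← closure_tvs, Subgroup.closure_le]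
  rintro _ ⟨v, hv, rfl⟩
  by_cases hvp : hf v p = 0
  · exact hper v hv (Or.inl hvp)
  by_cases hvq : hf v q = 0
  · exact hper v hv (Or.inr hvq)
  obtain ⟨f, g, hfr⟩ := exists_frame h
  set δ := hf v q with hδ
  set y : K := ((hf v p + hf v f) * δ⁻¹) ^ 2 with hy
  set u := f + y • q with hu
  have hu0 : hf u u = 0 := by
    simp only [hu, hl, hr, sl, sr, hfr.ff, hfr.fq, hfr.qf, hfr.qq, mul_zero, add_zero]
  have hup : hf u p = 1 := by simp only [hu, hl, sl, hfr.fp, hfr.qp, mul_zero, add_zero]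
  have huq : hf u q = 0 := by simp only [hu, hl, sl, hfr.fq, hfr.qq, mul_zero, add_zero]
  have hui : Iso u := ⟨fun e => by rw [e, h0l] at hup; exact zero_ne_one hup, hu0⟩
  have hvu : hf v u = hf v p := by
    simp only [hu, hr, sr, hy, k_sq_sq, ← hδ]
    rw [mul_assoc, inv_mul_cancel₀ hvq, mul_one, add_comm (hf v p), ← add_assoc, k_add_self, zero_add]
  have hk := hper u hui (Or.inr huq)
  have hmv : hf (act (t4 u) v) p = 0 := by
    rw [act_tv cardK hu0, hl, sl, hup, mul_one, hvu]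
    exact k_add_self _
  have h2 := hper _ (hv.act (t4 u)) (Or.inl hmv)
  rw [show t4 (act (t4 u) v) = t4 u * t4 v * (t4 u)⁻¹ from (tv_conj_inv cardK _ hv.2).symm] at h2
  have e : t4 v = (t4 u)⁻¹ * (t4 u * t4 v * (t4 u)⁻¹) * t4 u := by group
  rw [SetLike.mem_coe, e]
  exact mul_mem (mul_mem (inv_mem hk) h2) hk

theorem card_point_stab {p : V4} (hp : Iso p) :
    Nat.card ↥(Subgroup.centralizer ({t4 p} : Set U4)) = 576 := by
  have h := orbit_mul (⊤ : Subgroup U4) (t4 p)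
  rw [top_inf_eq, Subgroup.card_top, card_SU4] at h
  have e : {y | ∃ g ∈ (⊤ : Subgroup U4), g * t4 p * g⁻¹ = y} = tvs := by
    ext y
    constructor
    · rintro ⟨g, -, rfl⟩; exact ⟨_, hp.act g, tv_conj_inv cardK g hp.2⟩
    · rintro ⟨q, hq, rfl⟩
      obtain ⟨g, hg⟩ := exists_act cardK (by norm_num) hp hq
      exact ⟨g, trivial, by rw [tv_conj_inv cardK g hp.2, hg]⟩
  rw [e, card_tvs] at h
  omega

variable {L : Type u} [Group L] {z c d : L}

/-- The conjugates at distance at most two. -/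
def Om (z : L) : Set L := {x | x ∈ Dset z ∧ ∃ c ∈ Dset z, Commute c z ∧ Commute c x}

theorem self_mem_Om (z : L) : z ∈ Om z := ⟨Setup.self_mem, z, Setup.self_mem, Commute.refl z, Commute.refl z⟩

/-- A conjugate at distance two, with a common neighbour. -/
structure Far (z c d : L) : Prop where
  nc : Near z c
  cd : Near c d
  far : ¬ Commute d z

theorem Far.symm (h : Far z c d) : Far d c z :=
  ⟨h.cd.symm, h.nc.symm, fun e => h.far e.symm⟩

namespace Setup

variable [Finite L] (S : Setup z)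
include S

theorem meet_line {a : L} (T : Setup a) (hn : Near z a) {p : V4} (hp : Iso p) (h : S.φ a = t4 p) {w : L}
    (hw : w ∈ meetJ S T) : ∃ c : K, S.vec w = c • p := by
  obtain ⟨q, f, g, hfr⟩ := exists_frame_one hp
  have hzero : ∀ x, hf x p = 0 → hf (S.vec w) x = 0 := by
    intro x hx
    refine trace_all fun k => ?_
    obtain ⟨e, he, hev⟩ := S.vec_surj ((k ^ 2) • x)
    have hep : hf (S.vec e) p = 0 := by rw [hev, sl, hx, mul_zero]
    have := (S.commute_iff hw.1 he).1 (S.meet_comm T hn hw he (S.perp_comm hn hp h he hep))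
    rw [hev, B, sr, k_sq_sq] at this
    exact this
  refine ⟨hf (S.vec w) f, ?_⟩
  conv_lhs => rw [hfr.expand (S.vec w), hzero p hp.2, hzero q (hs0 hfr.pq), hzero g hfr.gp,
    zero_smul, zero_smul, zero_smul, add_zero, add_zero, add_zero]

variable (T : Setup c)

include T

theorem radical_trivial (hF : Far z c d) {e : L} (he : e ∈ S.J) (hec : Commute e c) (hed : Commute e d) :
    e = 1 := by
  obtain ⟨q1, hq1, h1⟩ := T.near_mem_tvs hF.nc.symm
  obtain ⟨q2, hq2, h2⟩ := T.near_mem_tvs hF.cd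
  have hne : hf q2 q1 ≠ 0 := fun e0 => hF.far ((T.comm_iff hF.cd hF.nc.symm).2 (by
    rw [h1, h2]; exact (tv_comm_iff cardK hq2 hq1).2 (hs0 e0)))
  set m := (hf q2 q1)⁻¹ with hm
  have hm0 : m ≠ 0 := inv_ne_zero hne
  obtain ⟨q, g, hfr⟩ := exists_frame_hyp hq1.2 (f := m • q2) (by rw [sl, sr, hq2.2, mul_zero, mul_zero])
    (by rw [sl, hm, inv_mul_cancel₀ hne])
  have hu2 : Commute (T.φ e) (t4 q2) := by
    show T.φ e * t4 q2 = t4 q2 * T.φ e
    rw [← h2, ← T.φ_mul _ _ hec hF.cd.comm, hed.eq, T.φ_mul _ _ hF.cd.comm hec]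
  have hu1 : Commute (T.φ e) (t4 q1) := by
    show T.φ e * t4 q1 = t4 q1 * T.φ e
    rw [← h1, ← T.φ_mul _ _ hec hF.nc.symm.comm, (S.J_le e he).eq, T.φ_mul _ _ hF.nc.symm.comm hec]
  obtain ⟨μ, hμ, au⟩ := line_of_commute hq1 hu1
  obtain ⟨lam, hlam, af⟩ := line_of_commute hq2 hu2
  have af' : act (T.φ e) (m • q2) = lam • (m • q2) := by rw [act_smul, af, smul_comm]
  have hrad : ∀ x, hf x q1 = 0 → ∃ α : K, act (T.φ e) x = x + α • q1 := by
    intro x hx
    obtain ⟨y, hy, hyv⟩ := T.vec_surj x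
    have hyz : Commute y z := T.perp_comm hF.nc.symm hq1 h1 hy (by rw [hyv]; exact hx)
    have hm' := T.comm_meet S hF.nc.symm he hec hy hyz
    obtain ⟨α, hα⟩ := T.meet_line S hF.nc.symm hq1 h1 hm'
    obtain ⟨hcJ, hcv⟩ := T.vec_conj e hec y hy
    rw [T.vec_mul _ hcJ _ (inv_mem hy), hcv, T.vec_inv hy, hyv] at hα
    exact ⟨α, by rw [← hα, add_left_comm, vv, add_zero]⟩
  have fixv : ∀ x, hf x q1 = 0 → hf x (m • q2) = 0 → act (T.φ e) x = x := by
    intro x hx1 hx2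
    obtain ⟨α, hα⟩ := hrad x hx1
    have h3 : hf (act (T.φ e) x) (act (T.φ e) (m • q2)) = 0 := by rw [act_hf]; exact hx2
    rw [hα, af', sr, hl, hx2, zero_add, sl, hfr.pf, mul_one] at h3
    rw [hα, (mul_eq_zero.1 h3).resolve_left (pow_ne_zero 2 hlam), zero_smul, add_zero]
  have hq : act (T.φ e) q = q := fixv q (hs0 hfr.pq) hfr.qf
  have hg : act (T.φ e) g = g := fixv g hfr.gp hfr.gf
  have h4 : e * e * (e * e) = 1 := by
    by_cases h0 : hf (S.vec e) (S.vec e) = 0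
    · rw [S.sq_one e he h0, one_mul]
    · rw [S.sq_z e he h0, S.sq]
  have hee : Commute (e * e) c := hec.mul_left hec
  have hμ4 : μ ^ 4 = 1 := by
    have e4 : act (T.φ e * T.φ e * (T.φ e * T.φ e)) q1 = μ ^ 4 • q1 := by
      simp only [act_mul, au, act_smul, smul_smul]
      congr 1
      ring
    rw [← T.φ_mul _ _ hec hec, ← T.φ_mul _ _ hee hee, h4, T.φ_one, act_one] at e4
    exact smul_left_injective K hq1.1 (e4.symm.trans (one_smul K q1).symm)
  have hμ1 : μ = 1 := by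
    have key : ∀ t : K, t ^ 4 = 1 → t = 1 := by decide +kernel
    exact key μ hμ4
  have hlam1 : lam = 1 := by
    have h3 : hf (act (T.φ e) (m • q2)) (act (T.φ e) q1) = 1 := by rw [act_hf]; exact hfr.fp
    rw [au, af', hμ1, one_smul, sl, hfr.fp, mul_one] at h3
    exact h3
  have hu : T.φ e = 1 := hfr.ext (by rw [au, hμ1, one_smul, act_one]) (by rw [hq, act_one])
    (by rw [af', hlam1, one_smul, act_one]) (by rw [hg, act_one])
  have hmeet : e ∈ meetJ T S := ⟨(T.φ_ker e hec).1 hu, he⟩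
  obtain ⟨α, hα⟩ := T.meet_line S hF.nc.symm hq1 h1 hmeet
  have hfix := T.fix_of_comm hF.cd hmeet.1 hed
  rw [h2, fix_one hq2, hα, sl] at hfix
  have hq12 : hf q1 q2 ≠ 0 := fun e0 => hne (hs0 e0)
  exact T.meet_one S hF.nc.symm hmeet (by rw [hα, (mul_eq_zero.1 hfix).resolve_right hq12, zero_smul])

/-- The centraliser of the three. -/
theorem card_triple (hF : Far z c d) :
    576 ≤ Nat.card ↥(Subgroup.centralizer ({z} : Set L) ⊓ Subgroup.centralizer ({c} : Set L)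
      ⊓ Subgroup.centralizer ({d} : Set L)) := by
  have h1 := orbit_mul (Subgroup.centralizer ({z} : Set L)) c
  have e1 : {y | ∃ g ∈ Subgroup.centralizer ({z} : Set L), g * c * g⁻¹ = y} = {x | Near z x} := by
    ext y
    constructor
    · rintro ⟨g, hg, rfl⟩; exact S.near_conj (mem_cent.1 hg) hF.nc
    · intro hy
      obtain ⟨g, hg, e⟩ := S.near_trans hF.nc hy
      exact ⟨g, mem_cent.2 hg, e⟩
  rw [e1, S.near_card hF.nc, S.card_cent] at h1
  have h2 := orbit_mul (Subgroup.centralizer ({z} : Set L) ⊓ Subgroup.centralizer ({c} : Set L)) d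
  have hle : {y | ∃ g ∈ Subgroup.centralizer ({z} : Set L) ⊓ Subgroup.centralizer ({c} : Set L),
      g * d * g⁻¹ = y}.ncard ≤ 128 := by
    have h3 := T.near_fibres hF.cd {t ∈ tvs | ¬ Commute t (T.φ z)} (fun t ht => ht.1)
    obtain ⟨q1, hq1, e⟩ := T.near_mem_tvs hF.nc.symm
    rw [e, card_tvs_apart hq1] at h3
    rw [show (128 : ℕ) = 32 * 4 from rfl, ← h3]
    refine Set.ncard_le_ncard ?_ (Set.toFinite _)
    rintro _ ⟨g, ⟨hgz, hgc⟩, rfl⟩
    have hn := T.near_conj (mem_cent.1 hgc) hF.cd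
    refine ⟨hn, T.near_mem_tvs hn, ?_⟩
    rw [← e, ← T.comm_iff hn hF.nc.symm]
    intro hc
    apply hF.far
    have := commute_conj g⁻¹ hc
    rwa [show g⁻¹ * (g * d * g⁻¹) * g⁻¹⁻¹ = d by group,
      show g⁻¹ * z * g⁻¹⁻¹ = z by rw [(mem_cent.1 hgz).inv_left.eq]; group] at this
  have h4 := Nat.mul_le_mul_right (Nat.card ↥(Subgroup.centralizer ({z} : Set L) ⊓
    Subgroup.centralizer ({c} : Set L) ⊓ Subgroup.centralizer ({d} : Set L))) hle
  omega

/-- Every element of the stabiliser of the image of `c` lifts to C(z,c,d). -/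
theorem lift_stab (hF : Far z c d) {k : U4} (hk : Commute k (S.φ c)) :
    ∃ h, Commute h z ∧ Commute h c ∧ Commute h d ∧ S.φ h = k := by
  classical
  obtain ⟨p, hp, hpc⟩ := S.near_mem_tvs hF.nc
  set K3 := Subgroup.centralizer ({z} : Set L) ⊓ Subgroup.centralizer ({c} : Set L)
    ⊓ Subgroup.centralizer ({d} : Set L) with hK3
  have mem : ∀ {x}, x ∈ K3 → Commute x z ∧ Commute x c ∧ Commute x d := fun {x} hx =>
    ⟨mem_cent.1 hx.1.1, mem_cent.1 hx.1.2, mem_cent.1 hx.2⟩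
  have hinj : Set.InjOn S.φ (K3 : Set L) := by
    intro x hx y hy e
    obtain ⟨x1, x2, x3⟩ := mem hx
    obtain ⟨y1, y2, y3⟩ := mem hy
    exact inv_mul_eq_one.1 (S.radical_trivial T hF ((S.φ_eq_iff x1 y1).1 e)
      (x2.inv_left.mul_left y2) (x3.inv_left.mul_left y3))
  have hsub : S.φ '' (K3 : Set L) ⊆ ↑(Subgroup.centralizer ({S.φ c} : Set U4)) := by
    rintro _ ⟨x, hx, rfl⟩
    obtain ⟨x1, x2, -⟩ := mem hx
    refine mem_cent.2 ?_
    show S.φ x * S.φ c = S.φ c * S.φ x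
    rw [← S.φ_mul _ _ x1 hF.nc.comm, ← S.φ_mul _ _ hF.nc.comm x1, x2.eq]
  have heq : S.φ '' (K3 : Set L) = ↑(Subgroup.centralizer ({S.φ c} : Set U4)) := by
    refine Set.eq_of_subset_of_ncard_le hsub ?_ (Set.toFinite _)
    rw [Set.ncard_image_of_injOn hinj, ← Nat.card_coe_set_eq, ← Nat.card_coe_set_eq]
    exact le_trans (le_of_eq (by rw [SetLike.coe_sort_coe, hpc, card_point_stab hp])) (S.card_triple T hF)
  have hk' : k ∈ S.φ '' (K3 : Set L) := heq ▸ mem_cent.2 hk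
  obtain ⟨h, hh, rfl⟩ := hk'
  obtain ⟨h1, h2, h3⟩ := mem hh
  exact ⟨h, h1, h2, h3, rfl⟩

theorem far_J (hF : Far z c d) {e : L} (he : e ∈ S.J) (hed : Commute e d) : e = 1 := by
  obtain ⟨p, hp, hpc⟩ := S.near_mem_tvs hF.nc
  by_cases h0 : hf (S.vec e) p = 0
  · exact S.radical_trivial T hF he (S.perp_comm hF.nc hp hpc he h0) hed
  exfalso
  obtain ⟨k, hkz, -, hkd, hk⟩ := S.lift_stab T hF (k := t4 p) (by rw [hpc])
  obtain ⟨hcJ, hcv⟩ := S.vec_conj k hkz e he
  have hv : S.vec (e⁻¹ * (k * e * k⁻¹)) = hf (S.vec e) p • p := by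
    rw [S.vec_mul _ (inv_mem he) _ hcJ, S.vec_inv he, hcv, hk, ← R_one hp]
    rfl
  have hm : e⁻¹ * (k * e * k⁻¹) ∈ S.J := mul_mem (inv_mem he) hcJ
  have hcd : Commute (e⁻¹ * (k * e * k⁻¹)) d :=
    hed.inv_left.mul_left ((hkd.mul_left hed).mul_left hkd.inv_left)
  have hcc : Commute (e⁻¹ * (k * e * k⁻¹)) c :=
    S.perp_comm hF.nc hp hpc hm (by rw [hv, sl, hp.2, mul_zero])
  have h1 := S.radical_trivial T hF hm hcc hcd
  rw [h1, S.vec_one] at hv
  exact hp.1 ((smul_eq_zero.1 hv.symm).resolve_left h0)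

/-- C(z,d) is a complement. -/
theorem pair_group (hF : Far z c d) :
    (∀ k : U4, ∃ h, Commute h z ∧ Commute h d ∧ S.φ h = k) ∧
      Nat.card ↥(Subgroup.centralizer ({z} : Set L) ⊓ Subgroup.centralizer ({d} : Set L)) = 25920 := by
  classical
  set H := ((Subgroup.centralizer ({d} : Set L)).subgroupOf (Subgroup.centralizer ({z} : Set L))).map S.hom
    with hH
  have memH : ∀ k : U4, k ∈ H ↔ ∃ h, Commute h z ∧ Commute h d ∧ S.φ h = k := by
    intro k
    rw [hH, Subgroup.mem_map]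
    constructor
    · rintro ⟨⟨h, hh⟩, hd, rfl⟩; exact ⟨h, mem_cent.1 hh, mem_cent.1 hd, rfl⟩
    · rintro ⟨h, h1, h2, rfl⟩; exact ⟨⟨h, mem_cent.2 h1⟩, mem_cent.2 h2, rfl⟩
  have stab : ∀ x, Far z x d → ∀ k, Commute k (S.φ x) → k ∈ H := by
    intro x hx k hk
    obtain ⟨X⟩ := S.exists_setup hx.nc.mem
    obtain ⟨h, h1, -, h3, h4⟩ := S.lift_stab X hx hk
    exact (memH k).2 ⟨h, h1, h3, h4⟩
  obtain ⟨q1, hq1, h1⟩ := T.near_mem_tvs hF.nc.symm
  obtain ⟨q2, hq2, h2⟩ := T.near_mem_tvs hF.cd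
  have hne : hf q2 q1 ≠ 0 := fun e0 => hF.far ((T.comm_iff hF.cd hF.nc.symm).2 (by
    rw [h1, h2]; exact (tv_comm_iff cardK hq2 hq1).2 (hs0 e0)))
  set m := (hf q2 q1)⁻¹ with hm
  have hm0 : m ≠ 0 := inv_ne_zero hne
  obtain ⟨q, g, hfr⟩ := exists_frame_hyp hq1.2 (f := m • q2) (by rw [sl, sr, hq2.2, mul_zero, mul_zero])
    (by rw [sl, hm, inv_mul_cancel₀ hne])
  obtain ⟨c', hc', ec'⟩ := T.exists_point hF.cd hfr.iso_q
  obtain ⟨w, hw, ew⟩ := T.exists_point hF.cd hfr.iso_g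
  have hc'z : Commute c' z := (T.comm_iff hc' hF.nc.symm).2 (by
    rw [ec', h1]; exact (tv_comm_iff cardK hfr.iso_q hq1).2 hfr.pq)
  have hwz : Commute w z := (T.comm_iff hw hF.nc.symm).2 (by
    rw [ew, h1]; exact (tv_comm_iff cardK hfr.iso_g hq1).2 hfr.pg)
  have hwc' : ¬ Commute w c' := fun hh => one_ne_zero (α := K) (by
    rw [T.comm_iff hw hc', ew, ec', tv_comm_iff cardK hfr.iso_g hfr.iso_q, hfr.qg] at hh
    exact hh)
  have hc'd : Commute c' d := (T.comm_iff hc' hF.cd).2 (by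
    rw [ec', h2]
    refine (tv_comm_iff cardK hfr.iso_q hq2).2 ?_
    have := hfr.fq
    rw [sl] at this
    exact (mul_eq_zero.1 this).resolve_left hm0)
  have nz : ∀ {x}, x ∈ Dset c → Commute x z → x ≠ z → Near z x := fun {x} hx hxz hne' =>
    ⟨(Dset_eq hF.nc.mem) ▸ hx, hxz, hne'⟩
  have hc'ne : c' ≠ z := fun e => hwc' (e ▸ hwz)
  have hc'zN : Near z c' := nz hc'.mem hc'z hc'ne
  have hwne : w ≠ z := fun e => hwc' (e ▸ hc'z.symm)
  have hwN : Near z w := nz hw.mem hwz hwne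
  have hF' : Far z c' d := by
    refine ⟨hc'zN, ⟨?_, hc'd.symm, fun e => hF.far (e ▸ hc'z)⟩, hF.far⟩
    rw [Dset_eq hc'.mem]
    exact hF.cd.mem
  obtain ⟨p, hp, hpc⟩ := S.near_mem_tvs hF.nc
  obtain ⟨p', hp', hpc'⟩ := S.near_mem_tvs hc'zN
  have hne2 : S.φ c' ≠ S.φ c := by
    intro e
    have h3 := (S.comm_iff hwN hF.nc).1 hw.comm
    rw [← e] at h3
    exact hwc' ((S.comm_iff hwN hc'zN).2 h3)
  have hop : OrthPair p p' := by
    refine ⟨hp, hp', ?_, fun a e => ?_⟩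
    · have h3 := (S.comm_iff hc'zN hF.nc).1 hc'.comm
      rw [hpc', hpc] at h3
      exact (tv_comm_iff cardK hp' hp).1 h3
    · by_cases ha : a = 0
      · exact hp'.1 (by rw [e, ha, zero_smul])
      · exact hne2 (by rw [hpc', hpc, e]; exact tv_smul cardK hp ha)
  have htop : H = ⊤ := gen_top H hop (fun k hk => stab c hF k (hpc ▸ hk))
    (fun k hk => stab c' hF' k (hpc' ▸ hk))
  have hall : ∀ k : U4, ∃ h, Commute h z ∧ Commute h d ∧ S.φ h = k := fun k =>
    (memH k).1 (htop ▸ Subgroup.mem_top k)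
  refine ⟨hall, ?_⟩
  rw [← card_SU4]
  refine Nat.card_eq_of_bijective
    (fun h : ↥(Subgroup.centralizer ({z} : Set L) ⊓ Subgroup.centralizer ({d} : Set L)) => S.φ h) ⟨?_, ?_⟩
  · intro x y e
    refine Subtype.ext (inv_mul_eq_one.1 ?_)
    exact S.far_J T hF ((S.φ_eq_iff (mem_cent.1 x.2.1) (mem_cent.1 y.2.1)).1 e)
      ((mem_cent.1 x.2.2).inv_left.mul_left (mem_cent.1 y.2.2))
  · intro k
    obtain ⟨h, h1, h2, rfl⟩ := hall k
    exact ⟨⟨h, mem_cent.2 h1, mem_cent.2 h2⟩, rfl⟩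

omit T

theorem common_point (hF : Far z c d) {t : U4} (ht : t ∈ tvs) :
    ∃ x, Near z x ∧ Commute x d ∧ S.φ x = t := by
  obtain ⟨T⟩ := S.exists_setup hF.nc.mem
  obtain ⟨q, hq, rfl⟩ := ht
  obtain ⟨p, hp, hpc⟩ := S.near_mem_tvs hF.nc
  obtain ⟨k, hk⟩ := exists_act cardK (by norm_num) hp hq
  obtain ⟨h, h1, h2, rfl⟩ := (S.pair_group T hF).1 k
  refine ⟨h * c * h⁻¹, S.near_conj h1 hF.nc,
    (h2.mul_left hF.cd.comm.symm).mul_left h2.inv_left, ?_⟩
  rw [S.φ_conj h1 hF.nc.comm, hpc, tv_conj_inv cardK _ hp.2, hk]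

theorem far_of_mem {x : L} (hx : x ∈ Om z) (h : ¬ Commute x z) : ∃ c, Far z c x := by
  obtain ⟨hD, c, hc, hcz, hcx⟩ := hx
  have h1 : c ≠ z := fun e => h (e ▸ hcx).symm
  exact ⟨c, ⟨hc, hcz, h1⟩, ⟨by rw [Dset_eq hc]; exact hD, hcx.symm, fun e => h (e ▸ hcz)⟩, h⟩

theorem om_closed {x y : L} (hx : x ∈ Om z) (hy : y ∈ Dset z) (hyx : Commute y x) : y ∈ Om z := by
  by_cases hxz : Commute x z
  · exact ⟨hy, x, hx.1, hxz, hyx.symm⟩
  obtain ⟨c, hF⟩ := S.far_of_mem hx hxz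
  by_cases hne : y = x
  · exact hne ▸ hx
  obtain ⟨U⟩ := S.exists_setup hx.1
  have hn : Near x y := ⟨by rw [Dset_eq hx.1]; exact hy, hyx, hne⟩
  obtain ⟨e, he, hez, heq⟩ := U.common_point hF.symm (U.near_mem_tvs hn)
  refine ⟨hy, e, (Dset_eq hx.1) ▸ he.mem, hez, ?_⟩
  refine (U.comm_iff he hn).2 ?_
  rw [heq]

theorem om_eq {x : L} (hx : x ∈ Om z) : Om x = Om z := by
  obtain ⟨U⟩ := S.exists_setup hx.1
  have hD : Dset x = Dset z := Dset_eq hx.1
  have key : ∀ {z x : L}, Setup z → x ∈ Om z → Om x ⊆ Om z := by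
    rintro z x S hx y ⟨hy, c, hc, hcx, hcy⟩
    have hD : Dset x = Dset z := Dset_eq hx.1
    rw [hD] at hy hc
    exact S.om_closed (S.om_closed hx hc hcx) hy hcy.symm
  refine Set.Subset.antisymm (key S hx) (key U ?_)
  obtain ⟨-, c, hc, hcz, hcx⟩ := hx
  exact ⟨hD.symm ▸ self_mem, c, hD.symm ▸ hc, hcx, hcz⟩

theorem om_trans {x y : L} (hx : x ∈ Om z) (hy : y ∈ Om z) :
    Commute x y ∨ (x * y) ^ 3 = 1 := by
  obtain ⟨U⟩ := S.exists_setup hx.1
  rw [← S.om_eq hx] at hy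
  by_cases h : Commute y x
  · exact Or.inl h.symm
  obtain ⟨c, hF⟩ := U.far_of_mem hy h
  obtain ⟨T⟩ := U.exists_setup hF.nc.mem
  exact Or.inr (T.braid_orderOf hF.nc.symm hF.cd fun e => h e.symm)

theorem om_card (hN : Near z c) : (Om z).ncard = 693 := by
  classical
  set P := {x | Near z x} with hP
  set D2 := {x | x ∈ Om z ∧ ¬ Commute x z} with hD2
  have hunion : Om z = ({z} ∪ P) ∪ D2 := by
    ext x
    constructor
    · intro hx
      by_cases hxz : Commute x z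
      · by_cases e : x = z
        exacts [Or.inl (Or.inl e), Or.inl (Or.inr ⟨hx.1, hxz, e⟩)]
      · exact Or.inr ⟨hx, hxz⟩
    · rintro ((rfl | hx) | hx)
      exacts [self_mem_Om _, ⟨hx.mem, z, self_mem, Commute.refl z, hx.comm.symm⟩, hx.1]
  have hd1 : Disjoint ({z} : Set L) P := Set.disjoint_singleton_left.2 fun h => h.ne rfl
  have hd2 : Disjoint ({z} ∪ P) D2 := by
    rw [Set.disjoint_left]
    rintro x (rfl | hx) h2
    exacts [h2.2 (Commute.refl _), h2.2 hx.comm]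
  rw [hunion, Set.ncard_union_eq hd2, Set.ncard_union_eq hd1, Set.ncard_singleton, S.near_card hN]
  suffices D2.ncard = 512 by omega
  have hlow : ∀ d ∈ D2, 512 ≤ D2.ncard ∧ 45 ≤ {x | Near z x ∧ Commute x d}.ncard := by
    intro d hd
    obtain ⟨c, hF⟩ := S.far_of_mem hd.1 hd.2
    obtain ⟨T⟩ := S.exists_setup hF.nc.mem
    refine ⟨?_, ?_⟩
    · have h := orbit_mul (Subgroup.centralizer ({z} : Set L)) d
      rw [(S.pair_group T hF).2, S.card_cent] at h
      have hsub : {y | ∃ g ∈ Subgroup.centralizer ({z} : Set L), g * d * g⁻¹ = y} ⊆ D2 := by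
        rintro _ ⟨g, hg, rfl⟩
        have hgz := mem_cent.1 hg
        refine ⟨⟨Dset_conj g hd.1.1, g * c * g⁻¹, Dset_conj g hF.nc.mem,
          (S.near_conj hgz hF.nc).comm, commute_conj g hF.cd.comm.symm⟩, fun e => hd.2 ?_⟩
        have := commute_conj g⁻¹ e
        rwa [show g⁻¹ * (g * d * g⁻¹) * g⁻¹⁻¹ = d by group,
          show g⁻¹ * z * g⁻¹⁻¹ = z by rw [hgz.inv_left.eq]; group] at this
      have := Set.ncard_le_ncard hsub (Set.toFinite _)
      omega
    · rw [← card_tvs]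
      refine le_trans (Set.ncard_le_ncard (t := S.φ '' {x | Near z x ∧ Commute x d}) ?_ (Set.toFinite _))
        (Set.ncard_image_le (Set.toFinite _))
      intro t ht
      obtain ⟨x, hx, hxd, e⟩ := S.common_point hF ht
      exact ⟨x, ⟨hx, hxd⟩, e⟩
  -- pairs
  set Z := {q : L × L | Near z q.1 ∧ Near q.1 q.2 ∧ ¬ Commute q.2 z} with hZ
  have hfst : ∀ x ∈ P, {q : L × L | q.1 = x ∧ (Near z q.1 ∧ Near q.1 q.2 ∧ ¬ Commute q.2 z)}.ncard = 128 := by
    intro x hx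
    obtain ⟨T⟩ := S.exists_setup hx.mem
    obtain ⟨q1, hq1, e⟩ := T.near_mem_tvs hx.symm
    have h3 := T.near_fibres hx.symm {t ∈ tvs | ¬ Commute t (T.φ z)} (fun t ht => ht.1)
    rw [e, card_tvs_apart hq1] at h3
    rw [show (128 : ℕ) = 32 * 4 from rfl, ← h3,
      ← Set.ncard_image_of_injective {y | Near x y ∧ T.φ y ∈ _} (f := fun y => (x, y)) fun a b e => congrArg Prod.snd e]
    congr 1
    ext ⟨u, v⟩
    constructor
    · rintro ⟨rfl, -, hv, hvz⟩
      refine ⟨v, ⟨hv, T.near_mem_tvs hv, ?_⟩, rfl⟩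
      rwa [← e, ← T.comm_iff hv hx.symm]
    · rintro ⟨y, ⟨hy, -, hyc⟩, e'⟩
      obtain ⟨rfl, rfl⟩ := Prod.ext_iff.1 e'
      rw [← e, ← T.comm_iff hy hx.symm] at hyc
      exact ⟨rfl, hx, hy, hyc⟩
  have hcount := M22Cover.ncard_fibres (Prod.fst : L × L → L) (fun q => Near z q.1 ∧ Near q.1 q.2 ∧ ¬ Commute q.2 z)
    P 128 hfst
  have hsame : {q : L × L | q.1 ∈ P ∧ (Near z q.1 ∧ Near q.1 q.2 ∧ ¬ Commute q.2 z)} = Z :=
    Set.ext fun q => ⟨fun h => h.2, fun h => ⟨h.1, h⟩⟩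
  rw [hsame, S.near_card hN] at hcount
  have hzf : D2.ncard * 45 ≤ Z.ncard := by
    refine mul_le_ncard Prod.snd fun d hd => ?_
    refine le_trans (hlow d hd).2 ?_
    rw [← Set.ncard_image_of_injective {x | Near z x ∧ Commute x d} (f := fun x => (x, d))
      fun a b e => congrArg Prod.fst e]
    refine Set.ncard_le_ncard ?_ (Set.toFinite _)
    rintro _ ⟨x, ⟨hx, hxd⟩, rfl⟩
    refine ⟨⟨hx, ⟨by rw [Dset_eq hx.mem]; exact hd.1.1, hxd.symm, fun e => ?_⟩, hd.2⟩, rfl⟩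
    change d = x at e
    subst e
    exact hd.2 hx.comm
  have hne : D2.Nonempty := by
    by_contra h0
    have hz0 : Z.ncard = 0 := by
      rw [Set.ncard_eq_zero]
      refine Set.eq_empty_of_forall_notMem fun q hq => ?_
      exact h0 ⟨q.2, ⟨(Dset_eq hq.1.mem) ▸ hq.2.1.mem, q.1, hq.1.mem, hq.1.comm, hq.2.1.comm.symm⟩, hq.2.2⟩
    omega
  obtain ⟨d, hd⟩ := hne
  have := (hlow d hd).1
  omega

end Setup

end Cfsg.Agent.U62Rec
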