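/-
The stabiliser of the component is PSU(6,2), the component being the class of transvections.

* `Setup.stab`, `Setup.stab_card`, `Setup.mem_om_of_stab`, `Setup.closure_om`;
* `Setup.exists_psu` : an isomorphism with PSU(6,2) taking the component to the transvection images.
-/
import Cfsg.Agent.Lib.U62Rec.Component
import Cfsg.Agent.Lib.FischerPolar.FromPre
import Cfsg.Agent.Lib.Unitary.Commutator
import Cfsg.Agent.Lib.U62Base.Basic

set_option autoImplicit false

namespace Cfsg.Agent.U62Rec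

open Cfsg.Agent.ThreeTransSU Cfsg.Agent.U62Cover

universe u

theorem U4_perfect : commutator U4 = ⊤ := Unitary.commutator_SU_eq_top (card_sq cardK) (Or.inl le_rfl)

theorem psu_dim {n : ℕ} (hn : 4 ≤ n) (h : Nat.card (Cfsg.PSU n K 2) = 9196830720) : n = 6 := by
  have e := Unitary.card_PSU (q := 2) (card_sq cardK) (n := n) (by omega)
  have hg : Nat.gcd n (2 + 1) ≤ 3 := Nat.gcd_le_right _ (by norm_num)
  have hprod : 1 ≤ ∏ i ∈ Finset.range n, (if Even i then 2 ^ (i + 1) + 1 else 2 ^ (i + 1) - 1) := by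
    refine Finset.one_le_prod fun i _ => ?_
    split
    · exact Nat.le_add_left 1 _
    · have : 2 ≤ 2 ^ (i + 1) := by
        rw [pow_succ]; have := Nat.one_le_two_pow (n := i); omega
      omega
  rcases Nat.lt_or_ge n 7 with h7 | h7
  · interval_cases n
    · exfalso; rw [h] at e; simp [Finset.prod_range_succ, Nat.even_iff] at e
    · exfalso; rw [h] at e; simp [Finset.prod_range_succ, Nat.even_iff] at e
    · rfl
  · exfalso
    have hdvd : 2 ^ (n * (n - 1) / 2) ∣ Nat.gcd n (2 + 1) * ((2 + 1) * 9196830720) := h ▸ ⟨_, e⟩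
    have h17 : 2 ^ 17 ∣ 2 ^ (n * (n - 1) / 2) := by
      refine pow_dvd_pow 2 ?_
      have : 7 * 6 ≤ n * (n - 1) := Nat.mul_le_mul h7 (by omega)
      omega
    have := h17.trans hdvd
    interval_cases hg' : Nat.gcd n (2 + 1) <;> norm_num at this
    exact absurd (Nat.gcd_pos_of_pos_right n (show 0 < 2 + 1 by norm_num)) (by omega)

variable {L : Type u} [Group L] [Finite L] {z : L}

theorem Om_conj (g : L) {x : L} (hx : x ∈ Om z) : g * x * g⁻¹ ∈ Om (g * z * g⁻¹) := by
  obtain ⟨⟨k, rfl⟩, c, ⟨m, rfl⟩, h1, h2⟩ := hx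
  exact ⟨⟨g * k * g⁻¹, by group⟩, g * (m * z * m⁻¹) * g⁻¹, ⟨g * m * g⁻¹, by group⟩, commute_conj g h1,
    commute_conj g h2⟩

theorem near_mem_om {a : L} (h : Near z a) : a ∈ Om z :=
  ⟨h.mem, z, Setup.self_mem, Commute.refl z, h.comm.symm⟩

namespace Setup

variable (S : Setup z)

/-- The stabiliser of the component. -/
def stab : Subgroup L where
  carrier := {g | g * z * g⁻¹ ∈ Om z}
  one_mem' := by simpa using self_mem_Om z
  mul_mem' := by
    intro g h hg hh
    have := Om_conj g hh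
    rw [S.om_eq hg] at this
    simpa [mul_assoc] using this
  inv_mem' := by
    intro g hg
    have h1 : z ∈ Om (g * z * g⁻¹) := by rw [S.om_eq hg]; exact self_mem_Om z
    have h2 := Om_conj g⁻¹ h1
    rw [show g⁻¹ * (g * z * g⁻¹) * g⁻¹⁻¹ = z by group] at h2
    exact h2

theorem mem_stab {g : L} : g ∈ S.stab ↔ g * z * g⁻¹ ∈ Om z := Iff.rfl

include S

theorem stab_conj {g x : L} (hg : g ∈ S.stab) (hx : x ∈ Om z) : g * x * g⁻¹ ∈ Om z := by
  have := Om_conj g hx
  rwa [S.om_eq (S.mem_stab.1 hg)] at this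

theorem cent_le_stab : Subgroup.centralizer ({z} : Set L) ≤ S.stab := fun g hg => by
  rw [S.mem_stab, (mem_cent.1 hg).eq, mul_inv_cancel_right]
  exact self_mem_Om z

theorem om_le_stab {x : L} (hx : x ∈ Om z) : x ∈ S.stab := by
  rw [S.mem_stab]
  obtain ⟨U⟩ := S.exists_setup hx.1
  have h1 : z ∈ Om x := by rw [S.om_eq hx]; exact self_mem_Om z
  have h2 := Om_conj x h1
  rw [mul_inv_cancel_right] at h2
  rwa [S.om_eq hx] at h2

theorem stab_orbit : {y | ∃ g ∈ S.stab, g * z * g⁻¹ = y} = Om z := by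
  ext y
  constructor
  · rintro ⟨g, hg, rfl⟩; exact hg
  · intro hy
    obtain ⟨g, rfl⟩ := hy.1
    exact ⟨g, hy, rfl⟩

theorem stab_card {c : L} (hN : Near z c) : Nat.card ↥S.stab = 9196830720 := by
  have h := orbit_mul S.stab z
  rw [inf_eq_right.2 S.cent_le_stab, S.stab_orbit, S.om_card hN, S.card_cent] at h
  omega

theorem mem_om_of_stab {c e : L} (hN : Near z c) (he : e ∈ Dset z) (hs : e ∈ S.stab) : e ∈ Om z := by
  classical
  by_contra h
  refine absurd (even_card (f := fun x => e * x * e⁻¹) (s := Om z) (fun x hx => S.stab_conj hs hx)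
    (fun x hx hfix => h (S.om_closed hx he (mul_inv_eq_iff_eq_mul.1 hfix))) fun x _ => ?_) ?_
  · show e * (e * x * e⁻¹) * e⁻¹ = x
    rw [S.D_inv he, ← mul_assoc, ← mul_assoc, S.D_sq he, one_mul, mul_assoc, S.D_sq he, mul_one]
  · rw [S.om_card hN]
    decide
where
  even_card {f : L → L} {s : Set L} (hmem : ∀ x ∈ s, f x ∈ s) (hne : ∀ x ∈ s, f x ≠ x)
      (hinv : ∀ x ∈ s, f (f x) = x) : Even s.ncard :=
    ThreeTrans.Polar.even_ncard (Set.toFinite s) f hmem hne hinv

theorem not_central : ∃ i ∈ S.J, ∃ j ∈ S.J, ¬ Commute i j := by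
  obtain ⟨q, f, g, h⟩ := exists_frame_one std_pair.1
  obtain ⟨w, -, -, hw⟩ := k_omega
  obtain ⟨i, hi, hiv⟩ := S.vec_surj (w • f)
  obtain ⟨j, hj, hjv⟩ := S.vec_surj p₀
  refine ⟨i, hi, j, hj, fun hc => ?_⟩
  rw [S.commute_iff hi hj, hiv, hjv, B, sl, h.fp, mul_one, hw, ← add_assoc, k_add_self, zero_add] at hc
  exact one_ne_zero hc

theorem J_le_closure {c : L} (hN : Near z c) : S.J ≤ Subgroup.closure {a | Near z a} := by
  set N := Subgroup.closure {a | Near z a} with hNdef
  -- the displacements lie in it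
  have hcp : ∀ p, Iso p → ∀ s : K, ∃ e ∈ N, e ∈ S.J ∧ S.vec e = s • p := by
    intro p hp s
    obtain ⟨a, ha, hap⟩ := S.exists_point hN hp
    obtain ⟨q, f, g, h⟩ := exists_frame_one hp
    obtain ⟨j, hj, hjv⟩ := S.vec_surj (s • f)
    obtain ⟨hm, hv⟩ := S.dd_mem ha hj
    refine ⟨S.dd a j, ?_, hm, by rw [hv, hap, hjv, R_one hp, sl, h.fp, mul_one]⟩
    exact mul_mem (Subgroup.subset_closure (S.near_conj (S.J_le j hj) ha))
      (Subgroup.subset_closure ha)
  obtain ⟨q, f, g, h⟩ := exists_frame_one std_pair.1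
  have hall : ∀ x : V4, ∃ e ∈ N, e ∈ S.J ∧ S.vec e = x := by
    intro x
    obtain ⟨e1, n1, j1, v1⟩ := hcp _ h.iso_p (hf x f)
    obtain ⟨e2, n2, j2, v2⟩ := hcp _ h.iso_q (hf x g)
    obtain ⟨e3, n3, j3, v3⟩ := hcp _ h.iso_f (hf x p₀)
    obtain ⟨e4, n4, j4, v4⟩ := hcp _ h.iso_g (hf x q)
    refine ⟨e1 * e2 * e3 * e4, mul_mem (mul_mem (mul_mem n1 n2) n3) n4, mul_mem (mul_mem (mul_mem j1 j2) j3) j4, ?_⟩
    rw [S.vec_mul _ (mul_mem (mul_mem j1 j2) j3) _ j4, S.vec_mul _ (mul_mem j1 j2) _ j3,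
      S.vec_mul _ j1 _ j2, v1, v2, v3, v4, ← h.expand x]
  have hz : z ∈ N := by
    obtain ⟨i, hi, j, hj, hne⟩ := S.not_central
    obtain ⟨i', ni, ji, vi⟩ := hall (S.vec i)
    obtain ⟨j', nj, jj, vj⟩ := hall (S.vec j)
    have hne' : ¬ Commute i' j' := by
      rw [S.commute_iff ji jj, vi, vj, ← S.commute_iff hi hj]; exact hne
    have hm := mul_mem (mul_mem ni nj) (mul_mem (inv_mem ni) (inv_mem nj))
    have h0 : S.vec (i' * j' * (i'⁻¹ * j'⁻¹)) = 0 := by
      rw [S.vec_mul _ (mul_mem ji jj) _ (mul_mem (inv_mem ji) (inv_mem jj)), S.vec_mul _ ji _ jj,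
        S.vec_mul _ (inv_mem ji) _ (inv_mem jj), S.vec_inv ji, S.vec_inv jj, vv]
    rcases S.vec_ker _ (mul_mem (mul_mem ji jj) (mul_mem (inv_mem ji) (inv_mem jj))) h0 with e | e
    · refine absurd ?_ hne'
      show i' * j' = j' * i'
      rw [mul_eq_one_iff_eq_inv] at e
      simpa [mul_inv_rev] using e
    · rwa [e] at hm
  intro j hj
  obtain ⟨e, ne', je, ve⟩ := hall (S.vec j)
  rcases S.vec_eq_cases hj je ve.symm with rfl | rfl
  exacts [ne', mul_mem hz ne']

theorem far_both {c : L} (hN : Near z c) : ∃ d ∈ Om z, ¬ Commute d z ∧ ¬ Commute d c := by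
  classical
  obtain ⟨T⟩ := S.exists_setup hN.mem
  by_contra h
  have hsub : Om z ⊆ ({z} ∪ {x | Near z x}) ∪ ({c} ∪ {x | Near c x}) := by
    intro x hx
    by_cases h1 : Commute x z
    · exact Or.inl (if e : x = z then Or.inl e else Or.inr ⟨hx.1, h1, e⟩)
    · have h2 : Commute x c := by
        by_contra h2
        exact h ⟨x, hx, h1, h2⟩
      exact Or.inr (if e : x = c then Or.inl e else Or.inr ⟨by rw [Dset_eq hN.mem]; exact hx.1, h2, e⟩)
  have h1 := Set.ncard_le_ncard hsub (Set.toFinite _)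
  rw [S.om_card hN] at h1
  have h2 := Set.ncard_union_le ({z} : Set L) {x | Near z x}
  have h3 := Set.ncard_union_le ({c} : Set L) {x | Near c x}
  have h4 := Set.ncard_union_le (({z} : Set L) ∪ {x | Near z x}) ({c} ∪ {x | Near c x})
  rw [Set.ncard_singleton, S.near_card hN] at h2
  rw [Set.ncard_singleton, T.near_card hN.symm] at h3
  omega

theorem conj_of_far {x y : L} (hx : x ∈ Om z) (hy : y ∈ Om z) (h : ¬ Commute x y) :
    x * y * x * (x * y)⁻¹ = y := by
  have h3 : (x * y) ^ 3 = 1 := (S.om_trans hx hy).resolve_left h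
  have e : x * y * x = y * x * y := by
    have e2 : (x * y * x) * (y * x * y) = 1 := by rw [← h3]; simp [pow_succ, mul_assoc]
    rw [← inv_eq_of_mul_eq_one_right e2]
    simp only [mul_inv_rev, S.D_inv hx.1, S.D_inv hy.1, mul_assoc]
  rw [e, mul_inv_rev, S.D_inv hx.1, S.D_inv hy.1]
  simp only [mul_assoc]
  rw [← mul_assoc y y, S.D_sq hy.1, one_mul, S.D_sq hx.1, mul_one]

theorem closure_om {c : L} (hN : Near z c) : Subgroup.closure (Om z) = S.stab := by
  classical
  set H0 := Subgroup.closure (Om z) with hH0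
  have hle : H0 ≤ S.stab := (Subgroup.closure_le _).2 fun x hx => S.om_le_stab hx
  refine le_antisymm hle fun g hg => ?_
  have hJ : S.J ≤ H0 := (S.J_le_closure hN).trans (Subgroup.closure_mono fun a ha => near_mem_om ha)
  have hC : ∀ h, Commute h z → h ∈ H0 := by
    intro h hh
    have hmap : tvs ⊆ ↑((H0.subgroupOf (Subgroup.centralizer ({z} : Set L))).map S.hom) := by
      rintro _ ⟨p, hp, rfl⟩
      obtain ⟨a, ha, hap⟩ := S.exists_point hN hp
      exact ⟨⟨a, mem_cent.2 ha.comm⟩, Subgroup.subset_closure (near_mem_om ha), hap⟩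
    rw [← Subgroup.closure_le, closure_tvs] at hmap
    obtain ⟨⟨k, hkz⟩, hk, e⟩ := hmap (Subgroup.mem_top (S.φ h))
    have hj := hJ ((S.φ_eq_iff (mem_cent.1 hkz) hh).1 e)
    have := mul_mem (show k ∈ H0 from hk) hj
    rwa [mul_inv_cancel_left] at this
  have hfar : ∀ x ∈ Om z, ¬ Commute z x → ∃ k ∈ H0, k * z * k⁻¹ = x := fun x hx h =>
    ⟨z * x, mul_mem (Subgroup.subset_closure (self_mem_Om z)) (Subgroup.subset_closure hx),
      S.conj_of_far (self_mem_Om z) hx h⟩
  have htr : ∀ x ∈ Om z, ∃ k ∈ H0, k * z * k⁻¹ = x := by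
    intro x hx
    by_cases hxz : Commute z x
    · by_cases e : x = z
      · exact ⟨1, one_mem _, by rw [e]; group⟩
      · obtain ⟨d, hd, h1, h2⟩ := S.far_both ⟨hx.1, hxz.symm, e⟩
        obtain ⟨k, hk, ek⟩ := hfar d hd fun h => h1 h.symm
        refine ⟨d * x * k, mul_mem (mul_mem (Subgroup.subset_closure hd) (Subgroup.subset_closure hx)) hk, ?_⟩
        rw [show d * x * k * z * (d * x * k)⁻¹ = d * x * (k * z * k⁻¹) * (d * x)⁻¹ by group, ek]
        exact S.conj_of_far hd hx h2
    · exact hfar x hx hxz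
  obtain ⟨k, hk, e⟩ := htr _ hg
  have : Commute (k⁻¹ * g) z := by
    show k⁻¹ * g * z = z * (k⁻¹ * g)
    calc k⁻¹ * g * z = k⁻¹ * (g * z * g⁻¹) * g := by group
      _ = z * (k⁻¹ * g) := by rw [← e]; group
  have := mul_mem hk (hC _ this)
  rwa [mul_inv_cancel_left] at this

/-- The class inside the stabiliser. -/
def D0 : Set ↥S.stab := {x | (x : L) ∈ Om z}

/-- `z` inside the stabiliser. -/
def z0 : ↥S.stab := ⟨z, S.om_le_stab (self_mem_Om z)⟩

theorem class0 {c : L} (hN : Near z c) : Cfsg.IsThreeTranspositionClass S.D0 := by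
  refine ⟨⟨fun d hd => ?_, fun d hd e he => ?_⟩, ⟨S.z0, self_mem_Om z, ?_⟩, ?_⟩
  · rw [← Subgroup.orderOf_coe]
    refine orderOf_eq_prime ?_ (S.D_ne_one hd.1)
    rw [pow_two]; exact S.D_sq hd.1
  · rcases S.om_trans hd he with h | h
    · refine Or.inl (Subtype.ext ?_)
      push_cast
      rw [pow_two]
      calc (d : L) * e * (d * e) = d * (e * d) * e := by group
        _ = (d : L) * d * (e * e) := by rw [← h.eq]; group
        _ = 1 := by rw [S.D_sq hd.1, S.D_sq he.1, mul_one]
    · exact Or.inr (Subtype.ext (by push_cast; exact h))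
  · ext x
    rw [conjugatesOf, Set.mem_ofPred_eq, isConj_iff]
    constructor
    · intro hx
      obtain ⟨g, hg⟩ := (show (x : L) ∈ Om z from hx).1
      exact ⟨⟨g, by rw [S.mem_stab, hg]; exact hx⟩, Subtype.ext hg⟩
    · rintro ⟨g, rfl⟩
      exact S.stab_conj g.2 (self_mem_Om z)
  · rw [eq_top_iff]
    rintro ⟨x, hx⟩ -
    have h1 : x ∈ (Subgroup.closure S.D0).map S.stab.subtype := by
      rw [MonoidHom.map_closure]
      have : S.stab.subtype '' S.D0 = Om z := Set.ext fun y =>
        ⟨fun ⟨a, ha, e⟩ => e ▸ ha, fun hy => ⟨⟨y, S.om_le_stab hy⟩, hy, rfl⟩⟩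
      rw [this, S.closure_om hN]
      exact hx
    obtain ⟨y, hy, e⟩ := h1
    rwa [show (⟨x, hx⟩ : S.stab) = y from Subtype.ext e.symm]

theorem radical0 {c : L} (hN : Near z c) : ThreeTransRank.TrivialRadical ↥S.stab := by
  classical
  intro N hN' hsol
  by_contra hne
  have hgen := (S.class0 hN).2.2
  -- a product of two members
  have hpair : ∃ x y : ↥S.stab, x ∈ S.D0 ∧ y ∈ S.D0 ∧ x ≠ y ∧ x * y ∈ N := by
    obtain ⟨⟨n, hn⟩, hn1⟩ := (Subgroup.ne_bot_iff_exists_ne_one.1 hne)
    by_contra hall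
    have hcent : ∀ d ∈ S.D0, Commute (n : ↥S.stab) d := by
      intro d hd
      by_contra hnc
      refine hall ⟨n * d * (n : ↥S.stab)⁻¹, d, S.stab_conj (n : ↥S.stab).2 hd, hd,
        fun e => hnc (mul_inv_eq_iff_eq_mul.1 e), ?_⟩
      have hdd : d⁻¹ = d := Subtype.ext (S.D_inv hd.1)
      have := mul_mem hn (hN'.conj_mem _ (inv_mem hn) d)
      rw [hdd] at this
      simpa [mul_assoc] using this
    have hnz : Commute ((n : ↥S.stab) : L) z := congrArg Subtype.val (hcent S.z0 (self_mem_Om z)).eq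
    have hφ : ∀ t ∈ tvs, Commute (S.φ ((n : ↥S.stab) : L)) t := by
      rintro _ ⟨p, hp, rfl⟩
      obtain ⟨a, ha, hap⟩ := S.exists_point hN hp
      have h1 : Commute ((n : ↥S.stab) : L) a :=
        congrArg Subtype.val (hcent ⟨a, S.om_le_stab (near_mem_om ha)⟩ (near_mem_om ha)).eq
      show _ * _ = _ * _
      rw [← hap, ← S.φ_mul _ _ hnz ha.comm, ← S.φ_mul _ _ ha.comm hnz, h1.eq]
    have hc1 : S.φ ((n : ↥S.stab) : L) ∈ Subgroup.center U4 := by
      rw [Subgroup.mem_center_iff]
      intro k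
      have hk : k ∈ Subgroup.closure tvs := closure_tvs ▸ Subgroup.mem_top k
      refine Commute.eq ?_
      induction hk using Subgroup.closure_induction with
      | mem x hx => exact (hφ x hx).symm
      | one => exact Commute.one_left _
      | mul x y _ _ hx hy => exact hx.mul_left hy
      | inv x _ hx => exact hx.inv_left
    have hbot : Subgroup.center U4 = ⊥ := by
      refine Subgroup.card_eq_one.1 ?_
      rw [Unitary.card_center_SU (card_sq cardK) (by norm_num)]
      rfl
    have hnJ : ((n : ↥S.stab) : L) ∈ S.J := (S.φ_ker _ hnz).1 (by rw [hbot] at hc1; exact hc1)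
    have hzero : S.vec ((n : ↥S.stab) : L) = 0 := by
      refine Unitary.hermForm_nondeg (card_sq cardK) 4 _ fun x => ?_
      refine trace_all fun k => ?_
      obtain ⟨y, hy, hyv⟩ := S.vec_surj ((k ^ 2) • x)
      have hyS : y ∈ S.stab := S.cent_le_stab (mem_cent.2 (S.J_le y hy))
      have hk : (⟨y, hyS⟩ : ↥S.stab) ∈ Subgroup.closure S.D0 := hgen ▸ Subgroup.mem_top _
      have hcy : Commute (n : ↥S.stab) ⟨y, hyS⟩ := by
        generalize (⟨y, hyS⟩ : ↥S.stab) = w at hk
        induction hk using Subgroup.closure_induction with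
        | mem x hx => exact hcent x hx
        | one => exact Commute.one_right _
        | mul x y _ _ hx hy => exact hx.mul_right hy
        | inv x _ hx => exact hx.inv_right
      have h4 := (S.commute_iff hnJ hy).1 (congrArg Subtype.val hcy.eq)
      rw [hyv, B, sr, k_sq_sq] at h4
      exact h4
    rcases S.vec_ker _ hnJ hzero with e | e
    · exact hn1 (Subtype.ext (Subtype.ext e))
    · obtain ⟨d, hd, h1, -⟩ := S.far_both hN
      refine h1 ?_
      have := congrArg Subtype.val (hcent ⟨d, S.om_le_stab hd⟩ hd).eq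
      change ((n : ↥S.stab) : L) * d = d * ((n : ↥S.stab) : L) at this
      rw [e] at this
      exact this.symm
  have hcl := (ThreeTrans.group_of_class (S.class0 hN)).2.1
  have hD := S.D0
  have mul_trans : ∀ x y w : ↥S.stab, y ∈ S.D0 → x * y ∈ N → y * w ∈ N → x * w ∈ N := by
    intro x y w hy h1 h2
    have e : y * y = 1 := Subtype.ext (S.D_sq hy.1)
    have := mul_mem h1 h2
    rwa [mul_assoc, ← mul_assoc y y, e, one_mul] at this
  have toz : ∀ x y : ↥S.stab, x ∈ S.D0 → ∃ g : ↥S.stab, g * x * g⁻¹ = S.z0 := by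
    intro x y hx
    obtain ⟨d, -, hd⟩ := (S.class0 hN).2.1
    rw [hd, conjugatesOf, Set.mem_ofPred_eq] at hx
    have hz0 : S.z0 ∈ S.D0 := self_mem_Om z
    rw [hd, conjugatesOf, Set.mem_ofPred_eq] at hz0
    exact isConj_iff.1 (hx.symm.trans hz0)
  -- all products of two members
  have hall : ∀ x y : ↥S.stab, x ∈ S.D0 → y ∈ S.D0 → x * y ∈ N := by
    obtain ⟨x₀, y₀, hx₀, hy₀, hxy, hxyN⟩ := hpair
    obtain ⟨g₀, hg₀⟩ := toz x₀ y₀ hx₀
    set u := g₀ * y₀ * g₀⁻¹ with hu
    have huD : u ∈ S.D0 := hcl g₀ y₀ hy₀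
    have huN : S.z0 * u ∈ N := by
      have := hN'.conj_mem _ hxyN g₀
      rwa [show g₀ * (x₀ * y₀) * g₀⁻¹ = (g₀ * x₀ * g₀⁻¹) * u by rw [hu]; group, hg₀] at this
    have hune : u ≠ S.z0 := fun e => hxy (by
      rw [hu, ← hg₀] at e
      exact (mul_left_cancel (mul_right_cancel e)).symm)
    have zcase : ∀ w ∈ S.D0, S.z0 * w ∈ N := by
      have move : ∀ w : ↥S.stab, ∀ h : L, Commute h z → h * (u : L) * h⁻¹ = w → S.z0 * w ∈ N := by
        intro w h hh e
        have hhS : h ∈ S.stab := S.cent_le_stab (mem_cent.2 hh)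
        have := hN'.conj_mem _ huN ⟨h, hhS⟩
        rwa [show (⟨h, hhS⟩ : ↥S.stab) * (S.z0 * u) * (⟨h, hhS⟩ : ↥S.stab)⁻¹ = S.z0 * w from Subtype.ext (by
          show h * (z * (u : L)) * h⁻¹ = z * w
          rw [← e, ← mul_assoc, hh.eq]; group)] at this
      by_cases hcu : Commute (u : L) z
      · have hNu : Near z (u : L) := ⟨huD.1, hcu, fun e => hune (Subtype.ext e)⟩
        have hnear : ∀ w : ↥S.stab, Near z (w : L) → S.z0 * w ∈ N := fun w hw => by
          obtain ⟨h, hh, e⟩ := S.near_trans hNu hw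
          exact move w h hh e
        intro w hw
        obtain ⟨-, m, hm, hmz, hmw⟩ := (show (w : L) ∈ Om z from hw)
        by_cases e : m = z
        · subst e
          by_cases e2 : w = S.z0
          · rw [e2, show S.z0 * S.z0 = 1 from Subtype.ext S.sq]; exact one_mem _
          · exact hnear w ⟨hw.1, hmw.symm, fun e3 => e2 (Subtype.ext e3)⟩
        · have hmN : Near z m := ⟨hm, hmz, e⟩
          have hmS := S.om_le_stab (near_mem_om hmN)
          set m0 : ↥S.stab := ⟨m, hmS⟩ with hm0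
          refine mul_trans _ m0 _ (near_mem_om hmN) (hnear m0 hmN) ?_
          by_cases e2 : (w : L) = m
          · rw [show w = m0 from Subtype.ext e2, show m0 * m0 = 1 from Subtype.ext (S.D_sq hm)]; exact one_mem _
          obtain ⟨g, hg⟩ := toz m0 w (near_mem_om hmN)
          have hg' : (g : L) * m * (g : L)⁻¹ = z := congrArg Subtype.val hg
          have := hN'.conj_mem _ (hnear (g * w * g⁻¹) ⟨(hcl g w hw).1, ?_, ?_⟩) g⁻¹
          · rwa [show g⁻¹ * (S.z0 * (g * w * g⁻¹)) * g⁻¹⁻¹ = m0 * w by rw [← hg]; group] at this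
          · have := commute_conj (g : L) hmw.symm
            rw [hg'] at this
            exact this
          · intro e3
            exact e2 (mul_left_cancel (mul_right_cancel (e3.trans hg'.symm)))
      · have hfar : ∀ w : ↥S.stab, w ∈ S.D0 → ¬ Commute (w : L) z → S.z0 * w ∈ N := by
          intro w hw hwz
          obtain ⟨c', hF⟩ := S.far_of_mem huD hcu
          obtain ⟨T⟩ := S.exists_setup hF.nc.mem
          have h := orbit_mul (Subgroup.centralizer ({z} : Set L)) (u : L)
          rw [(S.pair_group T hF).2, S.card_cent] at h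
          have hsub : {y | ∃ g ∈ Subgroup.centralizer ({z} : Set L), g * (u : L) * g⁻¹ = y}
              ⊆ {x | x ∈ Om z ∧ ¬ Commute x z} := by
            rintro _ ⟨g, hg, rfl⟩
            refine ⟨S.stab_conj (S.cent_le_stab hg) huD, fun e => hcu ?_⟩
            have := commute_conj g⁻¹ e
            rwa [show g⁻¹ * (g * (u : L) * g⁻¹) * g⁻¹⁻¹ = u by group,
              show g⁻¹ * z * g⁻¹⁻¹ = z by rw [(mem_cent.1 hg).inv_left.eq]; group] at this
          have hcard : {x | x ∈ Om z ∧ ¬ Commute x z}.ncard ≤ 512 := by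
            have h1 := S.om_card hN
            have h2 := S.near_card hN
            have hu' : {x | x ∈ Om z ∧ ¬ Commute x z} ⊆ Om z \ ({z} ∪ {x | Near z x}) := fun x hx =>
              ⟨hx.1, fun e => hx.2 (e.elim (fun e => by rw [show x = z from e]) fun e => e.comm)⟩
            have h3 := Set.ncard_le_ncard hu' (Set.toFinite _)
            rw [Set.ncard_sdiff ?_ (Set.toFinite _), h1, Set.ncard_union_eq ?_, Set.ncard_singleton, h2] at h3
            · exact h3
            · exact Set.disjoint_singleton_left.2 fun e => e.ne rfl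
            · rintro x (rfl | hx)
              exacts [self_mem_Om _, near_mem_om hx]
          have heq := Set.eq_of_subset_of_ncard_le hsub (by omega) (Set.toFinite _)
          obtain ⟨g, hg, e⟩ : (w : L) ∈ {y | ∃ g ∈ Subgroup.centralizer ({z} : Set L), g * (u : L) * g⁻¹ = y} :=
            heq ▸ ⟨hw, hwz⟩
          exact move w g (mem_cent.1 hg) e
        intro w hw
        by_cases hwz : Commute (w : L) z
        · by_cases e2 : w = S.z0
          · rw [e2, show S.z0 * S.z0 = 1 from Subtype.ext S.sq]; exact one_mem _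
          obtain ⟨d, hd, h1, h2⟩ := S.far_both ⟨hw.1, hwz, fun e3 => e2 (Subtype.ext e3)⟩
          set d0 : ↥S.stab := ⟨d, S.om_le_stab hd⟩ with hd0
          refine mul_trans _ d0 _ hd (hfar d0 hd h1) ?_
          obtain ⟨g, hg⟩ := toz d0 w hd
          have hg' : (g : L) * d * (g : L)⁻¹ = z := congrArg Subtype.val hg
          have := hN'.conj_mem _ (hfar (g * w * g⁻¹) (hcl g w hw) fun e3 => h2 ?_) g⁻¹
          · rwa [show g⁻¹ * (S.z0 * (g * w * g⁻¹)) * g⁻¹⁻¹ = d0 * w by rw [← hg]; group] at this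
          · have e4 : Commute ((g : L) * (w : L) * (g : L)⁻¹) ((g : L) * d * (g : L)⁻¹) := by
              rw [hg']; exact e3
            have := commute_conj (g : L)⁻¹ e4
            simpa [mul_assoc] using this.symm
        · exact hfar w hw hwz
    intro x y hx hy
    obtain ⟨g, hg⟩ := toz x y hx
    have := hN'.conj_mem _ (zcase _ (hcl g y hy)) g⁻¹
    rwa [show g⁻¹ * (S.z0 * (g * y * g⁻¹)) * g⁻¹⁻¹ = x * y by rw [← hg]; group] at this
  -- the quotient is abelian
  haveI := hN'
  have hab : commutator ↥S.stab ≤ N := by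
    rw [← Subgroup.Normal.quotient_commutative_iff_commutator_le]
    have himg : ∀ x : ↥S.stab ⧸ N, x ∈ Subgroup.zpowers (QuotientGroup.mk' N S.z0) := by
      intro x
      obtain ⟨g, rfl⟩ := QuotientGroup.mk'_surjective N x
      have hg : g ∈ Subgroup.closure S.D0 := hgen ▸ Subgroup.mem_top g
      induction hg using Subgroup.closure_induction with
      | mem d hd =>
        have e : QuotientGroup.mk' N d = QuotientGroup.mk' N S.z0 := by
          rw [QuotientGroup.mk'_eq_mk']
          refine ⟨d * S.z0, hall d S.z0 hd (self_mem_Om z), ?_⟩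
          rw [← mul_assoc, show d * d = 1 from Subtype.ext (S.D_sq hd.1), one_mul]
        rw [e]; exact Subgroup.mem_zpowers _
      | one => rw [map_one]; exact one_mem _
      | mul a b _ _ ha hb => rw [map_mul]; exact mul_mem ha hb
      | inv a _ ha => rw [map_inv]; exact inv_mem ha
    exact ⟨⟨fun a b => by
      obtain ⟨i, rfl⟩ := Subgroup.mem_zpowers_iff.1 (himg a)
      obtain ⟨j, rfl⟩ := Subgroup.mem_zpowers_iff.1 (himg b)
      exact (Commute.zpow_zpow_self _ i j).eq⟩⟩
  have : Group.IsSolvable ↥N := hsol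
  have hq : Group.IsSolvable (↥S.stab ⧸ N) :=
    Group.isSolvable_of_comm fun a b =>
      (Subgroup.Normal.quotient_commutative_iff_commutator_le.2 hab).is_comm.comm a b
  have : Group.IsSolvable ↥S.stab :=
    Group.isSolvable_of_ker_le_range N.subtype (QuotientGroup.mk' N) (by simp)
  have hC : Group.IsSolvable ↥(Subgroup.centralizer ({z} : Set L)) :=
    Group.isSolvable_of_isSolvable_injective (f := Subgroup.inclusion S.cent_le_stab) (Subgroup.inclusion_injective _)
  have hU : Group.IsSolvable U4 := Group.isSolvable_of_surjective (f := S.hom) S.hom_surj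
  have : Nontrivial U4 := (Finite.one_lt_card_iff_nontrivial).1 (by rw [card_SU4]; norm_num)
  exact absurd U4_perfect (Group.IsSolvable.commutator_lt_top_of_nontrivial U4).ne

theorem exists_psu {c : L} (hN : Near z c) :
    ∃ e : ↥S.stab ≃* Cfsg.PSU 6 K 2, ∀ x : ↥S.stab, (x : L) ∈ Om z ↔ e x ∈ U62Base.members (F := K) cardK := by
  classical
  have hcls := S.class0 hN
  obtain ⟨T⟩ := S.exists_setup hN.mem
  set c0 : ↥S.stab := ⟨c, S.om_le_stab (near_mem_om hN)⟩ with hc0
  have hc0D : c0 ∈ S.D0 := near_mem_om hN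
  have hconj := (ThreeTrans.group_of_class hcls).2.1
  have hadj : ∀ x ∈ S.D0, (ThreeTrans.adj S.D0 x).Nonempty := fun x hx => by
    refine ThreeTrans.adj_nonempty_all hcls (x := S.z0) (self_mem_Om z) hx ?_
    exact ⟨c0, hc0D, fun e => hN.ne (congrArg Subtype.val e), ThreeTrans.commute_coe_iff.2 hN.comm.symm⟩
  have hpre : ThreeTrans.Polar.Pre S.D0 := by
    refine ⟨hcls, S.radical0 hN, ?_, hadj, ?_⟩
    · intro x hx y hy
      obtain ⟨U⟩ := S.exists_setup (show (x : L) ∈ Om z from hx).1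
      have hy' : (y : L) ∈ Om (x : L) := by rw [S.om_eq hx]; exact hy
      obtain ⟨-, m, hm, hmx, hmy⟩ := hy'
      have hmO : m ∈ Om z := by
        rw [← S.om_eq hx]; exact ⟨hm, (x : L), self_mem, Commute.refl _, hmx.symm⟩
      exact (Relation.ReflTransGen.single (r := fun u v : ↥S.stab => u ∈ S.D0 ∧ v ∈ S.D0 ∧ Commute u v)
        ⟨hx, (show (⟨m, S.om_le_stab hmO⟩ : ↥S.stab) ∈ S.D0 from hmO), ThreeTrans.commute_coe_iff.2 hmx.symm⟩).tail
          ⟨hmO, hy, ThreeTrans.commute_coe_iff.2 hmy⟩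
    · intro x hx hle
      have hx' : (x : L) ∈ Om z := hx
      obtain ⟨U⟩ := S.exists_setup hx'.1
      obtain ⟨y, hy⟩ := hadj x hx
      have hNx : Near (x : L) (y : L) := ⟨by rw [Dset_eq hx'.1]; exact hy.1.1,
        (ThreeTrans.commute_coe_iff.1 hy.2.2).symm, fun e => hy.2.1 (Subtype.ext e)⟩
      obtain ⟨ι, hι⟩ : ∃ ι : ↥(ThreeTrans.Loc S.D0 x) →* L, ι = S.stab.subtype.comp (ThreeTrans.Loc S.D0 x).subtype :=
        ⟨_, rfl⟩
      have hJL : U.J ≤ ι.range := by
        refine (U.J_le_closure hNx).trans ((Subgroup.closure_le _).2 ?_)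
        intro a ha
        have haO : a ∈ Om z := by rw [← S.om_eq hx']; exact near_mem_om ha
        exact ⟨⟨⟨a, S.om_le_stab haO⟩, Subgroup.subset_closure ⟨haO, fun e => ha.ne (congrArg Subtype.val e),
          ThreeTrans.commute_coe_iff.2 ha.comm.symm⟩⟩, by rw [hι]; rfl⟩
      set M := U.J.comap ι with hM
      have hιinj : Function.Injective ι := by
        rw [hι]; exact fun a b e => Subtype.ext (Subtype.ext e)
      have hMn : M.Normal := ⟨fun m hm g => by
        rw [hM, Subgroup.mem_comap, map_mul, map_mul, map_inv]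
        refine (U.vec_conj _ ?_ _ hm).1
        rw [hι]
        exact ThreeTrans.commute_coe_iff.1 (ThreeTrans.commute_of_mem_Loc g.2)⟩
      have hMp : IsPGroup 2 ↥M := by
        have hp : IsPGroup 2 ↥U.J := IsPGroup.of_card (n := 9) (by rw [U.card_J]; norm_num)
        exact hp.comap_of_injective ι hιinj
      have hMle : M ≤ Cfsg.pCore 2 ↥(ThreeTrans.Loc S.D0 x) := le_sSup ⟨hMn, hMp⟩
      obtain ⟨i, hi, j, hj, hne⟩ := U.not_central
      obtain ⟨i', rfl⟩ := hJL hi
      obtain ⟨j', rfl⟩ := hJL hj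
      have hcen := Subgroup.mem_center_iff.1 (hle (hMle (show i' ∈ M from hi))) j'
      exact hne (show ι i' * ι j' = ι j' * ι i' by rw [← map_mul, ← map_mul, hcen])
  have h5 : (ThreeTrans.Polar.pts S.D0 S.z0 c0).ncard = 5 := by
    have e : Subtype.val '' ThreeTrans.Polar.pts S.D0 S.z0 c0 = insert z {x | Near z x ∧ S.φ x = S.φ c} := by
      ext x
      constructor
      · rintro ⟨⟨x, hxS⟩, ⟨⟨hxD, hxz, hxc⟩, hcond⟩, rfl⟩
        rcases hcond with hz | hl
        · exact Or.inl (congrArg Subtype.val hz)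
        by_cases hxne : x = z
        · exact Or.inl hxne
        have hxN : Near z x := ⟨hxD.1, ThreeTrans.commute_coe_iff.1 hxz, hxne⟩
        refine Or.inr ⟨hxN, ?_⟩
        have hxc' : Commute x c := ThreeTrans.commute_coe_iff.1 hxc
        by_contra hφ
        obtain ⟨p, hp, hpc⟩ := S.near_mem_tvs hN
        obtain ⟨r, hr, hrx⟩ := S.near_mem_tvs hxN
        have hpr : hf p r = 0 := by
          have := (S.comm_iff hxN hN).1 hxc'
          rw [hrx, hpc] at this
          exact (tv_comm_iff cardK hr hp).1 this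
        have hop : OrthPair p r := ⟨hp, hr, hpr, fun a e => hφ (by
          by_cases ha : a = 0
          · exact absurd (by rw [e, ha, zero_smul]) hr.1
          · rw [hrx, hpc, e]; exact tv_smul cardK hp ha)⟩
        obtain ⟨w, hw, hwp, hwr⟩ := exists_witness hop
        obtain ⟨y, hy, hyw⟩ := S.exists_point hN hw
        have hyc : Commute y c := (S.comm_iff hy hN).2 (by
          rw [hyw, hpc]; exact (tv_comm_iff cardK hw hp).2 (hs0 hwp))
        have hyx : ¬ Commute y x := fun hh => one_ne_zero (α := K) (by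
          rw [S.comm_iff hy hxN, hyw, hrx, tv_comm_iff cardK hw hr, hs1 hwr] at hh
          exact hh)
        have hyS := S.om_le_stab (near_mem_om hy)
        have hmem : (⟨y, hyS⟩ : ↥S.stab) ∈ ThreeTrans.SolvLocal.line S.D0 S.z0 c0 :=
          ⟨near_mem_om hy, ThreeTrans.commute_coe_iff.2 hy.comm, ThreeTrans.commute_coe_iff.2 hyc⟩
        rw [← hl] at hmem
        exact hyx (ThreeTrans.commute_coe_iff.1 hmem.2.2)
      · rintro (rfl | ⟨hxN, hφ⟩)
        · exact ⟨S.z0, ⟨⟨self_mem_Om _, Commute.refl _, ThreeTrans.commute_coe_iff.2 hN.comm.symm⟩, Or.inl rfl⟩, rfl⟩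
        have hcx : Commute x c := (S.comm_iff hxN hN).2 (by rw [hφ])
        refine ⟨⟨x, S.om_le_stab (near_mem_om hxN)⟩, ⟨⟨near_mem_om hxN, ThreeTrans.commute_coe_iff.2 hxN.comm,
          ThreeTrans.commute_coe_iff.2 hcx⟩, Or.inr ?_⟩, rfl⟩
        ext y
        constructor
        · rintro ⟨h1, h2, h3⟩
          refine ⟨h1, h2, ?_⟩
          rw [ThreeTrans.commute_coe_iff] at h2 h3 ⊢
          by_cases e : (y : L) = z
          · show Commute (y : L) c; rw [e]; exact hN.comm.symm
          have hyN : Near z (y : L) := ⟨(show (y : L) ∈ Om z from h1).1, h2, e⟩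
          show Commute (y : L) c
          rw [S.comm_iff hyN hN, ← hφ, ← S.comm_iff hyN hxN]
          exact h3
        · rintro ⟨h1, h2, h3⟩
          refine ⟨h1, h2, ?_⟩
          rw [ThreeTrans.commute_coe_iff] at h2 h3 ⊢
          by_cases e : (y : L) = z
          · show Commute (y : L) x; rw [e]; exact hxN.comm.symm
          have hyN : Near z (y : L) := ⟨(show (y : L) ∈ Om z from h1).1, h2, e⟩
          show Commute (y : L) x
          rw [S.comm_iff hyN hxN, hφ, ← S.comm_iff hyN hN]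
          exact h3
    rw [← Set.ncard_image_of_injective _ Subtype.val_injective, e,
      Set.ncard_insert_of_notMem (fun h => h.1.ne rfl) (Set.toFinite _), S.fibre_card hN]
  obtain ⟨n, hn, e, he⟩ := FischerPolar.equiv_psu_of_pre hpre (show S.z0 ∈ S.D0 from self_mem_Om z) hc0D
    (fun e => hN.ne (congrArg Subtype.val e).symm) (ThreeTrans.commute_coe_iff.2 hN.comm.symm) h5
  obtain rfl : n = 6 := psu_dim hn (by rw [← Nat.card_congr e.toEquiv]; exact S.stab_card hN)
  refine ⟨e, fun x => ⟨fun hx => ?_, fun hx => ?_⟩⟩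
  · have : e x ∈ e '' S.D0 := ⟨x, hx, rfl⟩
    rw [he] at this
    obtain ⟨v, hv, hv'⟩ := this
    exact ⟨v, hv, hv'⟩
  · obtain ⟨v, hv, hv'⟩ := hx
    have h1 : e x ∈ FischerPolar.transvections 6 := ⟨v, hv, hv'⟩
    rw [← he] at h1
    obtain ⟨y, hy, e'⟩ := h1
    rw [← e.injective e']
    exact hy

end Setup

end Cfsg.Agent.U62Rec
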