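/-
Products of two commuting members: uniqueness, lines, and their centralisers.

* `Pr z u` : `u` is a product of two distinct commuting conjugates of `z`;
* `Setup.line_prod` : the five members of a line multiply to one;
* `Setup.pair_unique`, `Setup.pair_cent` : a product determines the pair, and its centraliser fixes the component;
* `Setup.three_cent` : the centraliser in the stabiliser of a product of three.
-/
import Cfsg.Agent.Lib.U62Rec.Ident
import Cfsg.Agent.Lib.U62Base.Counts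
import Cfsg.Agent.S0215
import Cfsg.Agent.S1324

set_option autoImplicit false

namespace Cfsg.Agent.U62Rec

open Cfsg.Agent.ThreeTransSU Cfsg.Agent.U62Cover

universe u

variable {L : Type u} [Group L] [Finite L] {z : L}

/-- A product of two distinct commuting conjugates. -/
def Pr (z u : L) : Prop := ∃ x ∈ Dset z, ∃ y ∈ Dset z, Commute x y ∧ x ≠ y ∧ x * y = u

theorem Pr_conj (g : L) {u : L} (h : Pr z u) : Pr z (g * u * g⁻¹) := by
  obtain ⟨x, hx, y, hy, hc, hne, rfl⟩ := h
  exact ⟨_, Setup.Dset_conj g hx, _, Setup.Dset_conj g hy, commute_conj g hc,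
    fun e => hne (mul_left_cancel (mul_right_cancel e)), by group⟩

namespace Setup

variable (S : Setup z)
include S

theorem not_prod {x y : L} (hx : x ∈ Dset z) (hy : y ∈ Dset z) (hc : Commute x y) (hne : x ≠ y) :
    x * y ∉ Dset z := by
  obtain ⟨T⟩ := S.exists_setup hx
  have := T.not_twisted (a := y) ⟨by rw [Dset_eq hx]; exact hy, hc.symm, hne.symm⟩
  rwa [Dset_eq hx] at this

theorem pr_ne_mem {u : L} (h : Pr z u) : u ∉ Dset z := by
  obtain ⟨x, hx, y, hy, hc, hne, rfl⟩ := h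
  exact S.not_prod hx hy hc hne

theorem pr_sq {u : L} (h : Pr z u) : u * u = 1 ∧ u ≠ 1 := by
  obtain ⟨x, hx, y, hy, hc, hne, rfl⟩ := h
  refine ⟨?_, fun e => hne ?_⟩
  · calc x * y * (x * y) = x * (y * x) * y := by group
      _ = x * x * (y * y) := by rw [← hc.eq]; group
      _ = 1 := by rw [S.D_sq hx, S.D_sq hy, mul_one]
  · rw [mul_eq_one_iff_eq_inv, S.D_inv hy] at e
    exact e

theorem stab_eq {x : L} (T : Setup x) (hx : x ∈ Om z) : T.stab = S.stab := by
  ext g
  rw [T.mem_stab, S.mem_stab, S.om_eq hx]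
  constructor
  · intro h
    have h1 : g * z * g⁻¹ ∈ Om (g * x * g⁻¹) := Om_conj g (by rw [S.om_eq hx]; exact self_mem_Om z)
    rwa [S.om_eq h] at h1
  · intro h
    exact S.stab_conj (S.mem_stab.2 h) hx

theorem line_prod {b : L} (hb : Near z b) : ∃ c1 c2 c3 : L,
    {x | Near z x ∧ S.φ x = S.φ b} = ({b, c1, c2, c3} : Set L) ∧ z * b * c1 * c2 * c3 = 1 := by
  classical
  obtain ⟨p, hp, h⟩ := S.near_mem_tvs hb
  obtain ⟨q, f, g, hfr⟩ := exists_frame_one hp
  obtain ⟨w, hw0, hw1, hw⟩ := k_omega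
  obtain ⟨j1, hj1, v1⟩ := S.vec_surj f
  obtain ⟨j2, hj2, v2⟩ := S.vec_surj (w • f)
  obtain ⟨m1, e1⟩ := S.dd_mem hb hj1
  obtain ⟨m2, e2⟩ := S.dd_mem hb hj2
  obtain ⟨m3, e3⟩ := S.dd_mem hb (mul_mem hj2 hj1)
  rw [h, R_one hp, v1, hfr.fp, one_smul] at e1
  rw [h, R_one hp, v2, sl, hfr.fp, mul_one] at e2
  rw [h, R_one hp, S.vec_mul _ hj2 _ hj1, v1, v2, hl, sl, hfr.fp, mul_one] at e3
  set d1 := S.dd b j1 with hd1
  set d2 := S.dd b j2 with hd2
  set d3 := S.dd b (j2 * j1) with hd3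
  have hpp : Commute d1 d2 := (S.commute_iff m1 m2).2 (by rw [e1, e2, B, sr, hp.2]; simp [sq_zero])
  have hnc : ¬ Commute j2 d1 := by
    rw [S.commute_iff hj2 m1, e1, v2, B, sl, hfr.fp, mul_one, hw]
    have : ∀ t : K, t + (t + 1) = 1 := by decide +kernel
    rw [this]
    exact one_ne_zero
  have hz1 : j2 * d1 * j2⁻¹ = z * d1 := by
    obtain ⟨hm, hv⟩ := S.vec_conj j2 (S.J_le j2 hj2) d1 m1
    rw [S.φ_J hj2, act_one] at hv
    exact (S.vec_eq_cases hm m1 hv).resolve_left fun e => hnc (mul_inv_eq_iff_eq_mul.1 e)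
  have hd : d3 = z * d1 * d2 := by
    calc d3 = j2 * (d1 * b) * j2⁻¹ * b := by rw [hd1, S.dd_mul_a hb, hd3, dd]; group
      _ = (j2 * d1 * j2⁻¹) * d2 := by rw [hd2, dd]; group
      _ = z * d1 * d2 := by rw [hz1]
  have memf : ∀ j ∈ S.J, S.dd b j * b ∈ {x | Near z x ∧ S.φ x = S.φ b} := fun j hj => by
    rw [S.dd_mul_a hb]
    exact ⟨S.near_conj (S.J_le j hj) hb,
      by rw [S.φ_conj (S.J_le j hj) hb.comm, S.φ_J hj, one_mul, inv_one, mul_one]⟩
  refine ⟨d1 * b, d2 * b, d3 * b, ?_, ?_⟩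
  · refine (Set.eq_of_subset_of_ncard_le ?_ ?_ (Set.toFinite _)).symm
    · rintro x (rfl | rfl | rfl | rfl)
      exacts [⟨hb, rfl⟩, memf j1 hj1, memf j2 hj2, memf _ (mul_mem hj2 hj1)]
    · rw [S.fibre_card hb]
      have vne : ∀ {x y : L}, S.vec x ≠ S.vec y → x * b ≠ y * b := fun h e => h (by rw [mul_right_cancel e])
      have hbne : ∀ {x : L}, S.vec x ≠ 0 → b ≠ x * b := fun {x} hx e => hx (by
        rw [mul_eq_right.1 e.symm]; exact S.vec_one)
      have hs : ∀ c d : K, c ≠ d → c • p ≠ d • p := fun c d hcd e => hcd (smul_left_injective K hp.1 e)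
      have k1 : S.vec d1 = (1 : K) • p := by rw [e1, one_smul]
      have n0 : ∀ c : K, c ≠ 0 → c • p ≠ 0 := fun c hc e => hc ((smul_eq_zero.1 e).resolve_right hp.1)
      have hw2 : w + 1 ≠ 0 := fun e => hw1 (k_eq_of_add _ _ e)
      rw [Set.ncard_insert_of_notMem ?_ (Set.toFinite _), Set.ncard_insert_of_notMem ?_ (Set.toFinite _),
        Set.ncard_insert_of_notMem ?_ (Set.toFinite _), Set.ncard_singleton]
      · simp only [Set.mem_singleton_iff]
        exact vne (by rw [e2, e3]; exact hs _ _ fun e => one_ne_zero (add_eq_left.1 e.symm))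
      · simp only [Set.mem_insert_iff, Set.mem_singleton_iff, not_or]
        refine ⟨vne (by rw [k1, e2]; exact hs _ _ (Ne.symm hw1)), vne (by
          rw [k1, e3]; exact hs _ _ fun e => hw0 (add_eq_right.1 e.symm))⟩
      · simp only [Set.mem_insert_iff, Set.mem_singleton_iff, not_or]
        exact ⟨hbne (by rw [k1]; exact n0 1 one_ne_zero), hbne (by rw [e2]; exact n0 w hw0),
          hbne (by rw [e3]; exact n0 _ hw2)⟩
  · have c1 : Commute b d1 := (S.dd_comm hb hj1).symm
    have c2 : Commute b d2 := (S.dd_comm hb hj2).symm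
    have hb2 := S.a_sq hb
    have s1 : d1 * d1 = 1 := S.sq_one _ m1 (by rw [e1]; exact hp.2)
    have s2 : d2 * d2 = 1 := S.sq_one _ m2 (by rw [e2, sl, sr, hp.2, mul_zero, mul_zero])
    rw [hd]
    have cX : Commute b (d1 * d2) := c1.mul_right c2
    have cz : Commute z (d1 * d2) := ((S.J_le d1 m1).symm.mul_right (S.J_le d2 m2).symm)
    have sX : d1 * d2 * (d1 * d2) = 1 := by
      calc d1 * d2 * (d1 * d2) = d1 * (d2 * d1) * d2 := by group
        _ = d1 * d1 * (d2 * d2) := by rw [← hpp.eq]; group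
        _ = 1 := by rw [s1, s2, mul_one]
    calc z * b * (d1 * b) * (d2 * b) * (z * d1 * d2 * b)
        = z * (b * d1) * b * d2 * b * z * (d1 * d2) * b := by group
      _ = z * d1 * (b * b) * d2 * b * z * (d1 * d2) * b := by rw [c1.eq]; group
      _ = z * (d1 * d2) * (b * z) * (d1 * d2) * b := by rw [hb2]; group
      _ = z * (d1 * d2) * z * (b * (d1 * d2)) * b := by rw [hb.comm.eq]; group
      _ = (z * (d1 * d2)) * z * (d1 * d2) * (b * b) := by rw [cX.eq]; group
      _ = d1 * d2 * (z * z) * (d1 * d2) := by rw [cz.eq, hb2]; group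
      _ = 1 := by rw [S.sq, mul_one, sX]

/-- Members correspond to isotropic vectors. -/
theorem exists_tau {c : L} (hN : Near z c) : ∃ e : ↥S.stab ≃* Cfsg.PSU 6 K 2,
    (∀ x : L, ∀ hx : x ∈ Om z, ∃ v, Iso v ∧ e ⟨x, S.om_le_stab hx⟩ = U62Base.tau cardK v) := by
  obtain ⟨e, he⟩ := S.exists_psu hN
  exact ⟨e, fun x hx => (he ⟨x, S.om_le_stab hx⟩).1 hx⟩

theorem pair_unique {x y x' y' : L} (hx : x ∈ Om z) (hy : y ∈ Om z) (hx' : x' ∈ Om z) (hy' : y' ∈ Om z)
    (hc : Commute x y) (hne : x ≠ y) (hc' : Commute x' y') (hne' : x' ≠ y') (h : x' * y' = x * y) :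
    x' = x ∨ x' = y := by
  have hN : ∃ c, Near z c := by
    by_cases hz : x = z
    · exact ⟨y, hy.1, (hz ▸ hc).symm, fun e => hne (hz.trans e.symm)⟩
    obtain ⟨m, hm, hmz, hmx⟩ := hx.2
    by_cases e : m = z
    · exact ⟨x, hx.1, (e ▸ hmx).symm, hz⟩
    · exact ⟨m, hm, hmz, e⟩
  obtain ⟨c, hN⟩ := hN
  obtain ⟨e, he⟩ := S.exists_tau hN
  have mk : ∀ a b (ha : a ∈ Om z) (hb : b ∈ Om z), Commute a b → a ≠ b → ∃ u w : Fin 6 → K, OrthPair u w ∧
      e ⟨a, S.om_le_stab ha⟩ = U62Base.tau cardK u ∧ e ⟨b, S.om_le_stab hb⟩ = U62Base.tau cardK w := by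
    intro a b ha hb hab habne
    obtain ⟨u, hu, eu⟩ := he a ha
    obtain ⟨w, hw, ew⟩ := he b hb
    refine ⟨u, w, ⟨hu, hw, ?_, fun t et => habne ?_⟩, eu, ew⟩
    · rw [← U62Base.tau_comm_iff cardK hu hw, ← eu, ← ew]
      exact Commute.map (Subtype.ext hab.eq : Commute (⟨a, S.om_le_stab ha⟩ : ↥S.stab) ⟨b, S.om_le_stab hb⟩) e
    · have ht : t ≠ 0 := fun e0 => hw.1 (by rw [et, e0, zero_smul])
      have e1 : U62Base.tau cardK w = U62Base.tau cardK u := by rw [et]; exact U62Base.tau_smul cardK hu ht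
      rw [← eu, ← ew] at e1
      exact (congrArg Subtype.val (e.injective e1)).symm
  obtain ⟨u, w, h1, eu, ew⟩ := mk x y hx hy hc hne
  obtain ⟨u', w', h2, eu', ew'⟩ := mk x' y' hx' hy' hc' hne'
  have he2 : U62Base.tau cardK u' * U62Base.tau cardK w' = U62Base.tau cardK u * U62Base.tau cardK w := by
    rw [← eu, ← ew, ← eu', ← ew', ← map_mul, ← map_mul]
    exact congrArg e (Subtype.ext h)
  rcases U62Base.pair_unique cardK h1 h2 he2 with k | k
  · rw [← eu, ← eu'] at k
    exact Or.inl (congrArg Subtype.val (e.injective k))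
  · rw [← ew, ← eu'] at k
    exact Or.inr (congrArg Subtype.val (e.injective k))

/-- The centraliser of `z b` fixes the component. -/
theorem cent_le {b : L} (hb : Near z b) : Subgroup.centralizer ({z * b} : Set L) ≤ S.stab := by
  classical
  have : Fact (Nat.Prime 2) := ⟨Nat.prime_two⟩
  set u := z * b with hu
  have hu2 : u * u = 1 :=
    (S.pr_sq ⟨z, self_mem, b, hb.mem, hb.comm.symm, hb.ne.symm, hu.symm⟩).1
  have hu1 : u ≠ 1 :=
    (S.pr_sq ⟨z, self_mem, b, hb.mem, hb.comm.symm, hb.ne.symm, hu.symm⟩).2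
  have hbO : b ∈ Om z := near_mem_om hb
  set M := Subgroup.centralizer ({u} : Set L) with hM
  set U : Subgroup ↥M := (Subgroup.zpowers u).subgroupOf M with hU
  have hUn : U.Normal := ⟨fun n hn g => by
    rw [hU, Subgroup.mem_subgroupOf] at hn ⊢
    obtain ⟨i, hi⟩ := Subgroup.mem_zpowers_iff.1 hn
    have : Commute (g : L) (n : L) := hi ▸ (mem_cent.1 g.2).zpow_right i
    rwa [Subgroup.coe_mul, Subgroup.coe_mul, Subgroup.coe_inv, this.eq, mul_inv_cancel_right]⟩
  haveI := hUn
  have zU : ∀ {x : ↥M}, x ∈ U → (x : L) = 1 ∨ (x : L) = u := by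
    intro x hx
    rw [hU, Subgroup.mem_subgroupOf, Subgroup.mem_zpowers_iff] at hx
    obtain ⟨i, hi⟩ := hx
    rcases Int.even_or_odd i with ⟨k, rfl⟩ | ⟨k, rfl⟩
    · left; rw [← hi, ← two_mul, zpow_mul, zpow_two, hu2, one_zpow]
    · right; rw [← hi, zpow_add, zpow_mul, zpow_two, hu2, one_zpow, one_mul, zpow_one]
  let π := QuotientGroup.mk' U
  have hzM : z ∈ M := mem_cent.2 ((Commute.refl z).mul_right hb.comm.symm)
  set zq := π ⟨z, hzM⟩ with hzq
  have key_eq : ∀ g h : ↥M, π g = π h ↔ (g : L) = h ∨ (g : L) = h * u := by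
    intro g h
    constructor
    · intro e
      have := zU (QuotientGroup.eq.1 e.symm)
      simp only [Subgroup.coe_mul, Subgroup.coe_inv] at this
      exact this.imp (fun e => (inv_mul_eq_one.1 e).symm) fun e => inv_mul_eq_iff_eq_mul.1 e
    · intro e
      refine (QuotientGroup.eq.2 ?_).symm
      rw [hU, Subgroup.mem_subgroupOf, Subgroup.coe_mul, Subgroup.coe_inv]
      rcases e with e | e <;> rw [e]
      · rw [inv_mul_cancel]; exact one_mem _
      · rw [inv_mul_cancel_left]; exact Subgroup.mem_zpowers u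
  -- the image of z is weakly closed in its centraliser
  have hwc : ∀ g : ↥M, Commute (π g * zq * (π g)⁻¹) zq → π g * zq * (π g)⁻¹ = zq := by
    intro g hg
    set x := (g : L) * z * (g : L)⁻¹ with hx
    have hxM : x ∈ M := mul_mem (mul_mem g.2 hzM) (inv_mem g.2)
    have hgi : π g * zq * (π g)⁻¹ = π ⟨x, hxM⟩ := by
      rw [hzq, ← map_mul, ← map_inv, ← map_mul]; rfl
    rw [hgi] at hg ⊢
    have hxD : x ∈ Dset z := Dset_conj _ self_mem
    have hcc : x * z = z * x ∨ x * z = z * x * u := by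
      have e : π (⟨x, hxM⟩ * ⟨z, hzM⟩) = π (⟨z, hzM⟩ * ⟨x, hxM⟩) := by
        rw [map_mul, map_mul]; exact hg.eq
      exact (key_eq _ _).1 e
    have hzx : x * z * x⁻¹ ∈ Om z := by
      rcases hcc with e | e
      · rw [e, mul_inv_cancel_right]; exact self_mem_Om z
      · have hux : Commute u x := (mem_cent.1 hxM).symm
        rw [e, mul_assoc, hux.inv_right.eq, ← mul_assoc, mul_inv_cancel_right, hu, ← mul_assoc, S.sq, one_mul]
        exact hbO
    have hxS : x ∈ S.stab := S.mem_stab.2 hzx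
    have hxO : x ∈ Om z := S.mem_om_of_stab hb hxD hxS
    have hcomm : Commute x z := by
      rcases hcc with e | e
      · exact e
      rcases S.om_trans hxO (self_mem_Om z) with h | h
      · exact h
      exfalso
      apply hu1
      have e2 : x * z * (x * z) = u := by
        have h1 : Commute u z := (mem_cent.1 hzM).symm
        calc x * z * (x * z) = z * x * u * (x * z) := by rw [← e]
          _ = z * x * (u * x) * z := by group
          _ = z * (x * x) * u * z := by rw [← (mem_cent.1 hxM).eq]; group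
          _ = z * (u * z) := by rw [S.D_sq hxD]; group
          _ = u := by rw [h1.eq, ← mul_assoc, S.sq, one_mul]
      have e3 : (x * z) ^ 3 = u * (x * z) := by rw [pow_succ, pow_two, e2]
      rw [h] at e3
      have h4 : x * z = u := by
        have := inv_eq_of_mul_eq_one_right e3.symm
        rw [← this]; exact inv_eq_of_mul_eq_one_right hu2
      rw [← e2, h4, hu2]
    -- x is z or b
    set g1 := (g : L) * b * (g : L)⁻¹ with hg1
    have hgu : x * g1 = u := by
      rw [hx, hg1, show (g : L) * z * (g : L)⁻¹ * ((g : L) * b * (g : L)⁻¹) = (g : L) * (z * b) * (g : L)⁻¹ by group,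
        ← hu, (mem_cent.1 g.2).eq, mul_inv_cancel_right]
    have hg1D : g1 ∈ Dset z := Dset_conj _ hb.mem
    have hxg : Commute x g1 := commute_conj _ hb.comm.symm
    have hne : x ≠ g1 := fun e => hb.ne (mul_left_cancel (mul_right_cancel e)).symm
    have hgO : g1 ∈ Om z := S.om_closed hxO hg1D hxg.symm
    rcases S.pair_unique (self_mem_Om z) hbO hxO hgO hb.comm.symm hb.ne.symm hxg hne (hgu.trans hu) with e | e
    · exact congrArg π (Subtype.ext e)
    · refine (key_eq _ _).2 (Or.inr ?_)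
      show x = z * u
      rw [e, hu, ← mul_assoc, S.sq, one_mul]
  -- isolation
  have hzq2 : zq * zq = 1 := by
    rw [hzq, ← map_mul, show (⟨z, hzM⟩ * ⟨z, hzM⟩ : ↥M) = 1 from Subtype.ext S.sq, map_one]
  have hzq1 : zq ≠ 1 := fun e => by
    rw [hzq, ← map_one π, key_eq] at e
    rcases e with e | e
    · exact S.ne_one e
    · rw [Subgroup.coe_one, one_mul, hu, left_eq_mul] at e
      exact S.D_ne_one hb.mem e
  have hzp : IsPGroup 2 ↥(Subgroup.zpowers zq) := by
    refine IsPGroup.of_card (n := 1) ?_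
    rw [Nat.card_zpowers, pow_one]
    exact orderOf_eq_prime (by rw [pow_two]; exact hzq2) hzq1
  obtain ⟨P, hP⟩ := hzp.exists_le_sylow
  have hzP : zq ∈ (P : Subgroup (↥M ⧸ U)) := hP (Subgroup.mem_zpowers zq)
  have hiso : ∀ g, g * zq * g⁻¹ ∈ (P : Subgroup (↥M ⧸ U)) → g * zq * g⁻¹ = zq := by
    intro g hgP
    obtain ⟨g, rfl⟩ := QuotientGroup.mk'_surjective U g
    set x := π g * zq * (π g)⁻¹ with hx
    have hx2 : x * x = 1 := by
      rw [hx, show π g * zq * (π g)⁻¹ * (π g * zq * (π g)⁻¹) = π g * (zq * zq) * (π g)⁻¹ by group, hzq2]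
      group
    obtain ⟨k, hk⟩ := (P.isPGroup' ⟨x * zq, mul_mem hgP hzP⟩)
    have hk' : (x * zq) ^ 2 ^ k = 1 := by
      have := congrArg Subtype.val hk
      simpa using this
    obtain ⟨m, hm, hord⟩ := (Nat.dvd_prime_pow Nat.prime_two).1 (orderOf_dvd_of_pow_eq_one hk')
    match m, hord with
    | 0, hord =>
      rw [pow_zero, orderOf_eq_one_iff, mul_eq_one_iff_eq_inv] at hord
      rw [hord, inv_eq_of_mul_eq_one_right hzq2]
    | 1, hord =>
      refine hwc g ?_
      have h2 := pow_orderOf_eq_one (x * zq)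
      rw [hord, pow_one, pow_two, mul_eq_one_iff_eq_inv, mul_inv_rev, inv_eq_of_mul_eq_one_right hzq2,
        inv_eq_of_mul_eq_one_right hx2] at h2
      exact h2
    | m + 2, hord =>
      exfalso
      set y := (x * zq) ^ 2 ^ m with hy
      have ho4 : orderOf y = 4 := by
        rw [hy, orderOf_pow' _ (pow_ne_zero _ two_ne_zero), hord,
          Nat.gcd_eq_right (pow_dvd_pow 2 (Nat.le_add_right m 2)), pow_add,
          Nat.mul_div_cancel_left _ (pow_pos (by norm_num) m)]
        norm_num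
      have hzy : zq * y * zq⁻¹ = y⁻¹ := by
        rw [hy, ← conj_pow, ← inv_pow]
        congr 1
        rw [mul_inv_rev, inv_eq_of_mul_eq_one_right hzq2, inv_eq_of_mul_eq_one_right hx2]
        rw [mul_assoc zq, mul_assoc x, hzq2, mul_one]
      have hy4 : y * y * (y * y) = 1 := by
        have := pow_orderOf_eq_one y
        rw [ho4] at this
        simpa [pow_succ, mul_assoc] using this
      have hyz : y * zq * y⁻¹ = y * y * zq := by
        have : zq * y⁻¹ = y * zq := by
          have h5 := congrArg (fun t => t * zq) (congrArg Inv.inv hzy)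
          simp only [mul_inv_rev, inv_inv] at h5
          simpa [mul_assoc] using h5
        rw [mul_assoc, this, mul_assoc]
      have hc : Commute (y * zq * y⁻¹) zq := by
        rw [hyz]
        show y * y * zq * zq = zq * (y * y * zq)
        rw [mul_assoc (y * y), hzq2, mul_one,
          show zq * (y * y * zq) = (zq * y * zq⁻¹) * (zq * y * zq⁻¹) * (zq * zq) by group,
          hzy, hzq2, mul_one, ← mul_inv_rev]
        exact (inv_eq_of_mul_eq_one_right hy4).symm
      obtain ⟨y', hy'⟩ := QuotientGroup.mk'_surjective U y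
      rw [← hy'] at hc hyz
      have h5 := hwc y' hc
      rw [hyz, hy'] at h5
      have h6 : y * y = 1 := mul_eq_right.1 h5
      have := orderOf_dvd_of_pow_eq_one (show y ^ 2 = 1 by rw [pow_two]; exact h6)
      rw [ho4] at this
      norm_num at this
  obtain ⟨N, hNn, hNodd, hNz⟩ := Cfsg.Agent.S0215.result P zq
    (orderOf_eq_prime (by rw [pow_two]; exact hzq2) hzq1) hzP hiso
  -- the line
  obtain ⟨c1, c2, c3, hset, hprod⟩ := S.line_prod hb
  set five : Set L := {z, b, c1, c2, c3} with hfive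
  have hmem : ∀ v ∈ five, v ∈ Om z ∧ (v = z ∨ (Near z v ∧ S.φ v = S.φ b)) := by
    intro v hv
    have hf' : ∀ w ∈ ({b, c1, c2, c3} : Set L), Near z w ∧ S.φ w = S.φ b := fun w hw => by rw [← hset] at hw; exact hw
    rcases hv with rfl | hv
    · exact ⟨self_mem_Om _, Or.inl rfl⟩
    · exact ⟨near_mem_om (hf' v hv).1, Or.inr (hf' v hv)⟩
  have hcommfive : ∀ v ∈ five, ∀ w ∈ five, Commute v w := by
    intro v hv w hw
    rcases (hmem v hv).2 with rfl | ⟨hv1, hv2⟩ <;> rcases (hmem w hw).2 with rfl | ⟨hw1, hw2⟩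
    · exact Commute.refl _
    · exact hw1.comm.symm
    · exact hv1.comm
    · exact (S.comm_iff hv1 hw1).2 (by rw [hv2, hw2])
  have hfM : ∀ v ∈ five, v ∈ M := fun v hv => mem_cent.2
    ((hcommfive v hv z (Or.inl rfl)).mul_right (hcommfive v hv b (Or.inr (Or.inl rfl))))
  set A := Subgroup.closure (π '' {v : ↥M | (v : L) ∈ five}) with hA
  have hgen2 : ∀ a ∈ π '' {v : ↥M | (v : L) ∈ five}, ∀ b' ∈ π '' {v : ↥M | (v : L) ∈ five}, a * b' = b' * a := by
    rintro _ ⟨v, hv, rfl⟩ _ ⟨w, hw, rfl⟩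
    rw [← map_mul, ← map_mul]
    exact congrArg π (Subtype.ext (hcommfive v hv w hw).eq)
  have hAc : IsMulCommutative ↥A := Subgroup.isMulCommutative_closure hgen2
  have hA2 : ∀ a ∈ A, a ^ 2 = 1 := by
    intro a ha
    induction ha using Subgroup.closure_induction with
    | mem x hx =>
      obtain ⟨v, hv, rfl⟩ := hx
      rw [pow_two, ← map_mul, show v * v = 1 from Subtype.ext (S.D_sq (hmem _ hv).1.1), map_one]
    | one => exact one_pow 2
    | mul x y hx hy h1 h2 =>
      have hxy : Commute x y := congrArg Subtype.val (hAc.is_comm.comm (⟨x, hx⟩ : ↥A) ⟨y, hy⟩)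
      rw [hxy.mul_pow, h1, h2, mul_one]
    | inv x _ h1 => rw [inv_pow, h1, inv_one]
  have hc1five : c1 ∈ five := Or.inr (Or.inr (Or.inl rfl))
  have hzA : zq ∈ A := Subgroup.subset_closure ⟨⟨z, hzM⟩, Or.inl rfl, rfl⟩
  set cq := π ⟨c1, hfM c1 hc1five⟩ with hcq
  have hcA : cq ∈ A := Subgroup.subset_closure ⟨⟨c1, hfM c1 hc1five⟩, hc1five, rfl⟩
  have hcardf : ({b, c1, c2, c3} : Set L).ncard = 4 := by rw [← hset]; exact S.fibre_card hb
  have hc1b : c1 ≠ b := fun e => by
    rw [e, Set.insert_eq_of_mem (Set.mem_insert _ _)] at hcardf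
    have := Set.ncard_insert_le b ({c2, c3} : Set L)
    have := Set.ncard_insert_le c2 ({c3} : Set L)
    rw [Set.ncard_singleton] at this
    omega
  have hc1z : c1 ≠ z := by
    have : c1 ∈ ({b, c1, c2, c3} : Set L) := Or.inr (Or.inl rfl)
    rw [← hset] at this
    exact this.1.ne
  have hc1 : cq ≠ 1 ∧ cq ≠ zq := by
    constructor
    · intro e
      rw [hcq, ← map_one π, key_eq] at e
      rcases e with e | e
      · exact S.D_ne_one (hmem c1 hc1five).1.1 e
      · rw [Subgroup.coe_one, one_mul] at e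
        refine S.pr_ne_mem ⟨z, self_mem, b, hb.mem, hb.comm.symm, hb.ne.symm, hu.symm⟩ ?_
        rw [← show c1 = u from e]
        exact (hmem c1 hc1five).1.1
    · intro e
      rw [hcq, hzq, key_eq] at e
      rcases e with e | e
      · exact hc1z e
      · exact hc1b (e.trans (by rw [hu, ← mul_assoc, S.sq, one_mul]))
  have hA4 : 2 ^ 2 ≤ Nat.card ↥A := by
    have hsub : ({1, zq, cq} : Set (↥M ⧸ U)) ⊆ A := by
      rintro x (rfl | rfl | rfl)
      exacts [one_mem A, hzA, hcA]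
    have h3 : ({1, zq, cq} : Set (↥M ⧸ U)).ncard = 3 := by
      rw [Set.ncard_insert_of_notMem (by simp [hzq1.symm, hc1.1.symm]) (Set.toFinite _),
        Set.ncard_insert_of_notMem (by simpa using hc1.2.symm) (Set.toFinite _), Set.ncard_singleton]
    have h4 := Set.ncard_le_ncard hsub (Set.toFinite _)
    rw [h3, ← Nat.card_coe_set_eq, SetLike.coe_sort_coe] at h4
    have hp : IsPGroup 2 ↥A := fun a => ⟨1, Subtype.ext (by simpa using hA2 a a.2)⟩
    obtain ⟨n, hn⟩ := hp.exists_card_eq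
    rw [hn] at h4 ⊢
    refine Nat.pow_le_pow_right (by norm_num) ?_
    by_contra hlt
    have : 2 ^ n ≤ 2 ^ 1 := Nat.pow_le_pow_right (by norm_num) (by omega)
    omega
  have hAN : A ≤ Subgroup.normalizer (N : Set (↥M ⧸ U)) := fun a _ => by
    rw [Subgroup.mem_normalizer_iff]
    exact fun n => ⟨fun hn => hNn.conj_mem n hn a, fun hn => by
      have := hNn.conj_mem _ hn a⁻¹; simpa [mul_assoc] using this⟩
  have hgenN := Cfsg.Agent.S1324.result 2 A N ⟨hAc, hA2⟩ hA4 (fun h => (Nat.not_even_iff_odd.2 hNodd) (even_iff_two_dvd.2 h)) hAN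
  set St : Subgroup (↥M ⧸ U) := (S.stab.subgroupOf M).map π with hSt
  have huS : u ∈ S.stab := mul_mem (S.om_le_stab (self_mem_Om z)) (S.om_le_stab hbO)
  have hSt' : ∀ g : ↥M, π g ∈ St → (g : L) ∈ S.stab := by
    intro g hg
    obtain ⟨h, hh, e⟩ := hg
    rcases (key_eq g h).1 e.symm with e | e <;> rw [e]
    exacts [hh, mul_mem hh huS]
  have hcontain : ∀ B : Subgroup (↥M ⧸ U), B ≤ A → B.relIndex A ≤ 2 → ∃ v ∈ five, ∀ hv : v ∈ M, π ⟨v, hv⟩ ∈ B := by
    intro B hB hrel
    by_contra hnone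
    simp only [not_exists, not_and, not_forall] at hnone
    have hne : ∀ v ∈ five, ∀ hv : v ∈ M, π ⟨v, hv⟩ ∉ B := fun v hv hvM h => by
      obtain ⟨_, h'⟩ := hnone v hv; exact h' h
    rcases Nat.lt_or_ge (B.relIndex A) 2 with hlt | hge
    · have h0 : B.relIndex A ≠ 0 := Subgroup.FiniteIndex.index_ne_zero
      have h1 : B.relIndex A = 1 := by omega
      exact hne z (Or.inl rfl) hzM (Subgroup.relIndex_eq_one.1 h1 hzA)
    have h2 : (B.subgroupOf A).index = 2 := le_antisymm hrel hge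
    have mA : ∀ v ∈ five, ∀ hv : v ∈ M, π ⟨v, hv⟩ ∈ A := fun v hv hvM =>
      Subgroup.subset_closure ⟨⟨v, hvM⟩, hv, rfl⟩
    have key : ∀ a b : ↥A, a * b ∈ B.subgroupOf A ↔ (a ∈ B.subgroupOf A ↔ b ∈ B.subgroupOf A) :=
      fun a b => Subgroup.mul_mem_iff_of_index_two h2
    have hz5 : (z : L) ∈ five := Or.inl rfl
    have hb5 : b ∈ five := Or.inr (Or.inl rfl)
    have h25 : c2 ∈ five := Or.inr (Or.inr (Or.inr (Or.inl rfl)))
    have h35 : c3 ∈ five := Or.inr (Or.inr (Or.inr (Or.inr rfl)))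
    let mk : ∀ v ∈ five, ↥A := fun v hv => ⟨π ⟨v, hfM v hv⟩, mA v hv (hfM v hv)⟩
    have hn : ∀ v (hv : v ∈ five), mk v hv ∉ B.subgroupOf A := fun v hv h => hne v hv (hfM v hv) h
    have hone : mk z hz5 * mk b hb5 * mk c1 hc1five * mk c2 h25 * mk c3 h35 = 1 := by
      refine Subtype.ext ?_
      show π _ * π _ * π _ * π _ * π _ = 1
      rw [← map_mul, ← map_mul, ← map_mul, ← map_mul, ← map_one π]
      exact congrArg π (Subtype.ext hprod)
    have := one_mem (B.subgroupOf A)
    rw [← hone, key, key, key, key] at this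
    simp [hn] at this
  have hNle : N ≤ St := by
    rw [hgenN]
    refine iSup_le fun ⟨B, hB, hrel⟩ => ?_
    obtain ⟨v, hv, hvB⟩ := hcontain B hB hrel
    rintro _ ⟨-, hn⟩
    rename_i x
    obtain ⟨g, rfl⟩ := QuotientGroup.mk'_surjective U x
    refine ⟨g, ?_, rfl⟩
    have hcm : π g * π ⟨v, hfM v hv⟩ = π ⟨v, hfM v hv⟩ * π g :=
      ((Subgroup.mem_centralizer_iff.1 hn) _ (hvB (hfM v hv))).symm
    rw [← map_mul, ← map_mul, key_eq] at hcm
    have hvO := (hmem v hv).1
    have hgv : (g : L) * v * (g : L)⁻¹ ∈ Om z := by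
      rcases hcm with e | e
      · rw [show (g : L) * v = v * g from e, mul_inv_cancel_right]; exact hvO
      · have hug : Commute u (g : L) := (mem_cent.1 g.2).symm
        rw [show (g : L) * v = v * g * u from e, mul_assoc (v * (g : L)), hug.inv_right.eq, ← mul_assoc,
          mul_inv_cancel_right]
        refine S.mem_om_of_stab hb ?_ (mul_mem (S.om_le_stab hvO) huS)
        have hD := Dset_conj (g : L) hvO.1
        rwa [show (g : L) * v = v * g * u from e, mul_assoc (v * (g : L)), hug.inv_right.eq, ← mul_assoc,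
          mul_inv_cancel_right] at hD
    show (g : L) ∈ S.stab
    obtain ⟨V⟩ := S.exists_setup hvO.1
    rw [← S.stab_eq V hvO, V.mem_stab, S.om_eq hvO]
    exact hgv
  intro g hg
  have h1 : π (⟨z, hzM⟩ * ⟨g, hg⟩ * ⟨z, hzM⟩⁻¹ * ⟨g, hg⟩⁻¹) ∈ St := by
    refine hNle ?_
    rw [map_mul, map_mul, map_mul, map_inv, map_inv]
    exact hNz _
  have h2 : z * g * z⁻¹ * g⁻¹ ∈ S.stab := hSt' _ h1
  have h3 : g * z * g⁻¹ ∈ S.stab := by
    have := mul_mem (inv_mem (S.om_le_stab (self_mem_Om z))) h2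
    simp only [← mul_assoc, S.inv, S.sq, one_mul] at this
    exact this
  exact S.mem_stab.2 (S.mem_om_of_stab hb (Dset_conj g self_mem) h3)

theorem pair_cent {u x y : L} (hx : x ∈ Dset z) (hy : y ∈ Dset z) (hc : Commute x y) (hne : x ≠ y)
    (hu : x * y = u) {g : L} (hg : Commute g u) : g * x * g⁻¹ ∈ Om x := by
  obtain ⟨T⟩ := S.exists_setup hx
  exact T.mem_stab.1 (T.cent_le (b := y) ⟨by rw [Dset_eq hx]; exact hy, hc.symm, hne.symm⟩
    (mem_cent.2 (by rw [hu]; exact hg)))

theorem three_cent {c x y w : L} (hN : Near z c) (hx : x ∈ Om z) (hy : y ∈ Om z) (hw : w ∈ Om z)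
    (hxy : Commute x y) (hxw : Commute x w) (hyw : Commute y w) (hne : x ≠ y) (hxw' : x ≠ w)
    (hnew : ∀ hs : x * y * w ∈ Dset z ∨ Pr z (x * y * w), False) :
    Nat.card ↥(S.stab ⊓ Subgroup.centralizer ({x * y * w} : Set L)) = 36864 := by
  classical
  obtain ⟨e, he⟩ := S.exists_tau hN
  obtain ⟨v0, i0, e0⟩ := he x hx
  obtain ⟨v1, i1, e1⟩ := he y hy
  obtain ⟨v2, i2, e2⟩ := he w hw
  set X : ↥S.stab := ⟨x, S.om_le_stab hx⟩
  set Y : ↥S.stab := ⟨y, S.om_le_stab hy⟩
  set W : ↥S.stab := ⟨w, S.om_le_stab hw⟩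
  have ch : ∀ {a b : ↥S.stab} {u v : Fin 6 → K}, Iso u → Iso v → e a = U62Base.tau cardK u →
      e b = U62Base.tau cardK v → Commute (a : L) b → hf u v = 0 := by
    intro a b u v hu hv ea eb hab
    rw [← U62Base.tau_comm_iff cardK hu hv, ← ea, ← eb]
    exact Commute.map (Subtype.ext hab.eq : Commute a b) e
  have h01 : hf v0 v1 = 0 := ch i0 i1 e0 e1 hxy
  have h02 : hf v0 v2 = 0 := ch i0 i2 e0 e2 hxw
  have h12 : hf v1 v2 = 0 := ch i1 i2 e1 e2 hyw
  have hop : OrthPair v0 v1 := ⟨i0, i1, h01, fun t et => hne (by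
    have ht : t ≠ 0 := fun e0' => i1.1 (by rw [et, e0', zero_smul])
    have h1' : U62Base.tau cardK v1 = U62Base.tau cardK v0 := by rw [et]; exact U62Base.tau_smul cardK i0 ht
    rw [← e0, ← e1] at h1'
    exact (congrArg Subtype.val (e.injective h1')).symm)⟩
  have hsp : v2 ∉ Submodule.span K (Set.range ![v0, v1]) := by
    intro hmem
    rw [show Set.range ![v0, v1] = {v0, v1} from Matrix.range_cons_cons_empty _ _ _, Submodule.mem_span_pair] at hmem
    obtain ⟨s, t, hst⟩ := hmem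
    -- every member commuting with x and y commutes with w
    obtain ⟨T⟩ := S.exists_setup hx.1
    have hDx := Dset_eq hx.1
    have hNy : Near x y := ⟨by rw [hDx]; exact hy.1, hxy.symm, hne.symm⟩
    have hNw : Near x w := ⟨by rw [hDx]; exact hw.1, hxw.symm, hxw'.symm⟩
    have hφ : T.φ w = T.φ y := by
      by_contra hφ
      obtain ⟨p, hp, hpy⟩ := T.near_mem_tvs hNy
      obtain ⟨r, hr, hrw⟩ := T.near_mem_tvs hNw
      have hpr : hf p r = 0 := by
        have := (T.comm_iff hNw hNy).1 hyw.symm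
        rw [hrw, hpy] at this
        exact (tv_comm_iff cardK hr hp).1 this
      have hop' : OrthPair p r := ⟨hp, hr, hpr, fun a ea => hφ (by
        by_cases ha : a = 0
        · exact absurd (by rw [ea, ha, zero_smul]) hr.1
        · rw [hrw, hpy, ea]; exact tv_smul cardK hp ha)⟩
      obtain ⟨q, hq, hqp, hqr⟩ := exists_witness hop'
      obtain ⟨m, hm, hmq⟩ := T.exists_point hNy hq
      have hmy : Commute m y := (T.comm_iff hm hNy).2 (by
        rw [hmq, hpy]; exact (tv_comm_iff cardK hq hp).2 (hs0 hqp))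
      have hmw : ¬ Commute m w := fun hh => one_ne_zero (α := K) (by
        rw [T.comm_iff hm hNw, hmq, hrw, tv_comm_iff cardK hq hr, hs1 hqr] at hh
        exact hh)
      have hmO : m ∈ Om z := by rw [← S.om_eq hx]; exact near_mem_om hm
      obtain ⟨vm, im, em⟩ := he m hmO
      apply hmw
      have k0 : hf v0 vm = 0 := ch i0 im e0 em hm.comm.symm
      have k1 : hf v1 vm = 0 := ch i1 im e1 em hmy.symm
      have k2 : hf v2 vm = 0 := by
        rw [← hst, hf_add_left cardK, hf_smul_left cardK, hf_smul_left cardK, k0, k1, mul_zero, mul_zero, add_zero]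
      have h3 : Commute (e W) (e ⟨m, S.om_le_stab hmO⟩) := by
        rw [e2, em]; exact (U62Base.tau_comm_iff cardK i2 im).2 k2
      exact congrArg Subtype.val (e.injective (a₁ := W * ⟨m, S.om_le_stab hmO⟩) (a₂ := ⟨m, S.om_le_stab hmO⟩ * W) (by rw [map_mul, map_mul]; exact h3.eq)) |>.symm
    obtain ⟨c1, c2, c3, hset, hprod⟩ := T.line_prod hNy
    have hwm : w ∈ ({y, c1, c2, c3} : Set L) := by rw [← hset]; exact ⟨hNw, hφ⟩
    have hD : ∀ v ∈ ({y, c1, c2, c3} : Set L), v ∈ Dset z ∧ Commute v x ∧ T.φ v = T.φ y ∧ Near x v := fun v hv => by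
      rw [← hset] at hv; exact ⟨hDx ▸ hv.1.mem, hv.1.comm, hv.2, hv.1⟩
    have hcm : ∀ v ∈ ({y, c1, c2, c3} : Set L), ∀ v' ∈ ({y, c1, c2, c3} : Set L), Commute v v' := fun v hv v' hv' =>
      (T.comm_iff (hD v hv).2.2.2 (hD v' hv').2.2.2).2 (by rw [(hD v hv).2.2.1, (hD v' hv').2.2.1])
    have m1 : c1 ∈ ({y, c1, c2, c3} : Set L) := Or.inr (Or.inl rfl)
    have m2 : c2 ∈ ({y, c1, c2, c3} : Set L) := Or.inr (Or.inr (Or.inl rfl))
    have m3 : c3 ∈ ({y, c1, c2, c3} : Set L) := Or.inr (Or.inr (Or.inr rfl))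
    have hinv : ∀ {v : L}, v ∈ ({y, c1, c2, c3} : Set L) → v⁻¹ = v := fun hv => S.D_inv (hD _ hv).1
    have fin : ∀ p q : L, p ∈ ({y, c1, c2, c3} : Set L) → q ∈ ({y, c1, c2, c3} : Set L) →
        x * y * w * p * q = 1 → False := by
      intro p q hp hq e'
      have e'' : x * y * w = q * p := by
        rw [mul_eq_one_iff_eq_inv, hinv hq, ← eq_mul_inv_iff_mul_eq, hinv hp] at e'
        exact e'
      by_cases hpq : q = p
      · rw [hpq, S.D_sq (hD p hp).1, mul_eq_one_iff_eq_inv, hinv hwm] at e''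
        exact S.not_prod hx.1 hy.1 hxy hne (e'' ▸ hw.1)
      · exact hnew (Or.inr ⟨q, (hD q hq).1, p, (hD p hp).1, hcm q hq p hp, hpq, e''.symm⟩)
    rcases hwm with rfl | rfl | rfl | rfl
    · refine hnew (Or.inl ?_)
      rw [mul_assoc, S.D_sq hw.1, mul_one]
      exact hx.1
    · exact fin c2 c3 m2 m3 hprod
    · refine fin c1 c3 m1 m3 ?_
      rw [mul_assoc (x * y) w c1, ← (hcm c1 m1 w m2).eq, ← mul_assoc]
      exact hprod
    · refine fin c1 c2 m1 m2 ?_
      rw [← hprod]
      simp only [mul_assoc]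
      congr 2
      rw [← mul_assoc, ← (hcm c1 m1 w m3).eq, mul_assoc, (hcm w m3 c2 m2).eq]
  have hF3 : U62Base.Frame3 ![v0, v1, v2] := by
    refine ⟨?_, fun i j => ?_⟩
    · have : LinearIndependent K (Fin.snoc ![v0, v1] v2) := linearIndependent_fin_snoc.2 ⟨hop.li, hsp⟩
      convert this using 1
      funext i
      fin_cases i <;> rfl
    · fin_cases i <;> fin_cases j <;>
        first
          | exact i0.2 | exact i1.2 | exact i2.2 | exact h01 | exact h02 | exact h12
          | exact (hf_eq_zero_symm cardK).1 h01 | exact (hf_eq_zero_symm cardK).1 h02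
          | exact (hf_eq_zero_symm cardK).1 h12
  have h := U62Base.triple_centralizer cardK hF3
  simp only [Matrix.cons_val_zero, Matrix.cons_val_one, Matrix.cons_val_two, Matrix.tail_cons, Matrix.head_cons] at h
  rw [← e0, ← e1, ← e2, ← map_mul, ← map_mul] at h
  rw [← h]
  refine Nat.card_eq_of_bijective
    (fun g => ⟨e ⟨(g : L), g.2.1⟩, Subgroup.mem_centralizer_singleton_iff.2 ?_⟩) ⟨?_, ?_⟩
  · rw [← map_mul, ← map_mul]
    exact congrArg e (Subtype.ext (mem_cent.1 g.2.2).eq)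
  · intro a a' ea
    exact Subtype.ext (Subtype.mk.inj (e.injective (congrArg Subtype.val ea)))
  · rintro ⟨k, hk⟩
    obtain ⟨k, rfl⟩ := e.surjective k
    have hk' := Subgroup.mem_centralizer_singleton_iff.1 hk
    rw [← map_mul, ← map_mul] at hk'
    exact ⟨⟨(k : L), k.2, mem_cent.2 (congrArg Subtype.val (e.injective hk'))⟩, rfl⟩

end Setup

end Cfsg.Agent.U62Rec
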