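/-
There is a single component, and the group is PSU(6,2).

* `Setup.fixed_member` : an involution of the stabiliser commutes with a member;
* `Setup.pr_stab` : a product of a pair lies in the stabiliser of its own component only;
* `Setup.near_of_comm`, `Setup.card_Q`, `Setup.card_R` : the local counts;
* `Setup.om_all`, `Setup.exists_equiv` : every conjugate is a member, the group is PSU(6,2).
-/
import Cfsg.Agent.Lib.U62Rec.Pairs
import Cfsg.Agent.Lib.Unitary.Small32

set_option autoImplicit false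

namespace Cfsg.Agent.U62Rec

open Cfsg.Agent.ThreeTransSU Cfsg.Agent.U62Cover

universe u

variable {L : Type u} [Group L] {z : L}

/-- In a dihedral group, a reflection times an even rotation is a conjugate of it. -/
theorem dihedral_even {a b : L} (ha : a * a = 1) (hb : b * b = 1) (k : ℕ) :
    a * (a * b) ^ (2 * k) = ((a * b) ^ k)⁻¹ * a * (a * b) ^ k := by
  have h1 : a * (a * b) * a⁻¹ = (a * b)⁻¹ := by
    rw [mul_inv_rev, inv_eq_of_mul_eq_one_right ha, inv_eq_of_mul_eq_one_right hb, ← mul_assoc a, ha, one_mul]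
  have h2 : a * (a * b) ^ k * a⁻¹ = ((a * b) ^ k)⁻¹ := by rw [← conj_pow, h1, inv_pow]
  rw [← h2, two_mul, pow_add]
  group

theorem dihedral_odd {a b : L} (ha : a * a = 1) (hb : b * b = 1) (k : ℕ) :
    a * (a * b) ^ (2 * k + 1) = ((a * b) ^ k)⁻¹ * b * (a * b) ^ k := by
  rw [pow_succ, ← mul_assoc, dihedral_even ha hb k, mul_assoc _ _ (a * b), ← pow_succ, pow_succ',
    mul_assoc _ a, ← mul_assoc a (a * b), ← mul_assoc a a, ha, one_mul, ← mul_assoc]

theorem dihedral_comm {a b : L} (ha : a * a = 1) (hb : b * b = 1) {r : ℕ} (h : (a * b) ^ (2 * r) = 1) :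
    Commute ((a * b) ^ r) a := by
  have h1 : a * (a * b) * a⁻¹ = (a * b)⁻¹ := by
    rw [mul_inv_rev, inv_eq_of_mul_eq_one_right ha, inv_eq_of_mul_eq_one_right hb, ← mul_assoc a, ha, one_mul]
  have h2 : a * (a * b) ^ r * a⁻¹ = ((a * b) ^ r)⁻¹ := by rw [← conj_pow, h1, inv_pow]
  have h3 : ((a * b) ^ r)⁻¹ = (a * b) ^ r := inv_eq_of_mul_eq_one_right (by rw [← pow_add, ← two_mul, h])
  rw [h3, mul_inv_eq_iff_eq_mul] at h2
  exact h2.symm

/-- Products of pairs commuting with a conjugate, whose product with it is not a conjugate. -/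
def Qs (z c : L) : Set L := {w | Pr z w ∧ Commute c w ∧ c * w ∉ Dset z}

/-- The members `c` with `c v` a product of a pair. -/
def Rs (z v : L) : Set L := {c | c ∈ Om z ∧ Commute c v ∧ Pr z (c * v)}

theorem Pr_eq {x : L} (hx : x ∈ Dset z) (u : L) : Pr x u ↔ Pr z u := by
  simp only [Pr, Setup.Dset_eq hx]

namespace Setup

variable [Finite L] (S : Setup z)
include S

theorem near_at {e : L} (hN : Near z e) {x : L} (hx : x ∈ Dset z) : ∃ y, Near x y := by
  obtain ⟨g, rfl⟩ := hx
  exact ⟨g * e * g⁻¹, ⟨by rw [Dset_eq ⟨g, rfl⟩]; exact Dset_conj g hN.mem, commute_conj g hN.comm,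
    fun h => hN.ne (mul_left_cancel (mul_right_cancel h))⟩⟩

theorem om_sub {x : L} (hx : x ∈ Om z) : x ∈ Dset z := hx.1

/-- An involution of the stabiliser commutes with a member. -/
theorem fixed_member {e : L} (hN : Near z e) {t : L} (ht : t ∈ S.stab) (ht2 : t * t = 1) :
    ∃ m ∈ Om z, Commute t m := by
  classical
  have hti : t⁻¹ = t := inv_eq_of_mul_eq_one_right ht2
  let σ : Equiv.Perm ↥(Om z) :=
    { toFun := fun m => ⟨t * m * t⁻¹, S.stab_conj ht m.2⟩
      invFun := fun m => ⟨t * m * t⁻¹, S.stab_conj ht m.2⟩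
      left_inv := fun m => Subtype.ext (by
        show t * (t * m * t⁻¹) * t⁻¹ = (m : L)
        rw [← mul_assoc, ← mul_assoc, ht2, one_mul, mul_assoc, ← mul_inv_rev, ht2, inv_one, mul_one])
      right_inv := fun m => Subtype.ext (by
        show t * (t * m * t⁻¹) * t⁻¹ = (m : L)
        rw [← mul_assoc, ← mul_assoc, ht2, one_mul, mul_assoc, ← mul_inv_rev, ht2, inv_one, mul_one]) }
  have : Fintype ↥(Om z) := Fintype.ofFinite _
  have : Fact (Nat.Prime 2) := ⟨Nat.prime_two⟩
  have hc : Fintype.card ↥(Om z) = 693 := by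
    rw [← Nat.card_eq_fintype_card, Nat.card_coe_set_eq, S.om_card hN]
  obtain ⟨m, hm⟩ := Equiv.Perm.exists_fixed_point_of_prime (p := 2) (n := 1) (by rw [hc]; norm_num) (σ := σ) (by
    refine Equiv.ext fun m => Subtype.ext ?_
    show t * (t * m * t⁻¹) * t⁻¹ = (m : L)
    rw [← mul_assoc, ← mul_assoc, ht2, one_mul, mul_assoc, ← mul_inv_rev, ht2, inv_one, mul_one])
  refine ⟨m, m.2, ?_⟩
  have h := congrArg Subtype.val hm
  exact mul_inv_eq_iff_eq_mul.1 h

/-- A conjugate commuting with the product of a pair lies in its component. -/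
theorem mem_comp {a x y u : L} (ha : a ∈ Dset z) (hx : x ∈ Dset z) (hy : y ∈ Dset z) (hc : Commute x y)
    (hne : x ≠ y) (hu : x * y = u) (hau : Commute a u) : a ∈ Om x := by
  obtain ⟨T⟩ := S.exists_setup hx
  exact T.mem_om_of_stab (c := y) ⟨by rw [Dset_eq hx]; exact hy, hc.symm, hne.symm⟩ (by rw [Dset_eq hx]; exact ha)
    (T.mem_stab.2 (S.pair_cent hx hy hc hne hu hau))

/-- A product of a pair is in the stabiliser of its own component only. -/
theorem pr_stab {e : L} (hN : Near z e) {x y u : L} (hx : x ∈ Dset z) (hy : y ∈ Dset z) (hc : Commute x y)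
    (hne : x ≠ y) (hu : x * y = u) (hst : u ∈ S.stab) : x ∈ Om z := by
  obtain ⟨m, hm, hmu⟩ := S.fixed_member hN hst (S.pr_sq ⟨x, hx, y, hy, hc, hne, hu⟩).1
  have h1 := S.mem_comp hm.1 hx hy hc hne hu hmu.symm
  obtain ⟨T⟩ := S.exists_setup hx
  have h2 : Om m = Om x := T.om_eq h1
  rw [S.om_eq hm] at h2
  rw [h2]
  exact self_mem_Om x

theorem near_of_comm {a x y u : L} (ha : a ∈ Dset z) (hx : x ∈ Dset z) (hy : y ∈ Dset z) (hc : Commute x y)
    (hne : x ≠ y) (hu : x * y = u) (hau : Commute a u) (hD : a * u ∉ Dset z) : Near a x ∧ Near a y := by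
  obtain ⟨T⟩ := S.exists_setup hx
  have haO : a ∈ Om x := S.mem_comp ha hx hy hc hne hu hau
  have hyO : y ∈ Om x := near_mem_om ⟨by rw [Dset_eq hx]; exact hy, hc.symm, hne.symm⟩
  have h1 : Commute a x := by
    by_contra hn
    have hcon : ∀ {v : L}, v ∈ Om x → a * v * a⁻¹ ∈ Om x := fun hv => T.stab_conj (T.om_le_stab haO) hv
    rcases T.pair_unique (self_mem_Om x) hyO (hcon (self_mem_Om x)) (hcon hyO) hc hne (commute_conj a hc)
        (fun e => hne (mul_left_cancel (mul_right_cancel e))) (by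
          rw [show a * x * a⁻¹ * (a * y * a⁻¹) = a * (x * y) * a⁻¹ by group, hu, hau.eq, mul_inv_cancel_right])
      with e | e
    · exact hn (mul_inv_eq_iff_eq_mul.1 e)
    · rw [← e, S.D_inv ha] at hc
      rcases T.om_trans (self_mem_Om x) haO with h | h
      · exact hn h.symm
      · apply hn
        have h' : x * (a * x * a) * (x * a) = 1 := by
          rw [← h, pow_succ, pow_two]; group
        rw [hc.eq] at h'
        rw [show a * x * a * x * (x * a) = a * x * (a * (x * x) * a) by group, S.D_sq hx, mul_one, S.D_sq ha,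
          mul_one, mul_eq_one_iff_eq_inv, S.D_inv hx] at h'
        rw [h']
  have h2 : Commute a y := by
    have : y = x * u := by rw [← hu, ← mul_assoc, S.D_sq hx, one_mul]
    rw [this]; exact h1.mul_right hau
  refine ⟨⟨by rw [Dset_eq ha]; exact hx, h1.symm, fun e => hD ?_⟩,
    ⟨by rw [Dset_eq ha]; exact hy, h2.symm, fun e => hD ?_⟩⟩
  · rw [← hu, e, ← mul_assoc, S.D_sq ha, one_mul]
    exact hy
  · rw [← hu, e, ← mul_assoc, h1.eq, mul_assoc, S.D_sq ha, mul_one]
    exact hx

theorem card_Q_self {e : L} (hN : Near z e) : (Qs z z).ncard * 2 ≤ 9180 := by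
  classical
  set P : Set (L × L) := {p | Near z p.1 ∧ Near z p.2 ∧ Commute p.1 p.2 ∧ p.1 ≠ p.2} with hP
  have h1 : (Qs z z).ncard * 2 ≤ P.ncard := by
    refine mul_le_ncard (fun p : L × L => p.1 * p.2) fun w hw => ?_
    obtain ⟨⟨x, hx, y, hy, hc, hne, hu⟩, hzw, hD⟩ := hw
    obtain ⟨n1, n2⟩ := S.near_of_comm self_mem hx hy hc hne hu hzw hD
    rw [← Set.ncard_pair (show (x, y) ≠ (y, x) from fun h => hne (congrArg Prod.fst h))]
    refine Set.ncard_le_ncard ?_ (Set.toFinite _)
    rintro p (rfl | rfl)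
    exacts [⟨⟨n1, n2, hc, hne⟩, hu⟩, ⟨⟨n2, n1, hc.symm, hne.symm⟩, hc.eq.symm.trans hu⟩]
  have h2 : P.ncard ≤ {x | Near z x}.ncard * 51 := by
    refine ncard_le_mul Prod.fst (fun p hp => hp.1) fun x hx => ?_
    obtain ⟨p, hp, hxp⟩ := S.near_mem_tvs hx
    set A : Set L := {y | Near z y ∧ S.φ y ∈ {t ∈ tvs | Commute t (t4 p)}} with hA
    have hs : {t ∈ tvs | Commute t (t4 p)}.ncard = 13 := by
      have h : {t ∈ tvs | Commute t (t4 p)} = tvs \ {t ∈ tvs | ¬ Commute t (t4 p)} := by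
        ext t
        simp only [Set.mem_diff, Set.mem_setOf_eq]
        tauto
      rw [h, Set.ncard_diff (fun t ht => ht.1) (Set.toFinite _), card_tvs, card_tvs_apart hp]
    have hA52 : A.ncard = 52 := by
      rw [hA, S.near_fibres hN _ (fun t ht => ht.1), hs]
    have hxA : x ∈ A := ⟨hx, S.near_mem_tvs hx, by rw [hxp]⟩
    have : {q ∈ P | q.1 = x} ⊆ (fun y => (x, y)) '' (A \ {x}) := by
      rintro ⟨q1, q2⟩ ⟨⟨k1, k2, k3, k4⟩, e'⟩
      simp only at e' k1 k2 k3 k4
      subst e'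
      exact ⟨q2, ⟨⟨k2, S.near_mem_tvs k2, by rw [← hxp]; exact (S.comm_iff k2 k1).1 k3.symm⟩, k4.symm⟩, rfl⟩
    refine le_trans (Set.ncard_le_ncard this (Set.toFinite _)) (le_trans (Set.ncard_image_le (Set.toFinite _)) ?_)
    rw [Set.ncard_diff_singleton_of_mem hxA, hA52]
  rw [S.near_card hN] at h2
  omega

theorem card_Q {e : L} (hN : Near z e) {c : L} (hc : c ∈ Dset z) : (Qs z c).ncard * 2 ≤ 9180 := by
  obtain ⟨T⟩ := S.exists_setup hc
  obtain ⟨y, hy⟩ := S.near_at hN hc
  have : Qs z c = Qs c c := by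
    ext w
    simp only [Qs, Set.mem_setOf_eq, Pr_eq hc, Dset_eq hc]
  rw [this]
  exact T.card_Q_self hy

/-- A product of three has at most twelve such members. -/
theorem card_R {x y v : L} (hx : Near z x) (hy : Near z y) (hc : Commute x y) (hne : x ≠ y)
    (hv : z * x * y = v) (hvD : v ∉ Dset z) (hvP : ¬ Pr z v) : (Rs z v).ncard ≤ 12 := by
  classical
  have hxO := near_mem_om hx
  have hyO := near_mem_om hy
  have h3 := S.three_cent hx (self_mem_Om z) hxO hyO hx.comm.symm hy.comm.symm hc hx.ne.symm hy.ne.symm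
    (fun h => by rw [hv] at h; exact h.elim hvD hvP)
  rw [hv] at h3
  have horb : {v' | ∃ g ∈ S.stab, g * v * g⁻¹ = v'}.ncard = 249480 := by
    have h := orbit_mul S.stab v
    rw [h3, S.stab_card hx] at h
    omega
  set W : Set L := {v' | ∃ g ∈ S.stab, g * v * g⁻¹ = v'} with hW
  set P : Set (L × L) := {p | p.1 ∈ Om z ∧ p.2 ∈ Qs z p.1} with hP
  have h1 : W.ncard * (Rs z v).ncard ≤ P.ncard := by
    refine mul_le_ncard (fun p : L × L => p.1 * p.2) fun v' hv' => ?_
    obtain ⟨g, hg, rfl⟩ := hv'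
    refine Set.ncard_le_ncard_of_injOn (fun c => (g * c * g⁻¹, g * (c * v) * g⁻¹)) ?_
      (fun c _ c' _ h => mul_left_cancel (mul_right_cancel (congrArg Prod.fst h))) (Set.toFinite _)
    rintro c ⟨hcO, hcv, hP'⟩
    refine ⟨⟨S.stab_conj hg hcO, Pr_conj g hP', commute_conj g ((Commute.refl c).mul_right hcv), ?_⟩, ?_⟩
    · intro hD
      apply hvD
      have := Dset_conj g⁻¹ hD
      rw [show g⁻¹ * (g * c * g⁻¹ * (g * (c * v) * g⁻¹)) * g⁻¹⁻¹ = c * c * v by group, S.D_sq hcO.1,
        one_mul] at this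
      exact this
    · show g * c * g⁻¹ * (g * (c * v) * g⁻¹) = g * v * g⁻¹
      rw [show g * c * g⁻¹ * (g * (c * v) * g⁻¹) = g * (c * c * v) * g⁻¹ by group, S.D_sq hcO.1, one_mul]
  have h2 : P.ncard ≤ (Om z).ncard * 4590 := by
    refine ncard_le_mul Prod.fst (fun p hp => hp.1) fun c hc => ?_
    have h := S.card_Q hx hc.1
    refine le_trans (Set.ncard_le_ncard_of_injOn Prod.snd ?_ ?_ (Set.toFinite _)) (show (Qs z c).ncard ≤ 4590 by omega)
    · rintro p ⟨⟨-, hp⟩, e⟩
      rwa [e] at hp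
    · rintro p ⟨-, e⟩ p' ⟨-, e'⟩ h
      exact Prod.ext (e.trans e'.symm) h
  rw [S.om_card hx] at h2
  rw [horb] at h1
  omega

/-- Every conjugate is a member. -/
theorem om_all {e : L} (hN : Near z e) : Om z = Dset z := by
  classical
  refine Set.Subset.antisymm (fun x hx => hx.1) ?_
  by_contra hne
  simp only [Set.not_subset] at hne
  set E : Set L := {x | x ∈ Dset z ∧ x ∉ Om z} with hE
  have hEne : 0 < E.ncard := (Set.ncard_pos (Set.toFinite _)).2 hne
  set U : Set L := {u | ∃ x y, x ∈ E ∧ Near x y ∧ x * y = u} with hU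
  -- pairs
  have hU2 : E.ncard * 180 ≤ U.ncard * 2 := by
    set X : Set (L × L) := {p | p.1 ∈ E ∧ Near p.1 p.2} with hX
    have h1 : E.ncard * 180 ≤ X.ncard := by
      refine mul_le_ncard Prod.fst fun x hx => ?_
      obtain ⟨T⟩ := S.exists_setup hx.1
      obtain ⟨y, hy⟩ := S.near_at hN hx.1
      rw [← T.near_card hy]
      exact Set.ncard_le_ncard_of_injOn (fun y => (x, y)) (fun y hy => ⟨⟨hx, hy⟩, rfl⟩)
        (fun y _ y' _ h => congrArg Prod.snd h) (Set.toFinite _)
    refine h1.trans (ncard_le_mul (fun p : L × L => p.1 * p.2) (fun p hp => ⟨p.1, p.2, hp.1, hp.2, rfl⟩) ?_)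
    rintro u ⟨x, y, hx, hy, hu⟩
    obtain ⟨T⟩ := S.exists_setup hx.1
    have hyD : y ∈ Dset z := by rw [← Dset_eq hx.1]; exact hy.mem
    rw [← Set.ncard_pair (show (x, y) ≠ (y, x) from fun h => hy.ne.symm (congrArg Prod.fst h))]
    refine Set.ncard_le_ncard ?_ (Set.toFinite _)
    rintro ⟨p, q⟩ ⟨⟨hp, hq⟩, e'⟩
    simp only at hp hq e'
    have hqD : q ∈ Dset z := by rw [← Dset_eq hp.1]; exact hq.mem
    have hcu : Commute p u := by
      rw [← e']; exact (Commute.refl p).mul_right hq.comm.symm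
    have hpO : p ∈ Om x := S.mem_comp hp.1 hx.1 hyD hy.comm.symm hy.ne.symm hu hcu
    have hqO : q ∈ Om x := T.om_closed hpO (by rw [Dset_eq hx.1]; exact hqD) hq.comm
    have hyO : y ∈ Om x := near_mem_om hy
    have hq' : q = p * (x * y) := by rw [hu, ← e', ← mul_assoc, S.D_sq hp.1, one_mul]
    rcases T.pair_unique (self_mem_Om x) hyO hpO hqO hy.comm.symm hy.ne.symm hq.comm.symm hq.ne.symm
        (e'.trans hu.symm) with k | k
    · exact Or.inl (Prod.ext k (by rw [hq', k, ← mul_assoc, S.D_sq hx.1, one_mul]))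
    · exact Or.inr (Prod.ext k (by rw [hq', k, hy.comm.symm.eq, ← mul_assoc, S.D_sq hyD, one_mul]))
  -- the map to products commuting with z
  let f : L → L := fun u => z * (z * u) ^ (orderOf (z * u) / 2)
  set Cs : L → Set L := fun v => {c | c ∈ E ∧ Commute c v ∧ Pr z (c * v)} with hCs
  have hmap : ∀ u ∈ U, f u ∈ Qs z z ∧ u * (z * f u) ∈ Cs (z * f u) := by
    rintro u ⟨x, y, hx, hy, hu⟩
    obtain ⟨T⟩ := S.exists_setup hx.1
    have hyD : y ∈ Dset z := by rw [← Dset_eq hx.1]; exact hy.mem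
    have hPr : Pr z u := ⟨x, hx.1, y, hyD, hy.comm.symm, hy.ne.symm, hu⟩
    have hu2 := (S.pr_sq hPr).1
    have hzu : ¬ Commute z u := fun h => hx.2 (by
      have h1 := S.mem_comp self_mem hx.1 hyD hy.comm.symm hy.ne.symm hu h
      rw [T.om_eq h1]
      exact self_mem_Om x)
    set n := orderOf (z * u) with hn
    have hn0 : 0 < n := orderOf_pos _
    have hev : Even n := by
      by_contra hodd
      obtain ⟨k, hk⟩ := Nat.not_even_iff_odd.1 hodd
      have h := dihedral_odd S.sq hu2 k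
      rw [← hk, hn, pow_orderOf_eq_one, mul_one] at h
      apply S.pr_ne_mem hPr
      have h' : ((z * u) ^ k)⁻¹ * u * (z * u) ^ k ∈ Dset z := by rw [← h]; exact self_mem
      have := Dset_conj ((z * u) ^ k) h'
      simpa [mul_assoc] using this
    obtain ⟨r, hr⟩ := hev
    have hr2 : n / 2 = r := by omega
    set v := (z * u) ^ r with hv
    have hfu : f u = z * v := by show z * _ = _; rw [← hn, hr2]
    have hv2 : (z * u) ^ (2 * r) = 1 := by rw [show 2 * r = n by omega, hn, pow_orderOf_eq_one]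
    have hvz : Commute v z := dihedral_comm S.sq hu2 hv2
    have hvu : Commute v u := by
      have h1 : Commute v (z * u) := (Commute.refl _).pow_left r
      have := hvz.mul_right h1
      rwa [← mul_assoc, S.sq, one_mul] at this
    have hv1 : v ≠ 1 := fun e' => by
      have := orderOf_dvd_of_pow_eq_one e'
      rw [← hn] at this
      have := Nat.le_of_dvd (by omega) this
      omega
    have hvi : v * v = 1 := by rw [hv, ← pow_add, ← two_mul, hv2]
    have hzv : z * (z * v) = v := by rw [← mul_assoc, S.sq, one_mul]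
    rw [hfu, hzv]
    have hxO : x ∉ Om z := hx.2
    -- v is not a conjugate
    have hvD : v ∉ Dset z := fun hD => by
      have h1 : v ∈ Om z := S.om_closed (self_mem_Om z) hD hvz
      have h2 : v ∈ Om x := S.mem_comp hD hx.1 hyD hy.comm.symm hy.ne.symm hu hvu
      apply hxO
      rw [← S.om_eq h1, T.om_eq h2]
      exact self_mem_Om x
    rcases Nat.even_or_odd r with ⟨k, hk⟩ | ⟨k, hk⟩
    · exfalso
      have hmD : z * v ∈ Dset z := by
        rw [hv, hk, ← two_mul, dihedral_even S.sq hu2]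
        have := Dset_conj ((z * u) ^ k)⁻¹ (self_mem (z := z))
        rwa [inv_inv] at this
      have hcz : Commute z (z * v) := (Commute.refl z).mul_right hvz.symm
      have hne' : z ≠ z * v := fun e' => hv1 (left_eq_mul.1 e')
      have := S.pair_cent self_mem hmD hcz hne' hzv hvu.symm
      exact hxO (S.pr_stab hN hx.1 hyD hy.comm.symm hy.ne.symm hu (S.mem_stab.2 this))
    · have hwP : Pr z (z * v) := by
        rw [hv, hk, dihedral_odd S.sq hu2]
        have := Pr_conj ((z * u) ^ k)⁻¹ hPr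
        rwa [inv_inv] at this
      have hcD : u * v ∈ Dset z := by
        have hvv : v = (u * z) ^ r := by
          have h1 : (u * z) * (z * u) = 1 := by rw [mul_assoc u, ← mul_assoc z z, S.sq, one_mul, hu2]
          rw [eq_inv_of_mul_eq_one_left h1, inv_pow, ← hv, inv_eq_of_mul_eq_one_right hvi]
        rw [hvv, hk, dihedral_odd hu2 S.sq]
        have := Dset_conj ((u * z) ^ k)⁻¹ (self_mem (z := z))
        rwa [inv_inv] at this
      refine ⟨⟨hwP, (Commute.refl z).mul_right hvz.symm, by rw [hzv]; exact hvD⟩, ⟨hcD, fun hO => hxO ?_⟩,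
        hvu.symm.mul_left (Commute.refl v), by rw [mul_assoc, hvi, mul_one]; exact hPr⟩
      have h2 : u * v ∈ Om x := S.mem_comp hcD hx.1 hyD hy.comm.symm hy.ne.symm hu
        ((Commute.refl u).mul_left hvu)
      rw [← S.om_eq hO, T.om_eq h2]
      exact self_mem_Om x
  -- components
  set C : Set (Set L) := Om '' E with hC
  have hclass : ∀ {c : L}, c ∈ E → ∀ x ∈ Om c, x ∈ E ∧ Om x = Om c := by
    intro c hc x hx
    obtain ⟨T⟩ := S.exists_setup hc.1
    have he' : Om x = Om c := T.om_eq hx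
    refine ⟨⟨by rw [← Dset_eq hc.1]; exact hx.1, fun hO => hc.2 ?_⟩, he'⟩
    rw [← S.om_eq hO, he']
    exact self_mem_Om c
  have hCcard : C.ncard * 693 ≤ E.ncard := by
    refine mul_le_ncard Om fun K hK => ?_
    obtain ⟨c, hc, rfl⟩ := hK
    obtain ⟨T⟩ := S.exists_setup hc.1
    obtain ⟨y, hy⟩ := S.near_at hN hc.1
    rw [← T.om_card hy]
    exact Set.ncard_le_ncard (fun x hx => hclass hc x hx) (Set.toFinite _)
  have hfib : ∀ w ∈ Qs z z, {u ∈ U | f u = w}.ncard ≤ C.ncard * 12 := by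
    intro w hw
    obtain ⟨⟨p, hp, q, hq, hpq, hne', hpqw⟩, hzw, hvD⟩ := id hw
    have hvz : Commute z (z * w) := (Commute.refl z).mul_right hzw
    refine le_trans (Set.ncard_le_ncard_of_injOn (t := Cs (z * w)) (fun u => u * (z * w)) ?_
      (fun a _ b _ h => mul_right_cancel h) (Set.toFinite _)) ?_
    · rintro u ⟨hu, rfl⟩
      exact (hmap u hu).2
    refine ncard_le_mul Om (fun c hc => Set.mem_image_of_mem Om hc.1) fun K _ => ?_
    rcases Set.eq_empty_or_nonempty {c ∈ Cs (z * w) | Om c = K} with h0 | ⟨c0, ⟨hc0, hcv, hP⟩, rfl⟩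
    · rw [h0, Set.ncard_empty]; exact Nat.zero_le _
    obtain ⟨T⟩ := S.exists_setup hc0.1
    obtain ⟨x, hx, y, hy, hxy, hne2, hu⟩ := id hP
    have hcu : Commute c0 (c0 * (z * w)) := (Commute.refl c0).mul_right hcv
    have hcc : c0 * (c0 * (z * w)) = z * w := by rw [← mul_assoc, S.D_sq hc0.1, one_mul]
    obtain ⟨n1, n2⟩ := S.near_of_comm hc0.1 hx hy hxy hne2 hu hcu (by rw [hcc]; exact hvD)
    have hnP : ¬ Pr z (z * w) := by
      rintro ⟨a, ha, b, hb, hab, hne3, he3⟩
      obtain ⟨A⟩ := S.exists_setup ha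
      have k1 := S.mem_comp self_mem ha hb hab hne3 he3 hvz
      have k2 := S.mem_comp hc0.1 ha hb hab hne3 he3 hcv
      exact hc0.2 (by rw [A.om_eq k1]; exact k2)
    refine le_trans (Set.ncard_le_ncard (t := Rs c0 (z * w)) ?_ (Set.toFinite _))
      (T.card_R n1 n2 hxy hne2 (by rw [mul_assoc, hu, hcc]) (by rw [Dset_eq hc0.1]; exact hvD)
        (by rw [Pr_eq hc0.1]; exact hnP))
    rintro c ⟨⟨-, h1, h2⟩, he4⟩
    exact ⟨by rw [← he4]; exact self_mem_Om c, h1, by rw [Pr_eq hc0.1]; exact h2⟩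
  have hUle : U.ncard ≤ (Qs z z).ncard * (C.ncard * 12) :=
    ncard_le_mul f (fun u hu => (hmap u hu).1) hfib
  have hQ := S.card_Q_self hN
  have hQ' : (Qs z z).ncard ≤ 4590 := by omega
  have h1 := hUle.trans (Nat.mul_le_mul_right _ hQ')
  omega

theorem stab_top {e : L} (hN : Near z e) : S.stab = ⊤ := by
  refine Subgroup.ext fun g => ⟨fun _ => trivial, fun _ => S.mem_stab.2 ?_⟩
  rw [S.om_all hN]
  exact Dset_conj g self_mem

/-- The group is PSU(6,2). -/
theorem exists_equiv {e : L} (hN : Near z e) : Nonempty (L ≃* Cfsg.PSU 6 K 2) := by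
  obtain ⟨f, -⟩ := S.exists_psu hN
  exact ⟨(Subgroup.topEquiv.symm.trans (MulEquiv.subgroupCongr (S.stab_top hN).symm)).trans f⟩

/-- The group is PSU(6,2), over any field of order four. -/
theorem exists_equiv_of_card {e : L} (hN : Near z e) (F : Type) [Field F] [Fintype F]
    (hF : Fintype.card F = 4) : Nonempty (L ≃* Cfsg.PSU 6 F 2) := by
  obtain ⟨f⟩ := S.exists_equiv hN
  exact ⟨f.trans (Unitary.psuMapEquiv (FiniteField.ringEquivOfCardEq (cardK.trans hF.symm)) 6 2)⟩

end Setup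

end Cfsg.Agent.U62Rec
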