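/-
An involution whose centraliser is an extraspecial group of order 2^9 extended by SU(4,2): the two outcomes.

* `Pre.cases` : the involution is isolated or the recognition data exist;
* `Pre.equiv_or_isolated` : PSU(6,2) or isolated;
* `exists_pre` : the setting from a normal extraspecial subgroup of the centraliser with quotient SU(4,2);
* `centralizer_sup_oddCore` : an isolated involution is central modulo the odd core.
-/
import Cfsg.Agent.Lib.U62Rec.HypWC
import Cfsg.Agent.Lib.U62Rec.HypKill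
import Cfsg.Agent.Lib.U62Rec.Unique
import Cfsg.Agent.Lib.ZStar.Unique
import Cfsg.Agent.Lib.ZStar.Statements
import Cfsg.Agent.S0822

set_option autoImplicit false

namespace Cfsg.Agent.U62Rec

open Cfsg.Agent.LargeExtraspecial

universe u w

variable {L : Type u} [Group L] [Finite L] {z : L}

/-- An isolated involution is central modulo the odd core. -/
theorem centralizer_sup_oddCore (hiso : Cfsg.IsIsolatedInvolution z) :
    Subgroup.centralizer ({z} : Set L) ⊔ Cfsg.oddCore L = ⊤ := by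
  haveI : Fact (Nat.Prime 2) := ⟨Nat.prime_two⟩
  have hz := hiso.1
  rw [eq_top_iff]
  intro g _
  set O := Cfsg.oddCore L
  haveI : O.Normal := Cores.pPrimeCore_normal 2 L
  have hmem : ∀ x : L, x * z * x⁻¹ * z⁻¹ ∈ O := fun x => by
    have h := ZStar.zStar_of_brauerSuzuki ZStar.uniqueInvolution hiso x
    rw [show x * z * x⁻¹ * z⁻¹ = (z * x * z⁻¹ * x⁻¹)⁻¹ by group]
    exact inv_mem h
  set u := g * z * g⁻¹ * z⁻¹
  set w := g * z * g⁻¹
  have hu : u ∈ O := hmem g
  obtain ⟨i, hi⟩ : Odd (orderOf u) :=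
    (Nat.coprime_two_right.1 (Cores.coprime_card_pPrimeCore 2)).of_dvd_nat (Subgroup.orderOf_dvd_natCard O hu)
  have hzz : z * z = 1 := by rw [← sq, ← hz, pow_orderOf_eq_one]
  have hzi : z⁻¹ = z := inv_eq_of_mul_eq_one_right hzz
  have hww : w * w = 1 := by
    show g * z * g⁻¹ * (g * z * g⁻¹) = 1
    rw [show g * z * g⁻¹ * (g * z * g⁻¹) = g * (z * z) * g⁻¹ by group, hzz, mul_one, mul_inv_cancel]
  have huw : u = w * z := by rw [show u = w * z⁻¹ from rfl, hzi]
  have hinv : z * u * z⁻¹ = u⁻¹ := by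
    rw [huw, mul_inv_rev, hzi, inv_eq_of_mul_eq_one_right hww, ← mul_assoc z w z, mul_assoc,
      hzz, mul_one]
  have hpow : z * u ^ (i + 1) * z⁻¹ = (u ^ (i + 1))⁻¹ := by rw [← conj_pow, hinv, inv_pow]
  have h1 : u ^ (i + 1) * z * (u ^ (i + 1))⁻¹ = w := by
    calc u ^ (i + 1) * z * (u ^ (i + 1))⁻¹ = u ^ (i + 1) * (z * (u ^ (i + 1))⁻¹ * z⁻¹) * z := by group
      _ = u ^ (i + 1) * (z * u ^ (i + 1) * z⁻¹)⁻¹ * z := by group
      _ = u ^ (2 * i + 1) * u * z := by
        rw [hpow, inv_inv, ← pow_add, ← pow_succ]; congr 2; omega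
      _ = w := by rw [← hi, pow_orderOf_eq_one, one_mul, huw, mul_assoc, hzz, mul_one]
  have hc : (u ^ (i + 1))⁻¹ * g ∈ Subgroup.centralizer ({z} : Set L) := by
    rw [Subgroup.mem_centralizer_singleton_iff]
    calc (u ^ (i + 1))⁻¹ * g * z = (u ^ (i + 1))⁻¹ * (g * z * g⁻¹) * g := by group
      _ = (u ^ (i + 1))⁻¹ * w * g := rfl
      _ = (u ^ (i + 1))⁻¹ * (u ^ (i + 1) * z * (u ^ (i + 1))⁻¹) * g := by rw [h1]
      _ = z * ((u ^ (i + 1))⁻¹ * g) := by group
  rw [show g = u ^ (i + 1) * ((u ^ (i + 1))⁻¹ * g) from (mul_inv_cancel_left _ g).symm]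
  exact mul_mem (Subgroup.mem_sup_right (pow_mem hu _)) (Subgroup.mem_sup_left hc)

/-- The dichotomy. -/
theorem Pre.cases (P : Pre z) :
    (∀ g : L, Commute (g * z * g⁻¹) z → g * z * g⁻¹ = z) ∨ Nonempty (Setup z) := by
  obtain ⟨V, _, ⟨M⟩⟩ := P.exists_modl
  rcases M.rep.dichotomy with h | h
  · exact Or.inr (M.setup_of_nat h)
  · exact Or.inl fun g hc => M.isolated_of_red h g hc

/-- PSU(6,2), or isolated. -/
theorem Pre.equiv_or_isolated (P : Pre z) (F : Type w) [Field F] [Fintype F] (hF : Fintype.card F = 4) :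
    Nonempty (L ≃* Cfsg.PSU 6 F 2) ∨ Cfsg.IsIsolatedInvolution z := by
  have hz : orderOf z = 2 := orderOf_eq_prime (by rw [pow_two, P.sq]) P.ne_one
  by_cases h : ∀ g : L, Commute z (g * z * g⁻¹) → g * z * g⁻¹ = z
  · exact Or.inr ⟨hz, h⟩
  · push Not at h
    obtain ⟨g, hc, hne⟩ := h
    rcases P.cases with hi | ⟨⟨S⟩⟩
    · exact absurd (hi g hc.symm) hne
    · have hN : Near z (g * z * g⁻¹) := ⟨⟨g, rfl⟩, hc.symm, hne⟩
      obtain ⟨f⟩ := S.exists_equiv hN
      exact Or.inl ⟨f.trans (Unitary.psuMapEquiv (FiniteField.ringEquivOfCardEq (cardK.trans hF.symm)) 6 2)⟩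

/-- SU(4,2) is PSp(4,3). -/
theorem exists_U4_equiv (F : Type w) [Field F] [Fintype F] (hF : Fintype.card F = 3) :
    Nonempty (Cfsg.PSp 2 F ≃* U4) := by
  obtain ⟨f⟩ := S0822.result (F := K) (K := F) cardK hF
  exact ⟨f.symm.trans ((QuotientGroup.quotientMulEquivOfEq center_U4).trans QuotientGroup.quotientBot)⟩

/-- The setting, from a normal extraspecial subgroup of the centraliser. -/
theorem exists_pre (hz : orderOf z = 2) (J : Subgroup (Subgroup.centralizer ({z} : Set L))) [J.Normal]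
    (hJ : Cfsg.IsExtraspecial 2 ↥J) (hJc : Nat.card J = 2 ^ 9)
    (hCJ : Subgroup.centralizer (J : Set (Subgroup.centralizer ({z} : Set L))) ≤ J)
    (e : (Subgroup.centralizer ({z} : Set L)) ⧸ J ≃* U4) :
    ∃ P : Pre z, P.J = J.map (Subgroup.centralizer ({z} : Set L)).subtype := by
  classical
  set J' : Subgroup L := J.map (Subgroup.centralizer ({z} : Set L)).subtype
  have hJC : J' ≤ (Subgroup.centralizer ({z} : Set L)) := Subgroup.map_subtype_le J
  have hzC : z ∈ (Subgroup.centralizer ({z} : Set L)) := Subgroup.mem_centralizer_singleton_iff.2 rfl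
  have hex : Cfsg.IsExtraspecial 2 ↥J' :=
    isExtraspecial_congr (Subgroup.equivMapOfInjective J (Subgroup.centralizer ({z} : Set L)).subtype (Subgroup.centralizer ({z} : Set L)).subtype_injective) hJ
  have hcm : ∀ j ∈ J', Commute j z := fun j hj => Subgroup.mem_centralizer_singleton_iff.1 (hJC hj)
  have hzJ : z ∈ J' := by
    refine ⟨⟨z, hzC⟩, hCJ (Subgroup.mem_centralizer_iff.2 fun j _ => Subtype.ext ?_), rfl⟩
    exact (Subgroup.mem_centralizer_singleton_iff.1 j.2)
  have hzc : z ∈ zc J' := mem_zc.2 ⟨hzJ, fun q hq => (hcm q hq).eq⟩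
  have hgen : zc J' = Subgroup.zpowers z := by
    refine (Subgroup.eq_of_le_of_card_ge (Subgroup.zpowers_le.2 hzc) ?_).symm
    rw [card_zc hex, Nat.card_zpowers, hz]
  have hL2 : Subgroup.centralizer (J' : Set L) = zc J' := by
    refine le_antisymm (fun x hx => ?_) fun x hx => ?_
    · have hxC : x ∈ (Subgroup.centralizer ({z} : Set L)) := Subgroup.mem_centralizer_singleton_iff.2 (Subgroup.mem_centralizer_iff.1 hx z hzJ).symm
      have hxJ : (⟨x, hxC⟩ : (Subgroup.centralizer ({z} : Set L))) ∈ J := hCJ (Subgroup.mem_centralizer_iff.2 fun j hj =>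
        Subtype.ext (Subgroup.mem_centralizer_iff.1 hx j ⟨j, hj, rfl⟩))
      exact mem_zc.2 ⟨⟨_, hxJ, rfl⟩, fun q hq => Subgroup.mem_centralizer_iff.1 hx q hq⟩
    · exact Subgroup.mem_centralizer_iff.2 (mem_zc.1 hx).2
  have hL3 : Subgroup.centralizer (zc J' : Set L) ≤ Subgroup.normalizer (J' : Set L) := by
    intro c hc
    have hcC : c ∈ (Subgroup.centralizer ({z} : Set L)) := Subgroup.mem_centralizer_singleton_iff.2 (Subgroup.mem_centralizer_iff.1 hc z hzc).symm
    refine Subgroup.mem_normalizer_iff.2 fun q => ⟨?_, ?_⟩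
    · rintro ⟨j, hj, rfl⟩
      exact ⟨⟨c, hcC⟩ * j * ⟨c, hcC⟩⁻¹, Subgroup.Normal.conj_mem ‹J.Normal› j hj _, rfl⟩
    · rintro ⟨j, hj, hj'⟩
      refine ⟨⟨c, hcC⟩⁻¹ * j * ⟨c, hcC⟩, ?_, ?_⟩
      · simpa using Subgroup.Normal.conj_mem ‹J.Normal› j hj (⟨c, hcC⟩⁻¹ : (Subgroup.centralizer ({z} : Set L)))
      · show c⁻¹ * (j : L) * c = q
        rw [show (j : L) = c * q * c⁻¹ from hj']
        group
  refine ⟨{
    J := J'
    φ := fun h => if hh : h ∈ (Subgroup.centralizer ({z} : Set L)) then e (QuotientGroup.mk ⟨h, hh⟩) else 1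
    D := Data.of_extraspecial hex hL2 hL3 hgen hz
    extra := hex
    card := by rw [Subgroup.card_subtype, hJc]; norm_num
    φ_mul := ?_
    φ_ker := ?_
    φ_surj := ?_ }, rfl⟩
  · intro g h hg hh
    have hg' : g ∈ (Subgroup.centralizer ({z} : Set L)) := Subgroup.mem_centralizer_singleton_iff.2 hg
    have hh' : h ∈ (Subgroup.centralizer ({z} : Set L)) := Subgroup.mem_centralizer_singleton_iff.2 hh
    rw [dif_pos hg', dif_pos hh', dif_pos (mul_mem hg' hh'), ← map_mul]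
    rfl
  · intro h hh
    have hh' : h ∈ (Subgroup.centralizer ({z} : Set L)) := Subgroup.mem_centralizer_singleton_iff.2 hh
    rw [dif_pos hh', MulEquiv.map_eq_one_iff, QuotientGroup.eq_one_iff]
    exact ⟨fun hm => ⟨_, hm, rfl⟩, fun ⟨y, hy, he⟩ => (Subtype.ext he : y = ⟨h, hh'⟩) ▸ hy⟩
  · intro x
    obtain ⟨⟨h, hh⟩, hx⟩ := QuotientGroup.mk_surjective (e.symm x)
    exact ⟨h, Subgroup.mem_centralizer_singleton_iff.1 hh, by rw [dif_pos hh, hx, MulEquiv.apply_symm_apply]⟩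

/-- PSU(6,2), or central modulo the odd core. -/
theorem recognise (hz : orderOf z = 2) (J : Subgroup (Subgroup.centralizer ({z} : Set L))) [J.Normal]
    (hJ : Cfsg.IsExtraspecial 2 ↥J) (hJc : Nat.card J = 2 ^ 9)
    (hCJ : Subgroup.centralizer (J : Set (Subgroup.centralizer ({z} : Set L))) ≤ J)
    (e : (Subgroup.centralizer ({z} : Set L)) ⧸ J ≃* U4)
    (F : Type w) [Field F] [Fintype F] (hF : Fintype.card F = 4) :
    Nonempty (L ≃* Cfsg.PSU 6 F 2) ∨ Subgroup.centralizer ({z} : Set L) ⊔ Cfsg.oddCore L = ⊤ := by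
  obtain ⟨P, -⟩ := exists_pre hz J hJ hJc hCJ e
  exact (P.equiv_or_isolated F hF).imp_right centralizer_sup_oddCore

end Cfsg.Agent.U62Rec
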