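/-
An involution whose centraliser is an extraspecial group of order 2^9 extended by SU(4,2) and an outer
automorphism: the module, and the setting of a conjugate inside the extraspecial group.

* `Ext z` : the setting; `Ext.twist`; `Mod2 E V` : coordinates; `Ext.exists_mod`, `Mod2.lift_fix`;
* `Mod2.T` : the action of the whole centraliser, `T_act` : it permutes the image;
* `Ext.Aft`, `Ext.A0`, `Ext.theta` : the centraliser in the conjugate extraspecial group, its inner part, its image.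
-/
import Cfsg.Agent.Lib.U62Rec.HypPre
import Cfsg.Agent.Lib.U62Rec.HypRed

set_option autoImplicit false

namespace Cfsg.Agent.U62Rec

open Cfsg.Agent.LargeExtraspecial
open scoped commutatorElement

universe u v

variable {G : Type u} [Group G]

/-- The setting. -/
structure Ext (z : G) where
  /-- The extraspecial subgroup. -/
  J : Subgroup G
  /-- The inner part of the centraliser. -/
  H0 : Subgroup G
  /-- The map onto SU(4,2). -/
  φ : G → U4
  D : Data J z
  extra : Cfsg.IsExtraspecial 2 ↥J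
  card : Nat.card J = 512
  le : ∀ h ∈ H0, Commute h z
  J_le : J ≤ H0
  norm : ∀ x, Commute x z → ∀ h ∈ H0, x * h * x⁻¹ ∈ H0
  out_mul : ∀ x y, Commute x z → Commute y z → x ∉ H0 → y ∉ H0 → x * y ∈ H0
  φ_mul : ∀ g ∈ H0, ∀ h ∈ H0, φ (g * h) = φ g * φ h
  φ_ker : ∀ h ∈ H0, (φ h = 1 ↔ h ∈ J)
  φ_surj : ∀ x : U4, ∃ h ∈ H0, φ h = x
  out : ∀ x, Commute x z → (∀ k ∈ H0, φ (x * k * x⁻¹) = φ k) → x ∈ H0

/-- Coordinates modulo the centre. -/
structure Mod2 {z : G} (E : Ext z) (V : Type v) [AddCommGroup V] where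
  /-- The coordinates. -/
  vc : G → V
  /-- The module. -/
  rep : Rep V
  vc_mul : ∀ i ∈ E.J, ∀ j ∈ E.J, vc (i * j) = vc i + vc j
  vc_surj : ∀ x : V, ∃ j ∈ E.J, vc j = x
  vc_ker : ∀ j ∈ E.J, vc j = 0 → j = 1 ∨ j = z
  vc_z : vc z = 0
  sq_iff : ∀ j ∈ E.J, (j * j = 1 ↔ rep.q (vc j) = 0)
  comm_iff : ∀ i ∈ E.J, ∀ j ∈ E.J, (Commute i j ↔ rep.β (vc i) (vc j) = 0)
  vc_conj : ∀ h ∈ E.H0, ∀ j ∈ E.J, vc (h * j * h⁻¹) = rep.act (E.φ h) (vc j)

/-- Half of an extraspecial group centralises a noncentral element. -/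
theorem half_cent' [Finite G] {Q : Subgroup G} {c : G} (D : Data Q c) {s : G} (hs : s ∈ Q) (h1 : s ≠ 1)
    (h2 : s ≠ c) : Nat.card Q ≤ 2 * Nat.card (Q ⊓ Subgroup.centralizer ({s} : Set G) : Subgroup G) := by
  classical
  obtain ⟨j0, hj0, hj0s⟩ := D.exists_conj_eq hs h1 h2
  have hmv : ∀ j ∈ Q, ¬ Commute j s → j0⁻¹ * j ∈ (Q ⊓ Subgroup.centralizer ({s} : Set G) : Subgroup G) := by
    intro j hj hjs
    refine Subgroup.mem_inf.2 ⟨mul_mem (inv_mem hj0) hj, Subgroup.mem_centralizer_singleton_iff.2 ?_⟩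
    have e : j * s * j⁻¹ = s * c := by
      rcases D.comm j hj s hs with e | e
      · exact absurd (commutatorElement_eq_one_iff_mul_comm.1 e) hjs
      · calc j * s * j⁻¹ = ⁅j, s⁆ * s := by rw [commutatorElement_def]; group
          _ = s * c := by rw [e]; exact (D.z_central s hs).symm
    calc j0⁻¹ * j * s = j0⁻¹ * (j * s * j⁻¹) * j := by group
      _ = j0⁻¹ * (j0 * s * j0⁻¹) * j := by rw [e, hj0s]
      _ = s * (j0⁻¹ * j) := by group
  let i : Q → (Q ⊓ Subgroup.centralizer ({s} : Set G) : Subgroup G) × Bool := fun j =>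
    if h : Commute (j : G) s then (⟨j, j.2, Subgroup.mem_centralizer_singleton_iff.2 h⟩, false)
    else (⟨j0⁻¹ * j, hmv j j.2 h⟩, true)
  have hi : Function.Injective i := fun x y h => by
    simp only [i] at h
    split_ifs at h with h1 h2 h2 <;> simp only [Prod.mk.injEq, Subtype.mk.injEq, Bool.false_eq_true,
      Bool.true_eq_false, and_false, and_true] at h
    · have e := congrArg Subtype.val h
      exact Subtype.ext e
    · exact Subtype.ext (mul_left_cancel (a := j0⁻¹) h)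
  have := Nat.card_le_card_of_injective i hi
  rw [Nat.card_prod, Nat.card_eq_fintype_card (α := Bool), Fintype.card_bool] at this
  omega

namespace Ext

variable {z : G} (E : Ext z)

/-- Another identification of the image. -/
def twist (ψ : U4 ≃* U4) : Ext z where
  J := E.J
  H0 := E.H0
  φ h := ψ (E.φ h)
  D := E.D
  extra := E.extra
  card := E.card
  le := E.le
  J_le := E.J_le
  norm := E.norm
  out_mul := E.out_mul
  φ_mul g hg h hh := by rw [E.φ_mul g hg h hh, map_mul]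
  φ_ker h hh := by rw [← E.φ_ker h hh]; exact MulEquiv.map_eq_one_iff ψ
  φ_surj x := by
    obtain ⟨h, hh, e⟩ := E.φ_surj (ψ.symm x)
    exact ⟨h, hh, by rw [e, MulEquiv.apply_symm_apply]⟩
  out x hx h := E.out x hx fun k hk => ψ.injective (h k hk)

include E

theorem sq : z * z = 1 := E.D.z_sq
theorem inv : z⁻¹ = z := inv_eq_of_mul_eq_one_right E.sq

theorem J_comm {j : G} (hj : j ∈ E.J) : Commute j z := E.D.z_central j hj

theorem φ_J {j : G} (hj : j ∈ E.J) : E.φ j = 1 := (E.φ_ker j (E.J_le hj)).2 hj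

theorem φ_one : E.φ 1 = 1 := E.φ_J (one_mem _)

theorem φ_inv {h : G} (hh : h ∈ E.H0) : E.φ h⁻¹ = (E.φ h)⁻¹ :=
  eq_inv_of_mul_eq_one_left (by rw [← E.φ_mul _ (inv_mem hh) _ hh, inv_mul_cancel, E.φ_one])

theorem φ_conj {g h : G} (hg : g ∈ E.H0) (hh : h ∈ E.H0) : E.φ (g * h * g⁻¹) = E.φ g * E.φ h * (E.φ g)⁻¹ := by
  rw [E.φ_mul _ (mul_mem hg hh) _ (inv_mem hg), E.φ_mul _ hg _ hh, E.φ_inv hg]

theorem φ_pow {h : G} (hh : h ∈ E.H0) : ∀ n : ℕ, E.φ (h ^ n) = E.φ h ^ n
  | 0 => by rw [pow_zero, pow_zero, E.φ_one]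
  | n + 1 => by rw [pow_succ, pow_succ, E.φ_mul _ (pow_mem hh n) _ hh, φ_pow hh n]

/-- Coordinates exist. -/
theorem exists_mod [Finite G] : ∃ (V : Type u) (_ : AddCommGroup V), Nonempty (Mod2 E V) := by
  classical
  have hzH : z ∈ E.H0 := E.J_le E.D.z_mem
  let z0 : E.H0 := ⟨z, hzH⟩
  have hz0 : ∀ l : E.H0, Commute l z0 := fun l => Subtype.ext (E.le l l.2).eq
  let P : Pre z0 :=
    { J := E.J.subgroupOf E.H0
      φ := fun l => E.φ l
      D :=
        { z_mem := E.D.z_mem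
          z_ne := fun e => E.D.z_ne (congrArg Subtype.val e)
          z_sq := Subtype.ext E.D.z_sq
          z_central := fun q hq => Subtype.ext (E.D.z_central (q : G) hq)
          cent := fun x hx => by
            rcases E.D.cent (x : G) fun q hq => congrArg Subtype.val (hx ⟨q, E.J_le hq⟩ hq) with e | e
            exacts [Or.inl (Subtype.ext e), Or.inr (Subtype.ext e)]
          comm := fun a ha b hb => by
            rcases E.D.comm (a : G) ha (b : G) hb with e | e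
            exacts [Or.inl (Subtype.ext e), Or.inr (Subtype.ext e)]
          norm := fun c _ q hq => E.D.norm (c : G) (E.le c c.2) (q : G) hq }
      extra := isExtraspecial_congr (Subgroup.subgroupOfEquivOfLe E.J_le).symm E.extra
      card := by rw [Nat.card_congr (Subgroup.subgroupOfEquivOfLe E.J_le).toEquiv, E.card]
      φ_mul := fun a b _ _ => E.φ_mul _ a.2 _ b.2
      φ_ker := fun h _ => E.φ_ker _ h.2
      φ_surj := fun x => by
        obtain ⟨h, hh, e⟩ := E.φ_surj x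
        exact ⟨⟨h, hh⟩, hz0 _, e⟩ }
  obtain ⟨V, iV, ⟨M⟩⟩ := P.exists_modl
  let w : G → V := fun x => if hx : x ∈ E.H0 then M.vc ⟨x, hx⟩ else 0
  have hw : ∀ l : E.H0, w l = M.vc l := fun l => by simp only [w]; rw [dif_pos l.2]
  exact ⟨V, iV, ⟨
    { vc := w
      rep := M.rep
      vc_mul := fun i hi j hj => by
        have := M.vc_mul ⟨i, E.J_le hi⟩ hi ⟨j, E.J_le hj⟩ hj
        rw [← hw, ← hw, ← hw] at this
        exact this
      vc_surj := fun x => by
        obtain ⟨j, hj, e⟩ := M.vc_surj x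
        exact ⟨j, hj, (hw j).trans e⟩
      vc_ker := fun j hj e => by
        rcases M.vc_ker ⟨j, E.J_le hj⟩ hj ((hw _).symm.trans e) with h | h
        exacts [Or.inl (congrArg Subtype.val h), Or.inr (congrArg Subtype.val h)]
      vc_z := (hw z0).trans M.vc_z
      sq_iff := fun j hj => by
        have := M.sq_iff ⟨j, E.J_le hj⟩ hj
        rw [← hw] at this
        rw [← this]
        exact ⟨fun e => Subtype.ext e, fun e => congrArg Subtype.val e⟩
      comm_iff := fun i hi j hj => by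
        have := M.comm_iff ⟨i, E.J_le hi⟩ hi ⟨j, E.J_le hj⟩ hj
        rw [← hw, ← hw] at this
        rw [← this]
        exact ⟨fun e => Subtype.ext e.eq, fun e => congrArg Subtype.val e.eq⟩
      vc_conj := fun h hh j hj => by
        have := M.vc_conj ⟨h, hh⟩ (hz0 _) ⟨j, E.J_le hj⟩ hj
        rw [← hw, ← hw] at this
        exact this }⟩⟩

end Ext

namespace Mod2

variable {z : G} {E : Ext z} {V : Type v} [AddCommGroup V] (M : Mod2 E V)

include M

theorem vc_one : M.vc 1 = 0 := by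
  have h := M.vc_mul 1 (one_mem _) 1 (one_mem _)
  rw [one_mul] at h
  exact h.trans (M.rep.self _)

theorem vc_inv {j : G} (hj : j ∈ E.J) : M.vc j⁻¹ = M.vc j := by
  have h := M.vc_mul _ (inv_mem hj) _ hj
  rw [inv_mul_cancel, M.vc_one] at h
  exact M.rep.eq_of_add h.symm

theorem vc_eq_cases {i j : G} (hi : i ∈ E.J) (hj : j ∈ E.J) (h : M.vc i = M.vc j) : i = j ∨ i = j * z := by
  rcases M.vc_ker _ (mul_mem (inv_mem hj) hi) (by rw [M.vc_mul _ (inv_mem hj) _ hi, M.vc_inv hj, h, M.rep.self])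
    with e | e
  · exact Or.inl (inv_mul_eq_one.1 e).symm
  · exact Or.inr (by rw [← e, mul_inv_cancel_left])

theorem vc_ne_zero {j : G} (hj : j ∈ E.J) (h1 : j ≠ 1) (h2 : j ≠ z) : M.vc j ≠ 0 := fun e =>
  (M.vc_ker j hj e).elim h1 h2

theorem vc_zmul {j : G} (hj : j ∈ E.J) : M.vc (j * z) = M.vc j := by
  rw [M.vc_mul j hj z E.D.z_mem, M.vc_z, add_zero]

/-- Lifting the stabiliser of a vector into the centraliser of a representative. -/
theorem lift_fix {t : G} (ht : t ∈ E.J) (h1 : t ≠ 1) (h2 : t ≠ z) {a : U4} (ha : M.rep.act a (M.vc t) = M.vc t) :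
    ∃ h ∈ E.H0, Commute h t ∧ E.φ h = a := by
  obtain ⟨h, hh, rfl⟩ := E.φ_surj a
  have hm : h * t * h⁻¹ ∈ E.J := E.D.norm h (E.le h hh) t ht
  have hv : M.vc (h * t * h⁻¹) = M.vc t := by rw [M.vc_conj h hh t ht, ha]
  rcases M.vc_eq_cases hm ht hv with e | e
  · exact ⟨h, hh, mul_inv_eq_iff_eq_mul.1 e, rfl⟩
  · obtain ⟨j, hj, hjt⟩ := E.D.exists_conj_eq ht h1 h2
    refine ⟨j * h, mul_mem (E.J_le hj) hh, mul_inv_eq_iff_eq_mul.1 ?_, ?_⟩
    · calc j * h * t * (j * h)⁻¹ = j * (h * t * h⁻¹) * j⁻¹ := by group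
        _ = j * (t * z) * j⁻¹ := by rw [e]
        _ = j * t * j⁻¹ * (j * z * j⁻¹) := by group
        _ = t * z * z := by rw [hjt, (E.J_comm hj).eq, mul_inv_cancel_right]
        _ = t := by rw [mul_assoc, E.sq, mul_one]
    · rw [E.φ_mul _ (E.J_le hj) _ hh, E.φ_J hj, one_mul]

/-- The action of an element of the centraliser. -/
noncomputable def T (x : G) (w : V) : V := M.vc (x * (M.vc_surj w).choose * x⁻¹)

variable {x y : G} (hx : Commute x z)
include hx

theorem T_vc {j : G} (hj : j ∈ E.J) : M.T x (M.vc j) = M.vc (x * j * x⁻¹) := by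
  obtain ⟨hi, he⟩ := (M.vc_surj (M.vc j)).choose_spec
  rw [T]
  rcases M.vc_eq_cases hi hj he with e | e <;> rw [e]
  have : x * (j * z) * x⁻¹ = x * j * x⁻¹ * z := by
    calc x * (j * z) * x⁻¹ = x * j * (z * x⁻¹) := by group
      _ = x * j * (x⁻¹ * z) := by rw [hx.inv_left.eq]
      _ = _ := by group
  rw [this, M.vc_zmul (E.D.norm x hx j hj)]

theorem T_add (a b : V) : M.T x (a + b) = M.T x a + M.T x b := by
  obtain ⟨i, hi, rfl⟩ := M.vc_surj a
  obtain ⟨j, hj, rfl⟩ := M.vc_surj b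
  rw [← M.vc_mul i hi j hj, M.T_vc hx (mul_mem hi hj), M.T_vc hx hi, M.T_vc hx hj,
    ← M.vc_mul _ (E.D.norm x hx i hi) _ (E.D.norm x hx j hj)]
  congr 1
  group

theorem T_zero : M.T x 0 = 0 := by
  have h := M.T_add hx 0 0
  rw [add_zero] at h
  exact left_eq_add.1 h

theorem T_inv (w : V) : M.T x⁻¹ (M.T x w) = w := by
  obtain ⟨j, hj, rfl⟩ := M.vc_surj w
  rw [M.T_vc hx hj, M.T_vc hx.inv_left (E.D.norm x hx j hj)]
  congr 1
  group

theorem T_q (w : V) : M.rep.q (M.T x w) = M.rep.q w := by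
  obtain ⟨j, hj, rfl⟩ := M.vc_surj w
  rw [M.T_vc hx hj]
  have hiff : x * j * x⁻¹ * (x * j * x⁻¹) = 1 ↔ j * j = 1 := by
    rw [show x * j * x⁻¹ * (x * j * x⁻¹) = x * (j * j) * x⁻¹ by group, conj_eq_one_iff]
  have h1 := M.sq_iff j hj
  have h2 := M.sq_iff _ (E.D.norm x hx j hj)
  rw [hiff, h1] at h2
  rcases two_cases (M.rep.q (M.vc j)) with e | e
  · rw [e, h2.1 e]
  · rcases two_cases (M.rep.q (M.vc (x * j * x⁻¹))) with e' | e'
    · rw [h2.2 e'] at e
      exact absurd e zero_ne_one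
    · rw [e, e']

theorem T_β (a b : V) : M.rep.β (M.T x a) (M.T x b) = M.rep.β a b := by
  have h := M.rep.q_add (M.T x a) (M.T x b)
  rw [← M.T_add hx, M.T_q hx, M.T_q hx, M.T_q hx, M.rep.q_add a b] at h
  exact (add_left_cancel h).symm

theorem T_act {h : G} (hh : h ∈ E.H0) (w : V) :
    M.T x (M.rep.act (E.φ h) w) = M.rep.act (E.φ (x * h * x⁻¹)) (M.T x w) := by
  obtain ⟨j, hj, rfl⟩ := M.vc_surj w
  rw [← M.vc_conj h hh j hj, M.T_vc hx (E.D.norm h (E.le h hh) j hj), M.T_vc hx hj,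
    ← M.vc_conj _ (E.norm x hx h hh) _ (E.D.norm x hx j hj)]
  congr 1
  group

theorem T_invol (h2 : x * x ∈ E.J) (w : V) : M.T x (M.T x w) = w := by
  obtain ⟨j, hj, rfl⟩ := M.vc_surj w
  rw [M.T_vc hx hj, M.T_vc hx (E.D.norm x hx j hj),
    show x * (x * j * x⁻¹) * x⁻¹ = x * x * j * (x * x)⁻¹ by group,
    M.vc_mul _ (mul_mem h2 hj) _ (inv_mem h2), M.vc_mul _ h2 _ hj, M.vc_inv h2, add_comm (M.vc (x * x)),
    add_assoc, M.rep.self, add_zero]

end Mod2

/-! ### A conjugate inside the extraspecial group -/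

namespace Ext

variable {z : G} (E : Ext z) (g : G)

/-- The centraliser in the conjugate extraspecial group. -/
def Aft : Subgroup G := conjS g E.J ⊓ Subgroup.centralizer ({z} : Set G)

/-- Its inner part. -/
def A0 : Subgroup G := E.Aft g ⊓ E.H0

variable {g}

theorem Aft_z {x : G} (hx : x ∈ E.Aft g) : Commute x z := Subgroup.mem_centralizer_singleton_iff.1 hx.2

theorem Aft_t {x : G} (hx : x ∈ E.Aft g) : Commute x (g * z * g⁻¹) := (E.D.conjugate g).z_central x hx.1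

/-- The image of the inner part. -/
def theta (g : G) : E.A0 g →* U4 :=
  MonoidHom.mk' (fun x => E.φ x) fun x y => E.φ_mul _ x.2.2 _ y.2.2

variable [Finite G] (ht : g * z * g⁻¹ ∈ E.J) (hne : g * z * g⁻¹ ≠ z)
include ht hne

theorem z_mem_conj : z ∈ conjS g E.J := E.D.mem_conj ht hne (by rw [E.card]; norm_num)

theorem card_conjS : Nat.card (conjS g E.J) = 512 := by
  rw [← E.card]
  exact (Nat.card_congr (Subgroup.equivMapOfInjective E.J (MulAut.conj g).toMonoidHom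
    (MulAut.conj g).injective).toEquiv).symm

theorem card_Aft : Nat.card (E.Aft g) = 256 := by
  have h1 : 512 ≤ 2 * Nat.card (E.Aft g) := by
    rw [← E.card_conjS ht hne]
    exact half_cent' (E.D.conjugate g) (E.z_mem_conj ht hne) E.D.z_ne hne.symm
  have hlt : E.Aft g < conjS g E.J := lt_of_le_of_ne inf_le_left fun e => by
    rcases (E.D.conjugate g).cent z fun q hq => by
      exact (Subgroup.mem_centralizer_singleton_iff.1 (e.ge hq).2) with h | h
    exacts [E.D.z_ne h, hne h.symm]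
  have h2 := Subgroup.card_dvd_of_le hlt.le
  have h3 : Nat.card (E.Aft g) ≠ Nat.card (conjS g E.J) := fun e =>
    hlt.ne (Subgroup.eq_of_le_of_card_ge hlt.le e.ge)
  rw [E.card_conjS ht hne] at h2 h3
  obtain ⟨k, hk⟩ := h2
  have : k ≤ 2 := by nlinarith
  interval_cases k <;> omega

theorem card_A0 {x : G} (hx : x ∈ E.Aft g) (hxo : x ∉ E.H0) : Nat.card (E.A0 g) = 128 := by
  classical
  have hA := E.card_Aft ht hne
  let i : E.Aft g → E.A0 g × Bool := fun y =>
    if h : (y : G) ∈ E.H0 then (⟨y, y.2, h⟩, false)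
    else (⟨(x : G)⁻¹ * y, (E.Aft g).mul_mem ((E.Aft g).inv_mem hx) y.2,
      E.out_mul _ _ (E.Aft_z hx).inv_left (E.Aft_z y.2) (fun e => hxo (inv_mem_iff.1 e)) h⟩, true)
  have hi : Function.Injective i := fun a b h => by
    simp only [i] at h
    split_ifs at h with h1 h2 h2 <;> simp only [Prod.mk.injEq, Subtype.mk.injEq, Bool.false_eq_true,
      Bool.true_eq_false, and_false, and_true] at h
    · have e := congrArg Subtype.val h
      exact Subtype.ext e
    · have e := congrArg Subtype.val h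
      exact Subtype.ext (mul_left_cancel (a := x⁻¹) e)
  have h1 := Nat.card_le_card_of_injective i hi
  rw [Nat.card_prod, Nat.card_eq_fintype_card (α := Bool), Fintype.card_bool, hA] at h1
  have hle : E.A0 g ≤ E.Aft g := inf_le_left
  have h2 := Subgroup.card_dvd_of_le hle
  have h3 : Nat.card (E.A0 g) ≠ 256 := fun e => hxo
    ((Subgroup.eq_of_le_of_card_ge hle (by rw [hA, e])).ge hx).2
  rw [hA] at h2
  obtain ⟨k, hk⟩ := h2
  have : k ≤ 2 := by nlinarith
  interval_cases k <;> omega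

theorem A0_of_all (h : ∀ x ∈ E.Aft g, x ∈ E.H0) : Nat.card (E.A0 g) = 256 := by
  rw [show E.A0 g = E.Aft g from le_antisymm inf_le_left fun x hx => ⟨hx, h x hx⟩, E.card_Aft ht hne]

theorem inter_le : E.J ⊓ conjS g E.J ≤ E.A0 g := fun x hx =>
  ⟨⟨hx.2, Subgroup.mem_centralizer_singleton_iff.2 (E.J_comm hx.1)⟩, E.J_le hx.1⟩

theorem card_theta :
    Nat.card (E.J ⊓ conjS g E.J : Subgroup G) * Nat.card (E.theta g).range = Nat.card (E.A0 g) := by
  have h := (E.theta g).ker.card_mul_index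
  rw [Subgroup.index_ker] at h
  rw [← h]
  congr 1
  refine Nat.card_congr
    { toFun := fun x => ⟨⟨x, E.inter_le ht hne x.2⟩, (E.φ_ker _ (E.J_le x.2.1)).2 x.2.1⟩
      invFun := fun x => ⟨((x : E.A0 g) : G), (E.φ_ker _ x.1.2.2).1 x.2, x.1.2.1.1⟩
      left_inv := fun _ => rfl
      right_inv := fun _ => rfl }

theorem sq_mem {x : G} (hx : x ∈ E.Aft g) : x * x ∈ E.J := by
  rcases (E.D.conjugate g).sq hx.1 with e | e <;> rw [e]
  exacts [one_mem _, ht]

theorem comm_mem {x j : G} (hx : x ∈ E.Aft g) (hj : j ∈ E.J) (hjt : Commute j (g * z * g⁻¹)) :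
    x * j * x⁻¹ * j⁻¹ ∈ E.J ⊓ conjS g E.J := by
  refine Subgroup.mem_inf.2 ⟨mul_mem (E.D.norm x (E.Aft_z hx) j hj) (inv_mem hj), ?_⟩
  rw [show x * j * x⁻¹ * j⁻¹ = x * (j * x⁻¹ * j⁻¹) by group]
  have hx1 : x ∈ conjS g E.J := hx.1
  exact mul_mem hx1 ((E.D.conjugate g).norm j hjt _ (inv_mem hx1))

theorem range_sq : ∀ y ∈ (E.theta g).range, y * y = 1 := by
  rintro _ ⟨x, rfl⟩
  rw [← map_mul]
  exact (E.φ_ker _ (x * x).2.2).2 (E.sq_mem ht hne x.2.1)

theorem range_comm : ∀ a ∈ (E.theta g).range, ∀ b ∈ (E.theta g).range, a * b = b * a := fun a ha b hb => by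
  have h := E.range_sq ht hne _ (mul_mem ha hb)
  calc a * b = (a * b)⁻¹ := (inv_eq_of_mul_eq_one_right h).symm
    _ = b⁻¹ * a⁻¹ := mul_inv_rev a b
    _ = b * a := by
      rw [inv_eq_of_mul_eq_one_right (E.range_sq ht hne a ha), inv_eq_of_mul_eq_one_right (E.range_sq ht hne b hb)]

theorem conj_A0 {h : G} (hh : h ∈ E.H0) (hht : Commute h (g * z * g⁻¹)) {x : G} (hx : x ∈ E.A0 g) :
    h * x * h⁻¹ ∈ E.A0 g :=
  ⟨⟨(E.D.conjugate g).norm h hht x hx.1.1, Subgroup.mem_centralizer_singleton_iff.2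
      (((E.le h hh).mul_left (E.le x hx.2)).mul_left (E.le h hh).inv_left)⟩,
    E.H0.mul_mem (E.H0.mul_mem hh hx.2) (E.H0.inv_mem hh)⟩

theorem range_conj {h : G} (hh : h ∈ E.H0) (hht : Commute h (g * z * g⁻¹)) :
    ∀ y ∈ (E.theta g).range, E.φ h * y * (E.φ h)⁻¹ ∈ (E.theta g).range := by
  rintro _ ⟨x, rfl⟩
  exact ⟨⟨_, E.conj_A0 ht hne hh hht x.2⟩, E.φ_conj hh x.2.2⟩

theorem t_ne_one : g * z * g⁻¹ ≠ 1 := fun e => E.D.z_ne (conj_eq_one_iff.1 e)

end Ext

namespace Mod2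

variable {z : G} {E : Ext z} {V : Type v} [AddCommGroup V] (M : Mod2 E V) {g : G}
  (ht : g * z * g⁻¹ ∈ E.J)
include ht

theorem range_fix : ∀ y ∈ (E.theta g).range, M.rep.act y (M.vc (g * z * g⁻¹)) = M.vc (g * z * g⁻¹) := by
  rintro _ ⟨x, rfl⟩
  show M.rep.act (E.φ x) _ = _
  rw [← M.vc_conj _ x.2.2 _ ht, (E.Aft_t x.2.1).eq, mul_inv_cancel_right]

theorem T_fix {x : G} (hx : x ∈ E.Aft g) : M.T x (M.vc (g * z * g⁻¹)) = M.vc (g * z * g⁻¹) := by
  rw [M.T_vc (E.Aft_z hx) ht, (E.Aft_t hx).eq, mul_inv_cancel_right]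

end Mod2

end Cfsg.Agent.U62Rec
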