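/-
An involution whose centraliser is an extraspecial group of order 2^9 extended by Aut SU(4,2), natural case:
no other conjugate lies in the extraspecial group.

* `Crd M` : natural coordinates; `Mod2.twist`; `Mod2.exists_crd`;
* `Crd.semilinear`, `Crd.inner_of_linear`, `Crd.anti` : outer elements act antilinearly;
* `Crd.wc_inner`, `Crd.wc_outer`, `Crd.wc` : the conclusion.
-/
import Cfsg.Agent.Lib.U62Rec.OutPre
import Cfsg.Agent.Lib.U62Rec.HypWC

set_option autoImplicit false

namespace Cfsg.Agent.U62Rec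

open Cfsg.Agent.ThreeTransSU Cfsg.Agent.U62Cover Cfsg.Agent.LargeExtraspecial
open scoped commutatorElement

universe u v

theorem k_tau : ∀ t : K → K, (∀ a b, t (a + b) = t a + t b) → t 1 = 1 → (∀ a, t a = 0 → a = 0) →
    (∀ a, t a = a) ∨ ∀ a, t a = a ^ 2 := by decide +kernel
theorem k_lin : ∀ a b : K, (a + a ^ 2 = 0 ↔ b + b ^ 2 = 0) →
    (om * a + (om * a) ^ 2 = 0 ↔ om * b + (om * b) ^ 2 = 0) → a = b := by decide +kernel
theorem k_anti : ∀ a b : K, (a + a ^ 2 = 0 ↔ b + b ^ 2 = 0) →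
    (om ^ 2 * a + (om ^ 2 * a) ^ 2 = 0 ↔ om * b + (om * b) ^ 2 = 0) → a = b ^ 2 := by decide +kernel
theorem k_perp : ∀ a : K, a + a ^ 2 = 0 → om ^ 2 * a + (om ^ 2 * a) ^ 2 = 0 → a = 0 := by decide +kernel
theorem k_sep : ∀ a b : K, a + om * b = 0 → a + om ^ 2 * b = 0 → b = 0 := by decide +kernel
theorem k_om_sum : om + om ^ 2 = 1 ∧ (om ^ 2) ^ 2 = om := by decide +kernel
theorem k_fix_sq : ∀ c : K, c ^ 2 = c ↔ c = 0 ∨ c = 1 := by decide +kernel

variable {G : Type u} [Group G] {z : G} {E : Ext z} {V : Type v} [AddCommGroup V]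

/-- The same coordinates for a twisted map. -/
noncomputable def Mod2.twist (M : Mod2 E V) (ψ : U4 ≃* U4) : Mod2 (E.twist ψ) V where
  vc := M.vc
  rep :=
    { act := fun a => M.rep.act (ψ.symm a)
      q := M.rep.q
      β := M.rep.β
      act_one := fun w => by rw [map_one]; exact M.rep.act_one w
      act_mul := fun a b w => by rw [map_mul]; exact M.rep.act_mul _ _ w
      self := M.rep.self
      q_add := M.rep.q_add
      β_add := M.rep.β_add
      β_nondeg := M.rep.β_nondeg
      q_act := fun a w => M.rep.q_act _ w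
      faithful := fun a h => by
        have := M.rep.faithful _ h
        exact ψ.symm.map_eq_one_iff.1 this
      card := M.rep.card }
  vc_mul := M.vc_mul
  vc_surj := M.vc_surj
  vc_ker := M.vc_ker
  vc_z := M.vc_z
  sq_iff := M.sq_iff
  comm_iff := M.comm_iff
  vc_conj h hh j hj := by
    show _ = M.rep.act (ψ.symm (ψ (E.φ h))) (M.vc j)
    rw [MulEquiv.symm_apply_apply]
    exact M.vc_conj h hh j hj

/-- Natural coordinates. -/
structure Crd (M : Mod2 E V) where
  /-- The map onto the natural module. -/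
  f : V → V4
  fb : Function.Bijective f
  fa : ∀ x y, f (x + y) = f x + f y
  fc : ∀ a w, f (M.rep.act a w) = ThreeTransSU.act a (f w)
  fq : ∀ w, M.rep.q w = 0 ↔ hf (f w) (f w) = 0

/-- Natural coordinates exist in the natural case. -/
theorem Mod2.exists_crd (M : Mod2 E V) (h : M.rep.IsNat) : ∃ ψ : U4 ≃* U4, Nonempty (Crd (M.twist ψ)) := by
  obtain ⟨f, ψ, hb, ha, hc, hq⟩ := M.rep.exists_natural h
  refine ⟨ψ, ⟨⟨f, hb, ha, fun a w => ?_, hq⟩⟩⟩
  show f (M.rep.act (ψ.symm a) w) = _
  rw [hc, MulEquiv.apply_symm_apply]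

namespace Crd

variable {M : Mod2 E V} (C : Crd M)

/-- The coordinate vector. -/
def vec (j : G) : V4 := C.f (M.vc j)

include C

theorem f_zero : C.f 0 = 0 := by
  have := C.fa 0 0
  rw [add_zero] at this
  exact left_eq_add.1 this

theorem vec_mul {i j : G} (hi : i ∈ E.J) (hj : j ∈ E.J) : C.vec (i * j) = C.vec i + C.vec j := by
  rw [vec, vec, vec, M.vc_mul i hi j hj, C.fa]

theorem vec_inv {j : G} (hj : j ∈ E.J) : C.vec j⁻¹ = C.vec j := by rw [vec, vec, M.vc_inv hj]

theorem vec_surj (x : V4) : ∃ j ∈ E.J, C.vec j = x := by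
  obtain ⟨w, rfl⟩ := C.fb.2 x
  obtain ⟨j, hj, rfl⟩ := M.vc_surj w
  exact ⟨j, hj, rfl⟩

theorem vec_z : C.vec z = 0 := by rw [vec, M.vc_z, C.f_zero]

theorem vec_eq_cases {i j : G} (hi : i ∈ E.J) (hj : j ∈ E.J) (h : C.vec i = C.vec j) : i = j ∨ i = j * z :=
  M.vc_eq_cases hi hj (C.fb.1 h)

theorem vec_ker {j : G} (hj : j ∈ E.J) (h : C.vec j = 0) : j = 1 ∨ j = z :=
  M.vc_ker j hj (C.fb.1 (h.trans C.f_zero.symm))

theorem vec_sq {j : G} (hj : j ∈ E.J) : j * j = 1 ↔ hf (C.vec j) (C.vec j) = 0 :=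
  (M.sq_iff j hj).trans (C.fq _)

theorem vec_conj {h j : G} (hh : h ∈ E.H0) (hj : j ∈ E.J) :
    C.vec (h * j * h⁻¹) = ThreeTransSU.act (E.φ h) (C.vec j) := by
  rw [vec, vec, M.vc_conj h hh j hj, C.fc]

theorem β_iff (a b : V) : M.rep.β a b = 0 ↔ B (C.f a) (C.f b) = 0 := by
  have hs' : ∀ x : V4, hf x x = 0 ∨ hf x x = 1 := fun x => k_cases _ ((herm cardK).self_fixed x)
  have hB : B (C.f a) (C.f b) = 0 ∨ B (C.f a) (C.f b) = 1 := k_cases _ (by
    have : ∀ t : K, (t + t ^ 2) ^ 2 = t + t ^ 2 := by decide +kernel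
    exact this _)
  have hsum : hf (C.f (a + b)) (C.f (a + b)) = hf (C.f a) (C.f a) + hf (C.f b) (C.f b) + B (C.f a) (C.f b) := by
    rw [C.fa]
    simp only [hl, hr, B, hs (C.f a) (C.f b)]
    ring
  have h1 := C.fq a
  have h2 := C.fq b
  have h3 := C.fq (a + b)
  rw [M.rep.q_add, hsum] at h3
  have h11 : (1 : K) + 1 = 0 := k_add_self 1
  have h11' : (1 : ZMod 2) + 1 = 0 := by decide
  have h10 : (1 : K) ≠ 0 := one_ne_zero
  have h10' : (1 : ZMod 2) ≠ 0 := one_ne_zero
  rcases two_cases (M.rep.q a) with p | p <;> rcases two_cases (M.rep.q b) with r | r <;>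
    rcases two_cases (M.rep.β a b) with s | s <;> rcases hs' (C.f a) with x | x <;>
    rcases hs' (C.f b) with y | y <;> rcases hB with w | w <;>
    simp [p, r, s, x, y, w, h11, h11'] at h1 h2 h3 ⊢

theorem vec_comm {i j : G} (hi : i ∈ E.J) (hj : j ∈ E.J) : Commute i j ↔ B (C.vec i) (C.vec j) = 0 :=
  (M.comm_iff i hi j hj).trans (C.β_iff _ _)

/-- The action in coordinates. -/
noncomputable def T4 (x : G) (u : V4) : V4 := C.f (M.T x ((Equiv.ofBijective C.f C.fb).symm u))

theorem T4_f (x : G) (w : V) : C.T4 x (C.f w) = C.f (M.T x w) := by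
  rw [T4, Equiv.ofBijective_symm_apply_apply]

variable {x : G} (hx : Commute x z)
include hx

theorem T4_vec {j : G} (hj : j ∈ E.J) : C.T4 x (C.vec j) = C.vec (x * j * x⁻¹) := by
  rw [vec, C.T4_f, M.T_vc hx hj]
  rfl

theorem T4_add (a b : V4) : C.T4 x (a + b) = C.T4 x a + C.T4 x b := by
  obtain ⟨a, rfl⟩ := C.fb.2 a
  obtain ⟨b, rfl⟩ := C.fb.2 b
  rw [← C.fa, C.T4_f, C.T4_f, C.T4_f, M.T_add hx, C.fa]

theorem T4_inv (u : V4) : C.T4 x⁻¹ (C.T4 x u) = u := by
  obtain ⟨w, rfl⟩ := C.fb.2 u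
  rw [C.T4_f, C.T4_f, M.T_inv hx]

theorem T4_inv' (u : V4) : C.T4 x (C.T4 x⁻¹ u) = u := by
  have := C.T4_inv hx.inv_left u
  rwa [inv_inv] at this

theorem T4_inj : Function.Injective (C.T4 x) := fun a b h => by
  rw [← C.T4_inv hx a, h, C.T4_inv hx]

theorem T4_zero : C.T4 x 0 = 0 := by
  have h := C.T4_add hx 0 0
  rw [add_zero] at h
  exact left_eq_add.1 h

theorem T4_B (a b : V4) : B (C.T4 x a) (C.T4 x b) = 0 ↔ B a b = 0 := by
  obtain ⟨a, rfl⟩ := C.fb.2 a
  obtain ⟨b, rfl⟩ := C.fb.2 b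
  rw [C.T4_f, C.T4_f, ← C.β_iff, ← C.β_iff, M.T_β hx]

theorem T4_act {h : G} (hh : h ∈ E.H0) (u : V4) :
    C.T4 x (ThreeTransSU.act (E.φ h) u) = ThreeTransSU.act (E.φ (x * h * x⁻¹)) (C.T4 x u) := by
  obtain ⟨w, rfl⟩ := C.fb.2 u
  rw [← C.fc, C.T4_f, C.T4_f, ← C.fc, M.T_act hx hh]

theorem T4_invol (h2 : x * x ∈ E.J) (u : V4) : C.T4 x (C.T4 x u) = u := by
  obtain ⟨w, rfl⟩ := C.fb.2 u
  rw [C.T4_f, C.T4_f, M.T_invol hx h2]

/-- Isotropic lines go to lines. -/
theorem line {p : V4} (hp : Iso p) (d : K) : ∃ c : K, C.T4 x (d • p) = c • C.T4 x p := by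
  obtain ⟨h, hh, hφ⟩ := E.φ_surj (t4 p)
  set k' := E.φ (x * h * x⁻¹)
  have key : ∀ u, C.T4 x (hf u p • p) = R k' (C.T4 x u) := fun u => by
    have h1 := C.T4_act hx hh u
    rw [hφ, act_tv cardK hp.2, C.T4_add hx, act_eq_add k' (C.T4 x u)] at h1
    exact add_left_cancel h1
  obtain ⟨u0, hu0⟩ := exists_hf_one cardK hp.1
  have hTp : C.T4 x p = R k' (C.T4 x u0) := by rw [← key, hu0, one_smul]
  have hne : C.T4 x p ≠ 0 := fun e => hp.1 (C.T4_inj hx (e.trans (C.T4_zero hx).symm))
  have hd : ∀ c : K, ∃ d : K, C.T4 x (d • p) = c • C.T4 x p := fun c => by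
    refine ⟨hf (C.T4 x⁻¹ (c • C.T4 x u0)) p, ?_⟩
    rw [key, C.T4_inv' hx, R_smul, hTp]
  choose e he using hd
  have hinj : Function.Injective e := fun a b h => by
    have := he a
    rw [h, he b] at this
    exact (smul_left_injective K hne this).symm
  obtain ⟨c, rfl⟩ := (Finite.injective_iff_surjective.1 hinj) d
  exact ⟨c, he c⟩

theorem line_tau {p : V4} (hp : Iso p) : (∀ d : K, C.T4 x (d • p) = d • C.T4 x p) ∨
    ∀ d : K, C.T4 x (d • p) = d ^ 2 • C.T4 x p := by
  choose t ht using fun d => C.line hx hp d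
  have hne : C.T4 x p ≠ 0 := fun e => hp.1 (C.T4_inj hx (e.trans (C.T4_zero hx).symm))
  have hinj := smul_left_injective K hne
  rcases k_tau t (fun a b => hinj (by
      show t (a + b) • C.T4 x p = (t a + t b) • C.T4 x p
      rw [← ht, add_smul, add_smul, C.T4_add hx, ← ht, ← ht]))
    (hinj (by show t 1 • C.T4 x p = (1 : K) • C.T4 x p; rw [← ht, one_smul, one_smul]))
    (fun a ha => by
      have := ht a
      rw [ha, zero_smul, ← C.T4_zero hx] at this
      exact (smul_eq_zero.1 (C.T4_inj hx this)).resolve_right hp.1) with h | h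
  · exact Or.inl fun d => by rw [ht, h]
  · exact Or.inr fun d => by rw [ht, h]

theorem tau_pair {p q : V4} (hpq : OrthPair p q) {τ τ' : K → K} (hτ : ∀ d, C.T4 x (d • p) = τ d • C.T4 x p)
    (hτ' : ∀ d, C.T4 x (d • q) = τ' d • C.T4 x q) (d : K) : τ d = τ' d := by
  have hsum : Iso (p + q) := ⟨fun e => hpq.2.2.2 1 (by rw [one_smul]; exact (veq e).symm), by
    simp only [hl, hr, hpq.1.2, hpq.2.1.2, hpq.2.2.1, hs0 hpq.2.2.1, add_zero]⟩
  obtain ⟨c, hc⟩ := C.line hx hsum d
  rw [smul_add, C.T4_add hx, C.T4_add hx, hτ, hτ', smul_add] at hc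
  have hli : LinearIndependent K ![C.T4 x p, C.T4 x q] := by
    refine (LinearIndependent.pair_iff' fun e => hpq.1.1 (C.T4_inj hx (e.trans (C.T4_zero hx).symm))).2 fun a e => ?_
    have hd : ∀ c : K, ∃ d : K, τ d = c := by
      have hinj : Function.Injective τ := fun a b h => by
        have h1 := hτ a
        rw [h, ← hτ b] at h1
        exact smul_left_injective K hpq.1.1 (C.T4_inj hx h1)
      exact fun c => (Finite.injective_iff_surjective.1 hinj) c
    obtain ⟨b, rfl⟩ := hd a
    rw [← hτ] at e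
    exact hpq.2.2.2 b (C.T4_inj hx e).symm
  have h0 := Fintype.linearIndependent_iff.1 hli ![τ d + c, τ' d + c] (by
    rw [Fin.sum_univ_two]
    simp only [Matrix.cons_val_zero, Matrix.cons_val_one, add_smul]
    rw [add_add_add_comm, hc]
    exact vv _)
  have e0 := k_eq_of_add _ _ (h0 0)
  have e1 := k_eq_of_add _ _ (h0 1)
  exact e0.trans e1.symm

/-- Elements of the centraliser act semilinearly. -/
theorem semilinear : (∀ (c : K) (u : V4), C.T4 x (c • u) = c • C.T4 x u) ∨
    ∀ (c : K) (u : V4), C.T4 x (c • u) = c ^ 2 • C.T4 x u := by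
  obtain ⟨q, f, g, hfr⟩ := exists_frame_one (p := p₀) std_pair.1
  set p := p₀
  have hpq : OrthPair p q := ⟨hfr.iso_p, hfr.iso_q, hfr.pq, fun c e => by
    have := congrArg (fun y => hf y g) e
    simp only [sl, hfr.qg, hfr.pg, mul_zero] at this
    exact one_ne_zero this⟩
  have hfg : OrthPair f g := ⟨hfr.iso_f, hfr.iso_g, hfr.fg, fun c e => by
    have := congrArg (fun y => hf y q) e
    simp only [sl, hfr.gq, hfr.fq, mul_zero] at this
    exact one_ne_zero this⟩
  have hpg : OrthPair p g := ⟨hfr.iso_p, hfr.iso_g, hfr.pg, fun c e => by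
    have := congrArg (fun y => hf y q) e
    simp only [sl, hfr.gq, hfr.pq, mul_zero] at this
    exact one_ne_zero this⟩
  obtain ⟨τ, hτ, hτm⟩ : ∃ τ : K → K, ((∀ d, τ d = d) ∨ ∀ d, τ d = d ^ 2) ∧
      ∀ d, C.T4 x (d • p) = τ d • C.T4 x p := by
    rcases C.line_tau hx hfr.iso_p with h | h
    exacts [⟨id, Or.inl fun _ => rfl, h⟩, ⟨fun d => d ^ 2, Or.inr fun _ => rfl, h⟩]
  have hmul : ∀ a b, τ (a * b) = τ a * τ b := fun a b => by
    rcases hτ with h | h <;> rw [h, h, h]
    exact mul_pow a b 2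
  have any : ∀ r : V4, Iso r → ∃ τ' : K → K, ∀ d, C.T4 x (d • r) = τ' d • C.T4 x r := fun r hr => by
    rcases C.line_tau hx hr with h | h
    exacts [⟨id, h⟩, ⟨fun d => d ^ 2, h⟩]
  obtain ⟨τq, hq⟩ := any q hfr.iso_q
  obtain ⟨τg, hg⟩ := any g hfr.iso_g
  obtain ⟨τf, hf'⟩ := any f hfr.iso_f
  have eq' : ∀ d, τq d = τ d := fun d => (C.tau_pair hx hpq hτm hq d).symm
  have eg : ∀ d, τg d = τ d := fun d => (C.tau_pair hx hpg hτm hg d).symm
  have ef : ∀ d, τf d = τ d := fun d => (C.tau_pair hx hfg hf' hg d).trans (eg d)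
  have hall : ∀ c u, C.T4 x (c • u) = τ c • C.T4 x u := by
    intro c u
    rw [hfr.expand u]
    simp only [smul_add, smul_smul, C.T4_add hx, hτm, hq, hg, hf', eq', eg, ef, hmul]
  rcases hτ with h | h
  · exact Or.inl fun c u => by rw [hall, h]
  · exact Or.inr fun c u => by rw [hall, h]

/-- A linearly acting element with square in J is inner. -/
theorem inner_of_linear (h2 : x * x ∈ E.J) (hlin : ∀ (c : K) (u : V4), C.T4 x (c • u) = c • C.T4 x u) :
    x ∈ E.H0 := by
  classical
  have hiso : ∀ u w, hf (C.T4 x u) (C.T4 x w) = hf u w := fun u w => by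
    refine k_lin _ _ (C.T4_B hx u w) ?_
    have := C.T4_B hx (om • u) w
    rw [hlin, B, B, sl, sl] at this
    exact this
  let L : V4 →ₗ[K] V4 :=
    { toFun := C.T4 x
      map_add' := C.T4_add hx
      map_smul' := fun c u => by rw [RingHom.id_apply]; exact hlin c u }
  set m := LinearMap.toMatrix' L with hm
  have hmv : ∀ u, Matrix.mulVec m u = C.T4 x u := fun u => LinearMap.toMatrix'_mulVec L u
  have hdet : m.det = 1 := by
    have hmm : m * m = 1 := by
      refine Matrix.toLin'.injective (LinearMap.ext fun u => ?_)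
      rw [Matrix.toLin'_apply, Matrix.toLin'_apply, ← Matrix.mulVec_mulVec, hmv, hmv, C.T4_invol hx h2,
        Matrix.one_mulVec]
    have h1 := congrArg Matrix.det hmm
    rw [Matrix.det_mul, Matrix.det_one] at h1
    have : ∀ d : K, d * d = 1 → d = 1 := by decide +kernel
    exact this _ h1
  let k : U4 := ⟨⟨m, hdet⟩, fun u w => by
    show hf (Matrix.mulVec m u) (Matrix.mulVec m w) = hf u w
    rw [hmv, hmv, hiso]⟩
  have hk : ∀ u, ThreeTransSU.act k u = C.T4 x u := hmv
  obtain ⟨h, hh, hφ⟩ := E.φ_surj k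
  have hconj : ∀ n ∈ E.H0, E.φ (x * n * x⁻¹) = k * E.φ n * k⁻¹ := fun n hn => by
    refine act_ext fun u => ?_
    have h1 := C.T4_act hx hn (C.T4 x⁻¹ u)
    rw [C.T4_inv' hx] at h1
    rw [← h1, act_mul, act_mul, ← hk]
    congr 2
    apply C.T4_inj hx
    rw [C.T4_inv' hx, ← hk, act_act_inv]
  have hh' := E.le h hh
  have hxh : h⁻¹ * x ∈ E.H0 := E.out _ (hh'.inv_left.mul_left hx) fun n hn => by
    have hm' := E.norm x hx n hn
    rw [show h⁻¹ * x * n * (h⁻¹ * x)⁻¹ = h⁻¹ * (x * n * x⁻¹) * (h⁻¹)⁻¹ by group,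
      E.φ_conj (inv_mem hh) hm', hconj n hn, E.φ_inv hh, hφ]
    group
  have := E.H0.mul_mem hh hxh
  rwa [mul_inv_cancel_left] at this

/-- Outer elements with square in J act antilinearly, and semi-isometrically. -/
theorem anti (h2 : x * x ∈ E.J) (hxo : x ∉ E.H0) :
    (∀ (c : K) (u : V4), C.T4 x (c • u) = c ^ 2 • C.T4 x u) ∧ ∀ u w, hf (C.T4 x u) (C.T4 x w) = hf u w ^ 2 := by
  have hanti := (C.semilinear hx).resolve_left fun h => hxo (C.inner_of_linear hx h2 h)
  refine ⟨hanti, fun u w => k_anti _ _ (C.T4_B hx u w) ?_⟩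
  have := C.T4_B hx (om • u) w
  rw [hanti, B, B, sl, sl] at this
  exact this

end Crd

/-! ### The conjugate -/

namespace Crd

variable {M : Mod2 E V} (C : Crd M) (g : G)

/-- The common part. -/
def com : Set V4 := {u | ∃ x ∈ E.J, x ∈ conjS g E.J ∧ C.vec x = u}

variable {g} [Finite G] (ht : g * z * g⁻¹ ∈ E.J) (hne : g * z * g⁻¹ ≠ z)
include C ht hne

theorem com_add (u w : V4) (hu : u ∈ C.com g) (hw : w ∈ C.com g) : u + w ∈ C.com g := by
  obtain ⟨x, hx, hx', rfl⟩ := hu
  obtain ⟨y, hy, hy', rfl⟩ := hw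
  exact ⟨x * y, mul_mem hx hy, mul_mem hx' hy', C.vec_mul hx hy⟩

theorem com_zero : (0 : V4) ∈ C.com g := ⟨z, E.D.z_mem, E.z_mem_conj ht hne, C.vec_z⟩

theorem com_v : C.vec (g * z * g⁻¹) ∈ C.com g := ⟨_, ht, (E.D.conjugate g).z_mem, rfl⟩

theorem com_inv {a : U4} (ha : ThreeTransSU.act a (C.vec (g * z * g⁻¹)) = C.vec (g * z * g⁻¹)) {u : V4}
    (hu : u ∈ C.com g) : ThreeTransSU.act a u ∈ C.com g := by
  obtain ⟨x, hx, hx', rfl⟩ := hu
  obtain ⟨h, hh, hht, rfl⟩ := M.lift_fix ht (E.t_ne_one ht hne) hne (a := a) (C.fb.1 (by rw [C.fc]; exact ha))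
  exact ⟨h * x * h⁻¹, E.D.norm h (E.le h hh) x hx, (E.D.conjugate g).norm h hht x hx', C.vec_conj hh hx⟩

theorem com_sing {u : V4} (hu : u ∈ C.com g) : hf u u = 0 := by
  obtain ⟨x, hx, hx', rfl⟩ := hu
  refine (C.vec_sq hx).1 ?_
  rcases E.D.sq hx with e | e
  · exact e
  · rcases (E.D.conjugate g).sq hx' with e' | e'
    · exact e'
    · exact absurd (e'.symm.trans e) hne

theorem com_B {u w : V4} (hu : u ∈ C.com g) (hw : w ∈ C.com g) : B u w = 0 := by
  have h := C.com_sing ht hne (C.com_add ht hne u w hu hw)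
  simp only [hl, hr, C.com_sing ht hne hu, C.com_sing ht hne hw, hs u w, zero_add, add_zero] at h
  rw [B, add_comm]
  exact h

theorem com_shear {u : V4} (hu : u ∈ C.com g) (huv : hf u (C.vec (g * z * g⁻¹)) = 0)
    (hno : ∀ c : K, u ≠ c • C.vec (g * z * g⁻¹)) : om • C.vec (g * z * g⁻¹) ∈ C.com g := by
  set v := C.vec (g * z * g⁻¹) with hvdef
  have hv0 : v ≠ 0 := fun e => (C.vec_ker ht e).elim (E.t_ne_one ht hne) hne
  have hu0 : u ≠ 0 := fun e => hno 0 (by rw [e, zero_smul])
  obtain ⟨f', g', hfr'⟩ := exists_frame (p := v) (q := u)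
    ⟨⟨hv0, C.com_sing ht hne (C.com_v ht hne)⟩, ⟨hu0, C.com_sing ht hne hu⟩, hs0 huv, hno⟩
  obtain ⟨a, hap, hax⟩ := hfr'.exists_shear (om * om)
  have hm := C.com_inv ht hne hap hu
  rw [hax u huv, sr, hfr'.qg, mul_one] at hm
  have h2 := C.com_add ht hne _ _ hu hm
  rw [← add_assoc, vv, zero_add, show (om * om) ^ 2 = om from by decide +kernel] at h2
  exact h2

theorem com_small (hom : om • C.vec (g * z * g⁻¹) ∉ C.com g) :
    ∀ u ∈ C.com g, u = 0 ∨ u = C.vec (g * z * g⁻¹) := by
  set v := C.vec (g * z * g⁻¹) with hvdef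
  have hv0 : v ≠ 0 := fun e => (C.vec_ker ht e).elim (E.t_ne_one ht hne) hne
  have hvv : hf v v = 0 := C.com_sing ht hne (C.com_v ht hne)
  have key : ∀ u ∈ C.com g, hf u v = 0 → ∃ c : K, u = c • v := by
    intro u hu huv
    by_contra hno
    simp only [not_exists] at hno
    exact hom (C.com_shear ht hne hu huv hno)
  obtain ⟨q, ff, gg, hfr⟩ := exists_frame_one (p := v) ⟨hv0, hvv⟩
  intro u hu
  rcases k_tr_zero _ (C.com_B ht hne hu (C.com_v ht hne)) with huv | huv
  · obtain ⟨c, rfl⟩ := key u hu huv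
    rcases k_four c with rfl | rfl | rfl | rfl
    · exact Or.inl (zero_smul K v)
    · exact Or.inr (one_smul K v)
    · exact absurd hu hom
    · refine absurd ?_ hom
      have := C.com_add ht hne _ _ hu (C.com_v ht hne)
      rwa [← hvdef, show (om * om) • v + v = (om * om + 1) • v by rw [add_smul, one_smul],
        show om * om + 1 = om from by decide +kernel] at this
  · exfalso
    have huv : hf u v = 1 := huv
    obtain ⟨r, hr', hrv, hur, hrnot⟩ : ∃ r, hf r r = 0 ∧ hf v r = 0 ∧ hf u r ≠ 0 ∧ ∀ c : K, r ≠ c • v := by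
      by_cases h : hf u q = 0
      · refine ⟨q + v, ?_, ?_, ?_, fun c e => ?_⟩
        · simp only [hl, hr, hfr.qq, hfr.qp, hfr.pq, hvv, add_zero]
        · simp only [hr, hfr.pq, hvv, add_zero]
        · simp only [hr, h, huv, zero_add]; exact one_ne_zero
        · have := congrArg (fun x => hf x gg) e
          simp only [hl, sl, hfr.qg, hfr.pg, mul_zero, add_zero] at this
          exact one_ne_zero this
      · refine ⟨q, hfr.qq, hfr.pq, h, fun c e => ?_⟩
        have := congrArg (fun x => hf x gg) e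
        simp only [sl, hfr.qg, hfr.pg, mul_zero] at this
        exact one_ne_zero this
    have hm := C.com_inv ht hne (a := t4 r) (act_tv_of_orth cardK hr' hrv) hu
    have h2 := C.com_add ht hne _ _ hu hm
    rw [act_tv cardK hr', ← add_assoc, vv, zero_add] at h2
    obtain ⟨c, hc⟩ := key _ h2 (by rw [sl, hs0 hrv, mul_zero])
    refine hrnot ((hf u r)⁻¹ * c) ?_
    rw [mul_smul, ← hc, inv_smul_smul₀ hur]

/-- All elements inner: impossible. -/
theorem wc_inner (hall : ∀ x ∈ E.Aft g, x ∈ E.H0) : False := by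
  classical
  haveI := M.rep.finite
  set t := g * z * g⁻¹ with htdef
  have ht1 : t ≠ 1 := E.t_ne_one ht hne
  have hzQ := E.z_mem_conj ht hne
  have hv0 : C.vec t ≠ 0 := fun e => (C.vec_ker ht e).elim ht1 hne
  obtain ⟨-, -, -, -, -, hom0, hom1, -, -, -⟩ := k_tbl
  by_cases hom : om • C.vec t ∈ C.com g
  · obtain ⟨w, hw, hwQ, hwv⟩ := hom
    have hb : ∀ {i : G}, i ∈ conjS g E.J → g⁻¹ * i * g ∈ E.J := fun hi => mem_conjS.1 hi
    set N : G → V := fun y => M.vc (g⁻¹ * y * g) with hN
    have Ncomm : ∀ i ∈ conjS g E.J, ∀ j ∈ conjS g E.J, (Commute i j ↔ M.rep.β (N i) (N j) = 0) := by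
      intro i hi j hj
      rw [← M.comm_iff _ (hb hi) _ (hb hj)]
      constructor
      · intro h; exact h.map (MulAut.conj g⁻¹).toMonoidHom |> fun h' => by simpa [mul_assoc] using h'
      · intro h
        have := h.map (MulAut.conj g).toMonoidHom
        simpa [mul_assoc] using this
    have Ncases : ∀ i ∈ conjS g E.J, ∀ j ∈ conjS g E.J, N i = N j → i = j ∨ i = j * t := by
      intro i hi j hj h
      have conv : ∀ y : G, g⁻¹ * i * g = y → i = g * y * g⁻¹ := fun y e => by rw [← e]; group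
      rcases M.vc_eq_cases (hb hi) (hb hj) h with e | e
      · exact Or.inl ((conv _ e).trans (by group))
      · exact Or.inr ((conv _ e).trans (by rw [htdef]; group))
    have N1 : N 1 = 0 := by
      show M.vc (g⁻¹ * 1 * g) = 0
      rw [mul_one, inv_mul_cancel, M.vc_one]
    let S0 : AddSubgroup V :=
      { carrier := {x | x = 0 ∨ x = N z}
        zero_mem' := Or.inl rfl
        add_mem' := fun {x y} hx hy => by
          rcases hx with rfl | rfl <;> rcases hy with rfl | rfl
          exacts [Or.inl (add_zero _), Or.inr (zero_add _), Or.inr (add_zero _), Or.inl (M.rep.self _)]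
        neg_mem' := fun {x} hx => by rw [M.rep.neg_eq]; exact hx }
    have hw1 : ∀ c : K, c = 0 ∨ c = 1 → C.vec w ≠ c • C.vec t := by
      rintro c hc e
      rw [hwv] at e
      rcases hc with rfl | rfl
      · exact hom0 (smul_left_injective K hv0 e)
      · exact hom1 (smul_left_injective K hv0 e)
    have hwS : N w ∉ S0 := by
      rintro (e | e)
      · rcases Ncases w hwQ 1 (one_mem _) (e.trans N1.symm) with e' | e'
        · exact hw1 0 (Or.inl rfl) (by rw [e', zero_smul, vec, M.vc_one, C.f_zero])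
        · exact hw1 1 (Or.inr rfl) (by rw [e', one_mul, one_smul])
      · rcases Ncases w hwQ z hzQ e with e' | e'
        · exact hw1 0 (Or.inl rfl) (by rw [e', zero_smul, C.vec_z])
        · exact hw1 1 (Or.inr rfl) (by rw [e', C.vec_mul E.D.z_mem ht, C.vec_z, zero_add, one_smul])
    obtain ⟨y, hy0, hy1⟩ := M.rep.sep S0 hwS
    obtain ⟨j0, hj0, rfl⟩ := M.vc_surj y
    set j := g * j0 * g⁻¹ with hjdef
    have hjQ : j ∈ conjS g E.J := mem_conjS.2 (by simpa [hjdef, mul_assoc] using hj0)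
    have hjN : N j = M.vc j0 := by show M.vc (g⁻¹ * (g * j0 * g⁻¹) * g) = _; congr 1; group
    have hjz : Commute j z := ((Ncomm z hzQ j hjQ).2 (by rw [hjN]; exact hy0 _ (Or.inr rfl))).symm
    have hjw : ¬ Commute j w := fun h => by
      have h' := (Ncomm w hwQ j hjQ).1 h.symm
      rw [hjN, hy1] at h'
      exact one_ne_zero h'
    have hjA : j ∈ E.Aft g := ⟨hjQ, Subgroup.mem_centralizer_singleton_iff.2 hjz⟩
    have hjH := hall j hjA
    have hjwt : j * w * j⁻¹ = w * t := by
      rcases (E.D.conjugate g).comm j hjQ w hwQ with e | e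
      · exact absurd (commutatorElement_eq_one_iff_mul_comm.1 e) hjw
      · calc j * w * j⁻¹ = ⁅j, w⁆ * w := by rw [commutatorElement_def]; group
          _ = w * t := by rw [e]; exact ((E.D.conjugate g).z_central w hwQ).symm
    have hav : ThreeTransSU.act (E.φ j) (C.vec t) = C.vec t := by
      rw [← C.vec_conj hjH ht, (E.Aft_t hjA).eq, mul_inv_cancel_right]
    have : C.vec (w * t) = C.vec w := by
      rw [← hjwt, C.vec_conj hjH hw, hwv, act_smul, hav]
    rw [C.vec_mul hw ht, add_eq_left] at this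
    exact hv0 this
  · have hS := C.com_small ht hne hom
    have hK : Nat.card (E.J ⊓ conjS g E.J : Subgroup G) ≤ 4 := by
      have hmem : ∀ x : (E.J ⊓ conjS g E.J : Subgroup G), (x : G) ∈ ({1, z, t, t * z} : Set G) := fun x => by
        rcases hS _ ⟨x, x.2.1, x.2.2, rfl⟩ with e | e
        · rcases C.vec_ker x.2.1 e with e' | e' <;> simp [e']
        · rcases C.vec_eq_cases x.2.1 ht e with e' | e' <;> simp [e']
      refine le_trans (Nat.card_le_card_of_injective (fun x => (⟨_, hmem x⟩ : ({1, z, t, t * z} : Set G)))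
        fun a b h => Subtype.ext (congrArg (fun y : ({1, z, t, t * z} : Set G) => (y : G)) h)) ?_
      rw [Nat.card_coe_set_eq]
      refine le_trans (Set.ncard_insert_le _ _) ?_
      refine Nat.succ_le_succ (le_trans (Set.ncard_insert_le _ _) ?_)
      refine Nat.succ_le_succ (le_trans (Set.ncard_insert_le _ _) ?_)
      simp
    have hI : IsPGroup 2 (E.theta g).range := fun y => ⟨1, Subtype.ext (by
      show (y : U4) ^ 2 ^ 1 = 1
      rw [pow_one, pow_two]; exact E.range_sq ht hne _ y.2)⟩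
    have hlt := sylow_nonabelian _ hI (E.range_comm ht hne)
    have h := E.card_theta ht hne
    rw [E.A0_of_all ht hne hall] at h
    have : Nat.card (E.J ⊓ conjS g E.J : Subgroup G) * Nat.card (E.theta g).range ≤ 4 * 63 :=
      Nat.mul_le_mul hK (by omega)
    omega

/-- An outer element: impossible. -/
theorem wc_outer {x : G} (hxA : x ∈ E.Aft g) (hxo : x ∉ E.H0) : False := by
  classical
  set t := g * z * g⁻¹ with htdef
  set v := C.vec t with hvdef
  have hv0 : v ≠ 0 := fun e => (C.vec_ker ht e).elim (E.t_ne_one ht hne) hne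
  have hvv : hf v v = 0 := C.com_sing ht hne (C.com_v ht hne)
  have hx := E.Aft_z hxA
  have h2 := E.sq_mem ht hne hxA
  obtain ⟨hanti, hiso⟩ := C.anti hx h2 hxo
  have hTv : C.T4 x v = v := by rw [hvdef, C.T4_vec hx ht, (E.Aft_t hxA).eq, mul_inv_cancel_right]
  -- differences of orthogonal vectors are common
  have hdiff : ∀ y ∈ E.Aft g, ∀ u, B u v = 0 → C.T4 y u + u ∈ C.com g := by
    intro y hy u hu
    obtain ⟨j, hj, rfl⟩ := C.vec_surj u
    obtain ⟨hm1, hm2⟩ := E.comm_mem ht hne hy hj ((C.vec_comm hj ht).2 hu)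
    exact ⟨_, hm1, hm2, by rw [C.vec_mul (E.D.norm y (E.Aft_z hy) j hj) (inv_mem hj), C.vec_inv hj,
      C.T4_vec (E.Aft_z hy) hj]⟩
  set Fx : Set V4 := {u | C.T4 x u = u}
  have hFx : Nat.card Fx ≤ 16 := by
    have hinj : Function.Injective (fun p : Fx × Fx => (p.1 : V4) + om • (p.2 : V4)) := by
      rintro ⟨⟨a, ha⟩, ⟨b, hb⟩⟩ ⟨⟨a', ha'⟩, ⟨b', hb'⟩⟩ h
      have h : a + om • b = a' + om • b' := h
      have h' := congrArg (C.T4 x) h
      rw [C.T4_add hx, C.T4_add hx, hanti, hanti, ha, ha', hb, hb'] at h'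
      have e : b = b' := funext fun i => by
        have h1 := congrFun h i
        have h2 := congrFun h' i
        simp only [Pi.add_apply, Pi.smul_apply, smul_eq_mul] at h1 h2
        refine k_eq_of_add _ _ (k_sep (a i + a' i) _ ?_ ?_)
        · rw [mul_add, add_add_add_comm, h1]; exact k_add_self _
        · rw [mul_add, add_add_add_comm, h2]; exact k_add_self _
      subst e
      exact Prod.ext (Subtype.ext (add_right_cancel h)) rfl
    have := Nat.card_le_card_of_injective _ hinj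
    rw [Nat.card_prod, Nat.card_pi, Finset.prod_const, Finset.card_univ, Fintype.card_fin,
      Nat.card_eq_fintype_card (α := K), cardK] at this
    by_contra hlt
    have := Nat.mul_le_mul (show 17 ≤ Nat.card Fx by omega) (show 17 ≤ Nat.card Fx by omega)
    omega
  have hR : ∀ u, C.T4 x (C.T4 x u + u) = C.T4 x u + u := fun u => by
    rw [C.T4_add hx, C.T4_invol hx h2, add_comm]
  -- a common vector off the line
  obtain ⟨q', f', g', hfr'⟩ := exists_frame_one (p := v) ⟨hv0, hvv⟩
  obtain ⟨q, hqS, hqv, hqno⟩ : ∃ q ∈ C.com g, hf q v = 0 ∧ ∀ c : K, q ≠ c • v := by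
    by_contra hcon
    push Not at hcon
    have hU : ∀ u, hf u v = 0 → C.T4 x u + u = 0 ∨ C.T4 x u + u = v := by
      intro u hu
      have hTu : hf (C.T4 x u) v = 0 := by
        conv_lhs => rw [← hTv]
        rw [hiso, hu, sq_zero]
      obtain ⟨c, hc⟩ := hcon _ (hdiff x hxA u (by rw [B, hu, sq_zero, add_zero]))
        (by rw [hl, hTu, hu, add_zero])
      have h3 := hR u
      rw [hc, hanti, hTv] at h3
      rcases (k_fix_sq c).1 (smul_left_injective K hv0 h3) with rfl | rfl
      · exact Or.inl (by rw [hc, zero_smul])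
      · exact Or.inr (by rw [hc, one_smul])
    have himg : ∀ a b c : K, hf (a • v + b • q' + c • g') v = 0 := fun a b c => by
      simp only [hl, sl, hvv, hfr'.qp, hfr'.gp, mul_zero, add_zero]
    obtain ⟨u1, hu1⟩ : ∃ u1, (∃ u, hf u v = 0 ∧ C.T4 x u + u = v) → C.T4 x u1 + u1 = v := by
      by_cases h : ∃ u, hf u v = 0 ∧ C.T4 x u + u = v
      · obtain ⟨u, -, hu⟩ := h
        exact ⟨u, fun _ => hu⟩
      · exact ⟨0, fun h' => absurd h' h⟩
    let pk : K × K × K → V4 := fun p => p.1 • v + p.2.1 • q' + p.2.2 • g'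
    have hfixed : ∀ p, C.T4 x (pk p) + pk p ≠ 0 → pk p + u1 ∈ Fx := fun p hp => by
      have e1 := (hU _ (himg p.1 p.2.1 p.2.2)).resolve_left hp
      have e2 := hu1 ⟨_, himg p.1 p.2.1 p.2.2, e1⟩
      refine veq ?_
      show C.T4 x (pk p + u1) + (pk p + u1) = 0
      rw [C.T4_add hx, add_add_add_comm, show C.T4 x (pk p) + pk p = v from e1, e2, vv]
    let i : K × K × K → Fx × Bool := fun p =>
      if h : C.T4 x (pk p) + pk p = 0 then (⟨pk p, veq h⟩, false) else (⟨pk p + u1, hfixed p h⟩, true)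
    have hi : Function.Injective i := fun a b h => by
      have hpk : pk a = pk b := by
        simp only [i] at h
        split_ifs at h with h1 h2 h2 <;> simp only [Prod.mk.injEq, Bool.false_eq_true, Bool.true_eq_false,
          and_false, and_true] at h
        · exact congrArg Subtype.val h
        · exact add_right_cancel (congrArg Subtype.val h)
      have e1 := congrArg (fun y => hf y f') hpk
      have e2 := congrArg (fun y => hf y g') hpk
      have e3 := congrArg (fun y => hf y q') hpk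
      simp only [pk, hl, sl, hfr'.pf, hfr'.qf, hfr'.gf, hfr'.pg, hfr'.qg, hfr'.gg, hfr'.pq, hfr'.qq, hfr'.gq,
        mul_zero, mul_one, add_zero, zero_add] at e1 e2 e3
      exact Prod.ext e1 (Prod.ext e2 e3)
    have := Nat.card_le_card_of_injective i hi
    rw [Nat.card_prod, Nat.card_prod, Nat.card_prod, Nat.card_eq_fintype_card (α := K), cardK,
      Nat.card_eq_fintype_card (α := Bool), Fintype.card_bool] at this
    omega
  have hom := C.com_shear ht hne hqS hqv hqno
  rw [← htdef, ← hvdef] at hom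
  have hq0 : q ≠ 0 := fun e => hqno 0 (by rw [e, zero_smul])
  obtain ⟨f, gg, hfr⟩ := exists_frame (p := v) (q := q)
    ⟨⟨hv0, hvv⟩, ⟨hq0, C.com_sing ht hne hqS⟩, hs0 hqv, hqno⟩
  have hgS : gg ∈ C.com g := by
    have hm := C.com_inv ht hne (a := t4 gg) (act_tv_of_orth cardK hfr.gg hfr.pg) hqS
    have h' := C.com_add ht hne _ _ hqS hm
    rwa [act_tv cardK hfr.gg, hfr.qg, one_smul, ← add_assoc, vv, zero_add] at h'
  -- the shape of the common part
  have hform : ∀ u ∈ C.com g, hf u v = 0 ∧ (hf u gg = 0 ∨ hf u gg = 1) ∧ (hf u q = 0 ∨ hf u q = 1) := by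
    intro u hu
    refine ⟨k_perp _ (C.com_B ht hne hu (C.com_v ht hne)) ?_, k_tr_zero _ (C.com_B ht hne hu hgS),
      k_tr_zero _ (C.com_B ht hne hu hqS)⟩
    have := C.com_B ht hne hu hom
    rw [B, sr] at this
    exact this
  have hcom_eq : ∀ u ∈ C.com g, ∀ w ∈ C.com g, hf u f = hf w f → hf u gg = hf w gg → hf u q = hf w q → u = w :=
    fun u hu w hw h1 h2' h3 => hfr.eq_of ((hform u hu).1.trans (hform w hw).1.symm) h3 h1 h2'
  -- the common part has order 32
  have hmemK : ∀ k : (E.J ⊓ conjS g E.J : Subgroup G), C.vec k ∈ C.com g := fun k => ⟨k, k.2.1, k.2.2, rfl⟩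
  have hK2 : Nat.card (E.J ⊓ conjS g E.J : Subgroup G) ≤ 32 := by
    obtain ⟨lift, hlift⟩ : ∃ lift : V4 → G, ∀ u ∈ C.com g, lift u ∈ E.J ∧ C.vec (lift u) = u := by
      choose l hl' using C.vec_surj
      exact ⟨l, fun u _ => hl' u⟩
    let i : (E.J ⊓ conjS g E.J : Subgroup G) → K × Bool × Bool × Bool := fun k =>
      (hf (C.vec k) f, decide (hf (C.vec k) gg = 0), decide (hf (C.vec k) q = 0), decide ((k : G) = lift (C.vec k)))
    have hi : Function.Injective i := fun a b h => by
      simp only [i, Prod.mk.injEq, decide_eq_decide] at h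
      obtain ⟨h1, h2', h3, h4⟩ := h
      obtain ⟨-, ga, qa⟩ := hform _ (hmemK a)
      obtain ⟨-, gb, qb⟩ := hform _ (hmemK b)
      have eg : hf (C.vec a) gg = hf (C.vec b) gg := by
        rcases ga with x1 | x1 <;> rcases gb with y1 | y1 <;> rw [x1, y1] <;> rw [x1, y1] at h2' <;>
          simp at h2'
      have eq' : hf (C.vec a) q = hf (C.vec b) q := by
        rcases qa with x1 | x1 <;> rcases qb with y1 | y1 <;> rw [x1, y1] <;> rw [x1, y1] at h3 <;>
          simp at h3
      have e := hcom_eq _ (hmemK a) _ (hmemK b) h1 eg eq'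
      refine Subtype.ext ?_
      rw [e] at h4
      obtain ⟨hlJ, hlv⟩ := hlift _ (hmemK b)
      have hz1 : ∀ y : G, y * z ≠ y := fun y h' => E.D.z_ne (mul_eq_left.1 h')
      rcases C.vec_eq_cases a.2.1 hlJ (e.trans hlv.symm) with ea | ea <;>
        rcases C.vec_eq_cases b.2.1 hlJ hlv.symm with eb | eb
      · exact ea.trans eb.symm
      · exact absurd (h4.1 ea) fun h' => hz1 _ (eb.symm.trans h')
      · exact absurd (h4.2 eb) fun h' => hz1 _ (ea.symm.trans h')
      · exact ea.trans eb.symm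
    have := Nat.card_le_card_of_injective i hi
    rw [Nat.card_eq_fintype_card (α := K × Bool × Bool × Bool)] at this
    simp only [Fintype.card_prod, Fintype.card_bool, cardK] at this
    omega
  have hK1 : 32 ≤ Nat.card (E.J ⊓ conjS g E.J : Subgroup G) := by
    have hc : ∀ p : K × Bool × Bool,
        p.1 • v + ((if p.2.1 then q else 0) + if p.2.2 then gg else 0) ∈ C.com g := by
      rintro ⟨a, b, c⟩
      refine C.com_add ht hne _ _ ?_ (C.com_add ht hne _ _ ?_ ?_)
      · rcases k_four a with rfl | rfl | rfl | rfl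
        · rw [zero_smul]; exact C.com_zero ht hne
        · rw [one_smul]; exact C.com_v ht hne
        · exact hom
        · have := C.com_add ht hne _ _ hom (C.com_v ht hne)
          rwa [← htdef, ← hvdef, show om • v + v = (om + 1) • v by rw [add_smul, one_smul],
            show om + 1 = om * om from by decide +kernel] at this
      · cases b; exacts [C.com_zero ht hne, hqS]
      · cases c; exacts [C.com_zero ht hne, hgS]
    choose j hjJ hjQ hjv using hc
    let i : (K × Bool × Bool) × Bool → (E.J ⊓ conjS g E.J : Subgroup G) := fun p =>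
      ⟨j p.1 * if p.2 then z else 1, by
        refine mul_mem ⟨hjJ _, hjQ _⟩ ?_
        cases p.2; exacts [one_mem _, ⟨E.D.z_mem, E.z_mem_conj ht hne⟩]⟩
    have hi : Function.Injective i := by
      rintro ⟨a, b⟩ ⟨a', b'⟩ h
      have h : (j a * if b then z else 1) = j a' * if b' then z else 1 := congrArg Subtype.val h
      have hv' : ∀ (a : K × Bool × Bool) (b : Bool), C.vec (j a * if b then z else 1) = C.vec (j a) := by
        intro a b
        cases b
        · simp
        · simp only [if_true]; rw [C.vec_mul (hjJ a) E.D.z_mem, C.vec_z, add_zero]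
      have e := congrArg C.vec h
      rw [hv', hv', hjv, hjv] at e
      have e1 := congrArg (fun y => hf y f) e
      have e2 := congrArg (fun y => hf y gg) e
      have e3 := congrArg (fun y => hf y q) e
      obtain ⟨a, b1, c1⟩ := a
      obtain ⟨a', b1', c1'⟩ := a'
      have ea : a = a' := by
        cases b1 <;> cases c1 <;> cases b1' <;> cases c1' <;>
          simpa [hl, sl, h0l, hfr.pf, hfr.qf, hfr.gf] using e1
      have eb : b1 = b1' := by
        cases b1 <;> cases c1 <;> cases b1' <;> cases c1' <;>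
          simp [hl, sl, h0l, hfr.pg, hfr.qg, hfr.gg] at e2 ⊢
      have ec : c1 = c1' := by
        cases b1 <;> cases c1 <;> cases b1' <;> cases c1' <;>
          simp [hl, sl, h0l, hfr.pq, hfr.qq, hfr.gq] at e3 ⊢
      subst ea eb ec
      refine Prod.ext rfl ?_
      have h' := mul_left_cancel h
      cases b <;> cases b' <;> simp [E.D.z_ne, E.D.z_ne.symm] at h' ⊢
    have := Nat.card_le_card_of_injective i hi
    rw [Nat.card_eq_fintype_card (α := (K × Bool × Bool) × Bool)] at this
    simp only [Fintype.card_prod, Fintype.card_bool, cardK] at this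
    omega
  -- the image has order four
  have hI4 : Nat.card (E.theta g).range = 4 := by
    have h := E.card_theta ht hne
    rw [E.card_A0 ht hne hxA hxo, le_antisymm hK2 hK1] at h
    omega
  set I := (E.theta g).range
  have hIv : ∀ a ∈ I, ThreeTransSU.act a v = v := fun a ha => by
    rw [hvdef, vec, ← C.fc, M.range_fix ht a ha]
  -- the value at f
  have hIf : ∀ a ∈ I, R a f ∈ C.com g := by
    rintro _ ⟨y, rfl⟩
    obtain ⟨j, hj, hjf⟩ := C.vec_surj f
    have hfv : B f v = 0 := by rw [B, hfr.fp, one_pow]; exact k_add_self 1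
    have := hdiff y y.2.1 f hfv
    rw [← hjf, C.T4_vec (E.Aft_z y.2.1) hj, C.vec_conj y.2.2 hj, hjf, add_comm] at this
    exact this
  have hIq : ∀ a ∈ I, ∀ u ∈ C.com g, R a u = 0 ∨ R a u = v := by
    rintro _ ⟨y, rfl⟩ u ⟨k, hk, hkQ, rfl⟩
    show R (E.φ y) _ = 0 ∨ R (E.φ y) _ = v
    rw [R, ← C.vec_conj y.2.2 hk]
    rcases (E.D.conjugate g).comm y y.2.1.1 k hkQ with e | e
    · left
      rw [commutatorElement_eq_one_iff_mul_comm] at e
      rw [e, mul_inv_cancel_right, vv]
    · right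
      have e' : (y : G) * k * (y : G)⁻¹ = k * t := by
        calc (y : G) * k * (y : G)⁻¹ = ⁅(y : G), k⁆ * k := by rw [commutatorElement_def]; group
          _ = k * t := by rw [e]; exact ((E.D.conjugate g).z_central k hkQ).symm
      rw [e', C.vec_mul hk ht, ← add_assoc, vv, zero_add]
  -- determination by the value at f
  have hlam : ∀ a ∈ I, R a q = hf (R a f) q • v ∧ R a gg = hf (R a f) gg • v := by
    intro a ha
    have hmem : ∀ u ∈ C.com g, hf f u = 0 → R a u = hf (R a f) u • v := by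
      intro u hu hfu
      obtain ⟨lam, hl01, hlam⟩ : ∃ lam : K, (lam = 0 ∨ lam = 1) ∧ R a u = lam • v := by
        rcases hIq a ha u hu with e | e
        exacts [⟨0, Or.inl rfl, by rw [e, zero_smul]⟩, ⟨1, Or.inr rfl, by rw [e, one_smul]⟩]
      have h := act_hf a f u
      rw [act_eq_add a f, act_eq_add a u, hlam] at h
      simp only [hl, hr, sr, hfu, hfr.fp, (hform _ (hIf a ha)).1, mul_zero, mul_one, add_zero, zero_add] at h
      rw [hlam]
      congr 1
      have hl2 : lam ^ 2 = lam := by rcases hl01 with rfl | rfl <;> simp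
      rw [hl2] at h
      exact (k_eq_of_add _ _ h).symm
    exact ⟨hmem q hqS hfr.fq, hmem gg hgS hfr.fg⟩
  have hdet : ∀ a ∈ I, ∀ b ∈ I, R a f = R b f → a = b := fun a ha b hb e =>
    hfr.ext ((hIv a ha).trans (hIv b hb).symm)
      (by rw [act_eq_add a q, act_eq_add b q, (hlam a ha).1, (hlam b hb).1, e])
      (by rw [act_eq_add a f, act_eq_add b f, e])
      (by rw [act_eq_add a gg, act_eq_add b gg, (hlam a ha).2, (hlam b hb).2, e])
  by_cases hall : ∀ a ∈ I, hf (R a f) q = 0 ∧ hf (R a f) gg = 0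
  · -- all values on the line
    have hval : ∀ a ∈ I, R a f = 0 ∨ R a f = v := by
      intro a ha
      have hw := hIf a ha
      obtain ⟨hwv, -, -⟩ := hform _ hw
      have he : R a f = hf (R a f) f • v := by
        conv_lhs => rw [hfr.expand (R a f)]
        rw [(hall a ha).1, (hall a ha).2, hwv]
        simp
      have h := act_hf a f f
      rw [act_eq_add a f, he] at h
      simp only [hl, hr, sl, sr, hfr.ff, hfr.fp, hfr.pf, hvv, mul_zero, mul_one, zero_add, add_zero] at h
      rcases k_tr_zero _ h with e | e <;> rw [he, e]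
      exacts [Or.inl (zero_smul K v), Or.inr (one_smul K v)]
    let i : I → Bool := fun a => decide (R (a : U4) f = 0)
    have hi : Function.Injective i := fun a b h => by
      simp only [i, decide_eq_decide] at h
      refine Subtype.ext (hdet _ a.2 _ b.2 ?_)
      rcases hval _ a.2 with e | e <;> rcases hval _ b.2 with e' | e' <;> rw [e, e'] <;> rw [e, e'] at h <;>
        simp [hv0] at h
    have := Nat.card_le_card_of_injective i hi
    rw [hI4, Nat.card_eq_fintype_card (α := Bool), Fintype.card_bool] at this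
    omega
  -- an element with value in q + line
  have hconj : ∀ a ∈ I, ∀ s : U4, ThreeTransSU.act s v = v → s * a * s⁻¹ ∈ I := by
    intro a ha s hs'
    obtain ⟨h, hh, hht, rfl⟩ := M.lift_fix ht (E.t_ne_one ht hne) hne (a := s) (C.fb.1 (by rw [C.fc]; exact hs'))
    exact E.range_conj ht hne hh hht a ha
  have hRconj : ∀ a s : U4, ThreeTransSU.act s f = f → R (s * a * s⁻¹) f = ThreeTransSU.act s (R a f) := by
    intro a s hs'
    have hs2 : ThreeTransSU.act s⁻¹ f = f := by
      conv_lhs => rw [← hs']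
      exact act_inv_act s f
    rw [R, R, act_mul, act_mul, hs2, act_add, hs']
  have hexp : ∀ a ∈ I, R a f = hf (R a f) f • v + hf (R a f) gg • q + hf (R a f) q • gg := fun a ha => by
    conv_lhs => rw [hfr.expand (R a f)]
    rw [(hform _ (hIf a ha)).1, zero_smul, add_zero]
  obtain ⟨a1, ha1, α, hα⟩ : ∃ a ∈ I, ∃ α : K, R a f = α • v + q := by
    push Not at hall
    obtain ⟨a, ha, hne0⟩ := hall
    obtain ⟨-, hb, hc⟩ := hform _ (hIf a ha)
    have hcase : (hf (R a f) gg = 1 ∧ hf (R a f) q = 0) ∨ hf (R a f) q = 1 := by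
      rcases hc with e | e
      · rcases hb with e' | e'
        · exact absurd e' (hne0 e)
        · exact Or.inl ⟨e', e⟩
      · exact Or.inr e
    have hx0 := hexp a ha
    generalize hf (R a f) f = α0 at hx0
    rcases hcase with ⟨e1, e2⟩ | e
    · exact ⟨a, ha, α0, by rw [hx0, e1, e2]; simp⟩
    · rcases hb with e' | e'
      · -- value gg
        have hiq : hf (q + gg) (q + gg) = 0 := by
          simp only [hl, hr, hfr.qq, hfr.qg, hfr.gq, hfr.gg, zero_add, add_zero]; exact k_add_self 1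
        have hv' : ThreeTransSU.act (t4 (q + gg)) v = v :=
          act_tv_of_orth cardK hiq (by simp only [hr, hfr.pq, hfr.pg, add_zero])
        have hf' : ThreeTransSU.act (t4 (q + gg)) f = f :=
          act_tv_of_orth cardK hiq (by simp only [hr, hfr.fq, hfr.fg, add_zero])
        have hgg' : ThreeTransSU.act (t4 (q + gg)) gg = q := by
          rw [act_tv cardK hiq]
          simp only [hr, hfr.gq, hfr.gg, add_zero, one_smul]
          rw [add_comm q gg, ← add_assoc, vv, zero_add]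
        refine ⟨_, hconj a ha _ hv', α0, ?_⟩
        rw [hRconj _ _ hf', hx0, e', e]
        simp [act_add, act_smul, hv', hgg']
      · -- value q + gg
        have hv' : ThreeTransSU.act (t4 gg) v = v := act_tv_of_orth cardK hfr.gg hfr.pg
        have hf' : ThreeTransSU.act (t4 gg) f = f := act_tv_of_orth cardK hfr.gg hfr.fg
        have hg1 : ThreeTransSU.act (t4 gg) gg = gg := act_tv_of_orth cardK hfr.gg hfr.gg
        have hg2 : ThreeTransSU.act (t4 gg) q = q + gg := by rw [act_tv cardK hfr.gg, hfr.qg, one_smul]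
        refine ⟨_, hconj a ha _ hv', α0, ?_⟩
        rw [hRconj _ _ hf', hx0, e', e]
        simp only [one_smul, act_add, act_smul, hv', hg1, hg2]
        rw [add_assoc, add_assoc q gg gg, vv, add_zero]
  -- a shear moves the value by v
  obtain ⟨b, hbv, hbx⟩ := hfr.exists_shear om
  set f1 := ThreeTransSU.act b⁻¹ f with hf1
  have hbf : ThreeTransSU.act b f1 = f := act_act_inv b f
  set y := f1 + f with hy
  have hf1y : f1 = f + y := by rw [hy, add_comm f1 f, ← add_assoc, vv, zero_add]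
  have hy0 : hf y v = 0 := by
    have h := act_hf b f1 v
    rw [hbf, hbv] at h
    rw [hy, hl, ← h]
    exact k_add_self _
  have hyq : hf y q = om := by
    have h := act_hf b f1 q
    rw [hbf, hbx q hfr.qp, sr, hfr.qg, mul_one, hr, sr, hfr.fq, hfr.fp, mul_one, zero_add, k_om_sum.2] at h
    rw [hy, hl, ← h, hfr.fq, add_zero]
  have hay : R a1 y = hf y q • v := by
    have hg1 : hf (R a1 f) gg = 1 ∧ hf (R a1 f) q = 0 := by
      rw [hα]
      constructor <;> simp only [hl, sl, hfr.pg, hfr.qg, hfr.pq, hfr.qq, mul_zero, zero_add, add_zero]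
    have e1 := (hlam a1 ha1).1
    have e2 := (hlam a1 ha1).2
    rw [hg1.2, zero_smul] at e1
    rw [hg1.1, one_smul] at e2
    conv_lhs => rw [hfr.expand y]
    have hRv : R a1 v = 0 := (fix_iff _ _).1 (hIv a1 ha1)
    rw [hy0]
    simp [R_add, R_smul, hRv, e1, e2]
  have hba : R (b * a1 * b⁻¹) f = (α + 1) • v + q := by
    have hby : ThreeTransSU.act b (R a1 f1) = ThreeTransSU.act b (R a1 f) + ThreeTransSU.act b (R a1 y) := by
      rw [← act_add, ← R_add, hf1y]
    have : R (b * a1 * b⁻¹) f = ThreeTransSU.act b (R a1 f1) := by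
      rw [R, act_mul, act_mul, ← hf1, R, act_add, hbf]
    rw [this, hby, hay, hα, hyq, act_add, act_smul, act_smul, hbv, hbx q hfr.qp, sr, hfr.qg, mul_one]
    rw [show α • v + (q + om ^ 2 • v) + om • v = (α + (om + om ^ 2)) • v + q by
      simp only [add_smul]; abel, k_om_sum.1]
  -- five values
  have hiq : hf (q + gg) (q + gg) = 0 := by
    simp only [hl, hr, hfr.qq, hfr.qg, hfr.gq, hfr.gg, zero_add, add_zero]; exact k_add_self 1
  set s := t4 (q + gg)
  have hsv : ThreeTransSU.act s v = v := act_tv_of_orth cardK hiq (by simp only [hr, hfr.pq, hfr.pg, add_zero])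
  have hsf : ThreeTransSU.act s f = f := act_tv_of_orth cardK hiq (by simp only [hr, hfr.fq, hfr.fg, add_zero])
  have hsq : ThreeTransSU.act s q = gg := by
    rw [act_tv cardK hiq]
    simp only [hr, hfr.qq, hfr.qg, zero_add, one_smul]
    rw [← add_assoc, vv, zero_add]
  have ha2 := hconj a1 ha1 b hbv
  have ha3 := hconj a1 ha1 s hsv
  have ha4 := hconj _ ha2 s hsv
  have v3 : R (s * a1 * s⁻¹) f = α • v + gg := by rw [hRconj _ _ hsf, hα, act_add, act_smul, hsv, hsq]
  have v4 : R (s * (b * a1 * b⁻¹) * s⁻¹) f = (α + 1) • v + gg := by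
    rw [hRconj _ _ hsf, hba, act_add, act_smul, hsv, hsq]
  have v0 : R (1 : U4) f = 0 := by rw [R, act_one, vv]
  let pts : Fin 5 → I :=
    ![⟨1, one_mem _⟩, ⟨_, ha1⟩, ⟨_, ha2⟩, ⟨_, ha3⟩, ⟨_, ha4⟩]
  let vals : Fin 5 → K × K × K :=
    ![(0, 0, 0), (α, 1, 0), (α + 1, 1, 0), (α, 0, 1), (α + 1, 0, 1)]
  have hpts : ∀ i, (hf (R (pts i : U4) f) f, hf (R (pts i : U4) f) gg, hf (R (pts i : U4) f) q) = vals i := by
    intro i
    fin_cases i <;>
      simp [pts, vals, v0, hα, hba, v3, v4, hl, sl, h0l, hfr.pf, hfr.qf, hfr.gf, hfr.pg, hfr.qg, hfr.gg,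
        hfr.pq, hfr.qq, hfr.gq]
  have hvals : Function.Injective vals := by
    have : ∀ α : K, Function.Injective
        (![(0, 0, 0), (α, 1, 0), (α + 1, 1, 0), (α, 0, 1), (α + 1, 0, 1)] : Fin 5 → K × K × K) := by
      decide +kernel
    exact this α
  have hinj : Function.Injective pts := fun i j h => hvals (by rw [← hpts i, ← hpts j, h])
  have := Nat.card_le_card_of_injective pts hinj
  rw [hI4, Nat.card_eq_fintype_card, Fintype.card_fin] at this
  omega

omit hne in
/-- No other conjugate lies in the extraspecial group. -/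
theorem wc : g * z * g⁻¹ = z := by
  by_contra hne
  by_cases h : ∀ x ∈ E.Aft g, x ∈ E.H0
  · exact C.wc_inner ht hne h
  · push Not at h
    obtain ⟨x, hx, hxo⟩ := h
    exact C.wc_outer ht hne hx hxo

end Crd

end Cfsg.Agent.U62Rec
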