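/-
An involution whose centraliser is an extraspecial group of order 2^9 extended by Aut SU(4,2), reducible case:
no other conjugate lies in the extraspecial group.

* `Rep.six_fix_card`, `Rep.plane` : the fixed plane of an element of order five in the six-dimensional part;
* `Rep.root_stab` : no nontrivial group of exponent two normalised by it fixes a nonsingular vector of that plane;
* `Mod2.red_wc` : the conclusion.
-/
import Cfsg.Agent.Lib.U62Rec.OutPre
import Cfsg.Agent.Lib.U62Rec.HypKill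

set_option autoImplicit false

namespace Cfsg.Agent.U62Rec

open Cfsg.Agent.LargeExtraspecial
open scoped commutatorElement

universe u v

namespace Rep

variable {V : Type v} [AddCommGroup V] (ρ : Rep V) (hR : ρ.IsRed) {c : U4} (hc : orderOf c = 5)
include hR hc

/-- The fixed vectors in the moved part. -/
noncomputable def six (_hR : ρ.IsRed) (_hc : orderOf c = 5) : AddSubgroup V where
  carrier := {f | ρ.act c f = f ∧ ρ.eT f = 0}
  zero_mem' := ⟨map_zero _, ρ.eT_zero⟩
  add_mem' := fun {a b} ha hb => ⟨by rw [map_add, ha.1, hb.1], by rw [ρ.eT_add, ha.2, hb.2, add_zero]⟩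
  neg_mem' := fun {a} ha => by rw [ρ.neg_eq]; exact ha

theorem six_fix_card : Nat.card (ρ.six hR hc) = 4 := by
  haveI := ρ.finite
  have h : Nat.card (ρ.fixV c) = Nat.card (ρ.fixT × ρ.six hR hc) := Nat.card_congr
    { toFun := fun v => (⟨ρ.eT v, ρ.eT_mem _⟩, ⟨v.1 + ρ.eT v, by
        rw [map_add, show ρ.act c v.1 = v.1 from v.2, ρ.fix_act hR (ρ.eT_mem _) c], by
        rw [ρ.eT_add, ρ.eT_eT, ρ.self]⟩)
      invFun := fun p => ⟨p.1.1 + p.2.1, add_mem (show p.1.1 ∈ ρ.fixV c from ρ.fix_act hR p.1.2 c) p.2.2.1⟩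
      left_inv := fun v => Subtype.ext (by
        show ρ.eT v + (v.1 + ρ.eT v) = v.1; rw [add_left_comm, ρ.self, add_zero])
      right_inv := by
        rintro ⟨⟨u, hu⟩, ⟨f, hf⟩⟩
        have e : ρ.eT (u + f) = u := by rw [ρ.eT_add, ρ.eT_fix hu, hf.2, add_zero]
        refine Prod.ext (Subtype.ext e) (Subtype.ext ?_)
        show u + f + ρ.eT (u + f) = f
        rw [e, add_comm, ← add_assoc, ρ.self, zero_add] }
  rw [ρ.five_fix hR hc, Nat.card_prod, hR.1] at h
  omega

omit hc in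
theorem orth_fix {u v : V} (hu : u ∈ ρ.fixT) (hv : ρ.eT v = 0) : ρ.β u v = 0 := by
  rw [ρ.fix_orth_eT hu, hv, ρ.bzero]

omit hc in
theorem eT_of_orth {v : V} (h : ∀ u ∈ ρ.fixT, ρ.β u v = 0) : ρ.eT v = 0 :=
  ρ.fix_nondeg (ρ.eT_mem v) fun u hu => by rw [ρ.bsymm, ← ρ.fix_orth_eT hu]; exact h u hu

theorem kerP_eT {v : V} (hv : ρ.P5 c v = 0) : ρ.eT v = 0 :=
  ρ.eT_of_orth hR fun _ hu => ρ.five_orth (hc ▸ pow_orderOf_eq_one c) (ρ.fix_act hR hu c) hv

/-- In the fixed plane, the perpendicular of a nonzero vector is its line. -/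
theorem plane {y v : V} (hy : y ∈ ρ.six hR hc) (hy0 : y ≠ 0) (hv : v ∈ ρ.six hR hc) (h : ρ.β v y = 0)
    (hyy : ρ.β y y = 0) : v = 0 ∨ v = y := by
  classical
  haveI := ρ.finite
  haveI : Fintype (ρ.six hR hc) := Fintype.ofFinite _
  by_contra hcon
  push Not at hcon
  obtain ⟨hv0, hvy⟩ := hcon
  have hc5 : c ^ 5 = 1 := hc ▸ pow_orderOf_eq_one c
  have n1 : y + v ≠ 0 := fun e => hvy (ρ.eq_of_add e).symm
  let l : Finset (ρ.six hR hc) := {0, ⟨y, hy⟩, ⟨v, hv⟩, ⟨y + v, add_mem hy hv⟩}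
  have hlc : l.card = 4 := by
    simp [l, Finset.card_insert_of_notMem, Subtype.ext_iff, hy0, Ne.symm hy0, hv0, Ne.symm hv0, hvy, Ne.symm hvy,
      n1, Ne.symm n1]
  have hlu : l = Finset.univ :=
    Finset.eq_univ_of_card l (by rw [hlc, ← Nat.card_eq_fintype_card, ρ.six_fix_card hR hc])
  refine hy0 (ρ.β_nondeg y fun u => ?_)
  have hsplit : u = (u + ρ.P5 c u) + ρ.eT (ρ.P5 c u) + (ρ.P5 c u + ρ.eT (ρ.P5 c u)) := by
    rw [add_add_add_comm, ρ.self, add_zero, add_assoc, ρ.self, add_zero]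
  rw [hsplit, ρ.baddr, ρ.baddr, ρ.five_orth hc5 hy.1 (ρ.P5_split hc5 u),
    ρ.bsymm y (ρ.eT _), ρ.orth_fix hR (ρ.eT_mem _) hy.2, zero_add, zero_add]
  have hm : (⟨ρ.P5 c u + ρ.eT (ρ.P5 c u), by
      rw [map_add, (ρ.P5_act hc5 u).2, ρ.fix_act hR (ρ.eT_mem _) c], by
      rw [ρ.eT_add, ρ.eT_eT, ρ.self]⟩ : ρ.six hR hc) ∈ l := by rw [hlu]; exact Finset.mem_univ _
  simp only [l, Finset.mem_insert, Finset.mem_singleton, Subtype.ext_iff] at hm
  rcases hm with e | e | e | e <;> rw [e]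
  · exact ρ.bzero y
  · exact hyy
  · rw [ρ.bsymm]; exact h
  · rw [ρ.baddr, hyy, ρ.bsymm y v, h, add_zero]

omit hR hc in
theorem β_self (v : V) : ρ.β v v = 0 := by
  have h := ρ.q_add v v
  rw [ρ.self, ρ.qzero, ZModModule.add_self, zero_add] at h
  exact h.symm

/-- No nontrivial group of exponent two normalised by `c` fixes a nonsingular fixed vector of the moved part. -/
theorem root_stab (I : Subgroup U4) (hsq : ∀ k ∈ I, k * k = 1) (hcI : ∀ k ∈ I, c⁻¹ * k * c ∈ I)
    {b : V} (hb : b ∈ ρ.six hR hc) (hqb : ρ.q b = 1) (hfix : ∀ k ∈ I, ρ.act k b = b) : ∀ k ∈ I, k = 1 := by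
  classical
  haveI := ρ.finite
  have hc5 : c ^ 5 = 1 := hc ▸ pow_orderOf_eq_one c
  have hb0 : b ≠ 0 := fun e => by rw [e, ρ.qzero] at hqb; exact zero_ne_one hqb
  have hbb := ρ.β_self b
  have hDb : ∀ k ∈ I, ρ.D k b = 0 := fun k hk => by rw [D, hfix k hk, ρ.self]
  have hD0 : ∀ k, ρ.D k 0 = 0 := fun k => by rw [D, map_zero, add_zero]
  have hcomm : ∀ k ∈ I, ∀ k' ∈ I, ∀ v, ρ.D k' (ρ.D k v) = ρ.D k (ρ.D k' v) := fun k hk k' hk' v => by
    have e : k' * k = k * k' := by
      calc k' * k = (k' * k)⁻¹ := (inv_eq_of_mul_eq_one_right (hsq _ (mul_mem hk' hk))).symm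
        _ = k⁻¹ * k'⁻¹ := mul_inv_rev k' k
        _ = k * k' := by rw [inv_eq_of_mul_eq_one_right (hsq k hk), inv_eq_of_mul_eq_one_right (hsq k' hk')]
    simp only [D, map_add, ← ρ.act_mul, e]
    abel
  -- a vector moved only along `b`
  have hex : ∀ s : Finset U4, (∀ k ∈ s, k ∈ I) →
      ∃ v, ρ.eT v = 0 ∧ ρ.β v b = 0 ∧ v ≠ 0 ∧ v ≠ b ∧ ∀ k ∈ s, ρ.D k v = 0 ∨ ρ.D k v = b := by
    intro s
    induction s using Finset.induction with
    | empty =>
      intro _
      obtain ⟨v, hv, hv0⟩ : ∃ v, ρ.P5 c v = 0 ∧ v ≠ 0 := by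
        by_contra! h
        haveI : Subsingleton (ρ.kerP c) := ⟨fun x y => Subtype.ext ((h x x.2).trans (h y y.2).symm)⟩
        have := ρ.kerP_card hR hc
        rw [Nat.card_of_subsingleton (0 : ρ.kerP c)] at this
        omega
      refine ⟨v, ρ.kerP_eT hR hc hv, ?_, hv0, fun e => hb0 ?_, by simp⟩
      · rw [ρ.bsymm]; exact ρ.five_orth hc5 hb.1 hv
      · rw [← ρ.P5_fixed hb.1, ← e]; exact hv
    | @insert k s _ ih =>
      intro hs
      obtain ⟨v, h1, h2, h3, h4, h5⟩ := ih fun k' hk' => hs k' (Finset.mem_insert_of_mem hk')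
      have hk : k ∈ I := hs k (Finset.mem_insert_self k s)
      by_cases h : ρ.D k v = 0 ∨ ρ.D k v = b
      · refine ⟨v, h1, h2, h3, h4, fun k' hk' => ?_⟩
        rcases Finset.mem_insert.1 hk' with rfl | hk'
        exacts [h, h5 k' hk']
      · push Not at h
        refine ⟨ρ.D k v, ?_, ?_, h.1, h.2, fun k' hk' => Or.inl ?_⟩
        · rw [D, ρ.eT_add, ρ.eT_act hR, ρ.self]
        · have e := ρ.bact k v b
          rw [hfix k hk, h2] at e
          rw [D, ρ.β_add, h2, e, add_zero]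
        · rcases Finset.mem_insert.1 hk' with rfl | hk'
          · rw [D, D, map_add, ← ρ.act_mul, hsq k' hk, ρ.act_one, add_comm v (ρ.act k' v)]
            exact ρ.self _
          · rw [hcomm k hk k' (hs k' (Finset.mem_insert_of_mem hk')) v]
            rcases h5 k' hk' with e | e <;> rw [e]
            exacts [hD0 k, hDb k hk]
  obtain ⟨v, h1, h2, h3, h4, h5⟩ := hex (Set.toFinite (I : Set U4)).toFinset fun k hk => by simpa using hk
  replace h5 : ∀ k ∈ I, ρ.D k v = 0 ∨ ρ.D k v = b := fun k hk => h5 k (by simpa using hk)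
  let X : AddSubgroup V :=
    { carrier := {x | ρ.P5 c x = 0 ∧ ∀ k ∈ I, ρ.D k x = 0 ∨ ρ.D k x = b}
      zero_mem' := ⟨(ρ.kerP c).zero_mem, fun k _ => Or.inl (hD0 k)⟩
      add_mem' := fun {a a'} ha ha' => ⟨(ρ.kerP c).add_mem ha.1 ha'.1, fun k hk => by
        rcases ha.2 k hk with e | e <;> rcases ha'.2 k hk with e' | e' <;> rw [ρ.D_add, e, e']
        exacts [Or.inl (add_zero _), Or.inr (zero_add _), Or.inr (add_zero _), Or.inl (ρ.self _)]⟩
      neg_mem' := fun {a} ha => by rw [ρ.neg_eq]; exact ha }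
  have hX : ∀ x ∈ X, ρ.act c x ∈ X := by
    intro x hx
    refine ⟨by rw [(ρ.P5_act hc5 x).1]; exact hx.1, fun k hk => ?_⟩
    have e : ρ.D k (ρ.act c x) = ρ.act c (ρ.D (c⁻¹ * k * c) x) := by
      rw [D, D, map_add, ← ρ.act_mul, ← ρ.act_mul]
      congr 2
      group
    rcases hx.2 _ (hcI k hk) with e' | e' <;> rw [e, e']
    exacts [Or.inl (map_zero _), Or.inr hb.1]
  have hXtop : ∀ x, ρ.P5 c x = 0 → x ∈ X := by
    rcases ρ.five_irr hR hc hX (fun x hx => hx.1) with h | h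
    · exfalso
      have hf : ρ.P5 c v ∈ ρ.six hR hc := ⟨(ρ.P5_act hc5 v).2, by
        have e : v = (v + ρ.P5 c v) + ρ.P5 c v := by rw [add_assoc, ρ.self, add_zero]
        have e2 := congrArg ρ.eT e
        rw [ρ.eT_add, h1, ρ.kerP_eT hR hc (ρ.P5_split hc5 v), zero_add] at e2
        exact e2.symm⟩
      have hfb : ρ.β (ρ.P5 c v) b = 0 := by
        have e : ρ.β (v + ρ.P5 c v) b = 0 := by
          rw [ρ.bsymm]; exact ρ.five_orth hc5 hb.1 (ρ.P5_split hc5 v)
        rwa [ρ.β_add, h2, zero_add] at e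
      rcases ρ.plane hR hc hb hb0 hf hfb hbb with e | e
      · exact h3 (h v ⟨e, h5⟩)
      · have hm : v + b ∈ X := ⟨by rw [ρ.P5_add, ρ.P5_fixed hb.1, e, ρ.self], fun k hk => by
          rw [ρ.D_add, hDb k hk, add_zero]; exact h5 k hk⟩
        exact h4 (ρ.eq_of_add (h _ hm))
    · exact h
  intro k hk
  by_contra hk1
  have hker : ∀ x, ρ.P5 c x = 0 → ρ.D k x = 0 := fun x hx => by
    refine ((hXtop x hx).2 k hk).resolve_right fun e => ?_
    have h6 := ρ.q_act k x
    rw [ρ.act_D, e, ρ.q_add, hqb, ρ.bsymm, ρ.five_orth hc5 hb.1 hx, add_zero, add_eq_left] at h6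
    exact one_ne_zero h6
  have hval : ∀ x, ρ.D k x = 0 ∨ ρ.D k x = b := by
    intro x
    set d := ρ.D k x with hd
    have hd0 : ρ.eT d = 0 := by rw [hd, D, ρ.eT_add, ρ.eT_act hR, ρ.self]
    have hdb : ρ.β d b = 0 := by
      have e := ρ.bact k x b
      rw [hfix k hk] at e
      rw [hd, D, ρ.β_add, e]
      exact ZModModule.add_self _
    have hdk : ∀ y, ρ.P5 c y = 0 → ρ.β d y = 0 := fun y hy => by
      have e := ρ.bact k x y
      have hky : ρ.act k y = y := by rw [ρ.act_D, hker y hy, add_zero]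
      rw [hky] at e
      rw [hd, D, ρ.β_add, e]
      exact ZModModule.add_self _
    have hdfix : ρ.act c d = d := by
      have h0 : d + ρ.P5 c d = 0 := ρ.β_nondeg _ fun u => by
        have e1 : ρ.β (d + ρ.P5 c d) (ρ.P5 c u) = 0 := by
          rw [ρ.bsymm]; exact ρ.five_orth hc5 (ρ.P5_act hc5 u).2 (ρ.P5_split hc5 d)
        have e2 : ρ.β (d + ρ.P5 c d) (u + ρ.P5 c u) = 0 := by
          rw [ρ.β_add, hdk _ (ρ.P5_split hc5 u), ρ.five_orth hc5 (ρ.P5_act hc5 d).2 (ρ.P5_split hc5 u), add_zero]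
        rw [show u = (u + ρ.P5 c u) + ρ.P5 c u by rw [add_assoc, ρ.self, add_zero], ρ.baddr, e2, e1, add_zero]
      rw [ρ.eq_of_add h0]
      exact (ρ.P5_act hc5 d).2
    exact ρ.plane hR hc hb hb0 ⟨hdfix, hd0⟩ hdb hbb
  obtain ⟨x, y, hx, hy, hxy⟩ := ρ.two_moves hR (hsq k hk) hk1
  exact hxy (((hval x).resolve_left hx).trans ((hval y).resolve_left hy).symm)

end Rep

namespace Mod2

variable {G : Type u} [Group G] [Finite G] {z : G} {E : Ext z} {V : Type v} [AddCommGroup V] (M : Mod2 E V)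

/-- No other conjugate lies in the extraspecial group. -/
theorem red_wc (hR : M.rep.IsRed) (g : G) (ht : g * z * g⁻¹ ∈ E.J) : g * z * g⁻¹ = z := by
  classical
  haveI := M.rep.finite
  by_contra hne
  set t := g * z * g⁻¹ with htdef
  set w := M.vc t with hwdef
  obtain ⟨c, hc, hcw⟩ := M.rep.exists_five hR w
  have hc5 : c ^ 5 = 1 := hc ▸ pow_orderOf_eq_one c
  obtain ⟨h0, hh0, hh0t, hh0c⟩ := M.lift_fix ht (E.t_ne_one ht hne) hne hcw
  set h := h0 ^ 16 with hhdef
  have hh : h ∈ E.H0 := pow_mem hh0 16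
  have hht : Commute h t := hh0t.pow_left 16
  have hhc : E.φ h = c := by
    rw [hhdef, E.φ_pow hh0, hh0c, show (16 : ℕ) = 5 * 3 + 1 from rfl, pow_add, pow_mul, hc5, one_pow, one_mul,
      pow_one]
  have hh5 : h ^ 5 = 1 := by
    have hj : h0 ^ 5 ∈ E.J := (E.φ_ker _ (pow_mem hh0 5)).1 (by rw [E.φ_pow hh0, hh0c, hc5])
    have h4 : (h0 ^ 5) ^ 4 = 1 := by
      rw [show (4 : ℕ) = 2 * 2 from rfl, pow_mul, pow_two (h0 ^ 5)]
      rcases E.D.sq hj with e | e <;> rw [e]
      · exact one_pow 2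
      · rw [pow_two, E.sq]
    rw [hhdef, ← pow_mul, show 16 * 5 = 5 * 4 * 4 from rfl, pow_mul, pow_mul, h4, one_pow]
  -- the common part
  set K : Subgroup G := E.J ⊓ conjS g E.J with hKdef
  let S : AddSubgroup V :=
    { carrier := {x | ∃ k ∈ K, M.vc k = x}
      zero_mem' := ⟨1, one_mem _, M.vc_one⟩
      add_mem' := by
        rintro _ _ ⟨a, ha, rfl⟩ ⟨b, hb, rfl⟩
        exact ⟨a * b, mul_mem ha hb, M.vc_mul a ha.1 b hb.1⟩
      neg_mem' := fun {x} hx => by rw [M.rep.neg_eq]; exact hx }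
  obtain ⟨hSfix, hS4⟩ := M.rep.five_small hR hc S (by
      rintro _ ⟨k, hk, rfl⟩
      refine ⟨h * k * h⁻¹, ⟨E.D.norm h (E.le h hh) k hk.1, (E.D.conjugate g).norm h hht k hk.2⟩, ?_⟩
      rw [M.vc_conj h hh k hk.1, hhc]) (by
      rintro _ ⟨a, ha, rfl⟩ _ ⟨b, hb, rfl⟩
      refine (M.comm_iff a ha.1 b hb.1).1 ?_
      rcases E.D.comm a ha.1 b hb.1 with e | e
      · exact commutatorElement_eq_one_iff_mul_comm.1 e
      · rcases (E.D.conjugate g).comm a ha.2 b hb.2 with e' | e'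
        · exact commutatorElement_eq_one_iff_mul_comm.1 e'
        · exact absurd (e'.symm.trans e) hne)
  have hSq : ∀ x ∈ S, M.rep.q x = 0 := by
    rintro _ ⟨k, hk, rfl⟩
    refine (M.sq_iff k hk.1).1 ?_
    rcases E.D.sq hk.1 with e | e
    · exact e
    · rcases (E.D.conjugate g).sq hk.2 with e' | e'
      · exact e'
      · exact absurd (e'.symm.trans e) hne
  have hK : Nat.card K ≤ 8 := by
    obtain ⟨rep, hrep⟩ : ∃ r : S → G, ∀ x, r x ∈ K ∧ M.vc (r x) = x := by
      choose r hr' using fun x : S => x.2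
      exact ⟨r, hr'⟩
    let i : K → S × Bool := fun k => (⟨M.vc k, k, k.2, rfl⟩, decide ((k : G) = rep ⟨M.vc k, k, k.2, rfl⟩))
    have hi : Function.Injective i := fun a b hab => by
      simp only [i, Prod.mk.injEq, decide_eq_decide] at hab
      obtain ⟨e, h4⟩ := hab
      have ev : M.vc a = M.vc b := congrArg Subtype.val e
      rw [e] at h4
      obtain ⟨hlK, hlv⟩ := hrep ⟨M.vc b, b, b.2, rfl⟩
      have hz1 : ∀ y : G, y * z ≠ y := fun y h' => E.D.z_ne (mul_eq_left.1 h')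
      refine Subtype.ext ?_
      rcases M.vc_eq_cases a.2.1 hlK.1 (ev.trans hlv.symm) with ea | ea <;>
        rcases M.vc_eq_cases b.2.1 hlK.1 hlv.symm with eb | eb
      · exact ea.trans eb.symm
      · exact absurd (h4.1 ea) fun h' => hz1 _ (eb.symm.trans h')
      · exact absurd (h4.2 eb) fun h' => hz1 _ (ea.symm.trans h')
      · exact ea.trans eb.symm
    have := Nat.card_le_card_of_injective i hi
    rw [Nat.card_prod, Nat.card_eq_fintype_card (α := Bool), Fintype.card_bool] at this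
    omega
  -- the image
  set I := (E.theta g).range with hIdef
  have hIsq := E.range_sq ht hne
  have hcI : ∀ k ∈ I, c * k * c⁻¹ ∈ I := fun k hk => by rw [← hhc]; exact E.range_conj ht hne hh hht k hk
  have hcI' : ∀ k ∈ I, c⁻¹ * k * c ∈ I := fun k hk => by
    have := E.range_conj ht hne (inv_mem hh) hht.inv_left k hk
    rwa [E.φ_inv hh, hhc, inv_inv] at this
  have hcard := E.card_theta ht hne
  rw [← hKdef, ← hIdef] at hcard
  by_cases hall : ∀ x ∈ E.Aft g, x ∈ E.H0
  · rw [E.A0_of_all ht hne hall] at hcard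
    let σ : Equiv.Perm I :=
      { toFun := fun y => ⟨c * y * c⁻¹, hcI y y.2⟩
        invFun := fun y => ⟨c⁻¹ * y * c, hcI' y y.2⟩
        left_inv := fun y => Subtype.ext (by simp [mul_assoc])
        right_inv := fun y => Subtype.ext (by simp [mul_assoc]) }
    have hσp : ∀ (n : ℕ) (y : I), ((σ ^ n) y : U4) = c ^ n * y * (c ^ n)⁻¹ := fun n => by
      induction n with
      | zero => intro y; simp
      | succ n ih =>
        intro y
        rw [pow_succ', pow_succ', Equiv.Perm.mul_apply]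
        show c * ((σ ^ n) y : U4) * c⁻¹ = _
        rw [ih]
        group
    have hσ : σ ^ 5 = 1 := Equiv.ext fun y => Subtype.ext (by rw [hσp, hc5]; simp)
    have hcount := perm_five_count σ hσ
    haveI : Unique {y // σ y = y} :=
      { default := ⟨1, Subtype.ext (by show c * 1 * c⁻¹ = 1; simp)⟩
        uniq := fun y => Subtype.ext (Subtype.ext (M.rep.five_invol hR hc (hIsq _ y.1.2)
          (mul_inv_eq_iff_eq_mul.1 (congrArg Subtype.val y.2)))) }
    rw [Nat.card_unique (α := {y // σ y = y})] at hcount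
    obtain ⟨m, hm⟩ : ∃ m, Nat.card I = 2 ^ m := by
      haveI : Fact (Nat.Prime 2) := ⟨Nat.prime_two⟩
      refine IsPGroup.iff_card.1 (fun y => ⟨1, Subtype.ext ?_⟩)
      rw [pow_one, pow_two]
      exact hIsq _ y.2
    have hm6 : m ≤ 6 := two_pow_dvd_bound (by
      have := I.card_subgroup_dvd_card
      rwa [hm, card_SU4] at this)
    have h32 := Nat.mul_le_mul_right (Nat.card I) hK
    rw [hcard] at h32
    rw [hm] at hcount h32
    interval_cases m <;> omega
  push Not at hall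
  obtain ⟨x₁, hx₁A, hx₁o⟩ := hall
  rw [E.card_A0 ht hne hx₁A hx₁o] at hcard
  -- an outer element fixed by h
  let Out := {y : G // y ∈ E.Aft g ∧ y ∉ E.H0}
  have hOut : Nat.card Out = 128 := by
    have h1 := Nat.card_congr (Equiv.sumCompl (fun y : E.Aft g => (y : G) ∈ E.H0))
    have e1 : Nat.card {y : E.Aft g // (y : G) ∈ E.H0} = Nat.card (E.A0 g) :=
      Nat.card_congr
        { toFun := fun y => ⟨y.1, y.1.2, y.2⟩
          invFun := fun y => ⟨⟨y, y.2.1⟩, y.2.2⟩
          left_inv := fun _ => rfl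
          right_inv := fun _ => rfl }
    have e2 : Nat.card {y : E.Aft g // ¬ (y : G) ∈ E.H0} = Nat.card Out :=
      Nat.card_congr
        { toFun := fun y => ⟨y.1, y.1.2, y.2⟩
          invFun := fun y => ⟨⟨y, y.2.1⟩, y.2.2⟩
          left_inv := fun _ => rfl
          right_inv := fun _ => rfl }
    rw [Nat.card_sum, e1, e2, E.card_A0 ht hne hx₁A hx₁o, E.card_Aft ht hne] at h1
    omega
  have hstep : ∀ (k : G), k ∈ E.H0 → Commute k t → ∀ y : Out, k * (y : G) * k⁻¹ ∈ E.Aft g ∧ k * (y : G) * k⁻¹ ∉ E.H0 := by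
    intro k hk hkt y
    refine ⟨Subgroup.mem_inf.2 ⟨(E.D.conjugate g).norm k hkt _ y.2.1.1, Subgroup.mem_centralizer_singleton_iff.2
      (((E.le k hk).mul_left (E.Aft_z y.2.1)).mul_left (E.le k hk).inv_left)⟩, fun hm => y.2.2 ?_⟩
    have := E.norm k⁻¹ (E.le k hk).inv_left _ hm
    rwa [show k⁻¹ * (k * (y : G) * k⁻¹) * (k⁻¹)⁻¹ = y by group] at this
  let τ : Equiv.Perm Out :=
    { toFun := fun y => ⟨h * y * h⁻¹, hstep h hh hht y⟩
      invFun := fun y => ⟨h⁻¹ * y * h⁻¹⁻¹, hstep h⁻¹ (inv_mem hh) hht.inv_left y⟩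
      left_inv := fun y => Subtype.ext (by simp [mul_assoc])
      right_inv := fun y => Subtype.ext (by simp [mul_assoc]) }
  have hτp : ∀ (n : ℕ) (y : Out), ((τ ^ n) y : G) = h ^ n * y * (h ^ n)⁻¹ := fun n => by
    induction n with
    | zero => intro y; simp
    | succ n ih =>
      intro y
      rw [pow_succ', pow_succ', Equiv.Perm.mul_apply]
      show h * ((τ ^ n) y : G) * h⁻¹ = _
      rw [ih]
      group
  have hτ : τ ^ 5 = 1 := Equiv.ext fun y => Subtype.ext (by rw [hτp, hh5]; simp)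
  haveI : Nonempty {y // τ y = y} := by
    by_contra hemp
    haveI : IsEmpty {y // τ y = y} := not_nonempty_iff.1 hemp
    have := perm_five_count τ hτ
    rw [hOut, Nat.card_of_isEmpty (α := {y // τ y = y})] at this
    omega
  obtain ⟨⟨x, hxA, hxo⟩, hfx⟩ := Classical.arbitrary {y // τ y = y}
  have hxh : h * x * h⁻¹ = x := congrArg Subtype.val hfx
  have hxz := E.Aft_z hxA
  have hx2 := E.sq_mem ht hne hxA
  -- the action of x
  have hTw : M.T x w = w := M.T_fix ht hxA
  have hTinv : ∀ u, M.T x (M.T x u) = u := M.T_invol hxz hx2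
  have hTc : ∀ u, M.T x (M.rep.act c u) = M.rep.act c (M.T x u) := fun u => by
    have e : x * h * x⁻¹ = h := by
      have : h * x = x * h := mul_inv_eq_iff_eq_mul.1 hxh
      rw [← this, mul_inv_cancel_right]
    have := M.T_act hxz hh u
    rwa [e, hhc] at this
  let Tm : V →+ V :=
    { toFun := M.T x, map_zero' := M.T_zero hxz, map_add' := M.T_add hxz }
  have hTP : ∀ u, M.rep.P5 c (M.T x u) = M.T x (M.rep.P5 c u) := fun u => by
    have hpow : ∀ n : ℕ, M.T x (M.rep.act (c ^ n) u) = M.rep.act (c ^ n) (M.T x u) := fun n => by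
      induction n with
      | zero => rw [pow_zero, M.rep.act_one, M.rep.act_one]
      | succ n ih => rw [pow_succ', M.rep.act_mul, hTc, ih, M.rep.act_mul]
    show _ = Tm (M.rep.P5 c u)
    rw [Rep.P5, Rep.P5, map_sum]
    exact Finset.sum_congr rfl fun i _ => (hpow i).symm
  have hTfix : ∀ u ∈ M.rep.fixT, M.T x u ∈ M.rep.fixT := fun u hu a => by
    obtain ⟨k, hk, hka⟩ := E.φ_surj (tor a)
    have hk' := E.norm x⁻¹ hxz.inv_left k hk
    have := M.T_act hxz hk' u
    rw [M.rep.fix_act hR hu, show x * (x⁻¹ * k * x⁻¹⁻¹) * x⁻¹ = k by group, hka] at this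
    exact this.symm
  have hTsix : ∀ u, M.rep.eT u = 0 → M.rep.eT (M.T x u) = 0 := fun u hu =>
    M.rep.eT_of_orth hR fun f hf => by
      rw [← hTinv f, M.T_β hxz]
      exact M.rep.orth_fix hR (hTfix f hf) hu
  have hR' : ∀ u, M.rep.β u w = 0 → M.T x u + u ∈ S := by
    intro u hu
    obtain ⟨j, hj, rfl⟩ := M.vc_surj u
    exact ⟨_, E.comm_mem ht hne hxA hj ((M.comm_iff j hj t ht).2 hu), by
      rw [M.vc_mul _ (E.D.norm x hxz j hj) _ (inv_mem hj), M.vc_inv hj, M.T_vc hxz hj]⟩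
  -- x fixes the kernel
  have hker : ∀ u, M.rep.P5 c u = 0 → M.T x u = u := by
    intro u hu
    have hs := hR' u (by rw [M.rep.bsymm]; exact M.rep.five_orth hc5 hcw hu)
    have e := M.rep.P5_fixed (hSfix _ hs)
    rw [M.rep.P5_add, hTP, hu, M.T_zero hxz, add_zero] at e
    exact M.rep.eq_of_add e.symm
  -- the component of w
  set b := w + M.rep.eT w with hbdef
  have hb : b ∈ M.rep.six hR hc := ⟨by rw [hbdef, map_add, hcw, M.rep.fix_act hR (M.rep.eT_mem _)], by
    rw [hbdef, M.rep.eT_add, M.rep.eT_eT, M.rep.self]⟩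
  have hqb : M.rep.q b = 0 := by
    rcases two_cases (M.rep.q b) with e | e
    · exact e
    exfalso
    have h1 := M.rep.root_stab hR hc I hIsq hcI' hb e fun k hk => by
      rw [hbdef, map_add, M.rep.fix_act hR (M.rep.eT_mem _), hwdef, M.range_fix ht k hk]
    haveI : Subsingleton I := ⟨fun a a' => Subtype.ext ((h1 a a.2).trans (h1 a' a'.2).symm)⟩
    rw [Nat.card_of_subsingleton (1 : I), mul_one] at hcard
    omega
  have hTb : M.T x b = b := by
    have e1 : M.T x (M.rep.eT w) + M.T x b = w := by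
      rw [← M.T_add hxz, hbdef, add_left_comm, M.rep.self, add_zero, hTw]
    have e2 := congrArg M.rep.eT e1
    rw [M.rep.eT_add, M.rep.eT_fix (hTfix _ (M.rep.eT_mem w)), hTsix _ hb.2, add_zero] at e2
    rw [e2] at e1
    rw [hbdef]
    exact M.rep.eq_of_add (by
      rw [← add_assoc, add_comm (M.T x (w + M.rep.eT w)) w, add_assoc, add_comm (M.T x _) (M.rep.eT w), e1]
      exact M.rep.self _)
  -- x fixes the plane
  have hplane : ∀ u ∈ M.rep.six hR hc, M.T x u = u := by
    intro u hu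
    set y := M.T x u + u with hy
    have hysix : y ∈ M.rep.six hR hc := ⟨by rw [hy, map_add, ← hTc, hu.1], by
      rw [hy, M.rep.eT_add, hTsix _ hu.2, hu.2, add_zero]⟩
    have hTu : M.T x u = u + y := by rw [hy, add_comm (M.T x u) u, ← add_assoc, M.rep.self, zero_add]
    have hqy : M.rep.q y = M.rep.β u y := by
      have h' := M.T_q hxz u
      rw [hTu, M.rep.q_add, add_assoc, add_eq_left] at h'
      have : ∀ a b : ZMod 2, a + b = 0 → a = b := by decide
      exact this _ _ h'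
    refine M.rep.eq_of_add (show y = 0 from ?_)
    by_contra hy0
    by_cases hb0 : b = 0
    · have hyS : y ∈ S := hR' u (by
        rw [show w = b + M.rep.eT w by rw [hbdef, add_assoc, M.rep.self, add_zero], hb0, zero_add, M.rep.bsymm]
        exact M.rep.orth_fix hR (M.rep.eT_mem w) hu.2)
      rw [hSq y hyS] at hqy
      rcases M.rep.plane hR hc hysix hy0 hu hqy.symm (M.rep.β_self y) with e | e
      · exact hy0 (by rw [hy, e, M.T_zero hxz, add_zero])
      · rw [← e, M.rep.self] at hTu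
        have := hTinv u
        rw [hTu, M.T_zero hxz] at this
        exact hy0 (by rw [← e, ← this])
    · have hyb : M.rep.β y b = 0 := by
        have e := M.T_β hxz u b
        rw [hTb] at e
        rw [hy, M.rep.β_add, e]
        exact ZModModule.add_self _
      rcases M.rep.plane hR hc hb hb0 hysix hyb (M.rep.β_self b) with e | e
      · exact hy0 e
      · rw [e, hqb] at hqy
        rcases M.rep.plane hR hc hb hb0 hu hqy.symm (M.rep.β_self b) with e' | e'
        · exact hy0 (by rw [hy, e', M.T_zero hxz, add_zero])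
        · exact hy0 (by rw [hy, e', hTb, M.rep.self])
  have hsix : ∀ u, M.rep.eT u = 0 → M.T x u = u := by
    intro u hu
    have hdec : u = (u + M.rep.P5 c u) + M.rep.P5 c u := by rw [add_assoc, M.rep.self, add_zero]
    have hP : M.rep.P5 c u ∈ M.rep.six hR hc := ⟨(M.rep.P5_act hc5 u).2, by
      have e := congrArg M.rep.eT hdec
      rw [M.rep.eT_add, hu, M.rep.kerP_eT hR hc (M.rep.P5_split hc5 u), zero_add] at e
      exact e.symm⟩
    conv_lhs => rw [hdec]
    rw [M.T_add hxz, hker _ (M.rep.P5_split hc5 u), hplane _ hP, ← hdec]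
  -- so x is inner
  refine hxo (E.out x hxz fun k hk => ?_)
  have hact : ∀ u, M.rep.act (E.φ (x * k * x⁻¹)) u = M.rep.act (E.φ k) u := by
    intro u
    have hu : M.rep.eT (u + M.rep.eT u) = 0 := by rw [M.rep.eT_add, M.rep.eT_eT, M.rep.self]
    have hdec : u = (u + M.rep.eT u) + M.rep.eT u := by rw [add_assoc, M.rep.self, add_zero]
    suffices h : ∀ p q, M.rep.eT p = 0 → q ∈ M.rep.fixT →
        M.rep.act (E.φ (x * k * x⁻¹)) (p + q) = M.rep.act (E.φ k) (p + q) by
      have := h _ _ hu (M.rep.eT_mem u)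
      rwa [← hdec] at this
    intro p q hp hq
    rw [map_add, map_add, M.rep.fix_act hR hq, M.rep.fix_act hR hq]
    congr 1
    have h' := M.T_act hxz hk p
    rw [hsix _ hp, hsix _ (by rw [M.rep.eT_act hR, hp])] at h'
    exact h'.symm
  refine inv_mul_eq_one.1 (M.rep.faithful _ fun u => ?_)
  rw [M.rep.act_mul, ← hact u, ← M.rep.act_mul, inv_mul_cancel, M.rep.act_one]

end Mod2

end Cfsg.Agent.U62Rec
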