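/-
An involution whose centraliser is an extraspecial group of order 2^9 extended by Aut SU(4,2): the two outcomes.

* `Ext.wc` : no other conjugate lies in the extraspecial group;
* `Ext.exists_index_two` : a subgroup of index two meeting the centraliser in its inner part, by transfer;
* `Ext.toPre` : the setting inside such a subgroup;
* `Ext.psu_or_isolated` : PSU(6,2) of index two with trivial centraliser, or central modulo the odd core;
* `exists_ext` : the setting from a normal extraspecial subgroup with quotient Aut SU(4,2).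
-/
import Cfsg.Agent.Lib.U62Rec.OutNat
import Cfsg.Agent.Lib.U62Rec.OutRed
import Cfsg.Agent.Lib.U62Rec.HypMain
import Cfsg.Agent.Lib.WCIndexTwo.Main
import Cfsg.Agent.S0814

set_option autoImplicit false

namespace Cfsg.Agent.U62Rec

open Cfsg.Agent.LargeExtraspecial
open scoped commutatorElement

universe u v w

/-- A homomorphism of SU(4,2) into an abelian group is trivial. -/
theorem U4_hom_trivial {A : Type w} [CommGroup A] (f : U4 →* A) (a : U4) : f a = 1 :=
  (Abelianization.commutator_subset_ker f) (by rw [commutator_U4]; exact Subgroup.mem_top a)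

namespace Rep

variable {V : Type v} [AddCommGroup V] (ρ : Rep V)

/-- The singular vectors span. -/
theorem exists_singular_pair (v : V) : ∃ a b : V, ρ.q a = 0 ∧ ρ.q b = 0 ∧ v = a + b := by
  classical
  have q0 : ρ.q 0 = 0 := by
    have h := ρ.q_add 0 0
    have b0 : ρ.β 0 0 = 0 := by
      have := ρ.β_add 0 0 0
      rw [add_zero] at this
      exact left_eq_add.1 this
    rw [add_zero, b0, add_zero] at h
    exact left_eq_add.1 h
  rcases two_cases (ρ.q v) with h0 | h1
  · exact ⟨v, 0, h0, q0, (add_zero v).symm⟩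
  by_contra hcon
  have hall : ∀ w, ρ.β v w = 1 → ρ.q w = 1 := fun w hb => by
    rcases two_cases (ρ.q w) with e | e
    · refine absurd ⟨v + w, w, ?_, e, by rw [add_assoc, ρ.self, add_zero]⟩ hcon
      rw [ρ.q_add, h1, e, hb]; decide
    · exact e
  obtain ⟨w, hw⟩ : ∃ w, ρ.β v w = 1 := by
    by_contra hn
    push Not at hn
    have hv := ρ.β_nondeg v fun y => (two_cases _).resolve_right (hn y)
    rw [hv, q0] at h1
    exact zero_ne_one h1
  have hqu : ∀ u, ρ.β v u = 0 → ρ.q u = ρ.β w u := fun u hu => by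
    have h2 : ρ.q (w + u) = 1 := hall _ (by
      rw [ρ.bsymm, ρ.β_add, ρ.bsymm w, ρ.bsymm u, hw, hu, add_zero])
    rw [ρ.q_add, hall w hw] at h2
    rcases two_cases (ρ.q u) with e | e <;> rcases two_cases (ρ.β w u) with e' | e' <;> rw [e, e'] at h2 ⊢
    all_goals exact absurd h2 (by decide)
  have hperp : ∀ a b, ρ.β v a = 0 → ρ.β v b = 0 → ρ.β a b = 0 := fun a b ha hb => by
    have h := hqu (a + b) (by rw [ρ.bsymm, ρ.β_add, ρ.bsymm a, ρ.bsymm b, ha, hb, add_zero])
    rw [ρ.q_add, hqu a ha, hqu b hb, ρ.bsymm w (a + b), ρ.β_add, ρ.bsymm a w, ρ.bsymm b w] at h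
    exact add_eq_left.1 h
  have hvv : ρ.β v v = 0 := ρ.β_self v
  have key : ∀ u, ρ.β v u = 0 → ρ.β w u = 0 → u = 0 := fun u hu hwu => ρ.β_nondeg u fun y => by
    rcases two_cases (ρ.β v y) with hy | hy
    · exact hperp u y hu hy
    · have hyw : ρ.β v (y + w) = 0 := by
        rw [ρ.bsymm, ρ.β_add, ρ.bsymm y, ρ.bsymm w, hy, hw]; decide
      have h := hperp u (y + w) hu hyw
      rw [ρ.bsymm u (y + w), ρ.β_add, ρ.bsymm y u, hwu, add_zero] at h
      exact h
  have hinj : Function.Injective fun y : V => (ρ.β v y, ρ.β w y) := fun a b e => by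
    obtain ⟨e1, e2⟩ := Prod.mk.inj e
    refine ρ.eq_of_add (key _ ?_ ?_)
    · rw [ρ.bsymm, ρ.β_add, ρ.bsymm a, ρ.bsymm b, e1]
      rcases two_cases (ρ.β v b) with h | h <;> rw [h] <;> decide
    · rw [ρ.bsymm, ρ.β_add, ρ.bsymm a, ρ.bsymm b, e2]
      rcases two_cases (ρ.β w b) with h | h <;> rw [h] <;> decide
  have := Nat.card_le_card_of_injective _ hinj
  rw [ρ.card, Nat.card_prod, Nat.card_eq_fintype_card, ZMod.card] at this
  omega

end Rep

namespace Ext

variable {G : Type u} [Group G] [Finite G] {z : G} (E : Ext z)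

include E

/-- No other conjugate lies in the extraspecial group. -/
theorem wc (g : G) (ht : g * z * g⁻¹ ∈ E.J) : g * z * g⁻¹ = z := by
  obtain ⟨V, _, ⟨M⟩⟩ := E.exists_mod
  rcases M.rep.dichotomy with h | h
  · obtain ⟨ψ, ⟨C⟩⟩ := M.exists_crd h
    exact C.wc ht
  · exact M.red_wc h g ht

theorem le_cent : E.H0 ≤ Subgroup.centralizer ({z} : Set G) :=
  fun h hh => Subgroup.mem_centralizer_singleton_iff.2 (E.le h hh).eq

theorem setting : TransferFixed.Setting (Subgroup.centralizer ({z} : Set G)) E.J z where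
  hEH := E.J_le.trans E.le_cent
  hH _ := Subgroup.mem_centralizer_singleton_iff
  hnorm g hg e he := E.D.norm g (Subgroup.mem_centralizer_singleton_iff.1 hg) e he
  zE := E.D.z_mem
  z2 := E.sq
  z1 := E.D.z_ne
  comm a ha b hb := by
    rcases E.D.comm a ha b hb with h | h
    · exact Or.inl (commutatorElement_eq_one_iff_mul_comm.1 h)
    · right
      calc a * b = ⁅a, b⁆ * (b * a) := by rw [commutatorElement_def]; group
        _ = b * a * z := by rw [h]; exact (E.D.z_central _ (mul_mem hb ha)).symm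
  sq _ ha := E.D.sq ha
  self x hx := by
    rcases E.D.cent x (Subgroup.mem_centralizer_iff.1 hx) with e | e <;> rw [e]
    exacts [one_mem _, E.D.z_mem]
  cen x _ hc := E.D.cent x fun q hq => (hc q hq).symm
  isP := E.extra.1.1

/-- A subgroup of index two meeting the centraliser in the inner part. -/
theorem exists_index_two (hout : ∃ x, Commute x z ∧ x ∉ E.H0) :
    ∃ M : Subgroup G, M.index = 2 ∧ E.H0 ≤ M ∧ (∀ x, Commute x z → x ∈ M → x ∈ E.H0) ∧
      ∃ x, Commute x z ∧ x ∉ M := by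
  classical
  obtain ⟨x0, hx0, hx0H⟩ := hout
  set H : Subgroup G := Subgroup.centralizer ({z} : Set G)
  have hx0' : x0 ∈ H := Subgroup.mem_centralizer_singleton_iff.2 hx0.eq
  have hsq : x0 * x0 ∈ E.H0 := E.out_mul _ _ hx0 hx0 hx0H hx0H
  have hidx : (E.H0.subgroupOf H).index = 2 := by
    refine Subgroup.index_eq_two_iff.2 ⟨⟨x0, hx0'⟩, fun b => ?_⟩
    have hb : Commute (b : G) z := Subgroup.mem_centralizer_singleton_iff.1 b.2
    by_cases h : (b : G) ∈ E.H0
    · exact Or.inr ⟨h, fun h' => hx0H ((E.H0.mul_mem_cancel_left h).1 h')⟩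
    · exact Or.inl ⟨E.out_mul _ _ hb hx0 h hx0H, h⟩
  let μ := IndexTwo.signHom (E.H0.subgroupOf H) hidx
  have hμ : ∀ x : G, x ∈ E.H0 → TransferFixed.lam μ x = 1 := fun x hx => by
    rw [TransferFixed.lam_of_mem (E.le_cent hx)]
    exact IndexTwo.signHom_eq_one.2 hx
  have hcard : Nat.card E.J = 2 ^ (2 * 4 + 1) := by rw [E.card]; norm_num
  have hW : WCIndexTwo.WC E.J z := E.wc
  obtain ⟨h0, hh0, hh0μ, hh0τ⟩ := WCIndexTwo.exists_transfer_eq_lam E.setting hW 4 (by norm_num) hcard μ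
    ⟨⟨x0, hx0'⟩, fun e => hx0H ((IndexTwo.signHom_eq_one (h := hidx)).1 e)⟩
  set τ : G →* ℤˣ := MonoidHom.transfer μ
  have hτ0 : τ h0 ≠ 1 := hh0τ ▸ hh0μ
  have hinv : ∀ j ∈ E.J, j * j = 1 → τ j = 1 := fun j hj hj2 => by
    have hj' : j ^ 2 ^ 1 = 1 := by rw [pow_one, pow_two, hj2]
    refine (WCIndexTwo.transfer_eq_lam E.setting hW 4 (by norm_num) hcard μ (E.le_cent (E.J_le hj)) hj'
      (fun g r hr hrd hm => ?_) (Or.inl hj2)).trans (hμ j (E.J_le hj))
    have hd : r ∣ 2 := hrd.trans (orderOf_dvd_of_pow_eq_one (by rwa [pow_one] at hj'))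
    have hr2 : r = 2 := le_antisymm (Nat.le_of_dvd two_pos hd) hr
    rw [hr2, pow_two, hj2, mul_one, inv_mul_cancel]
    exact hμ 1 (one_mem _)
  have hτJ : ∀ j ∈ E.J, τ j = 1 := by
    obtain ⟨V, _, ⟨M⟩⟩ := E.exists_mod
    intro j hj
    obtain ⟨a, b, ha, hb, hab⟩ := M.rep.exists_singular_pair (M.vc j)
    obtain ⟨i, hi, rfl⟩ := M.vc_surj a
    obtain ⟨k, hk, rfl⟩ := M.vc_surj b
    have hi1 := hinv i hi ((M.sq_iff i hi).2 ha)
    have hk1 := hinv k hk ((M.sq_iff k hk).2 hb)
    rcases M.vc_eq_cases hj (mul_mem hi hk) (by rw [M.vc_mul i hi k hk, hab]) with e | e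
    · rw [e, map_mul, hi1, hk1, one_mul]
    · rw [e, map_mul, map_mul, hi1, hk1, hinv z E.D.z_mem E.sq, one_mul, one_mul]
  choose s hs hφs using E.φ_surj
  have hdep : ∀ a, ∀ h ∈ E.H0, E.φ h = a → τ h = τ (s a) := fun a h hh e => by
    have hm : (s a)⁻¹ * h ∈ E.J := by
      rw [← E.φ_ker _ (mul_mem (inv_mem (hs a)) hh), E.φ_mul _ (inv_mem (hs a)) _ hh, E.φ_inv (hs a), hφs, e,
        inv_mul_cancel]
    have := hτJ _ hm
    rw [map_mul, map_inv, inv_mul_eq_one] at this
    exact this.symm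
  let χ : U4 →* ℤˣ := MonoidHom.mk' (fun a => τ (s a)) fun a b => by
    rw [← map_mul]
    refine (hdep _ _ (mul_mem (hs a) (hs b)) ?_).symm
    rw [E.φ_mul _ (hs a) _ (hs b), hφs, hφs]
  have hτH : ∀ h ∈ E.H0, τ h = 1 := fun h hh => (hdep _ h hh rfl).trans (U4_hom_trivial χ (E.φ h))
  have hrange : τ.range = ⊤ := by
    refine eq_top_iff.2 fun y _ => ?_
    rcases Int.units_eq_one_or y with rfl | rfl
    · exact one_mem _
    · exact ⟨h0, (Int.units_eq_one_or _).resolve_left hτ0⟩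
  have hh0z : Commute h0 z := Subgroup.mem_centralizer_singleton_iff.1 hh0
  have hh0H : h0 ∉ E.H0 := fun h => hh0μ (hμ h0 h)
  refine ⟨τ.ker, ?_, hτH, fun x hx hxM => ?_, h0, hh0z, hτ0⟩
  · rw [Subgroup.index_ker, hrange, Subgroup.card_top, Nat.card_eq_fintype_card]
    rfl
  · by_contra hxH
    have h1 := hτH _ (E.out_mul x h0 hx hh0z hxH hh0H)
    rw [map_mul, show τ x = 1 from hxM, one_mul] at h1
    exact hτ0 h1

/-- The setting inside a subgroup meeting the centraliser in the inner part. -/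
noncomputable def toPre (M : Subgroup G) (hHM : E.H0 ≤ M) (hMH : ∀ x, Commute x z → x ∈ M → x ∈ E.H0) :
    Pre (⟨z, hHM (E.J_le E.D.z_mem)⟩ : M) :=
  have hzM : z ∈ M := hHM (E.J_le E.D.z_mem)
  have hJM : E.J ≤ M := E.J_le.trans hHM
  have hval : ∀ a : M, Commute a ⟨z, hzM⟩ → Commute (a : G) z := fun _ ha => congrArg Subtype.val ha.eq
  { J := E.J.subgroupOf M
    φ := fun l => E.φ l
    D :=
      { z_mem := E.D.z_mem
        z_ne := fun e => E.D.z_ne (congrArg Subtype.val e)
        z_sq := Subtype.ext E.sq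
        z_central := fun q hq => Subtype.ext (E.D.z_central (q : G) hq)
        cent := fun x hx => by
          rcases E.D.cent (x : G) fun q hq => congrArg Subtype.val (hx ⟨q, hJM hq⟩ hq) with e | e
          exacts [Or.inl (Subtype.ext e), Or.inr (Subtype.ext e)]
        comm := fun a ha b hb => by
          rcases E.D.comm (a : G) ha (b : G) hb with e | e
          exacts [Or.inl (Subtype.ext e), Or.inr (Subtype.ext e)]
        norm := fun c hc q hq => E.D.norm (c : G) (hval c hc) (q : G) hq }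
    extra := isExtraspecial_congr (Subgroup.subgroupOfEquivOfLe hJM).symm E.extra
    card := by rw [Nat.card_congr (Subgroup.subgroupOfEquivOfLe hJM).toEquiv, E.card]
    φ_mul := fun a b ha hb => E.φ_mul _ (hMH _ (hval a ha) a.2) _ (hMH _ (hval b hb) b.2)
    φ_ker := fun h hh => E.φ_ker _ (hMH _ (hval h hh) h.2)
    φ_surj := fun x => by
      obtain ⟨h, hh, e⟩ := E.φ_surj x
      exact ⟨⟨h, hHM hh⟩, Subtype.ext (E.le h hh).eq, e⟩ }

/-- PSU(6,2) of index two, or central modulo the odd core. -/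
theorem psu_or_isolated (hout : ∃ x, Commute x z ∧ x ∉ E.H0) (F : Type w) [Field F] [Fintype F]
    (hF : Fintype.card F = 4) :
    (∃ M : Subgroup G, M.index = 2 ∧ Nonempty (M ≃* Cfsg.PSU 6 F 2) ∧
        Subgroup.centralizer (M : Set G) = ⊥) ∨
      Subgroup.centralizer ({z} : Set G) ⊔ Cfsg.oddCore G = ⊤ := by
  classical
  obtain ⟨M, hM2, hHM, hMH, h1, hh1, hh1M⟩ := E.exists_index_two hout
  haveI : M.Normal := Subgroup.normal_of_index_eq_two hM2
  have hzM : z ∈ M := hHM (E.J_le E.D.z_mem)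
  have hJM : E.J ≤ M := E.J_le.trans hHM
  let zM : M := ⟨z, hzM⟩
  have hz : orderOf z = 2 := orderOf_eq_prime (by rw [pow_two, E.sq]) E.D.z_ne
  have hval : ∀ a : M, Commute a zM → Commute (a : G) z := fun a ha => congrArg Subtype.val ha.eq
  by_cases hiso : ∀ g ∈ M, Commute z (g * z * g⁻¹) → g * z * g⁻¹ = z
  · refine Or.inr (centralizer_sup_oddCore ⟨hz, fun g hg => ?_⟩)
    by_cases hgM : g ∈ M
    · exact hiso g hgM hg
    · have hm : g * h1 ∈ M := (Subgroup.mul_mem_iff_of_index_two hM2).2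
        ⟨fun h => absurd h hgM, fun h => absurd h hh1M⟩
      have e : g * h1 * z * (g * h1)⁻¹ = g * z * g⁻¹ := by
        calc g * h1 * z * (g * h1)⁻¹ = g * (h1 * z) * h1⁻¹ * g⁻¹ := by group
          _ = g * (z * h1) * h1⁻¹ * g⁻¹ := by rw [hh1.eq]
          _ = _ := by group
      rw [← e] at hg ⊢
      exact hiso _ hm hg
  push Not at hiso
  obtain ⟨g, hgM, hgc, hgne⟩ := hiso
  let P : Pre zM := E.toPre M hHM hMH
  rcases P.equiv_or_isolated F hF with hpsu | hi
  · refine Or.inl ⟨M, hM2, hpsu, (Subgroup.eq_bot_iff_forall _).2 fun c hc => ?_⟩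
    rw [Subgroup.mem_centralizer_iff] at hc
    rcases E.D.cent c fun q hq => hc q (hJM hq) with e | e
    · exact e
    · exfalso
      have hgz : g * z = z * g := by simpa [e] using hc g hgM
      exact hgne (by rw [hgz, mul_inv_cancel_right])
  · exact absurd (congrArg Subtype.val (hi.2 ⟨g, hgM⟩ (Subtype.ext hgc.eq))) hgne

end Ext

/-- SU(4,2) has index two in its automorphism group. -/
theorem index_conj_range : (MulAut.conj : U4 →* MulAut U4).range.index = 2 := by
  haveI : Fact (Nat.Prime 3) := ⟨Nat.prime_three⟩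
  obtain ⟨f⟩ := exists_U4_equiv (ZMod 3) (ZMod.card 3)
  have hA := S0814.result (F := ZMod 3) 3 1 le_rfl (by rw [ZMod.card, pow_one]) 2 le_rfl (fun _ => by norm_num)
  rw [if_neg (by norm_num), Nat.card_congr (MulAut.congr f).toEquiv, Nat.card_congr f.toEquiv,
    show Nat.gcd 2 (3 ^ 1 - 1) = 2 from rfl] at hA
  have hr : Nat.card (MulAut.conj : U4 →* MulAut U4).range = Nat.card U4 :=
    (Nat.card_congr (MonoidHom.ofInjective conj_injective_U4).toEquiv).symm
  have h := (MulAut.conj : U4 →* MulAut U4).range.card_mul_index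
  rw [hr, hA] at h
  have hpos : 0 < Nat.card U4 := Nat.card_pos
  nlinarith [h]
where
  /-- Conjugation is faithful. -/
  conj_injective_U4 : Function.Injective (MulAut.conj : U4 →* MulAut U4) := by
    refine (injective_iff_map_eq_one _).2 fun a ha => ?_
    have : a ∈ Subgroup.center U4 := Subgroup.mem_center_iff.2 fun b => by
      have e : a * b * a⁻¹ = b := DFunLike.congr_fun ha b
      exact (mul_inv_eq_iff_eq_mul.1 e).symm
    rw [center_U4] at this
    exact this

theorem conj_inj {a b : U4} (h : MulAut.conj a = MulAut.conj b) : a = b :=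
  index_conj_range.conj_injective_U4 h

/-- The setting, from a normal extraspecial subgroup with quotient Aut SU(4,2). -/
theorem exists_ext {G : Type u} [Group G] [Finite G] {z : G} (hz : orderOf z = 2)
    (J : Subgroup (Subgroup.centralizer ({z} : Set G))) [J.Normal]
    (hJ : Cfsg.IsExtraspecial 2 ↥J) (hJc : Nat.card J = 2 ^ 9)
    (hCJ : Subgroup.centralizer (J : Set (Subgroup.centralizer ({z} : Set G))) ≤ J)
    (e : (Subgroup.centralizer ({z} : Set G)) ⧸ J ≃* MulAut U4) :
    ∃ E : Ext z, ∃ x, Commute x z ∧ x ∉ E.H0 := by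
  classical
  let π : (Subgroup.centralizer ({z} : Set G)) →* MulAut U4 := e.toMonoidHom.comp (QuotientGroup.mk' J)
  have hπ : Function.Surjective π := e.surjective.comp (QuotientGroup.mk'_surjective J)
  have hker : ∀ x : (Subgroup.centralizer ({z} : Set G)), π x = 1 ↔ x ∈ J := fun x => by
    show e (QuotientGroup.mk x) = 1 ↔ _
    rw [MulEquiv.map_eq_one_iff, QuotientGroup.eq_one_iff]
  let H0 : Subgroup G := ((MulAut.conj : U4 →* MulAut U4).range.comap π).map (Subgroup.centralizer ({z} : Set G)).subtype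
  have hH0 : ∀ x (hx : x ∈ (Subgroup.centralizer ({z} : Set G))), x ∈ H0 ↔ π ⟨x, hx⟩ ∈ (MulAut.conj : U4 →* MulAut U4).range := fun x hx =>
    ⟨fun ⟨y, hy, he⟩ => (Subtype.ext he : y = ⟨x, hx⟩) ▸ hy, fun h => ⟨⟨x, hx⟩, h, rfl⟩⟩
  have hH0C : H0 ≤ (Subgroup.centralizer ({z} : Set G)) := Subgroup.map_subtype_le _
  let φ : G → U4 := fun h => if hh : h ∈ H0 then ((hH0 h (hH0C hh)).1 hh).choose else 1
  have hφ : ∀ h (hh : h ∈ H0), MulAut.conj (φ h) = π ⟨h, hH0C hh⟩ := fun h hh => by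
    simp only [φ]; rw [dif_pos hh]; exact ((hH0 h (hH0C hh)).1 hh).choose_spec
  have hmem : ∀ x, Commute x z → x ∈ (Subgroup.centralizer ({z} : Set G)) := fun x hx => Subgroup.mem_centralizer_singleton_iff.2 hx.eq
  set J' : Subgroup G := J.map (Subgroup.centralizer ({z} : Set G)).subtype
  have hJH : J' ≤ H0 := Subgroup.map_mono fun x hx => by
    rw [Subgroup.mem_comap, (hker x).2 hx]; exact one_mem _
  have hzC : z ∈ (Subgroup.centralizer ({z} : Set G)) := hmem z (Commute.refl z)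
  have hex : Cfsg.IsExtraspecial 2 ↥J' :=
    isExtraspecial_congr (Subgroup.equivMapOfInjective J (Subgroup.centralizer ({z} : Set G)).subtype (Subgroup.centralizer ({z} : Set G)).subtype_injective) hJ
  have hcm : ∀ j ∈ J', Commute j z := fun j hj => Subgroup.mem_centralizer_singleton_iff.1 (hH0C (hJH hj))
  have hzJ : z ∈ J' := ⟨⟨z, hzC⟩, hCJ (Subgroup.mem_centralizer_iff.2 fun j _ => Subtype.ext
    (Subgroup.mem_centralizer_singleton_iff.1 j.2)), rfl⟩
  have hzc : z ∈ zc J' := mem_zc.2 ⟨hzJ, fun q hq => (hcm q hq).eq⟩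
  have hgen : zc J' = Subgroup.zpowers z := by
    refine (Subgroup.eq_of_le_of_card_ge (Subgroup.zpowers_le.2 hzc) ?_).symm
    rw [card_zc hex, Nat.card_zpowers, hz]
  have hL2 : Subgroup.centralizer (J' : Set G) = zc J' := by
    refine le_antisymm (fun x hx => ?_) fun x hx => Subgroup.mem_centralizer_iff.2 (mem_zc.1 hx).2
    have hxC : x ∈ (Subgroup.centralizer ({z} : Set G)) := hmem x (Subgroup.mem_centralizer_iff.1 hx z hzJ).symm
    have hxJ : (⟨x, hxC⟩ : (Subgroup.centralizer ({z} : Set G))) ∈ J := hCJ (Subgroup.mem_centralizer_iff.2 fun j hj =>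
      Subtype.ext (Subgroup.mem_centralizer_iff.1 hx j ⟨j, hj, rfl⟩))
    exact mem_zc.2 ⟨⟨_, hxJ, rfl⟩, fun q hq => Subgroup.mem_centralizer_iff.1 hx q hq⟩
  have hnJ : ∀ c ∈ (Subgroup.centralizer ({z} : Set G)), ∀ q ∈ J', c * q * c⁻¹ ∈ J' := by
    rintro c hc _ ⟨j, hj, rfl⟩
    exact ⟨⟨c, hc⟩ * j * ⟨c, hc⟩⁻¹, Subgroup.Normal.conj_mem ‹J.Normal› j hj _, rfl⟩
  have hL3 : Subgroup.centralizer (zc J' : Set G) ≤ Subgroup.normalizer (J' : Set G) := by
    intro c hc
    have hcC : c ∈ (Subgroup.centralizer ({z} : Set G)) := hmem c (Subgroup.mem_centralizer_iff.1 hc z hzc).symm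
    refine Subgroup.mem_normalizer_iff.2 fun q => ⟨hnJ c hcC q, fun h => ?_⟩
    have := hnJ c⁻¹ (inv_mem hcC) _ h
    simpa [mul_assoc] using this
  have hN : (MulAut.conj : U4 →* MulAut U4).range.Normal := Subgroup.normal_of_index_eq_two index_conj_range
  obtain ⟨σ, hσ⟩ : ∃ σ : MulAut U4, σ ∉ (MulAut.conj : U4 →* MulAut U4).range := by
    by_contra! h
    have := index_conj_range
    rw [(eq_top_iff.2 fun x _ => h x : (MulAut.conj : U4 →* MulAut U4).range = ⊤), Subgroup.index_top] at this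
    omega
  obtain ⟨x0, hx0⟩ := hπ σ
  refine ⟨{
    J := J'
    H0 := H0
    φ := φ
    D := Data.of_extraspecial hex hL2 hL3 hgen hz
    extra := hex
    card := by rw [Subgroup.card_subtype, hJc]; norm_num
    le := fun h hh => Subgroup.mem_centralizer_singleton_iff.1 (hH0C hh)
    J_le := hJH
    norm := ?_
    out_mul := ?_
    φ_mul := ?_
    φ_ker := ?_
    φ_surj := ?_
    out := ?_ }, (x0 : G), Subgroup.mem_centralizer_singleton_iff.1 x0.2,
      fun h => hσ (hx0 ▸ (hH0 _ x0.2).1 h)⟩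
  · intro x hx h hh
    rw [hH0 _ (mul_mem (mul_mem (hmem x hx) (hH0C hh)) (inv_mem (hmem x hx)))]
    have := hN.conj_mem _ ((hH0 h (hH0C hh)).1 hh) (π ⟨x, hmem x hx⟩)
    rw [← map_inv, ← map_mul, ← map_mul] at this
    exact this
  · intro x y hx hy hxH hyH
    rw [hH0 _ (mul_mem (hmem x hx) (hmem y hy))]
    rw [hH0 _ (hmem x hx)] at hxH
    rw [hH0 _ (hmem y hy)] at hyH
    have := (Subgroup.mul_mem_iff_of_index_two index_conj_range).2 ⟨fun h => absurd h hxH, fun h => absurd h hyH⟩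
    rw [← map_mul] at this
    exact this
  · intro g hg h hh
    refine conj_inj ?_
    rw [hφ _ (mul_mem hg hh), map_mul, hφ g hg, hφ h hh, ← map_mul]
    rfl
  · intro h hh
    constructor
    · intro h1
      refine ⟨⟨h, hH0C hh⟩, (hker _).1 ?_, rfl⟩
      rw [← hφ h hh, h1, map_one]
    · rintro ⟨y, hy, he⟩
      refine conj_inj ?_
      rw [hφ h hh, map_one, ← (Subtype.ext he : y = ⟨h, hH0C hh⟩)]
      exact (hker y).2 hy
  · intro x
    obtain ⟨y, hy⟩ := hπ (MulAut.conj x)
    have hyH : (y : G) ∈ H0 := (hH0 _ y.2).2 ⟨x, hy.symm⟩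
    exact ⟨y, hyH, conj_inj ((hφ _ hyH).trans hy)⟩
  · intro x hx hfix
    have hxC := hmem x hx
    rw [hH0 x hxC]
    have h1 : π ⟨x, hxC⟩ = 1 := by
      refine MulEquiv.ext fun a => ?_
      obtain ⟨y, hy⟩ := hπ (MulAut.conj a)
      have hyH : (y : G) ∈ H0 := (hH0 _ y.2).2 ⟨a, hy.symm⟩
      have hya : φ y = a := conj_inj ((hφ _ hyH).trans hy)
      have hm : x * (y : G) * x⁻¹ ∈ H0 := by
        rw [hH0 _ (mul_mem (mul_mem hxC y.2) (inv_mem hxC))]
        have := hN.conj_mem _ ((hH0 _ y.2).1 hyH) (π ⟨x, hxC⟩)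
        rw [← map_inv, ← map_mul, ← map_mul] at this
        exact this
      refine conj_inj ?_
      have h2 := hφ _ hm
      rw [hfix _ hyH, hya] at h2
      rw [show (⟨x * (y : G) * x⁻¹, hH0C hm⟩ : (Subgroup.centralizer ({z} : Set G))) = ⟨x, hxC⟩ * y * ⟨x, hxC⟩⁻¹ from rfl, map_mul, map_mul,
        map_inv, hy] at h2
      rw [MulAut.one_apply, h2]
      ext b
      simp [MulAut.mul_apply]
    rw [h1]
    exact one_mem _

end Cfsg.Agent.U62Rec
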