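/-
Thompson's transfer lemma with control of the centraliser.

* `transfer_extremal` : an involution u of a Sylow 2-subgroup P outside Q of index two in P is outside a
  subgroup of index two of G, or some conjugation carries u into Q and C_P(u) into P.
-/
import Cfsg.Agent.EqLemmas
import Cfsg.Agent.Lib.M22Cover.Types

set_option autoImplicit false

namespace Cfsg.Agent.U62Rec

theorem transfer_extremal {G : Type*} [Group G] [Finite G] (P : Sylow 2 G) (Q : Subgroup G)
    (hQP : Q ≤ (P : Subgroup G)) (hQi : Q.relIndex (P : Subgroup G) = 2) (u : G) (hu : orderOf u = 2)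
    (huP : u ∈ (P : Subgroup G)) (huQ : u ∉ Q) :
    (∃ M : Subgroup G, M.Normal ∧ M.index = 2 ∧ u ∉ M) ∨
      ∃ g : G, g * u * g⁻¹ ∈ Q ∧ ∀ x ∈ (P : Subgroup G), Commute x u → g * x * g⁻¹ ∈ (P : Subgroup G) := by
  classical
  by_cases hc : ∃ g : G, g * u * g⁻¹ ∈ Q ∧ ∀ x ∈ (P : Subgroup G), Commute x u → g * x * g⁻¹ ∈ (P : Subgroup G)
  · exact Or.inr hc
  refine Or.inl ?_
  haveI : Fintype (G ⧸ Q) := Fintype.ofFinite _
  haveI : Fact (Nat.Prime 2) := ⟨Nat.prime_two⟩
  have hn : ∀ p ∈ (P : Subgroup G), ∀ q ∈ Q, p * q * p⁻¹ ∈ Q := fun p hp q hq => by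
    haveI : (Q.subgroupOf (P : Subgroup G)).Normal := Subgroup.normal_of_index_eq_two hQi
    exact Subgroup.Normal.conj_mem (inferInstance : (Q.subgroupOf (P : Subgroup G)).Normal) ⟨q, hQP hq⟩ hq ⟨p, hp⟩
  set σ : Equiv.Perm (G ⧸ Q) := MulAction.toPermHom G (G ⧸ Q) u with hσ
  have hfix : ∀ x : G, σ (x : G ⧸ Q) = (x : G ⧸ Q) ↔ x⁻¹ * u * x ∈ Q := by
    intro x
    show ((u * x : G) : G ⧸ Q) = (x : G ⧸ Q) ↔ _
    rw [eq_comm, QuotientGroup.eq, mul_assoc]
  -- the fixed points lie in pairs over a set of even size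
  let π : G ⧸ Q → G ⧸ (P : Subgroup G) := Subgroup.quotientMapOfLE hQP
  set F' : Set (G ⧸ (P : Subgroup G)) := {c | ∃ x : G, (x : G ⧸ (P : Subgroup G)) = c ∧ x⁻¹ * u * x ∈ Q} with hF'
  have hwell : ∀ x y : G, (x : G ⧸ (P : Subgroup G)) = y → x⁻¹ * u * x ∈ Q → y⁻¹ * u * y ∈ Q := by
    intro x y h hx
    have hp := (P : Subgroup G).inv_mem (QuotientGroup.eq.1 h)
    have := hn _ hp _ hx
    convert this using 1
    group
  have hcnt := M22Cover.ncard_fibres π (fun c => σ c = c) F' 2 (by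
    rintro c ⟨x, rfl, hx⟩
    obtain ⟨⟨s, hs⟩, hsQ⟩ : ∃ s : (P : Subgroup G), (s : G) ∉ Q := by
      by_contra! h
      have : Q.relIndex (P : Subgroup G) = 1 := Subgroup.relIndex_eq_one.2 fun y hy => h ⟨y, hy⟩
      omega
    have hne : ((x : G) : G ⧸ Q) ≠ ((x * s : G) : G ⧸ Q) := fun e => hsQ (by
      have := QuotientGroup.eq.1 e
      simpa using this)
    refine Eq.trans ?_ (Set.ncard_pair hne)
    congr 1
    ext c
    constructor
    · rintro ⟨e, -⟩
      induction c using QuotientGroup.induction_on with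
      | H y =>
        have hy : (y : G ⧸ (P : Subgroup G)) = (x : G ⧸ (P : Subgroup G)) := e
        have hp : x⁻¹ * y ∈ (P : Subgroup G) := QuotientGroup.eq.1 hy.symm
        by_cases hq : x⁻¹ * y ∈ Q
        · exact Or.inl (QuotientGroup.eq.2 hq).symm
        · refine Or.inr (Set.mem_singleton_iff.2 (QuotientGroup.eq.2 ?_))
          have h2 := Subgroup.index_eq_two_iff.1 hQi
          obtain ⟨a, ha⟩ := h2
          have hmul : ∀ p q : (P : Subgroup G), (p : G) ∉ Q → (q : G) ∉ Q → ((p * q : (P : Subgroup G)) : G) ∈ Q :=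
            fun p q hp' hq' => (Subgroup.mul_mem_iff_of_index_two hQi).2 ⟨fun h => absurd h hp', fun h => absurd h hq'⟩
          have := hmul ⟨(x⁻¹ * y)⁻¹, inv_mem hp⟩ ⟨s, hs⟩ (fun h => hq (by simpa using Q.inv_mem h)) hsQ
          simpa [mul_assoc] using this
    · rintro (rfl | rfl)
      · exact ⟨rfl, (hfix x).2 hx⟩
      · exact ⟨QuotientGroup.eq.2 (by simpa using (P : Subgroup G).inv_mem hs), (hfix _).2 (hwell x _ (QuotientGroup.eq.2 (by simpa using hs)) hx)⟩)
  have heven : 2 ∣ F'.ncard := by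
    let C : Subgroup G := (P : Subgroup G) ⊓ Subgroup.centralizer ({u} : Set G)
    have hmem : ∀ c : C, ∀ d ∈ F', (c : G) • d ∈ F' := by
      rintro ⟨c, hc⟩ _ ⟨x, rfl, hx⟩
      refine ⟨c * x, rfl, ?_⟩
      have hcu : c * u = u * c := Subgroup.mem_centralizer_singleton_iff.1 hc.2
      rw [mul_inv_rev, show x⁻¹ * c⁻¹ * u * (c * x) = x⁻¹ * (c⁻¹ * (u * c)) * x by group, ← hcu, inv_mul_cancel_left]
      exact hx
    letI : MulAction C F' :=
      { smul := fun c d => ⟨(c : G) • d.1, hmem c d.1 d.2⟩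
        one_smul := fun d => Subtype.ext (one_smul G d.1)
        mul_smul := fun a b d => Subtype.ext (mul_smul (a : G) (b : G) d.1) }
    have hp : IsPGroup 2 C := P.isPGroup'.to_le inf_le_left
    haveI : IsEmpty (MulAction.fixedPoints C F') := ⟨by
      rintro ⟨⟨_, x, rfl, hx⟩, hfixed⟩
      refine hc ⟨x⁻¹, by simpa using hx, fun y hy hyu => ?_⟩
      have h0 := congrArg Subtype.val (hfixed ⟨y, Subgroup.mem_inf.2 ⟨hy, Subgroup.mem_centralizer_singleton_iff.2 hyu⟩⟩)
      have h1 : ((y * x : G) : G ⧸ (P : Subgroup G)) = (x : G ⧸ (P : Subgroup G)) := h0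
      have := (P : Subgroup G).inv_mem (QuotientGroup.eq.1 h1)
      simpa [mul_assoc] using this⟩
    have hm := hp.card_modEq_card_fixedPoints (α := F')
    rw [Nat.card_of_isEmpty (α := MulAction.fixedPoints C F'), Nat.card_coe_set_eq] at hm
    exact Nat.modEq_zero_iff_dvd.1 hm
  have hu2 : u ^ 2 = 1 := by rw [← hu]; exact pow_orderOf_eq_one u
  have hindex : Q.index = 2 * (P : Subgroup G).index := by rw [← Subgroup.relIndex_mul_index hQP, hQi]
  have hodd : ¬ 2 ∣ (P : Subgroup G).index := P.not_dvd_index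
  have hfixcard : (Finset.univ.filter fun c => σ c = c).card = F'.ncard * 2 := by
    rw [← hcnt, ← Set.ncard_coe_finset]
    congr 1
    ext c
    simp only [Finset.coe_filter, Finset.mem_univ, true_and, Set.mem_ofPred_eq]
    constructor
    · intro h
      refine ⟨?_, h⟩
      induction c using QuotientGroup.induction_on with
      | H x => exact ⟨x, rfl, (hfix x).1 h⟩
    · exact fun h => h.2
  have hσne : σ ≠ 1 := by
    intro h
    rw [h] at hfixcard
    simp only [Equiv.Perm.coe_one, id_eq, Finset.filter_true] at hfixcard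
    rw [Finset.card_univ, ← Nat.card_eq_fintype_card,
      ← Subgroup.index_eq_card, hindex] at hfixcard
    omega
  have hσo : orderOf σ = 2 :=
    orderOf_eq_prime (by rw [hσ, ← map_pow, hu2, map_one]) hσne
  obtain ⟨m, hm⟩ := Equiv.Perm.cycleType_prime_order (hσo ▸ Nat.prime_two)
  rw [hσo] at hm
  have hsupp : σ.support.card + (Finset.univ.filter fun c => σ c = c).card = Q.index := by
    rw [Subgroup.index_eq_card, Nat.card_eq_fintype_card, ← Finset.card_univ,
      ← Finset.card_filter_add_card_filter_not (s := (Finset.univ : Finset (G ⧸ Q))) (fun c => σ c ≠ c)]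
    congr 1
    refine congrArg Finset.card (Finset.filter_congr fun c _ => ?_)
    simp
  have hsum := σ.sum_cycleType
  rw [hm, Multiset.sum_replicate, smul_eq_mul] at hsum
  have hodd' : ¬ 2 ∣ m + 1 := by omega
  have hsign : Equiv.Perm.sign σ = -1 := by
    rw [Equiv.Perm.sign_of_cycleType, hm, Multiset.sum_replicate, Multiset.card_replicate, smul_eq_mul]
    exact Odd.neg_one_pow (Nat.odd_iff.mpr (by omega))
  set ε : G →* ℤˣ := Equiv.Perm.sign.comp (MulAction.toPermHom G (G ⧸ Q)) with hε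
  have hεu : ε u = -1 := hsign
  refine ⟨ε.ker, inferInstance, ?_, ?_⟩
  · have hr : ε.range = ⊤ := by
      rw [eq_top_iff]
      intro y _
      rcases Int.units_eq_one_or y with rfl | rfl
      · exact one_mem _
      · exact ⟨u, hεu⟩
    rw [Subgroup.index_ker, hr, Subgroup.card_top, Nat.card_eq_fintype_card]
    rfl
  · rw [MonoidHom.mem_ker, hεu]
    decide

end Cfsg.Agent.U62Rec
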