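/-
The reducible case: the involution is isolated.

* `Modl.red_notMem` : no other conjugate in J;
* `Modl.red_sq` : an element of the fixed quaternion or dihedral group commuting with a commuting conjugate
  squares to one;
* `Modl.isolated_of_red` : no other commuting conjugate.
-/
import Cfsg.Agent.Lib.U62Rec.HypRed
import Cfsg.Agent.Lib.U62Rec.HypPre
import Cfsg.Agent.Lib.U62Rec.HypTransfer

set_option autoImplicit false

namespace Cfsg.Agent.U62Rec

open Cfsg.Agent.LargeExtraspecial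
open scoped commutatorElement

universe u v

variable {L : Type u} [Group L]

theorem two_pow_dvd_bound {m : ℕ} (h : 2 ^ m ∣ 25920) : m ≤ 6 := by
  by_contra hlt
  have h7 : 2 ^ 7 ∣ 25920 := (pow_dvd_pow 2 (show 7 ≤ m by omega)).trans h
  norm_num at h7

/-- Half of an extraspecial group centralises a given noncentral element. -/
theorem Pre.half_cent [Finite L] {z : L} (P : Pre z) {s : L} (hs : s ∈ P.J) (h1 : s ≠ 1) (h2 : s ≠ z) :
    256 ≤ Nat.card (P.J ⊓ Subgroup.centralizer ({s} : Set L) : Subgroup L) := by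
  classical
  obtain ⟨j0, hj0, hj0s⟩ := P.D.exists_conj_eq hs h1 h2
  have hmv : ∀ j ∈ P.J, ¬ Commute j s → j0⁻¹ * j ∈ (P.J ⊓ Subgroup.centralizer ({s} : Set L) : Subgroup L) := by
    intro j hj hjs
    refine Subgroup.mem_inf.2 ⟨mul_mem (inv_mem hj0) hj, Subgroup.mem_centralizer_singleton_iff.2 ?_⟩
    have e : j * s * j⁻¹ = s * z := by
      rcases P.D.comm j hj s hs with e | e
      · exact absurd (commutatorElement_eq_one_iff_mul_comm.1 e) hjs
      · calc j * s * j⁻¹ = ⁅j, s⁆ * s := by rw [commutatorElement_def]; group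
          _ = s * z := by rw [e]; exact (P.D.z_central s hs).symm
    calc j0⁻¹ * j * s = j0⁻¹ * (j * s * j⁻¹) * j := by group
      _ = j0⁻¹ * (j0 * s * j0⁻¹) * j := by rw [e, hj0s]
      _ = s * (j0⁻¹ * j) := by group
  let i : P.J → (P.J ⊓ Subgroup.centralizer ({s} : Set L) : Subgroup L) × Bool := fun j =>
    if h : Commute (j : L) s then (⟨j, j.2, Subgroup.mem_centralizer_singleton_iff.2 h⟩, false)
    else (⟨j0⁻¹ * j, hmv j j.2 h⟩, true)
  have hi : Function.Injective i := fun x y h => by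
    simp only [i] at h
    split_ifs at h with h1 h2 h2 <;> simp only [Prod.mk.injEq, Subtype.mk.injEq, Bool.false_eq_true,
      Bool.true_eq_false, and_false, and_true] at h
    · have e := congrArg Subtype.val h
      exact Subtype.ext e
    · exact Subtype.ext (mul_left_cancel (a := j0⁻¹) h)
  have := Nat.card_le_card_of_injective i hi
  rw [P.card, Nat.card_prod, Nat.card_eq_fintype_card (α := Bool), Fintype.card_bool] at this
  omega

/-- A commutator fixes an element with at most two images. -/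
theorem commutator_fixes {z q a b : L} (hz : z * z = 1) (ha : Commute a z) (hb : Commute b z)
    (h1 : a * q * a⁻¹ = q ∨ a * q * a⁻¹ = q * z) (h2 : b * q * b⁻¹ = q ∨ b * q * b⁻¹ = q * z) :
    Commute ⁅a, b⁆ q := by
  have hzi : z⁻¹ = z := inv_eq_of_mul_eq_one_right hz
  have inv : ∀ c : L, Commute c z → ∀ e : L, (e = 1 ∨ e = z) → c * q * c⁻¹ = q * e → c⁻¹ * q * c = q * e := by
    intro c hc e he h
    have hce : Commute c e := by
      rcases he with rfl | rfl
      exacts [Commute.one_right c, hc]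
    have hee : e * e = 1 := by
      rcases he with rfl | rfl
      exacts [one_mul 1, hz]
    have e2 : c⁻¹ * (q * e) * c = q := by rw [← h]; group
    calc c⁻¹ * q * c = c⁻¹ * (q * e) * (e⁻¹ * c) := by group
      _ = c⁻¹ * (q * e) * (c * e⁻¹) := by rw [hce.symm.inv_left.eq]
      _ = c⁻¹ * (q * e) * c * e⁻¹ := by group
      _ = q * e := by rw [e2, inv_eq_of_mul_eq_one_right hee]
  obtain ⟨e, he, hae⟩ : ∃ e, (e = 1 ∨ e = z) ∧ a * q * a⁻¹ = q * e := by
    rcases h1 with h | h
    exacts [⟨1, Or.inl rfl, by rw [h, mul_one]⟩, ⟨z, Or.inr rfl, h⟩]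
  obtain ⟨f, hf, hbf⟩ : ∃ f, (f = 1 ∨ f = z) ∧ b * q * b⁻¹ = q * f := by
    rcases h2 with h | h
    exacts [⟨1, Or.inl rfl, by rw [h, mul_one]⟩, ⟨z, Or.inr rfl, h⟩]
  have hcom : ∀ c : L, Commute c z → ∀ e : L, (e = 1 ∨ e = z) → Commute c e := by
    intro c hc e he
    rcases he with rfl | rfl
    exacts [Commute.one_right c, hc]
  have hii := inv a ha e he hae
  have hji := inv b hb f hf hbf
  refine mul_inv_eq_iff_eq_mul.1 ?_
  rw [commutatorElement_def]
  calc a * b * a⁻¹ * b⁻¹ * q * (a * b * a⁻¹ * b⁻¹)⁻¹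
      = a * (b * (a⁻¹ * (b⁻¹ * q * b) * a) * b⁻¹) * a⁻¹ := by group
    _ = a * (b * (a⁻¹ * (q * f) * a) * b⁻¹) * a⁻¹ := by rw [hji]
    _ = a * (b * ((a⁻¹ * q * a) * (a⁻¹ * f * a)) * b⁻¹) * a⁻¹ := by group
    _ = a * (b * (q * e * f) * b⁻¹) * a⁻¹ := by
        rw [hii, (hcom a ha f hf).inv_left.eq, inv_mul_cancel_right]
    _ = a * ((b * q * b⁻¹) * (b * (e * f) * b⁻¹)) * a⁻¹ := by group
    _ = a * (q * f * (e * f)) * a⁻¹ := by
        rw [hbf, ((hcom b hb e he).mul_right (hcom b hb f hf)).eq, mul_inv_cancel_right]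
    _ = a * (q * e) * a⁻¹ := by
        have : f * (e * f) = e := by
          rcases he with rfl | rfl <;> rcases hf with rfl | rfl <;> simp [hz]
        rw [mul_assoc q f, this]
    _ = (a * q * a⁻¹) * (a * e * a⁻¹) := by group
    _ = q * e * e := by rw [hae, (hcom a ha e he).eq, mul_inv_cancel_right]
    _ = q := by rcases he with rfl | rfl <;> simp [mul_assoc, hz]

namespace Modl

variable {z : L} {P : Pre z} {V : Type v} [AddCommGroup V] (M : Modl P V) (hR : M.rep.IsRed)
include hR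

/-- Elements of the fixed part are moved only by the centre. -/
theorem fix_cases {q h : L} (hq : q ∈ P.J) (hqf : M.vc q ∈ M.rep.fixT) (hh : Commute h z) :
    h * q * h⁻¹ = q ∨ h * q * h⁻¹ = q * z :=
  M.vc_eq_cases (P.D.norm h hh q hq) hq (by rw [M.vc_conj h hh q hq, M.rep.fix_act hR hqf])

variable [Finite L]

/-- No other conjugate lies in J. -/
theorem red_notMem (g : L) (ht : g * z * g⁻¹ ∈ P.J) : g * z * g⁻¹ = z := by
  classical
  haveI := M.rep.finite
  by_contra hne
  set t := g * z * g⁻¹ with htdef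
  have ht1 : t ≠ 1 := fun e => P.ne_one (conj_eq_one_iff.1 e)
  have hzQ : z ∈ (P.conj g).J := P.D.mem_conj ht hne (by rw [P.card]; norm_num)
  obtain ⟨c, hc, hcv⟩ := M.rep.exists_five hR (M.vc t)
  obtain ⟨h, hhz, hht, hhc⟩ := M.lift_fix ht ht1 hne hcv
  let K : Subgroup L := P.J ⊓ (P.conj g).J
  let θK : K →* Multiplicative V :=
    MonoidHom.mk' (fun x => Multiplicative.ofAdd (M.vc x)) fun x y => congrArg Multiplicative.ofAdd (M.vc_mul x x.2.1 y y.2.1)
  let S : AddSubgroup V :=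
    { carrier := {w | ∃ x ∈ K, M.vc x = w}
      zero_mem' := ⟨1, one_mem _, M.vc_one⟩
      add_mem' := by
        rintro _ _ ⟨x, hx, rfl⟩ ⟨y, hy, rfl⟩
        exact ⟨x * y, mul_mem hx hy, M.vc_mul x hx.1 y hy.1⟩
      neg_mem' := fun {w} hw => by rw [M.rep.neg_eq]; exact hw }
  have hS : Nat.card S ≤ 4 := (M.rep.five_small hR hc S (by
      rintro _ ⟨x, hx, rfl⟩
      refine ⟨h * x * h⁻¹, ⟨P.D.norm h hhz x hx.1, (P.conj g).D.norm h hht x hx.2⟩, ?_⟩
      rw [M.vc_conj h hhz x hx.1, hhc]) (by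
      rintro _ ⟨x, hx, rfl⟩ _ ⟨y, hy, rfl⟩
      refine (M.comm_iff x hx.1 y hy.1).1 ?_
      rcases P.D.comm x hx.1 y hy.1 with e | e
      · exact commutatorElement_eq_one_iff_mul_comm.1 e
      · rcases (P.conj g).D.comm x hx.2 y hy.2 with e' | e'
        · exact commutatorElement_eq_one_iff_mul_comm.1 e'
        · exact absurd (e'.symm.trans e) hne)).2
  have hK : Nat.card K ≤ 8 := by
    have hk : Nat.card θK.ker ≤ 2 := by
      let i : θK.ker → ({1, z} : Set L) := fun x => ⟨((x : K) : L), by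
        rcases M.vc_ker _ (x : K).2.1 (Multiplicative.ofAdd.injective x.2) with e | e <;> simp [e]⟩
      refine le_trans (Nat.card_le_card_of_injective i fun a b e =>
        Subtype.ext (Subtype.ext (congrArg (fun y : ({1, z} : Set L) => (y : L)) e))) ?_
      rw [Nat.card_coe_set_eq]
      exact le_trans (Set.ncard_insert_le _ _) (by simp)
    have hr : Nat.card θK.range ≤ 4 := by
      refine le_trans ?_ hS
      let i : θK.range → S := fun x => ⟨Multiplicative.toAdd x.1, by
        obtain ⟨y, hy⟩ := x.2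
        exact ⟨y, y.2, by rw [← hy]; rfl⟩⟩
      exact Nat.card_le_card_of_injective i fun a b e => Subtype.ext (congrArg (fun y : S => Multiplicative.ofAdd (y : V)) e)
    have := θK.ker.card_mul_index
    rw [Subgroup.index_ker] at this
    rw [← this]
    exact le_trans (Nat.mul_le_mul hk hr) le_rfl
  have hzt : z ≠ t := Ne.symm hne
  let B : Subgroup L := (P.conj g).J ⊓ Subgroup.centralizer ({z} : Set L)
  have hBz : ∀ x ∈ B, Commute x z := fun x hx => Subgroup.mem_centralizer_singleton_iff.1 hx.2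
  have hB : 256 ≤ Nat.card B := (P.conj g).half_cent hzQ P.ne_one hzt
  let θ : B →* U4 := MonoidHom.mk' (fun x => P.φ x) fun x y => P.φ_mul _ _ (hBz _ x.2) (hBz _ y.2)
  have hker : Nat.card θ.ker ≤ 8 := by
    refine le_trans ?_ hK
    let i : θ.ker → K := fun x => ⟨((x : B) : L), ⟨(P.φ_ker _ (hBz _ (x : B).2)).1 x.2, (x : B).2.1⟩⟩
    exact Nat.card_le_card_of_injective i fun a b e =>
      Subtype.ext (Subtype.ext (congrArg (fun y : K => (y : L)) e))
  have hsq : ∀ y ∈ θ.range, y * y = 1 := by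
    rintro _ ⟨x, rfl⟩
    rw [← map_mul]
    refine (P.φ_ker _ (hBz _ (x * x).2)).2 ?_
    rcases (P.conj g).D.sq x.2.1 with e | e
    · rw [show ((x * x : B) : L) = (x : L) * x from rfl, e]; exact one_mem _
    · rw [show ((x * x : B) : L) = (x : L) * x from rfl, e]; exact ht
  have hinv : ∀ y ∈ θ.range, c * y * c⁻¹ ∈ θ.range := by
    rintro _ ⟨x, rfl⟩
    have hm : h * x * h⁻¹ ∈ B := by
      refine Subgroup.mem_inf.2 ⟨(P.conj g).D.norm h hht x x.2.1, Subgroup.mem_centralizer_singleton_iff.2 ?_⟩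
      exact (hhz.mul_left (hBz _ x.2)).mul_left hhz.inv_left
    exact ⟨⟨_, hm⟩, by rw [← hhc]; exact P.φ_conj hhz (hBz _ x.2)⟩
  have hc5 : c ^ 5 = 1 := hc ▸ pow_orderOf_eq_one c
  have hpow : ∀ n : ℕ, ∀ y ∈ θ.range, c ^ n * y * (c ^ n)⁻¹ ∈ θ.range := fun n => by
    induction n with
    | zero => intro y hy; simpa using hy
    | succ n ih =>
      intro y hy
      have := hinv _ (ih y hy)
      rw [pow_succ']
      simpa [mul_assoc] using this
  have h45 : c ^ 4 * c = 1 := by rw [← pow_succ]; exact hc5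
  have h54 : c * c ^ 4 = 1 := by rw [← pow_succ']; exact hc5
  let σ : Equiv.Perm θ.range :=
    { toFun := fun y => ⟨c * y * c⁻¹, hinv y y.2⟩
      invFun := fun y => ⟨c ^ 4 * y * (c ^ 4)⁻¹, hpow 4 y y.2⟩
      left_inv := fun y => Subtype.ext (by
        show c ^ 4 * (c * y * c⁻¹) * (c ^ 4)⁻¹ = y
        rw [show c ^ 4 * (c * (y : U4) * c⁻¹) * (c ^ 4)⁻¹ = (c ^ 4 * c) * y * (c ^ 4 * c)⁻¹ by group, h45]
        simp)
      right_inv := fun y => Subtype.ext (by
        show c * (c ^ 4 * y * (c ^ 4)⁻¹) * c⁻¹ = y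
        rw [show c * (c ^ 4 * (y : U4) * (c ^ 4)⁻¹) * c⁻¹ = (c * c ^ 4) * y * (c * c ^ 4)⁻¹ by group, h54]
        simp) }
  have hσp : ∀ (n : ℕ) (y : θ.range), ((σ ^ n) y : U4) = c ^ n * y * (c ^ n)⁻¹ := fun n => by
    induction n with
    | zero => intro y; simp
    | succ n ih =>
      intro y
      rw [pow_succ', pow_succ', Equiv.Perm.mul_apply]
      show c * ((σ ^ n) y : U4) * c⁻¹ = _
      rw [ih]
      group
  have hσ : σ ^ 5 = 1 := Equiv.ext fun y => Subtype.ext (by rw [hσp, hc5]; simp)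
  have hcount := perm_five_count σ hσ
  haveI : Unique {y // σ y = y} :=
    { default := ⟨1, Subtype.ext (by show c * 1 * c⁻¹ = 1; simp)⟩
      uniq := fun y => Subtype.ext (Subtype.ext (M.rep.five_invol hR hc (hsq _ y.1.2)
        (mul_inv_eq_iff_eq_mul.1 (congrArg Subtype.val y.2)))) }
  rw [Nat.card_unique (α := {y // σ y = y})] at hcount
  obtain ⟨m, hm⟩ : ∃ m, Nat.card θ.range = 2 ^ m := by
    haveI : Fact (Nat.Prime 2) := ⟨Nat.prime_two⟩
    refine IsPGroup.iff_card.1 (fun y => ⟨1, Subtype.ext ?_⟩)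
    rw [pow_one, pow_two]
    exact hsq _ y.2
  have hm6 : m ≤ 6 := two_pow_dvd_bound (by
    have := θ.range.card_subgroup_dvd_card
    rwa [hm, card_SU4] at this)
  have hprod := θ.ker.card_mul_index
  rw [Subgroup.index_ker] at hprod
  have h32 : 32 ≤ 2 ^ m := by
    have := Nat.mul_le_mul_right (Nat.card θ.range) hker
    omega
  rw [hm] at hcount
  interval_cases m <;> omega

/-- Elements of the fixed part commuting with a commuting conjugate square to one. -/
theorem red_sq (g : L) (hc : Commute (g * z * g⁻¹) z) (hne : g * z * g⁻¹ ≠ z) {q : L} (hq : q ∈ P.J)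
    (hqf : M.vc q ∈ M.rep.fixT) (hqt : Commute q (g * z * g⁻¹)) : q * q = 1 := by
  classical
  by_contra hq2
  have hqq : q * q = z := (P.D.sq hq).resolve_left hq2
  set t := g * z * g⁻¹ with htdef
  let N := M.conj g
  have hzQ : z ∉ (P.conj g).J := by
    intro hz
    refine hne (M.red_notMem hR g ?_)
    have e : g⁻¹ * t * (g⁻¹)⁻¹ = z := by rw [htdef]; group
    have h := (P.conj g).D.mem_conj (g := g⁻¹) (by rw [e]; exact hz) (by rw [e]; exact Ne.symm hne)
      (by rw [(P.conj g).card]; norm_num)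
    rw [mem_conjS] at h
    have h' : g⁻¹ * ((g⁻¹)⁻¹ * t * g⁻¹) * g ∈ P.J := mem_conjS.1 h
    have e' : g⁻¹ * ((g⁻¹)⁻¹ * t * g⁻¹) * g = t := by group
    rw [e'] at h'
    exact h'
  have hzt : Commute z t := hc.symm
  set k := (P.conj g).φ q
  set s := (P.conj g).φ z
  have hks : k * k = s := by rw [← (P.conj g).φ_mul q q hqt hqt, hqq]
  have hss : s * s = 1 := by rw [← (P.conj g).φ_mul z z hzt hzt, P.sq, (P.conj g).φ_one]
  have hs1 : s ≠ 1 := fun e => hzQ (((P.conj g).φ_ker z hzt).1 e)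
  let ε : V → ZMod 2 := fun x => if ∃ b ∈ (P.conj g).J, N.vc b = x ∧ Commute b z then 0 else 1
  have hε : ∀ b ∈ (P.conj g).J, (Commute b z → ε (N.vc b) = 0) ∧ (¬ Commute b z → ε (N.vc b) = 1) := by
    intro b hb
    refine ⟨fun h => if_pos ⟨b, hb, rfl, h⟩, fun h => if_neg ?_⟩
    rintro ⟨b', hb', e, h'⟩
    refine h ?_
    rcases N.vc_eq_cases hb hb' e.symm with e' | e' <;> rw [e']
    exacts [h', h'.mul_left hc]
  have hzb : ∀ b ∈ (P.conj g).J, M.rep.act s (N.vc b) = N.vc b → z * b * z⁻¹ = b ∨ z * b * z⁻¹ = b * t :=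
    fun b hb h => N.vc_eq_cases ((P.conj g).D.norm z hzt b hb) hb (by rw [N.vc_conj z hzt b hb]; exact h)
  refine M.rep.no_root hR hks hss hs1 ε ?_ ?_ ?_
  · intro x y hx hy
    obtain ⟨a, ha, rfl⟩ := N.vc_surj x
    obtain ⟨b, hb, rfl⟩ := N.vc_surj y
    rw [← N.vc_mul a ha b hb]
    have conv : ∀ b ∈ (P.conj g).J, ¬ Commute b z → M.rep.act s (N.vc b) = N.vc b → z * b * z⁻¹ = b * t :=
      fun b hb hn h => (hzb b hb h).resolve_left fun e => hn (mul_inv_eq_iff_eq_mul.1 e).symm
    by_cases h1 : Commute a z <;> by_cases h2 : Commute b z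
    · rw [(hε _ (mul_mem ha hb)).1 (h1.mul_left h2), (hε a ha).1 h1, (hε b hb).1 h2, add_zero]
    · rw [(hε a ha).1 h1, (hε b hb).2 h2, zero_add, (hε _ (mul_mem ha hb)).2 fun h => h2 ?_]
      have := h1.inv_left.mul_left h
      rwa [inv_mul_cancel_left] at this
    · rw [(hε a ha).2 h1, (hε b hb).1 h2, add_zero, (hε _ (mul_mem ha hb)).2 fun h => h1 ?_]
      have := h.mul_left h2.inv_left
      rwa [mul_inv_cancel_right] at this
    · rw [(hε a ha).2 h1, (hε b hb).2 h2, (hε _ (mul_mem ha hb)).1 ?_]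
      · decide
      refine (mul_inv_eq_iff_eq_mul.1 (?_ : z * (a * b) * z⁻¹ = a * b)).symm
      calc z * (a * b) * z⁻¹ = (z * a * z⁻¹) * (z * b * z⁻¹) := by group
        _ = a * t * (b * t) := by rw [conv a ha h1 hx, conv b hb h2 hy]
        _ = a * b * (t * t) := by
          have hbt : b * t = t * b := (P.conj g).D.z_central b hb
          simp only [mul_assoc]
          rw [← mul_assoc t b, ← hbt, mul_assoc]
        _ = a * b := by rw [(P.conj g).sq, mul_one]
  · intro v
    obtain ⟨j, hj, rfl⟩ := N.vc_surj v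
    have hzj := (P.conj g).D.norm z hzt j⁻¹ (inv_mem hj)
    set b := j * (z * j⁻¹ * z⁻¹) with hbdef
    have hb : b ∈ (P.conj g).J := mul_mem hj hzj
    have hv : N.vc b = M.rep.D s (N.vc j) := by
      rw [hbdef, N.vc_mul j hj _ hzj, N.vc_conj z hzt _ (inv_mem hj), N.vc_inv hj]
      rfl
    have hzbz : z * b * z⁻¹ = b⁻¹ := by
      rw [hbdef, P.inv, mul_inv_rev]
      calc z * (j * (z * j⁻¹ * z)) * z = (z * j * z) * j⁻¹ * (z * z) := by group
        _ = (z * j * z) * j⁻¹ := by rw [P.sq, mul_one]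
        _ = (z⁻¹ * j * z⁻¹) * j⁻¹ := by rw [P.inv]
        _ = _ := by group
    have hiff : Commute b z ↔ b * b = 1 := by
      constructor
      · intro h
        rw [← h.eq, mul_inv_cancel_right] at hzbz
        exact mul_eq_one_iff_eq_inv.2 hzbz
      · intro h
        refine (mul_inv_eq_iff_eq_mul.1 ?_).symm
        rw [hzbz]
        exact inv_eq_of_mul_eq_one_right h
    rw [← hv]
    rcases two_cases (M.rep.q (N.vc b)) with e | e
    · rw [e, (hε b hb).1 (hiff.2 ((N.sq_iff b hb).2 e))]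
    · rw [e, (hε b hb).2 fun h => ?_]
      have := (N.sq_iff b hb).1 (hiff.1 h)
      change M.rep.q (N.vc b) = 0 at this
      rw [e] at this
      exact one_ne_zero this
  · intro x hx hεx
    obtain ⟨b, hb, rfl⟩ := N.vc_surj x
    have hbz : Commute b z := by
      by_contra h
      rw [(hε b hb).2 h] at hεx
      exact one_ne_zero hεx
    have hbq : Commute b q := by
      rcases M.fix_cases hR hq hqf hbz with e | e
      · exact mul_inv_eq_iff_eq_mul.1 e
      · exfalso
        refine hzQ ?_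
        have hm := (P.conj g).D.norm q hqt b⁻¹ (inv_mem hb)
        have e2 : q⁻¹ * (b * q * b⁻¹) = z := by rw [e, inv_mul_cancel_left]
        have hm2 := (P.conj g).D.norm q⁻¹ hqt.inv_left b hb
        rw [inv_inv] at hm2
        have := mul_mem hm2 (inv_mem hb)
        rw [show q⁻¹ * b * q * b⁻¹ = q⁻¹ * (b * q * b⁻¹) by group, e2] at this
        exact this
    show M.rep.act ((P.conj g).φ q) (N.vc b) = N.vc b
    have h4 := N.vc_conj q hqt b hb
    rw [show q * b * q⁻¹ = b by rw [← hbq.eq, mul_inv_cancel_right]] at h4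
    exact h4.symm

/-- The involution is isolated. -/
theorem isolated_of_red (g : L) (hc : Commute (g * z * g⁻¹) z) : g * z * g⁻¹ = z := by
  classical
  haveI := M.rep.finite
  by_contra hne
  set t := g * z * g⁻¹ with htdef
  have htJ : t ∉ P.J := fun h => hne (M.red_notMem hR g h)
  have htt : t * t = 1 := (P.conj g).sq
  -- two noncommuting elements of the fixed part
  obtain ⟨w1, hw1, hw10⟩ : ∃ w ∈ M.rep.fixT, w ≠ 0 := by
    by_contra! h
    haveI : Subsingleton M.rep.fixT := ⟨fun x y => Subtype.ext ((h x x.2).trans (h y y.2).symm)⟩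
    have := hR.1
    rw [Nat.card_of_subsingleton (0 : M.rep.fixT)] at this
    omega
  obtain ⟨w2, hw2, hw12⟩ : ∃ w ∈ M.rep.fixT, M.rep.β w1 w ≠ 0 := by
    by_contra! h
    exact hw10 (M.rep.fix_nondeg hw1 h)
  obtain ⟨a, ha, hav⟩ := M.vc_surj w1
  obtain ⟨b, hb, hbv⟩ := M.vc_surj w2
  have hab : ¬ Commute a b := fun h => hw12 (by rw [← hav, ← hbv]; exact (M.comm_iff a ha b hb).1 h)
  have haf : M.vc a ∈ M.rep.fixT := hav ▸ hw1
  have hbf : M.vc b ∈ M.rep.fixT := hbv ▸ hw2
  have habJ : a * b ∈ P.J := mul_mem ha hb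
  have habf : M.vc (a * b) ∈ M.rep.fixT := by rw [M.vc_mul a ha b hb]; exact add_mem haf hbf
  have hmove : ∀ q ∈ P.J, M.vc q ∈ M.rep.fixT → ¬ Commute q t → t * q * t⁻¹ = q * z := fun q hq hqf hn =>
    (M.fix_cases hR hq hqf hc).resolve_left fun e => hn (mul_inv_eq_iff_eq_mul.1 e).symm
  obtain ⟨u, v0, hu, hv0, huf, hvf, hut, hvt, huv⟩ : ∃ u v0, u ∈ P.J ∧ v0 ∈ P.J ∧ M.vc u ∈ M.rep.fixT ∧
      M.vc v0 ∈ M.rep.fixT ∧ Commute u t ∧ ¬ Commute v0 t ∧ ¬ Commute u v0 := by
    by_cases h1 : Commute a t <;> by_cases h2 : Commute b t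
    · exfalso
      have s1 := M.red_sq hR g hc hne ha haf h1
      have s2 := M.red_sq hR g hc hne hb hbf h2
      have s3 := M.red_sq hR g hc hne habJ habf (h1.mul_left h2)
      refine hab ?_
      calc a * b = (a * b)⁻¹ := (inv_eq_of_mul_eq_one_right s3).symm
        _ = b * a := by rw [mul_inv_rev, inv_eq_of_mul_eq_one_right s1, inv_eq_of_mul_eq_one_right s2]
    · exact ⟨a, b, ha, hb, haf, hbf, h1, h2, hab⟩
    · exact ⟨b, a, hb, ha, hbf, haf, h2, h1, fun h => hab h.symm⟩
    · refine ⟨a * b, b, habJ, hb, habf, hbf, ?_, h2, fun h => hab ?_⟩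
      · refine (mul_inv_eq_iff_eq_mul.1 ?_).symm
        calc t * (a * b) * t⁻¹ = (t * a * t⁻¹) * (t * b * t⁻¹) := by group
          _ = a * (z * b) * z := by rw [hmove a ha haf h1, hmove b hb hbf h2]; group
          _ = a * b * (z * z) := by rw [← P.D.z_central b hb]; group
          _ = a * b := by rw [P.sq, mul_one]
      · have := h.mul_left (Commute.refl b).inv_left
        rwa [mul_inv_cancel_right] at this
  have hu2 : u * u = 1 := M.red_sq hR g hc hne hu huf hut
  have hu1 : u ≠ 1 := fun e => huv (by rw [e]; exact Commute.one_left _)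
  have huz : u ≠ z := fun e => huv (by rw [e]; exact (P.J_comm hv0).symm)
  -- a Sylow subgroup
  haveI : Fact (Nat.Prime 2) := ⟨Nat.prime_two⟩
  have hJp : IsPGroup 2 P.J := IsPGroup.of_card (n := 9) (by rw [P.card]; norm_num)
  have htp : IsPGroup 2 (Subgroup.zpowers t) := by
    intro y
    obtain ⟨y, hy⟩ := y
    obtain ⟨n, rfl⟩ := Subgroup.mem_zpowers_iff.1 hy
    refine ⟨1, Subtype.ext ?_⟩
    show (t ^ n) ^ (2 ^ 1) = 1
    rw [← zpow_natCast, ← zpow_mul, mul_comm, zpow_mul, zpow_natCast, show t ^ (2 ^ 1) = t * t by simp [pow_succ],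
      htt, one_zpow]
  have hnorm : Subgroup.zpowers t ≤ Subgroup.normalizer (P.J : Set L) := by
    rw [Subgroup.zpowers_le, Subgroup.mem_normalizer_iff]
    exact fun y => (P.D.norm_iff t hc y).symm
  obtain ⟨R, hRle⟩ := (htp.to_sup_of_normal_right' hJp hnorm).exists_le_sylow
  have hJR : P.J ≤ (R : Subgroup L) := le_trans le_sup_right hRle
  have htR : t ∈ (R : Subgroup L) := hRle (Subgroup.mem_sup_left (Subgroup.mem_zpowers t))
  have hzR : ∀ y ∈ (R : Subgroup L), Commute y z := by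
    haveI : Nontrivial (R : Subgroup L) :=
      ⟨⟨⟨z, hJR P.D.z_mem⟩, 1, fun e => P.ne_one (congrArg Subtype.val e)⟩⟩
    haveI := R.isPGroup'.center_nontrivial
    obtain ⟨⟨x, hx⟩, hx1⟩ := exists_ne (1 : Subgroup.center (R : Subgroup L))
    have hxz : (x : L) = z := by
      refine (P.D.cent (x : L) fun q hq => ?_).resolve_left fun e => hx1 (Subtype.ext (Subtype.ext e))
      exact congrArg Subtype.val (Subgroup.mem_center_iff.1 hx ⟨q, hJR hq⟩)
    intro y hy
    have := congrArg Subtype.val (Subgroup.mem_center_iff.1 hx ⟨y, hy⟩)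
    rw [← hxz]
    exact this
  have hRmove : ∀ q ∈ P.J, M.vc q ∈ M.rep.fixT → ∀ y ∈ (R : Subgroup L), ¬ Commute y q → y * q * y⁻¹ = q * z :=
    fun q hq hqf y hy hn => (M.fix_cases hR hq hqf (hzR y hy)).resolve_left fun e => hn (mul_inv_eq_iff_eq_mul.1 e)
  have hidx : ∀ q ∈ P.J, M.vc q ∈ M.rep.fixT → ∀ w ∈ P.J, ¬ Commute w q →
      ((R : Subgroup L) ⊓ Subgroup.centralizer ({q} : Set L)).relIndex (R : Subgroup L) = 2 := by
    intro q hq hqf w hw hwq
    rw [Subgroup.relIndex, Subgroup.index_eq_two_iff]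
    refine ⟨⟨w, hJR hw⟩, fun y => ?_⟩
    have hwz := hRmove q hq hqf w (hJR hw) hwq
    simp only [Subgroup.mem_subgroupOf, Subgroup.coe_mul, Subgroup.mem_inf, Subgroup.mem_centralizer_singleton_iff]
    by_cases hyq : Commute (y : L) q
    · refine Or.inr ⟨⟨y.2, hyq.eq⟩, fun h => hwq ?_⟩
      have := hyq.inv_left.mul_left (h.2 : Commute ((y : L) * w) q)
      rwa [inv_mul_cancel_left] at this
    · refine Or.inl ⟨⟨mul_mem y.2 (hJR hw), mul_inv_eq_iff_eq_mul.1 ?_⟩, fun h => hyq h.2⟩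
      calc (y : L) * w * q * ((y : L) * w)⁻¹ = y * (w * q * w⁻¹) * (y : L)⁻¹ := by group
        _ = y * (q * z) * (y : L)⁻¹ := by rw [hwz]
        _ = (y * q * (y : L)⁻¹) * (y * z * (y : L)⁻¹) := by group
        _ = q * z * z := by rw [hRmove q hq hqf y y.2 hyq, (hzR y y.2).eq, mul_inv_cancel_right]
        _ = q := by rw [mul_assoc, P.sq, mul_one]
  set Qs := (R : Subgroup L) ⊓ Subgroup.centralizer ({v0} : Set L) with hQs
  rcases transfer_extremal R Qs inf_le_left (hidx v0 hv0 hvf u hu huv) u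
      (orderOf_eq_prime (by rw [pow_two, hu2]) hu1) (hJR hu)
      (fun h => huv (Subgroup.mem_centralizer_singleton_iff.1 h.2)) with ⟨Mn, hMn, hM2, huM⟩ | ⟨g', hy, hext⟩
  · -- a subgroup of index two
    have hmul := fun {x y : L} => Subgroup.mul_mem_iff_of_index_two hM2 (a := x) (b := y)
    have hcm : ∀ x y : L, ⁅x, y⁆ ∈ Mn := by
      intro x y
      rw [commutatorElement_def, show x * y * x⁻¹ * y⁻¹ = (x * y * x⁻¹) * y⁻¹ by group, hmul, inv_mem_iff,
        Subgroup.Normal.mem_comm_iff hMn, ← mul_assoc, inv_mul_cancel, one_mul]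
    have hzM : z ∈ Mn := by
      have e : ⁅u, v0⁆ = z :=
        (P.D.comm u hu v0 hv0).resolve_left fun e => huv (commutatorElement_eq_one_iff_mul_comm.1 e)
      rw [← e]; exact hcm u v0
    have htM : t ∈ Mn := hMn.conj_mem z hzM g
    -- `h0` centralises the fixed part
    set h0 := u * t with hh0
    have h0z : Commute h0 z := (P.J_comm hu).mul_left hc
    have h0u : Commute h0 u := (Commute.refl u).mul_left hut.symm
    have h0v : Commute h0 v0 := by
      refine mul_inv_eq_iff_eq_mul.1 ?_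
      calc u * t * v0 * (u * t)⁻¹ = u * (t * v0 * t⁻¹) * u⁻¹ := by group
        _ = u * (v0 * z) * u⁻¹ := by rw [hmove v0 hv0 hvf hvt]
        _ = (u * v0 * u⁻¹) * (u * z * u⁻¹) := by group
        _ = v0 * z * z := by
          rw [hRmove v0 hv0 hvf u (hJR hu) huv, (P.J_comm hu).eq, mul_inv_cancel_right]
        _ = v0 := by rw [mul_assoc, P.sq, mul_one]
    let Y : Subgroup U4 :=
      { carrier := {y | ∃ c ∈ Mn, Commute c z ∧ Commute c u ∧ Commute c v0 ∧ P.φ c = y}
        one_mem' := ⟨1, one_mem _, Commute.one_left _, Commute.one_left _, Commute.one_left _, P.φ_one⟩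
        mul_mem' := by
          rintro _ _ ⟨c, hc1, hc2, hc3, hc4, rfl⟩ ⟨d, hd1, hd2, hd3, hd4, rfl⟩
          exact ⟨c * d, mul_mem hc1 hd1, hc2.mul_left hd2, hc3.mul_left hd3, hc4.mul_left hd4, P.φ_mul c d hc2 hd2⟩
        inv_mem' := by
          rintro _ ⟨c, hc1, hc2, hc3, hc4, rfl⟩
          exact ⟨c⁻¹, inv_mem hc1, hc2.inv_left, hc3.inv_left, hc4.inv_left, P.φ_inv hc2⟩ }
    have hY : P.φ h0 ∈ Y := by
      have htop : commutator U4 ≤ Y := by
        rw [commutator_def, Subgroup.commutator_le]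
        intro x _ y _
        obtain ⟨a, ha', rfl⟩ := P.φ_surj x
        obtain ⟨b, hb', rfl⟩ := P.φ_surj y
        refine ⟨⁅a, b⁆, hcm a b, ?_, commutator_fixes P.sq ha' hb' (M.fix_cases hR hu huf ha') (M.fix_cases hR hu huf hb'),
          commutator_fixes P.sq ha' hb' (M.fix_cases hR hv0 hvf ha') (M.fix_cases hR hv0 hvf hb'), ?_⟩
        · rw [commutatorElement_def]
          exact (((ha'.mul_left hb').mul_left ha'.inv_left).mul_left hb'.inv_left)
        · rw [commutatorElement_def, commutatorElement_def, P.φ_mul _ _ ((ha'.mul_left hb').mul_left ha'.inv_left) hb'.inv_left,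
            P.φ_mul _ _ (ha'.mul_left hb') ha'.inv_left, P.φ_mul _ _ ha' hb', P.φ_inv ha', P.φ_inv hb']
      exact htop (by rw [commutator_U4]; exact Subgroup.mem_top _)
    obtain ⟨c, hcM, hcz, hcu, hcv, hcφ⟩ := hY
    set j := c⁻¹ * h0 with hj
    have hjJ : j ∈ P.J := by
      refine (P.φ_ker _ (hcz.inv_left.mul_left h0z)).1 ?_
      rw [P.φ_mul _ _ hcz.inv_left h0z, P.φ_inv hcz, hcφ, inv_mul_cancel]
    -- the coordinates of `j` avoid the fixed part
    have hbu : M.rep.β (M.vc u) (M.vc j) = 0 :=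
      (M.comm_iff u hu j hjJ).1 (hcu.inv_left.mul_left h0u).symm
    have hbv : M.rep.β (M.vc v0) (M.vc j) = 0 :=
      (M.comm_iff v0 hv0 j hjJ).1 (hcv.inv_left.mul_left h0v).symm
    have hvu0 : M.vc u ≠ 0 := M.vc_ne_zero hu hu1 huz
    have hvv0 : M.vc v0 ≠ 0 := fun e => huv (by
      rcases M.vc_ker v0 hv0 e with e' | e' <;> rw [e']
      exacts [Commute.one_right _, P.J_comm hu])
    have hvuv : M.vc u ≠ M.vc v0 := fun e => huv (by
      rcases M.vc_eq_cases hu hv0 e with e' | e' <;> rw [e']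
      exact (Commute.refl v0).mul_left (P.J_comm hv0).symm)
    have hspan : ∀ w ∈ M.rep.fixT, w = 0 ∨ w = M.vc u ∨ w = M.vc v0 ∨ w = M.vc u + M.vc v0 := by
      intro w hw
      haveI : Fintype M.rep.fixT := Fintype.ofFinite _
      let l : Finset M.rep.fixT := {0, ⟨_, huf⟩, ⟨_, hvf⟩, ⟨_, add_mem huf hvf⟩}
      have n1 : M.vc u + M.vc v0 ≠ 0 := fun e => hvuv (M.rep.eq_of_add e)
      have hl : l.card = 4 := by
        simp [l, Finset.card_insert_of_notMem, Subtype.ext_iff, hvu0, Ne.symm hvu0, hvv0, Ne.symm hvv0, hvuv, n1,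
          Ne.symm n1]
      have hlu : l = Finset.univ :=
        Finset.eq_univ_of_card l (by rw [hl, ← Nat.card_eq_fintype_card, hR.1])
      have hm : (⟨w, hw⟩ : M.rep.fixT) ∈ l := by rw [hlu]; exact Finset.mem_univ _
      simpa [l, Subtype.ext_iff] using hm
    have hjT : M.rep.eT (M.vc j) = 0 := by
      refine M.rep.fix_nondeg (M.rep.eT_mem _) fun w hw => ?_
      rw [M.rep.bsymm, ← M.rep.fix_orth_eT hw]
      rcases hspan w hw with e | e | e | e <;> rw [e]
      · exact M.rep.bzero' _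
      · exact hbu
      · exact hbv
      · rw [M.rep.β_add, hbu, hbv, add_zero]
    have hpart : ∀ i, ∀ w ∈ M.rep.W (mid i), ∃ m ∈ P.J, m ∈ Mn ∧ M.vc m = w := by
      intro i w hw
      set a := ak (mid i)
      let F : M.rep.W (mid i) → M.rep.W (mid i) := fun y => ⟨y + M.rep.ta a y, add_mem y.2 (M.rep.ta_mem y.2 _)⟩
      have hFi : Function.Injective F := fun x y h => by
        have e : (x : V) + M.rep.ta a x = y + M.rep.ta a y := congrArg Subtype.val h
        refine Subtype.ext (M.rep.eq_of_add (M.rep.W_moved (add_mem x.2 y.2) (a := a) (by rw [dot_ak]; decide) ?_))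
        rw [map_add]
        refine M.rep.eq_of_add ?_
        rw [add_add_add_comm, add_comm (M.rep.ta a x), add_comm (M.rep.ta a y), e]
        exact M.rep.self _
      obtain ⟨y, hy⟩ := (Finite.injective_iff_surjective.1 hFi) ⟨w, hw⟩
      obtain ⟨jy, hjy, hjyv⟩ := M.vc_surj (y : V)
      obtain ⟨h, hh, hhφ⟩ := P.φ_surj (tor a)
      refine ⟨jy * (h * jy * h⁻¹), mul_mem hjy (P.D.norm h hh jy hjy), hmul.2 ?_, ?_⟩
      · exact ⟨fun hm => hMn.conj_mem jy hm h, fun hm => by simpa [mul_assoc] using hMn.conj_mem _ hm h⁻¹⟩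
      · rw [M.vc_mul jy hjy _ (P.D.norm h hh jy hjy), M.vc_conj h hh jy hjy, hhφ, hjyv]
        exact congrArg Subtype.val hy
    obtain ⟨m0, hm0, hm0M, e0⟩ := hpart 0 _ (M.rep.prj_mem (mid 0) (M.vc j))
    obtain ⟨m1, hm1, hm1M, e1⟩ := hpart 1 _ (M.rep.prj_mem (mid 1) (M.vc j))
    obtain ⟨m2, hm2, hm2M, e2⟩ := hpart 2 _ (M.rep.prj_mem (mid 2) (M.vc j))
    have hjM : j ∈ Mn := by
      have hmv : M.vc (m0 * m1 * m2) = M.vc j := by
        rw [M.vc_mul _ (mul_mem hm0 hm1) _ hm2, M.vc_mul _ hm0 _ hm1, e0, e1, e2]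
        have := M.rep.sum_mid hR (M.vc j)
        rwa [hjT, add_zero] at this
      rcases M.vc_eq_cases hjJ (mul_mem (mul_mem hm0 hm1) hm2) hmv.symm with e | e <;> rw [e]
      · exact mul_mem (mul_mem hm0M hm1M) hm2M
      · exact mul_mem (mul_mem (mul_mem hm0M hm1M) hm2M) hzM
    have h0M : h0 ∈ Mn := by
      have := mul_mem hcM hjM
      rwa [hj, mul_inv_cancel_left] at this
    refine huM ?_
    have := mul_mem h0M (inv_mem htM)
    rwa [hh0, mul_inv_cancel_right] at this
  · -- an extremal conjugate in `Qs`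
    set t' := g' * z * g'⁻¹ with ht'
    have ht'R : t' ∈ (R : Subgroup L) := hext z (hJR P.D.z_mem) (P.J_comm hu).symm
    by_cases ht'z : t' = z
    · have hg'z : Commute g' z := mul_inv_eq_iff_eq_mul.1 ht'z
      have hyv : Commute (g' * u * g'⁻¹) v0 := Subgroup.mem_centralizer_singleton_iff.1 hy.2
      rcases M.fix_cases hR hu huf hg'z with e | e <;> rw [e] at hyv
      · exact huv hyv
      · refine huv ?_
        have := hyv.mul_left (P.J_comm hv0).symm
        rwa [mul_assoc, P.sq, mul_one] at this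
    · have ht'c : Commute t' z := hzR t' ht'R
      have ht'J : t' ∉ P.J := fun h => ht'z (M.red_notMem hR g' h)
      have ht'2 : t' * t' = 1 := (P.conj g').sq
      have hs2 : P.φ t' * P.φ t' = 1 := by rw [← P.φ_mul _ _ ht'c ht'c, ht'2, P.φ_one]
      obtain ⟨wx, wy, hwx, hwy, hwxy⟩ := M.rep.two_moves hR hs2 (fun e => ht'J ((P.φ_ker t' ht'c).1 e))
      obtain ⟨jx, hjx, rfl⟩ := M.vc_surj wx
      obtain ⟨jy, hjy, rfl⟩ := M.vc_surj wy
      have hD : ∀ j ∈ P.J, Commute j t' → M.rep.D (P.φ t') (M.vc j) = 0 := fun j hj h => by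
        rw [Rep.D, ← M.vc_conj t' ht'c j hj, ← h.eq, mul_inv_cancel_right]
        exact M.rep.self _
      set C' := (R : Subgroup L) ⊓ Subgroup.centralizer ({t'} : Set L)
      set Cu := (R : Subgroup L) ⊓ Subgroup.centralizer ({u} : Set L)
      have hjxC : jx ∉ C' := fun h => hwx (hD jx hjx (Subgroup.mem_centralizer_singleton_iff.1 h.2))
      have hjyC : jy ∉ C' := fun h => hwy (hD jy hjy (Subgroup.mem_centralizer_singleton_iff.1 h.2))
      have hle : Nat.card Cu ≤ Nat.card C' := by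
        let i : Cu → C' := fun x => ⟨g' * x * g'⁻¹, Subgroup.mem_inf.2
          ⟨hext x x.2.1 (Subgroup.mem_centralizer_singleton_iff.1 x.2.2),
            Subgroup.mem_centralizer_singleton_iff.2 (commute_conj₀ g' (hzR x x.2.1)).eq⟩⟩
        exact Nat.card_le_card_of_injective i fun a b e =>
          Subtype.ext (mul_left_cancel (mul_right_cancel (congrArg Subtype.val e)))
      have hCu := hidx u hu huf v0 hv0 (fun h => huv h.symm)
      have hCle : C' ≤ (R : Subgroup L) := inf_le_left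
      have c1 := Subgroup.card_mul_index (Cu.subgroupOf (R : Subgroup L))
      have c2 := Subgroup.card_mul_index (C'.subgroupOf (R : Subgroup L))
      rw [Nat.card_congr (Subgroup.subgroupOfEquivOfLe (inf_le_left : Cu ≤ (R : Subgroup L))).toEquiv,
        show (Cu.subgroupOf (R : Subgroup L)).index = 2 from hCu] at c1
      rw [Nat.card_congr (Subgroup.subgroupOfEquivOfLe hCle).toEquiv] at c2
      have hne1 : (C'.subgroupOf (R : Subgroup L)).index ≠ 1 := fun e => hjxC (by
        have htop := Subgroup.index_eq_one.1 e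
        have : (⟨jx, hJR hjx⟩ : (R : Subgroup L)) ∈ C'.subgroupOf (R : Subgroup L) := by
          rw [htop]; exact Subgroup.mem_top _
        exact this)
      have h2 : (C'.subgroupOf (R : Subgroup L)).index = 2 := by
        have hpos : 0 < Nat.card Cu := Nat.card_pos
        set n := (C'.subgroupOf (R : Subgroup L)).index
        rcases Nat.lt_or_ge n 3 with h | h
        · have : n ≠ 0 := fun e => by rw [e, mul_zero] at c2; exact absurd c2.symm Nat.card_pos.ne'
          omega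
        · have h3 : Nat.card Cu * 3 ≤ Nat.card Cu * 2 :=
            (Nat.mul_le_mul hle h).trans (le_of_eq (c2.trans c1.symm))
          omega
      have hprod : jx⁻¹ * jy ∈ C' := by
        have := (Subgroup.mul_mem_iff_of_index_two h2 (a := (⟨jx, hJR hjx⟩ : (R : Subgroup L))⁻¹)
          (b := ⟨jy, hJR hjy⟩)).2 ⟨fun h => absurd (inv_mem_iff.1 h) hjxC, fun h => absurd h hjyC⟩
        exact this
      have hz' := hD _ (mul_mem (inv_mem hjx) hjy) (Subgroup.mem_centralizer_singleton_iff.1 hprod.2)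
      rw [M.vc_mul _ (inv_mem hjx) _ hjy, M.vc_inv hjx, M.rep.D_add] at hz'
      exact hwxy (M.rep.eq_of_add hz')

end Modl

end Cfsg.Agent.U62Rec
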