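/-
An involution whose centraliser is (2 × 2^(1+8)) extended by Aut SU(4,2): the setting.

* `Two z a` : the setting; `Two.swapA` : the other involution of the centre of J;
* `Two.norm_W` : the centre of J is normalised only inside the centraliser;
* `Two.sylow_W`, `Two.nonconj` : Sylow subgroups, the three central involutions;
* `Two.Iso` : z is isolated in the centraliser of a; `Two.trap` : then conjugate centralisers trap J;
* `Two.norm_pair` : in the central case a conjugate of a is centralised through a Sylow centre.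
-/
import Cfsg.Agent.Lib.U62Rec.OutMain

set_option autoImplicit false

namespace Cfsg.Agent.U62Rec

open Cfsg.Agent.LargeExtraspecial
open scoped commutatorElement

universe u

variable {G : Type u} [Group G]

/-- The setting. -/
structure Two (z a : G) where
  /-- The 2-core of the centraliser. -/
  J : Subgroup G
  /-- The inner part of the centraliser. -/
  H0 : Subgroup G
  /-- The map onto SU(4,2). -/
  φ : G → U4
  z_ne : z ≠ 1
  z_sq : z * z = 1
  a_sq : a * a = 1
  a_ne : a ≠ 1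
  a_nez : a ≠ z
  z_mem : z ∈ J
  a_mem : a ∈ J
  card : Nat.card J = 1024
  J_le : J ≤ H0
  le : ∀ h ∈ H0, Commute h z
  lea : ∀ h ∈ H0, Commute h a
  cent : ∀ x : G, (∀ q ∈ J, q * x = x * q) → x = 1 ∨ x = z ∨ x = a ∨ x = a * z
  comm : ∀ p ∈ J, ∀ q ∈ J, ⁅p, q⁆ = 1 ∨ ⁅p, q⁆ = z
  sq : ∀ q ∈ J, q * q = 1 ∨ q * q = z
  norm : ∀ c, Commute c z → ∀ q ∈ J, c * q * c⁻¹ ∈ J
  H0norm : ∀ c, Commute c z → ∀ h ∈ H0, c * h * c⁻¹ ∈ H0
  out_mul : ∀ x y, Commute x z → Commute y z → x ∉ H0 → y ∉ H0 → x * y ∈ H0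
  φ_mul : ∀ g ∈ H0, ∀ h ∈ H0, φ (g * h) = φ g * φ h
  φ_ker : ∀ h ∈ H0, (φ h = 1 ↔ h ∈ J)
  φ_surj : ∀ x : U4, ∃ h ∈ H0, φ h = x
  out : ∀ x, Commute x z → (∀ k ∈ H0, φ (x * k * x⁻¹) = φ k) → x ∈ H0
  hout : ∃ x, Commute x z ∧ x ∉ H0
  aconj : ∀ x, Commute x z → x * a * x⁻¹ = a ∨ x * a * x⁻¹ = a * z

namespace Two

variable {z a : G} (T : Two z a)

include T

theorem inv : z⁻¹ = z := inv_eq_of_mul_eq_one_right T.z_sq
theorem ainv : a⁻¹ = a := inv_eq_of_mul_eq_one_right T.a_sq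
theorem J_z {j : G} (hj : j ∈ T.J) : Commute j z := T.le j (T.J_le hj)
theorem J_a {j : G} (hj : j ∈ T.J) : Commute j a := T.lea j (T.J_le hj)
theorem az_comm : Commute a z := T.J_z T.a_mem

theorem az_sq : a * z * (a * z) = 1 := by
  rw [show a * z * (a * z) = a * (z * a) * z by group, T.az_comm.symm.eq,
    show a * (a * z) * z = a * a * (z * z) by group, T.a_sq, T.z_sq, one_mul]

theorem az_ne : a * z ≠ 1 := fun e => T.a_nez (by
  have := mul_eq_one_iff_eq_inv.1 e
  rw [T.inv] at this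
  exact this)

theorem az_nez : a * z ≠ z := fun e => T.a_ne (mul_eq_right.1 e)
theorem az_nea : a * z ≠ a := fun e => T.z_ne (mul_eq_left.1 e)

/-- The other involution of the centre. -/
def swapA : Two z (a * z) where
  J := T.J
  H0 := T.H0
  φ := T.φ
  z_ne := T.z_ne
  z_sq := T.z_sq
  a_sq := T.az_sq
  a_ne := T.az_ne
  a_nez := T.az_nez
  z_mem := T.z_mem
  a_mem := mul_mem T.a_mem T.z_mem
  card := T.card
  J_le := T.J_le
  le := T.le
  lea h hh := (T.lea h hh).mul_right (T.le h hh)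
  cent x hx := by
    rcases T.cent x hx with h | h | h | h
    exacts [Or.inl h, Or.inr (Or.inl h), Or.inr (Or.inr (Or.inr (by rw [h, mul_assoc, T.z_sq, mul_one]))),
      Or.inr (Or.inr (Or.inl h))]
  comm := T.comm
  sq := T.sq
  norm := T.norm
  H0norm := T.H0norm
  out_mul := T.out_mul
  φ_mul := T.φ_mul
  φ_ker := T.φ_ker
  φ_surj := T.φ_surj
  out := T.out
  hout := T.hout
  aconj x hx := by
    have e : x * (a * z) * x⁻¹ = x * a * x⁻¹ * z := by
      calc x * (a * z) * x⁻¹ = x * a * x⁻¹ * (x * z) * x⁻¹ := by group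
        _ = x * a * x⁻¹ * (z * x) * x⁻¹ := by rw [hx.eq]
        _ = _ := by group
    rw [e]
    rcases T.aconj x hx with h | h <;> rw [h]
    exacts [Or.inl rfl, Or.inr rfl]

/-- The centre of J. -/
def isW (_T : Two z a) (x : G) : Prop := x = 1 ∨ x = z ∨ x = a ∨ x = a * z

theorem W_one : T.isW 1 := Or.inl rfl
theorem W_z : T.isW z := Or.inr (Or.inl rfl)
theorem W_a : T.isW a := Or.inr (Or.inr (Or.inl rfl))
theorem W_az : T.isW (a * z) := Or.inr (Or.inr (Or.inr rfl))

theorem W_mem {x : G} (h : T.isW x) : x ∈ T.J := by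
  rcases h with rfl | rfl | rfl | rfl
  exacts [one_mem _, T.z_mem, T.a_mem, mul_mem T.a_mem T.z_mem]

theorem W_comm {x h : G} (hx : T.isW x) (hh : h ∈ T.H0) : Commute h x := by
  rcases hx with rfl | rfl | rfl | rfl
  exacts [Commute.one_right h, T.le h hh, T.lea h hh, (T.lea h hh).mul_right (T.le h hh)]

theorem W_J {x j : G} (hx : T.isW x) (hj : j ∈ T.J) : Commute j x := T.W_comm hx (T.J_le hj)

theorem W_mul {x y : G} (hx : T.isW x) (hy : T.isW y) : T.isW (x * y) := by
  have h1 : z * a = a * z := T.az_comm.symm.eq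
  have h2 : z * (a * z) = a := by rw [← mul_assoc, h1, mul_assoc, T.z_sq, mul_one]
  have h3 : a * (a * z) = z := by rw [← mul_assoc, T.a_sq, one_mul]
  have h4 : a * z * z = a := by rw [mul_assoc, T.z_sq, mul_one]
  have h5 : a * z * a = z := by rw [mul_assoc, h1, h3]
  rcases hx with rfl | rfl | rfl | rfl <;> rcases hy with rfl | rfl | rfl | rfl <;>
    simp only [Two.isW, one_mul, mul_one, T.z_sq, T.a_sq, T.az_sq, h1, h2, h3, h4, h5, true_or, or_true]

theorem W_inv {x : G} (hx : T.isW x) : T.isW x⁻¹ := by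
  rcases hx with rfl | rfl | rfl | rfl
  · rw [inv_one]; exact T.W_one
  · rw [T.inv]; exact T.W_z
  · rw [T.ainv]; exact T.W_a
  · rw [inv_eq_of_mul_eq_one_right T.az_sq]; exact T.W_az

theorem W_of_cent {x : G} (h : ∀ q ∈ T.J, Commute q x) : T.isW x := T.cent x fun q hq => (h q hq).eq

theorem φ_J {j : G} (hj : j ∈ T.J) : T.φ j = 1 := (T.φ_ker j (T.J_le hj)).2 hj
theorem φ_one : T.φ 1 = 1 := T.φ_J (one_mem _)

theorem φ_inv {h : G} (hh : h ∈ T.H0) : T.φ h⁻¹ = (T.φ h)⁻¹ :=
  eq_inv_of_mul_eq_one_left (by rw [← T.φ_mul _ (inv_mem hh) _ hh, inv_mul_cancel, T.φ_one])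

theorem φ_conj {g h : G} (hg : g ∈ T.H0) (hh : h ∈ T.H0) : T.φ (g * h * g⁻¹) = T.φ g * T.φ h * (T.φ g)⁻¹ := by
  rw [T.φ_mul _ (mul_mem hg hh) _ (inv_mem hg), T.φ_mul _ hg _ hh, T.φ_inv hg]

theorem φ_pow {h : G} (hh : h ∈ T.H0) : ∀ n : ℕ, T.φ (h ^ n) = T.φ h ^ n
  | 0 => by rw [pow_zero, pow_zero, T.φ_one]
  | n + 1 => by rw [pow_succ, pow_succ, T.φ_mul _ (pow_mem hh n) _ hh, φ_pow hh n]

/-- The map as a homomorphism. -/
def φhom : T.H0 →* U4 := MonoidHom.mk' (fun x => T.φ x) fun x y => T.φ_mul _ x.2 _ y.2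

/-- The sign of an element of the centraliser is a homomorphism. -/
theorem mem_iff {x y : G} (hx : Commute x z) (hy : Commute y z) :
    x * y ∈ T.H0 ↔ (x ∈ T.H0 ↔ y ∈ T.H0) := by
  constructor
  · intro h
    exact ⟨fun hx' => (T.H0.mul_mem_cancel_left hx').1 h, fun hy' => (T.H0.mul_mem_cancel_right hy').1 h⟩
  · intro h
    by_cases hx' : x ∈ T.H0
    · exact T.H0.mul_mem hx' (h.1 hx')
    · exact T.out_mul x y hx hy hx' fun hy' => hx' (h.2 hy')

theorem sq_mem {x : G} (hx : Commute x z) : x * x ∈ T.H0 := (T.mem_iff hx hx).2 Iff.rfl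

theorem commutator_mem {x y : G} (hx : Commute x z) (hy : Commute y z) : ⁅x, y⁆ ∈ T.H0 := by
  rw [commutatorElement_def, T.mem_iff ((hx.mul_left hy).mul_left hx.inv_left) hy.inv_left,
    T.mem_iff (hx.mul_left hy) hx.inv_left, T.mem_iff hx hy, inv_mem_iff, inv_mem_iff]
  tauto

/-- All of the centraliser centralises a. -/
def central (_T : Two z a) : Prop := ∀ x, Commute x z → Commute x a

theorem swap_moves (hs : ¬ T.central) {x : G} (hx : Commute x z) (hxo : x ∉ T.H0) : x * a * x⁻¹ = a * z := by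
  refine (T.aconj x hx).resolve_left fun e => hs fun y hy => ?_
  have hxa : Commute x a := mul_inv_eq_iff_eq_mul.1 e
  by_cases hy' : y ∈ T.H0
  · exact T.lea y hy'
  · have := (T.lea _ (T.out_mul y x hy hx hy' hxo)).mul_left hxa.inv_left
    rwa [mul_inv_cancel_right] at this

theorem mem_of_swap (hs : ¬ T.central) {x : G} (hx : Commute x z) (hxa : Commute x a) : x ∈ T.H0 := by
  by_contra h
  have := T.swap_moves hs hx h
  rw [hxa.eq, mul_inv_cancel_right] at this
  exact T.az_nea this.symm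

theorem swapA_central (hc : T.central) : T.swapA.central := fun x hx => (hc x hx).mul_right hx

/-- z is isolated in the centraliser of a. -/
def Iso (_T : Two z a) : Prop := ∀ x, Commute x a → Commute z (x * z * x⁻¹) → x * z * x⁻¹ = z

theorem exists_noncomm [Finite G] : ∃ i ∈ T.J, ∃ j ∈ T.J, ⁅i, j⁆ = z := by
  classical
  by_contra! h
  have hall : ∀ x ∈ T.J, T.isW x := fun x hx => T.W_of_cent fun q hq =>
    commutatorElement_eq_one_iff_mul_comm.1 ((T.comm q hq x hx).resolve_right (h q hq x hx))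
  let i : T.J → Fin 4 := fun x => if (x : G) = 1 then 0 else if (x : G) = z then 1 else if (x : G) = a then 2 else 3
  have hi : Function.Injective i := fun x y e => by
    refine Subtype.ext ?_
    have hax := T.a_ne
    have haz := T.a_nez
    have h1 := T.az_ne
    have h2 := T.az_nez
    have h3 := T.az_nea
    have h4 := T.z_ne
    rcases hall x x.2 with p | p | p | p <;> rcases hall y y.2 with r | r | r | r <;>
      simp only [i, p, r, if_true, if_false, hax, haz, h1, h2, h3, h4, Fin.ext_iff] at e <;>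
      first
        | exact p.trans r.symm
        | exact absurd e (by decide)
  have := Nat.card_le_card_of_injective i hi
  rw [T.card, Nat.card_eq_fintype_card, Fintype.card_fin] at this
  omega

theorem comm_W_a {w : G} (hw : T.isW w) : Commute w z ∧ Commute w a := ⟨T.J_z (T.W_mem hw), T.J_a (T.W_mem hw)⟩

/-- The centre of J is normalised only inside the centraliser of z. -/
theorem norm_W [Finite G] {x : G} (h1 : T.isW (x * z * x⁻¹)) (h2 : T.isW (x * a * x⁻¹)) : Commute x z := by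
  classical
  have hne : x * z * x⁻¹ ≠ x * a * x⁻¹ := fun e => T.a_nez (mul_left_cancel (mul_right_cancel e)).symm
  have hz1 : x * z * x⁻¹ ≠ 1 := fun e => T.z_ne (conj_eq_one_iff.1 e)
  have ha1 : x * a * x⁻¹ ≠ 1 := fun e => T.a_ne (conj_eq_one_iff.1 e)
  have gen : ∀ c, Commute c (x * z * x⁻¹) → Commute c (x * a * x⁻¹) → Commute c z ∧ Commute c a := by
    intro c c1 c2
    have c3 : Commute c (x * z * x⁻¹ * (x * a * x⁻¹)) := c1.mul_right c2
    have h1' := T.az_comm.symm.eq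
    have e1 : z * (a * z) = a := by rw [← mul_assoc, h1', mul_assoc, T.z_sq, mul_one]
    have e2 : a * (a * z) = z := by rw [← mul_assoc, T.a_sq, one_mul]
    have e3 : a * z * z = a := by rw [mul_assoc, T.z_sq, mul_one]
    have e4 : a * z * a = z := by rw [mul_assoc, h1', e2]
    rcases h1 with p | p | p | p <;> rcases h2 with r | r | r | r <;>
      first
        | exact absurd p hz1
        | exact absurd r ha1
        | exact absurd (p.trans r.symm) hne
        | (rw [p, r] at c3; rw [p] at c1; rw [r] at c2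
           first
            | exact ⟨c1, c2⟩
            | exact ⟨c2, c1⟩
            | exact ⟨c1, by rwa [e1] at c3⟩
            | exact ⟨c2, by rwa [e3] at c3⟩
            | exact ⟨by rwa [e2] at c3, c1⟩
            | exact ⟨by rwa [e4] at c3, c2⟩)
  -- the centraliser of the centre is normalised
  have hCw : ∀ c, Commute c z → Commute c a →
      Commute (x⁻¹ * c * x) z ∧ Commute (x⁻¹ * c * x) a := by
    intro c c1 c2
    have : ∀ w, T.isW w → Commute c w := fun w hw => by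
      rcases hw with rfl | rfl | rfl | rfl
      exacts [Commute.one_right c, c1, c2, c2.mul_right c1]
    have p1 := commute_conj₀ x⁻¹ (this _ h1)
    have p2 := commute_conj₀ x⁻¹ (this _ h2)
    simp only [inv_inv] at p1 p2
    rw [show x⁻¹ * (x * z * x⁻¹) * x = z by group] at p1
    rw [show x⁻¹ * (x * a * x⁻¹) * x = a by group] at p2
    exact ⟨p1, p2⟩
  have hJ' : ∀ j ∈ T.J, Commute (x * j * x⁻¹) z ∧ Commute (x * j * x⁻¹) a := fun j hj =>
    gen _ (commute_conj₀ x (T.J_z hj)) (commute_conj₀ x (T.J_a hj))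
  have hnJ : ∀ c, Commute c z → Commute c a → ∀ y ∈ conjS x T.J, c * y * c⁻¹ ∈ conjS x T.J := by
    intro c c1 c2 y hy
    rw [mem_conjS] at hy ⊢
    have h := T.norm _ (hCw c c1 c2).1 _ hy
    rwa [show x⁻¹ * c * x * (x⁻¹ * y * x) * (x⁻¹ * c * x)⁻¹ = x⁻¹ * (c * y * c⁻¹) * x by group] at h
  have hz' : ∀ y ∈ conjS x T.J, Commute y z := fun y hy => by
    rw [mem_conjS] at hy
    have := (hJ' _ hy).1
    rwa [show x * (x⁻¹ * y * x) * x⁻¹ = y by group] at this
  -- inner elements of the conjugate group lie in J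
  let K : Subgroup T.H0 := (conjS x T.J).subgroupOf T.H0
  have hKn : K.Normal := ⟨fun y hy c => by
    rw [Subgroup.mem_subgroupOf] at hy ⊢
    exact hnJ (c : G) (T.le c c.2) (T.lea c c.2) _ hy⟩
  haveI : Fact (Nat.Prime 2) := ⟨Nat.prime_two⟩
  have hKp : IsPGroup 2 K := by
    intro y
    refine ⟨2, Subtype.ext (Subtype.ext ?_)⟩
    have hy : x⁻¹ * (y.1 : G) * x ∈ T.J := mem_conjS.1 y.2
    have h4 : (x⁻¹ * (y.1 : G) * x) ^ 4 = 1 := by
      rw [show (4 : ℕ) = 2 * 2 from rfl, pow_mul, pow_two (x⁻¹ * (y.1 : G) * x)]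
      rcases T.sq _ hy with e | e <;> rw [e]
      · exact one_pow 2
      · rw [pow_two, T.z_sq]
    have := congrArg (fun t => x * t * x⁻¹) h4
    rw [show x⁻¹ * (y.1 : G) * x = x⁻¹ * (y.1 : G) * (x⁻¹)⁻¹ by group, conj_pow] at this
    simpa [mul_assoc] using this
  have himg : K.map T.φhom = ⊥ := by
    by_contra hne'
    have hsurj : Function.Surjective T.φhom := fun u => by
      obtain ⟨h, hh, e⟩ := T.φ_surj u
      exact ⟨⟨h, hh⟩, e⟩
    obtain ⟨u, hu, hu1⟩ := (Subgroup.bot_or_exists_ne_one _).resolve_left hne'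
    have htop := normal_eq_top (hKn.map _ hsurj) hu hu1
    have hP : IsPGroup 2 (⊤ : Subgroup U4) := htop ▸ hKp.map T.φhom
    obtain ⟨n, hn⟩ := IsPGroup.iff_card.1 hP
    rw [Subgroup.card_top, card_SU4] at hn
    have : 5 ∣ 2 ^ n := hn ▸ ⟨5184, rfl⟩
    exact absurd (Nat.Prime.dvd_of_dvd_pow (by norm_num) this) (by norm_num)
  have hin : ∀ y ∈ conjS x T.J, y ∈ T.H0 → y ∈ T.J := by
    intro y hy hy0
    refine (T.φ_ker y hy0).1 ?_
    have hm : T.φhom ⟨y, hy0⟩ ∈ K.map T.φhom := Subgroup.mem_map_of_mem _ hy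
    rw [himg, Subgroup.mem_bot] at hm
    exact hm
  have hsub : ∀ y ∈ conjS x T.J, y ∈ T.J := by
    intro y hy
    refine hin y hy (T.out y (hz' y hy) fun k hk => ?_)
    have hc : k * y * k⁻¹ * y⁻¹ ∈ conjS x T.J := mul_mem (hnJ k (T.le k hk) (T.lea k hk) y hy) (inv_mem hy)
    have hyk := T.H0norm y (hz' y hy) k hk
    have hc0 : k * y * k⁻¹ * y⁻¹ ∈ T.H0 := by
      rw [show k * y * k⁻¹ * y⁻¹ = k * (y * k * y⁻¹)⁻¹ by group]
      exact mul_mem hk (inv_mem hyk)
    have h1 := (T.φ_ker _ hc0).2 (hin _ hc hc0)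
    rw [show k * y * k⁻¹ * y⁻¹ = k * (y * k * y⁻¹)⁻¹ by group, T.φ_mul _ hk _ (inv_mem hyk), T.φ_inv hyk,
      mul_inv_eq_one] at h1
    exact h1.symm
  obtain ⟨i, hi, j, hj, hij⟩ := T.exists_noncomm
  have hi' : x * i * x⁻¹ ∈ T.J := hsub _ (mem_conjS.2 (by rwa [show x⁻¹ * (x * i * x⁻¹) * x = i by group]))
  have hj' : x * j * x⁻¹ ∈ T.J := hsub _ (mem_conjS.2 (by rwa [show x⁻¹ * (x * j * x⁻¹) * x = j by group]))
  have e : ⁅x * i * x⁻¹, x * j * x⁻¹⁆ = x * z * x⁻¹ := by
    rw [← hij]; simp only [commutatorElement_def]; group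
  exact mul_inv_eq_iff_eq_mul.1 ((T.comm _ hi' _ hj').elim (fun h => absurd (e.symm.trans h) hz1) fun h => e.symm.trans h)

/-- An element fixing a and moving z inside the centre does not exist. -/
theorem z_of_a [Finite G] {x : G} (hxa : Commute x a) (h : x * z * x⁻¹ = z ∨ x * z * x⁻¹ = a * z) :
    Commute x z := by
  refine T.norm_W ?_ (by rw [hxa.eq, mul_inv_cancel_right]; exact T.W_a)
  rcases h with e | e <;> rw [e]
  exacts [T.W_z, T.W_az]

section sylow

variable [Finite G]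

/-- The centraliser of the centre of J. -/
def Cw (_T : Two z a) : Subgroup G := Subgroup.centralizer ({z} : Set G) ⊓ Subgroup.centralizer ({a} : Set G)

theorem mem_Cw {x : G} : x ∈ T.Cw ↔ Commute x z ∧ Commute x a :=
  ⟨fun h => ⟨Subgroup.mem_centralizer_singleton_iff.1 h.1, Subgroup.mem_centralizer_singleton_iff.1 h.2⟩,
    fun h => ⟨Subgroup.mem_centralizer_singleton_iff.2 h.1.eq, Subgroup.mem_centralizer_singleton_iff.2 h.2.eq⟩⟩

theorem J_le_Cw : T.J ≤ T.Cw := fun _ hj => T.mem_Cw.2 ⟨T.J_z hj, T.J_a hj⟩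

theorem normalizer_J {c : G} (hc : Commute c z) : c ∈ Subgroup.normalizer (T.J : Set G) := by
  refine Subgroup.mem_normalizer_iff.2 fun y => ⟨T.norm c hc y, fun h => ?_⟩
  have := T.norm c⁻¹ hc.inv_left _ h
  simpa [mul_assoc] using this

/-- A maximal 2-subgroup of the centraliser of the centre. -/
theorem exists_P0 : ∃ P : Subgroup G, P ≤ T.Cw ∧ T.J ≤ P ∧ IsPGroup 2 P ∧
    ∀ Q : Subgroup G, Q ≤ T.Cw → IsPGroup 2 Q → P ≤ Q → Q = P := by
  classical
  haveI : Fact (Nat.Prime 2) := ⟨Nat.prime_two⟩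
  have hJ : IsPGroup 2 T.J := IsPGroup.of_card (n := 10) (by rw [T.card]; norm_num)
  obtain ⟨P, hP⟩ := (hJ.comap_subtype (K := T.Cw)).exists_le_sylow
  refine ⟨(P : Subgroup T.Cw).map T.Cw.subtype, Subgroup.map_subtype_le _, fun j hj =>
    ⟨⟨j, T.J_le_Cw hj⟩, hP hj, rfl⟩, P.isPGroup'.map _, fun Q hQ hQp hle => ?_⟩
  have h1 : (P : Subgroup T.Cw) ≤ Q.comap T.Cw.subtype := fun y hy => hle ⟨y, hy, rfl⟩
  refine le_antisymm (fun y hy => ⟨⟨y, hQ hy⟩, ?_, rfl⟩) hle
  rw [← P.is_maximal' (hQp.comap_subtype) h1]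
  exact hy

/-- The elements centralising a group containing J. -/
theorem centre_le {Q : Subgroup G} (hJQ : T.J ≤ Q) {x : G} (hx : ∀ q ∈ Q, Commute q x) : T.isW x :=
  T.W_of_cent fun q hq => hx q (hJQ hq)

/-- A 2-subgroup of the centraliser of a is conjugate into a maximal one centralising z. -/
theorem conj_into {Q : Subgroup G} (hQa : ∀ q ∈ Q, Commute q a) (hQp : IsPGroup 2 Q) :
    ∃ x, Commute x a ∧ ∀ q ∈ Q, Commute (x * q * x⁻¹) z := by
  classical
  haveI : Fact (Nat.Prime 2) := ⟨Nat.prime_two⟩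
  obtain ⟨P, hPC, hJP, hPp, hPmax⟩ := T.exists_P0
  set C := Subgroup.centralizer ({a} : Set G)
  have hPC' : P ≤ C := hPC.trans inf_le_right
  obtain ⟨S, hS⟩ := (hPp.comap_subtype (K := C)).exists_le_sylow
  have hSz : ∀ s : C, s ∈ (S : Subgroup C) → Commute (s : G) z := by
    by_contra! hcon
    obtain ⟨s, hsS, hsz⟩ := hcon
    let S' : Subgroup G := (S : Subgroup C).map C.subtype
    have hS'p : IsPGroup 2 S' := S.isPGroup'.map _
    have hPS : P ≤ S' := fun y hy => ⟨⟨y, hPC' hy⟩, hS hy, rfl⟩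
    haveI : Group.IsNilpotent S' := hS'p.isNilpotent
    have hlt : P.subgroupOf S' < ⊤ := lt_top_iff_ne_top.2 fun e => hsz (by
      have : (⟨(s : G), ⟨s, hsS, rfl⟩⟩ : S') ∈ P.subgroupOf S' := by rw [e]; exact Subgroup.mem_top _
      exact (T.mem_Cw.1 (hPC this)).1)
    obtain ⟨y, hy, hyP⟩ := SetLike.exists_of_lt (normalizerCondition_of_isNilpotent _ hlt)
    have hynorm : ∀ p ∈ P, (y : G) * p * (y : G)⁻¹ ∈ P ∧ (y : G)⁻¹ * p * y ∈ P := fun p hp => by
      have h1 := (Subgroup.mem_normalizer_iff.1 hy ⟨p, hPS hp⟩).1 hp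
      have h2 := (Subgroup.mem_normalizer_iff.1 (inv_mem hy) ⟨p, hPS hp⟩).1 hp
      simp only [Subgroup.mem_subgroupOf, Subgroup.coe_mul, Subgroup.coe_inv, inv_inv] at h1 h2
      exact ⟨h1, h2⟩
    have hW : ∀ w, T.isW w → T.isW ((y : G) * w * (y : G)⁻¹) := fun w hw => T.centre_le hJP fun p hp => by
      have hc : Commute ((y : G)⁻¹ * p * y) w := by
        have hm := T.mem_Cw.1 (hPC (hynorm p hp).2)
        rcases hw with rfl | rfl | rfl | rfl
        exacts [Commute.one_right _, hm.1, hm.2, hm.2.mul_right hm.1]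
      have := commute_conj₀ (y : G) hc
      rwa [show (y : G) * ((y : G)⁻¹ * p * y) * (y : G)⁻¹ = p by group] at this
    have hya : Commute (y : G) a := by
      obtain ⟨t, -, ht⟩ := y.2
      rw [← ht]
      exact Subgroup.mem_centralizer_singleton_iff.1 t.2
    have hyz := T.norm_W (hW z T.W_z) (hW a T.W_a)
    have hyC : (y : G) ∈ T.Cw := T.mem_Cw.2 ⟨hyz, hya⟩
    have hQ : S' ⊓ T.Cw = P := hPmax _ inf_le_right (hS'p.to_le inf_le_left) (le_inf hPS hPC)
    exact hyP (show (y : G) ∈ P from hQ ▸ ⟨y.2, hyC⟩)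
  have hQC : Q ≤ C := fun q hq => Subgroup.mem_centralizer_singleton_iff.2 (hQa q hq).eq
  obtain ⟨S1, hS1⟩ := (hQp.comap_subtype (K := C)).exists_le_sylow
  obtain ⟨c, hc⟩ := MulAction.exists_smul_eq C S1 S
  refine ⟨c, Subgroup.mem_centralizer_singleton_iff.1 c.2, fun q hq => ?_⟩
  have hm : c * ⟨q, hQC hq⟩ * c⁻¹ ∈ (S : Subgroup C) := by
    rw [← hc, Sylow.coe_subgroup_smul, Subgroup.mem_pointwise_smul_iff_inv_smul_mem]
    simpa [MulAut.smul_def, MulAut.conj_inv_apply, mul_assoc] using hS1 hq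
  exact hSz _ hm

/-- The central involutions are not fused. -/
theorem nonconj : (∀ g : G, g * a * g⁻¹ ≠ z) ∧ (T.central → ∀ g : G, g * a * g⁻¹ ≠ a * z) := by
  classical
  haveI : Fact (Nat.Prime 2) := ⟨Nat.prime_two⟩
  obtain ⟨P, hPC, hJP, hPp, hPmax⟩ := T.exists_P0
  have key : ∀ g : G, ∀ w, g * a * g⁻¹ = w →
      ∀ Q : Subgroup G, (∀ q ∈ Q, Commute q w) → IsPGroup 2 Q → P ≤ Q → Q = P := by
    intro g w hw Q hQw hQp hPQ
    have hQp' : IsPGroup 2 (conjS g⁻¹ Q) := hQp.map _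
    obtain ⟨x', hx'a, hx'z⟩ := T.conj_into (Q := conjS g⁻¹ Q) (fun y hy => by
      rw [mem_conjS, inv_inv] at hy
      have := commute_conj₀ g⁻¹ (hQw _ hy)
      rw [← hw, inv_inv, show g⁻¹ * (g * y * g⁻¹) * g = y by group,
        show g⁻¹ * (g * a * g⁻¹) * g = a by group] at this
      exact this) hQp'
    -- compare the orders
    have hle : Nat.card Q ≤ Nat.card P := by
      have hQ2 : conjS x' (conjS g⁻¹ Q) ≤ T.Cw := fun y hy => by
        rw [mem_conjS] at hy
        refine T.mem_Cw.2 ⟨?_, ?_⟩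
        · have := hx'z _ hy
          rwa [show x' * (x'⁻¹ * y * x') * x'⁻¹ = y by group] at this
        · have h1 := hy
          rw [mem_conjS, inv_inv] at h1
          have := commute_conj₀ x' (commute_conj₀ g⁻¹ (hQw _ h1))
          rw [← hw, inv_inv, show g⁻¹ * (g * (x'⁻¹ * y * x') * g⁻¹) * g = x'⁻¹ * y * x' by group,
            show g⁻¹ * (g * a * g⁻¹) * g = a by group, show x' * (x'⁻¹ * y * x') * x'⁻¹ = y by group,
            hx'a.eq, mul_inv_cancel_right] at this
          exact this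
      haveI : Finite T.Cw := inferInstance
      obtain ⟨S, hS⟩ := (((hQp.map (MulAut.conj g⁻¹).toMonoidHom).map (MulAut.conj x').toMonoidHom).comap_subtype
        (K := T.Cw)).exists_le_sylow
      have hP0 : IsPGroup 2 (P.subgroupOf T.Cw) := hPp.comap_subtype
      obtain ⟨S', hS'⟩ := hP0.exists_le_sylow
      have hPS : P = (S' : Subgroup T.Cw).map T.Cw.subtype :=
        (hPmax _ (Subgroup.map_subtype_le _) (S'.isPGroup'.map _) fun y hy => ⟨⟨y, hPC hy⟩, hS' hy, rfl⟩).symm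
      calc Nat.card Q = Nat.card (conjS x' (conjS g⁻¹ Q)) := by
            rw [conjS, conjS, Nat.card_congr (Subgroup.equivMapOfInjective _ _ (MulAut.conj x').injective).toEquiv.symm,
              Nat.card_congr (Subgroup.equivMapOfInjective _ _ (MulAut.conj g⁻¹).injective).toEquiv.symm]
        _ = Nat.card ((conjS x' (conjS g⁻¹ Q)).subgroupOf T.Cw) :=
            (Nat.card_congr (Subgroup.subgroupOfEquivOfLe hQ2).toEquiv).symm
        _ ≤ Nat.card (S : Subgroup T.Cw) := Subgroup.card_le_of_le hS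
        _ = Nat.card (S' : Subgroup T.Cw) := Nat.card_congr (Sylow.equiv S S').toEquiv
        _ = Nat.card P := by
            rw [hPS, Nat.card_congr (Subgroup.equivMapOfInjective _ _ T.Cw.subtype_injective).toEquiv]
    exact (Subgroup.eq_of_le_of_card_ge hPQ hle).symm
  have hPz : ∀ p ∈ P, Commute p z := fun p hp => (T.mem_Cw.1 (hPC hp)).1
  have hPa : ∀ p ∈ P, Commute p a := fun p hp => (T.mem_Cw.1 (hPC hp)).2
  -- in the central case conjugates in the centre coincide
  have burnside : T.central → ∀ w, T.isW w → w ≠ a → ∀ g : G, g * a * g⁻¹ ≠ w := by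
    intro hc w hw hne g e
    set S := Subgroup.centralizer ({z} : Set G) with hSdef
    have hPS : P ≤ S := fun p hp => Subgroup.mem_centralizer_singleton_iff.2 (hPz p hp).eq
    have hsyl : ∀ Q : Subgroup G, IsPGroup 2 Q → P ≤ Q → Q = P := by
      intro Q hQ hPQ
      by_contra hne'
      haveI : Group.IsNilpotent Q := hQ.isNilpotent
      have hlt : P.subgroupOf Q < ⊤ := lt_top_iff_ne_top.2 fun e' => hne' (le_antisymm (fun y hy => by
        have : (⟨y, hy⟩ : Q) ∈ P.subgroupOf Q := by rw [e']; exact Subgroup.mem_top _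
        exact this) hPQ)
      obtain ⟨y, hy, hyP⟩ := SetLike.exists_of_lt (normalizerCondition_of_isNilpotent _ hlt)
      have hW : ∀ v, T.isW v → T.isW ((y : G) * v * (y : G)⁻¹) := fun v hv => T.centre_le hJP fun p hp => by
        have h2 := (Subgroup.mem_normalizer_iff.1 (inv_mem hy) ⟨p, hPQ hp⟩).1 hp
        simp only [Subgroup.mem_subgroupOf, Subgroup.coe_mul, Subgroup.coe_inv, inv_inv] at h2
        have hc' : Commute ((y : G)⁻¹ * p * y) v := by
          rcases hv with rfl | rfl | rfl | rfl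
          exacts [Commute.one_right _, hPz _ h2, hPa _ h2, (hPa _ h2).mul_right (hPz _ h2)]
        have := commute_conj₀ (y : G) hc'
        rwa [show (y : G) * ((y : G)⁻¹ * p * y) * (y : G)⁻¹ = p by group] at this
      have hyz := T.norm_W (hW z T.W_z) (hW a T.W_a)
      exact hyP (show (y : G) ∈ P from (hPmax (Q ⊓ T.Cw) inf_le_right (hQ.to_le inf_le_left) (le_inf hPQ hPC)) ▸
        ⟨y.2, T.mem_Cw.2 ⟨hyz, hc _ hyz⟩⟩)
    let PS : Sylow 2 G := { toSubgroup := P, isPGroup' := hPp, is_maximal' := fun {Q} hQ hle => hsyl Q hQ hle }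
    obtain ⟨n, hn, hne'⟩ := Sylow.conj_eq_normalizer_conj_of_mem_centralizer PS a g⁻¹
      (Subgroup.mem_centralizer_iff.2 fun p hp => (hPa p hp).eq)
      (by
        rw [inv_inv, e]
        refine Subgroup.mem_centralizer_iff.2 fun p hp => (?_ : Commute p w).eq
        rcases hw with rfl | rfl | rfl | rfl
        exacts [Commute.one_right _, hPz p hp, hPa p hp, (hPa p hp).mul_right (hPz p hp)])
    rw [inv_inv, e] at hne'
    have hW : ∀ v, T.isW v → T.isW (n⁻¹ * v * n) := fun v hv => T.centre_le hJP fun p hp => by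
      have h2 := (Subgroup.mem_normalizer_iff.1 hn p).1 hp
      have hc' : Commute (n * p * n⁻¹) v := by
        rcases hv with rfl | rfl | rfl | rfl
        exacts [Commute.one_right _, hPz _ h2, hPa _ h2, (hPa _ h2).mul_right (hPz _ h2)]
      have := commute_conj₀ n⁻¹ hc'
      simpa [mul_assoc] using this
    have h1 := hW z T.W_z
    have h2 := hW a T.W_a
    have hnz : Commute n⁻¹ z := T.norm_W (by simpa using h1) (by simpa using h2)
    have hna := hc _ hnz
    apply hne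
    rw [hne', hna.eq, mul_assoc, inv_mul_cancel, mul_one]
  refine ⟨fun g e => ?_, fun hc g => burnside hc _ T.W_az T.az_nea g⟩
  by_cases hc : T.central
  · exact burnside hc _ T.W_z (Ne.symm T.a_nez) g e
  · obtain ⟨x0, hx0, hx0H⟩ := T.hout
    set S := Subgroup.centralizer ({z} : Set G) with hSdef
    have hPS : P ≤ S := fun p hp => Subgroup.mem_centralizer_singleton_iff.2 (hPz p hp).eq
    obtain ⟨R, hR⟩ := (hPp.comap_subtype (K := S)).exists_le_sylow
    have hRP := key g z e ((R : Subgroup S).map S.subtype)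
      (by rintro _ ⟨q, -, rfl⟩; exact Subgroup.mem_centralizer_singleton_iff.1 q.2)
      (R.isPGroup'.map _) fun y hy => ⟨⟨y, hPS hy⟩, hR hy, rfl⟩
    -- then the index of a Sylow subgroup would be even
    set K : Subgroup S := T.H0.subgroupOf S
    have hK2 : K.index = 2 := by
      refine Subgroup.index_eq_two_iff.2 ⟨⟨x0, Subgroup.mem_centralizer_singleton_iff.2 hx0.eq⟩, fun b => ?_⟩
      have hb : Commute (b : G) z := Subgroup.mem_centralizer_singleton_iff.1 b.2
      by_cases h : (b : G) ∈ T.H0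
      · exact Or.inr ⟨h, fun h' => hx0H ((T.H0.mul_mem_cancel_left h).1 h')⟩
      · exact Or.inl ⟨T.out_mul _ _ hb hx0 h hx0H, h⟩
    have hRK : (R : Subgroup S) ≤ K := fun y hy => by
      have hm : (y : G) ∈ P := hRP ▸ ⟨y, hy, rfl⟩
      exact T.mem_of_swap hc (hPz _ hm) (hPa _ hm)
    have := Subgroup.index_dvd_of_le hRK
    rw [hK2] at this
    exact R.not_dvd_index this

/-- In the central case a conjugate of a is centralised, together with the elements of J centralising it,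
by a conjugate of z. -/
theorem norm_pair {g : G} (hv : Commute (g * a * g⁻¹) z) :
    ∃ g', g' * a * g'⁻¹ = g * a * g⁻¹ ∧ Commute (g' * z * g'⁻¹) z ∧
      ∀ j ∈ T.J, Commute j (g * a * g⁻¹) → Commute j (g' * z * g'⁻¹) := by
  haveI : Fact (Nat.Prime 2) := ⟨Nat.prime_two⟩
  set v := g * a * g⁻¹ with hvdef
  let Q : Subgroup G := T.J ⊓ Subgroup.centralizer ({v} : Set G)
  have hJ : IsPGroup 2 T.J := IsPGroup.of_card (n := 10) (by rw [T.card]; norm_num)
  obtain ⟨x, hxa, hx⟩ := T.conj_into (Q := conjS g⁻¹ Q) (fun y hy => by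
    rw [mem_conjS, inv_inv] at hy
    have h : Commute (g * y * g⁻¹) v := Subgroup.mem_centralizer_singleton_iff.1 hy.2
    have := commute_conj₀ g⁻¹ h
    rw [hvdef, inv_inv, show g⁻¹ * (g * y * g⁻¹) * g = y by group,
      show g⁻¹ * (g * a * g⁻¹) * g = a by group] at this
    exact this) ((hJ.to_le inf_le_left).map _)
  have hmain : ∀ j ∈ T.J, Commute j v → Commute j (g * x⁻¹ * z * (g * x⁻¹)⁻¹) := fun j hj hjv => by
    have h := commute_conj₀ x⁻¹ (hx (g⁻¹ * j * g) (mem_conjS.2 (by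
      rw [inv_inv, show g * (g⁻¹ * j * g) * g⁻¹ = j by group]
      exact ⟨hj, Subgroup.mem_centralizer_singleton_iff.2 hjv.eq⟩)))
    have := commute_conj₀ g h
    rw [show g * (x⁻¹ * (x * (g⁻¹ * j * g) * x⁻¹) * x⁻¹⁻¹) * g⁻¹ = j by group] at this
    rwa [mul_inv_rev, inv_inv, show g * x⁻¹ * z * (x * g⁻¹) = g * (x⁻¹ * z * x⁻¹⁻¹) * g⁻¹ by group]
  refine ⟨g * x⁻¹, ?_, (hmain z T.z_mem hv.symm).symm, hmain⟩
  rw [show g * x⁻¹ * a * (g * x⁻¹)⁻¹ = g * (x⁻¹ * a * x) * g⁻¹ by group,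
    show x⁻¹ * a * x = a by rw [mul_assoc, ← hxa.eq, inv_mul_cancel_left]]

/-- An element of odd order in J is trivial. -/
theorem odd_J {c : G} (hc : c ∈ T.J) (ho : Odd (orderOf c)) : c = 1 := by
  have h4 : c ^ 4 = 1 := by
    rw [show (4 : ℕ) = 2 * 2 from rfl, pow_mul, pow_two c]
    rcases T.sq c hc with e | e <;> rw [e]
    · exact one_pow 2
    · rw [pow_two, T.z_sq]
  refine orderOf_eq_one_iff.1 (Nat.eq_one_of_dvd_coprimes ?_ dvd_rfl (orderOf_dvd_of_pow_eq_one h4))
  exact ((Nat.coprime_two_right.2 ho).pow_right 2)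

/-- The conjugate core absorbs the commutators with the conjugate of z. -/
theorem trap' (hI : T.Iso) {g x : G} (hxv : Commute x (g * a * g⁻¹)) :
    Odd (orderOf ⁅g * z * g⁻¹, x⁆) := by
  classical
  haveI : Fact (Nat.Prime 2) := ⟨Nat.prime_two⟩
  set C := Subgroup.centralizer ({a} : Set G) with hC
  let z0 : C := ⟨z, Subgroup.mem_centralizer_singleton_iff.2 T.az_comm.symm.eq⟩
  have hz0 : orderOf z0 = 2 := orderOf_eq_prime (Subtype.ext (by
    show z ^ 2 = 1
    rw [pow_two, T.z_sq])) fun e => T.z_ne (congrArg Subtype.val e)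
  have hiso : Cfsg.IsIsolatedInvolution z0 := ⟨hz0, fun y hy => Subtype.ext
    (hI y (Subgroup.mem_centralizer_singleton_iff.1 y.2) (congrArg Subtype.val hy.eq))⟩
  haveI : (Cfsg.oddCore C).Normal := Cores.pPrimeCore_normal 2 C
  have hv : Commute (g⁻¹ * x * g) a := commute_conj₀' g hxv
  have hmem : (⟨g⁻¹ * x * g, Subgroup.mem_centralizer_singleton_iff.2 hv.eq⟩ : C) ∈
      Subgroup.centralizer ({z0} : Set C) ⊔ Cfsg.oddCore C := by
    rw [centralizer_sup_oddCore hiso]
    exact Subgroup.mem_top _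
  obtain ⟨h, hh, o, ho, e⟩ := Subgroup.mem_sup_of_normal_right.1 hmem
  have hzh : z0 * h = h * z0 := (Subgroup.mem_centralizer_singleton_iff.1 hh).symm
  have hc : ⁅z0, h * o⁆ ∈ Cfsg.oddCore C := by
    have e1 : ⁅z0, h * o⁆ = h * (z0 * o * z0⁻¹ * o⁻¹) * h⁻¹ := by
      rw [commutatorElement_def]
      calc z0 * (h * o) * z0⁻¹ * (h * o)⁻¹ = (z0 * h) * o * z0⁻¹ * o⁻¹ * h⁻¹ := by group
        _ = h * z0 * o * z0⁻¹ * o⁻¹ * h⁻¹ := by rw [hzh]
        _ = _ := by group
    rw [e1]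
    exact Subgroup.Normal.conj_mem inferInstance _
      (mul_mem (Subgroup.Normal.conj_mem inferInstance o ho z0) (inv_mem ho)) h
  rw [e] at hc
  have hodd := (Nat.coprime_two_right.1 (Cores.coprime_card_pPrimeCore 2)).of_dvd_nat
    (Subgroup.orderOf_dvd_natCard (Cfsg.oddCore C) hc)
  rw [← Subgroup.orderOf_coe] at hodd
  rw [show ⁅g * z * g⁻¹, x⁆ = g * ⁅z, g⁻¹ * x * g⁆ * g⁻¹ by simp only [commutatorElement_def]; group,
    ← MulAut.conj_apply, MulEquiv.orderOf_eq]
  exact hodd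

/-- Conjugate centralisers trap J. -/
theorem trap (hI : T.Iso) {g j : G} (hw : Commute (g * z * g⁻¹) z) (hj : j ∈ T.J)
    (hjv : Commute j (g * a * g⁻¹)) : Commute j (g * z * g⁻¹) := by
  have hm : ⁅g * z * g⁻¹, j⁆ ∈ T.J := by
    rw [commutatorElement_def]
    exact mul_mem (T.norm _ hw j hj) (inv_mem hj)
  exact (commutatorElement_eq_one_iff_mul_comm.1 (T.odd_J hm (T.trap' hI hjv))).symm

end sylow

end Two

end Cfsg.Agent.U62Rec
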