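/-
An involution whose centraliser is (2 × 2^(1+8)) extended by Aut SU(4,2): the centraliser of the other central
involution a modulo a, and the module.

* `Qa a`, `qa a` : the centraliser of a modulo a;
* `Two.preQ`, `Two.extQ` : the setting there, by the action of the outer part on a;
* `Mod3 T V` : coordinates of J modulo its centre; `Two.exists_mod3` : reducible only if z is isolated.
-/
import Cfsg.Agent.Lib.U62Rec.TwoPre

set_option autoImplicit false

namespace Cfsg.Agent.U62Rec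

open Cfsg.Agent.LargeExtraspecial
open scoped commutatorElement

universe u v

/-! ### The quotient -/

section quotient

variable {G : Type u} [Group G]

/-- The subgroup of a in its centraliser. -/
abbrev Za (a : G) : Subgroup (Subgroup.centralizer ({a} : Set G)) :=
  Subgroup.zpowers ⟨a, Subgroup.mem_centralizer_singleton_iff.2 rfl⟩

instance Za_normal (a : G) : (Za a).Normal :=
  ⟨fun n hn g => by
    obtain ⟨k, rfl⟩ := hn
    have h : Commute g ⟨a, Subgroup.mem_centralizer_singleton_iff.2 rfl⟩ :=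
      Subtype.ext (Subgroup.mem_centralizer_singleton_iff.1 g.2)
    show g * _ ^ k * g⁻¹ ∈ _
    rw [(h.zpow_right k).eq, mul_inv_cancel_right]
    exact ⟨k, rfl⟩⟩

/-- The centraliser of a modulo a. -/
abbrev Qa (a : G) : Type u := ↥(Subgroup.centralizer ({a} : Set G)) ⧸ Za a

open Classical in
/-- The map onto the quotient. -/
noncomputable def qa (a x : G) : Qa a :=
  if h : x ∈ Subgroup.centralizer ({a} : Set G) then QuotientGroup.mk ⟨x, h⟩ else 1

theorem qa_def {a x : G} (hx : Commute x a) :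
    qa a x = QuotientGroup.mk ⟨x, Subgroup.mem_centralizer_singleton_iff.2 hx.eq⟩ := by
  rw [qa, dif_pos]

theorem qa_mul {a x y : G} (hx : Commute x a) (hy : Commute y a) : qa a (x * y) = qa a x * qa a y := by
  rw [qa_def hx, qa_def hy, qa_def (hx.mul_left hy)]
  rfl

theorem qa_one (a : G) : qa a 1 = 1 := by
  rw [qa_def (Commute.one_left a)]
  rfl

theorem qa_inv {a x : G} (hx : Commute x a) : qa a x⁻¹ = (qa a x)⁻¹ :=
  eq_inv_of_mul_eq_one_left (by rw [← qa_mul hx.inv_left hx, inv_mul_cancel, qa_one])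

theorem qa_conj {a x y : G} (hx : Commute x a) (hy : Commute y a) :
    qa a (x * y * x⁻¹) = qa a x * qa a y * (qa a x)⁻¹ := by
  rw [qa_mul (hx.mul_left hy) hx.inv_left, qa_mul hx hy, qa_inv hx]

theorem qa_surj {a : G} (y : Qa a) : ∃ x, Commute x a ∧ qa a x = y := by
  obtain ⟨⟨x, hx⟩, rfl⟩ := QuotientGroup.mk_surjective y
  exact ⟨x, Subgroup.mem_centralizer_singleton_iff.1 hx, qa_def (Subgroup.mem_centralizer_singleton_iff.1 hx)⟩

theorem qa_eq_one {a x : G} (ha2 : a * a = 1) (hx : Commute x a) : qa a x = 1 ↔ x = 1 ∨ x = a := by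
  rw [qa_def hx, QuotientGroup.eq_one_iff]
  constructor
  · intro h
    rcases mem_zpowers_two (Subtype.ext ha2) h with e | e
    exacts [Or.inl (congrArg Subtype.val e), Or.inr (congrArg Subtype.val e)]
  · intro h
    rcases h with rfl | rfl
    exacts [one_mem _, Subgroup.mem_zpowers _]

theorem qa_eq {a x y : G} (ha2 : a * a = 1) (hx : Commute x a) (hy : Commute y a) :
    qa a x = qa a y ↔ x = y ∨ x = y * a := by
  have h0 := qa_eq_one ha2 (hy.inv_left.mul_left hx)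
  rw [qa_mul hy.inv_left hx, qa_inv hy, inv_mul_eq_one, inv_mul_eq_one, inv_mul_eq_iff_eq_mul] at h0
  constructor
  · exact fun e => (h0.1 e.symm).imp_left Eq.symm
  · exact fun e => (h0.2 (e.imp_left Eq.symm)).symm

end quotient

namespace Two

variable {G : Type u} [Group G] {z a : G} (T : Two z a)

/-- The image of J. -/
def Jq : Subgroup (Qa a) :=
  (T.J.subgroupOf (Subgroup.centralizer ({a} : Set G))).map (QuotientGroup.mk' (Za a))

/-- The image of the inner part. -/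
def H0q : Subgroup (Qa a) :=
  (T.H0.subgroupOf (Subgroup.centralizer ({a} : Set G))).map (QuotientGroup.mk' (Za a))

open Classical in
/-- The map onto SU(4,2) on the image. -/
noncomputable def φq (y : Qa a) : U4 := if h : ∃ x ∈ T.H0, qa a x = y then T.φ h.choose else 1

include T

theorem mem_Jq {y : Qa a} : y ∈ T.Jq ↔ ∃ j ∈ T.J, qa a j = y := by
  constructor
  · rintro ⟨⟨j, hjC⟩, hj, rfl⟩
    exact ⟨j, hj, qa_def (Subgroup.mem_centralizer_singleton_iff.1 hjC)⟩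
  · rintro ⟨j, hj, rfl⟩
    exact ⟨⟨j, Subgroup.mem_centralizer_singleton_iff.2 (T.J_a hj).eq⟩, hj, (qa_def (T.J_a hj)).symm⟩

theorem mem_H0q {y : Qa a} : y ∈ T.H0q ↔ ∃ h ∈ T.H0, qa a h = y := by
  constructor
  · rintro ⟨⟨h, hC⟩, hh, rfl⟩
    exact ⟨h, hh, qa_def (Subgroup.mem_centralizer_singleton_iff.1 hC)⟩
  · rintro ⟨h, hh, rfl⟩
    exact ⟨⟨h, Subgroup.mem_centralizer_singleton_iff.2 (T.lea h hh).eq⟩, hh, (qa_def (T.lea h hh)).symm⟩

theorem qa_mem_Jq {x : G} (hx : Commute x a) : qa a x ∈ T.Jq ↔ x ∈ T.J := by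
  refine ⟨fun h => ?_, fun h => T.mem_Jq.2 ⟨x, h, rfl⟩⟩
  obtain ⟨j, hj, e⟩ := T.mem_Jq.1 h
  rcases (qa_eq T.a_sq hx (T.J_a hj)).1 e.symm with rfl | rfl
  exacts [hj, mul_mem hj T.a_mem]

theorem qa_mem_H0q {x : G} (hx : Commute x a) : qa a x ∈ T.H0q ↔ x ∈ T.H0 := by
  refine ⟨fun h => ?_, fun h => T.mem_H0q.2 ⟨x, h, rfl⟩⟩
  obtain ⟨j, hj, e⟩ := T.mem_H0q.1 h
  rcases (qa_eq T.a_sq hx (T.lea j hj)).1 e.symm with rfl | rfl
  exacts [hj, mul_mem hj (T.J_le T.a_mem)]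

theorem φq_qa {h : G} (hh : h ∈ T.H0) : T.φq (qa a h) = T.φ h := by
  have he : ∃ x ∈ T.H0, qa a x = qa a h := ⟨h, hh, rfl⟩
  rw [φq, dif_pos he]
  obtain ⟨hm, e⟩ := he.choose_spec
  rcases (qa_eq T.a_sq (T.lea _ hm) (T.lea h hh)).1 e with e' | e' <;> rw [e']
  rw [T.φ_mul h hh a (T.J_le T.a_mem), T.φ_J T.a_mem, mul_one]

variable [Finite G]

omit T in
theorem z_ne_one_q (T : Two z a) : qa a z ≠ 1 := fun e => by
  rcases (qa_eq_one T.a_sq T.az_comm.symm).1 e with h | h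
  exacts [T.z_ne h, T.a_nez h.symm]

theorem comm_qz {x : G} (hx : Commute x a) : Commute (qa a x) (qa a z) ↔ Commute x z := by
  constructor
  · intro h
    have e : qa a (x * z * x⁻¹) = qa a z := by
      rw [qa_conj hx T.az_comm.symm, h.eq, mul_inv_cancel_right]
    refine T.z_of_a hx ?_
    rw [T.az_comm.eq]
    exact (qa_eq T.a_sq ((hx.mul_left T.az_comm.symm).mul_left hx.inv_left) T.az_comm.symm).1 e
  · intro h
    show qa a x * qa a z = qa a z * qa a x
    rw [← qa_mul hx T.az_comm.symm, ← qa_mul T.az_comm.symm hx, h.eq]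

/-- An element of the centraliser of z and a acting trivially modulo a lies in J. -/
theorem mem_J_of_trivial {x : G} (hxz : Commute x z) (hxa : Commute x a)
    (h : ∀ j ∈ T.J, x * j * x⁻¹ = j ∨ x * j * x⁻¹ = j * a) : x ∈ T.J := by
  classical
  let Nt : G → Prop := fun x => Commute x z ∧ Commute x a ∧ ∀ j ∈ T.J, x * j * x⁻¹ = j ∨ x * j * x⁻¹ = j * a
  have hconja : ∀ {x : G}, Commute x a → ∀ j, x * (j * a) * x⁻¹ = x * j * x⁻¹ * a := fun {x} hx j => by
    calc x * (j * a) * x⁻¹ = x * j * (a * x⁻¹) := by group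
      _ = x * j * (x⁻¹ * a) := by rw [hx.inv_left.eq]
      _ = _ := by group
  -- two such elements commute modulo the centre
  have hab : ∀ x y, Nt x → Nt y → x ∈ T.H0 → y ∈ T.H0 → T.φ x * T.φ y = T.φ y * T.φ x := by
    intro x y hx hy hxH hyH
    have hW : T.isW ((y * x)⁻¹ * (x * y)) := T.W_of_cent fun j hj => by
      have e : x * y * j * (x * y)⁻¹ = y * x * j * (y * x)⁻¹ := by
        rw [show x * y * j * (x * y)⁻¹ = x * (y * j * y⁻¹) * x⁻¹ by group,
          show y * x * j * (y * x)⁻¹ = y * (x * j * x⁻¹) * y⁻¹ by group]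
        rcases hy.2.2 j hj with e1 | e1 <;> rcases hx.2.2 j hj with e2 | e2 <;>
          simp only [e1, e2, hconja hx.2.1, hconja hy.2.1]
      show j * ((y * x)⁻¹ * (x * y)) = (y * x)⁻¹ * (x * y) * j
      calc j * ((y * x)⁻¹ * (x * y)) = (y * x)⁻¹ * (y * x * j * (y * x)⁻¹) * (x * y) := by group
        _ = (y * x)⁻¹ * (x * y * j * (x * y)⁻¹) * (x * y) := by rw [e]
        _ = _ := by group
    have := T.φ_J (T.W_mem hW)
    rw [T.φ_mul _ (inv_mem (mul_mem hyH hxH)) _ (mul_mem hxH hyH), T.φ_inv (mul_mem hyH hxH), inv_mul_eq_one,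
      T.φ_mul _ hyH _ hxH, T.φ_mul _ hxH _ hyH] at this
    exact this.symm
  -- they are permuted by the inner part
  have hnorm : ∀ x, Nt x → ∀ k ∈ T.H0, Nt (k * x * k⁻¹) := by
    intro x hx k hk
    refine ⟨((T.le k hk).mul_left hx.1).mul_left (T.le k hk).inv_left,
      ((T.lea k hk).mul_left hx.2.1).mul_left (T.lea k hk).inv_left, fun j hj => ?_⟩
    have hi : k⁻¹ * j * k ∈ T.J := by simpa using T.norm k⁻¹ (T.le k hk).inv_left j hj
    rw [show k * x * k⁻¹ * j * (k * x * k⁻¹)⁻¹ = k * (x * (k⁻¹ * j * k) * x⁻¹) * k⁻¹ by group]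
    rcases hx.2.2 _ hi with e | e <;> rw [e]
    · exact Or.inl (by group)
    · exact Or.inr (by rw [hconja (T.lea k hk)]; group)
  let N : Subgroup G :=
    { carrier := {x | Nt x ∧ x ∈ T.H0}
      one_mem' := ⟨⟨Commute.one_left z, Commute.one_left a, fun j _ => Or.inl (by group)⟩, one_mem _⟩
      mul_mem' := fun {x y} hx hy => ⟨⟨hx.1.1.mul_left hy.1.1, hx.1.2.1.mul_left hy.1.2.1, fun j hj => by
        rw [show x * y * j * (x * y)⁻¹ = x * (y * j * y⁻¹) * x⁻¹ by group]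
        rcases hy.1.2.2 j hj with e | e <;> rw [e]
        · exact hx.1.2.2 j hj
        · rw [hconja hx.1.2.1]
          rcases hx.1.2.2 j hj with e' | e' <;> rw [e']
          · exact Or.inr rfl
          · exact Or.inl (by rw [mul_assoc, T.a_sq, mul_one])⟩, mul_mem hx.2 hy.2⟩
      inv_mem' := fun {x} hx => ⟨⟨hx.1.1.inv_left, hx.1.2.1.inv_left, fun j hj => by
        have hi : x⁻¹ * j * x ∈ T.J := by simpa using T.norm x⁻¹ hx.1.1.inv_left j hj
        have h2 := hx.1.2.2 _ hi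
        rw [show x * (x⁻¹ * j * x) * x⁻¹ = j by group] at h2
        rw [inv_inv]
        rcases h2 with e | e
        · exact Or.inl e.symm
        · refine Or.inr ?_
          calc x⁻¹ * j * x = x⁻¹ * j * x * a * a := by rw [mul_assoc _ a a, T.a_sq, mul_one]
            _ = j * a := by rw [← e]⟩, inv_mem hx.2⟩ }
  have himg : (N.subgroupOf T.H0).map T.φhom = ⊥ := by
    have hn : ((N.subgroupOf T.H0).map T.φhom).Normal := by
      refine Subgroup.Normal.map ⟨fun y hy c => ?_⟩ _ fun u => by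
        obtain ⟨h, hh, e⟩ := T.φ_surj u
        exact ⟨⟨h, hh⟩, e⟩
      rw [Subgroup.mem_subgroupOf] at hy ⊢
      exact ⟨hnorm _ hy.1 c c.2, mul_mem (mul_mem c.2 hy.2) (inv_mem c.2)⟩
    by_contra hne
    obtain ⟨u, hu, hu1⟩ := (Subgroup.bot_or_exists_ne_one _).resolve_left hne
    have htop := normal_eq_top hn hu hu1
    have hc : ∀ b : U4, b ∈ Subgroup.center U4 := fun b => Subgroup.mem_center_iff.2 fun c => by
      obtain ⟨⟨y, hy⟩, hyN, rfl⟩ := (htop.symm ▸ Subgroup.mem_top b : b ∈ (N.subgroupOf T.H0).map T.φhom)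
      obtain ⟨⟨w, hw⟩, hwN, rfl⟩ := (htop.symm ▸ Subgroup.mem_top c : c ∈ (N.subgroupOf T.H0).map T.φhom)
      exact hab w y hwN.1 hyN.1 hw hy
    have h1 : (⊤ : Subgroup U4) = ⊥ := le_antisymm (fun b _ => center_U4 ▸ hc b) bot_le
    have h2 : Nat.card (⊤ : Subgroup U4) = Nat.card (⊥ : Subgroup U4) := by rw [h1]
    rw [Subgroup.card_top, Subgroup.card_bot, card_SU4] at h2
    omega
  have hin : ∀ x, Nt x → x ∈ T.H0 → x ∈ T.J := fun x hx hxH => (T.φ_ker x hxH).1 (by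
    have hm : T.φhom ⟨x, hxH⟩ ∈ (N.subgroupOf T.H0).map T.φhom := Subgroup.mem_map_of_mem _ ⟨hx, hxH⟩
    rw [himg, Subgroup.mem_bot] at hm
    exact hm)
  have hNt : Nt x := ⟨hxz, hxa, h⟩
  refine hin x hNt (T.out x hxz fun k hk => ?_)
  have hxk := T.H0norm x hxz k hk
  have hc0 : k * (x * k * x⁻¹)⁻¹ ∈ T.H0 := mul_mem hk (inv_mem hxk)
  have hcN : Nt (k * (x * k * x⁻¹)⁻¹) := by
    have hk' := hnorm x hNt k hk
    rw [show k * (x * k * x⁻¹)⁻¹ = k * x * k⁻¹ * x⁻¹ by group]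
    refine ⟨hk'.1.mul_left hxz.inv_left, hk'.2.1.mul_left hxa.inv_left, fun j hj => ?_⟩
    have hi : x⁻¹ * j * x ∈ T.J := by simpa using T.norm x⁻¹ hxz.inv_left j hj
    have h2 := h _ hi
    rw [show x * (x⁻¹ * j * x) * x⁻¹ = j by group] at h2
    rw [show k * x * k⁻¹ * x⁻¹ * j * (k * x * k⁻¹ * x⁻¹)⁻¹ = k * x * k⁻¹ * (x⁻¹ * j * x) * (k * x * k⁻¹)⁻¹ by group]
    rcases h2 with e | e
    · rw [← e]; exact hk'.2.2 j hj
    · have e' : x⁻¹ * j * x = j * a := by
        calc x⁻¹ * j * x = x⁻¹ * j * x * a * a := by rw [mul_assoc _ a a, T.a_sq, mul_one]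
          _ = j * a := by rw [← e]
      rw [e', hconja hk'.2.1]
      rcases hk'.2.2 j hj with e'' | e'' <;> rw [e'']
      · exact Or.inr rfl
      · exact Or.inl (by rw [mul_assoc, T.a_sq, mul_one])
  have h1 := T.φ_J (hin _ hcN hc0)
  rw [T.φ_mul _ hk _ (inv_mem hxk), T.φ_inv hxk, mul_inv_eq_one] at h1
  exact h1.symm

theorem dataQ : Data T.Jq (qa a z) where
  z_mem := T.mem_Jq.2 ⟨z, T.z_mem, rfl⟩
  z_ne := T.z_ne_one_q
  z_sq := by rw [← qa_mul T.az_comm.symm T.az_comm.symm, T.z_sq, qa_one]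
  z_central q hq := by
    obtain ⟨j, hj, rfl⟩ := T.mem_Jq.1 hq
    rw [← qa_mul (T.J_a hj) T.az_comm.symm, ← qa_mul T.az_comm.symm (T.J_a hj), (T.J_z hj).eq]
  cent y hy := by
    obtain ⟨x, hxa, rfl⟩ := qa_surj y
    have hx : ∀ j ∈ T.J, x * j * x⁻¹ = j ∨ x * j * x⁻¹ = j * a := fun j hj => by
      have h := hy _ ((T.qa_mem_Jq (T.J_a hj)).2 hj)
      rw [← qa_mul (T.J_a hj) hxa, ← qa_mul hxa (T.J_a hj)] at h
      rcases (qa_eq T.a_sq (hxa.mul_left (T.J_a hj)) ((T.J_a hj).mul_left hxa)).1 h.symm with e | e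
      · exact Or.inl (mul_inv_eq_iff_eq_mul.2 e)
      · exact Or.inr (mul_inv_eq_iff_eq_mul.2 (by rw [e, mul_assoc, mul_assoc, hxa.eq]))
    have hxz : Commute x z := T.z_of_a hxa (by
      rw [T.az_comm.eq]
      exact hx z T.z_mem)
    have hxJ := T.mem_J_of_trivial hxz hxa hx
    have hW : T.isW x := T.W_of_cent fun j hj => by
      rcases hx j hj with e | e
      · exact (mul_inv_eq_iff_eq_mul.1 e).symm
      · exfalso
        have e2 : ⁅x, j⁆ = a := by
          rw [commutatorElement_def, e, ← (T.J_a hj).eq.symm, mul_inv_cancel_right]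
        rcases T.comm x hxJ j hj with h | h <;> rw [e2] at h
        exacts [T.a_ne h, T.a_nez h]
    rcases hW with rfl | rfl | rfl | rfl
    · exact Or.inl (qa_one a)
    · exact Or.inr rfl
    · exact Or.inl ((qa_eq_one T.a_sq hxa).2 (Or.inr rfl))
    · exact Or.inr ((qa_eq T.a_sq hxa T.az_comm.symm).2 (Or.inr T.az_comm.eq))
  comm p hp q hq := by
    obtain ⟨i, hi, rfl⟩ := T.mem_Jq.1 hp
    obtain ⟨j, hj, rfl⟩ := T.mem_Jq.1 hq
    have e : ⁅qa a i, qa a j⁆ = qa a ⁅i, j⁆ := by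
      rw [commutatorElement_def, commutatorElement_def, qa_mul (((T.J_a hi).mul_left (T.J_a hj)).mul_left
        (T.J_a hi).inv_left) (T.J_a hj).inv_left, qa_conj (T.J_a hi) (T.J_a hj), qa_inv (T.J_a hj)]
    rw [e]
    rcases T.comm i hi j hj with h | h <;> rw [h]
    exacts [Or.inl (qa_one a), Or.inr rfl]
  norm c hc q hq := by
    obtain ⟨x, hxa, rfl⟩ := qa_surj c
    obtain ⟨j, hj, rfl⟩ := T.mem_Jq.1 hq
    rw [← qa_conj hxa (T.J_a hj)]
    exact T.mem_Jq.2 ⟨_, T.norm x ((T.comm_qz hxa).1 hc) j hj, rfl⟩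

theorem extraQ : Cfsg.IsExtraspecial 2 ↥T.Jq := by
  haveI : Fact (Nat.Prime 2) := ⟨Nat.prime_two⟩
  have hJ : IsPGroup 2 T.J := IsPGroup.of_card (n := 10) (by rw [T.card]; norm_num)
  refine (isExtraspecial_of_gen (z := qa a z) ((hJ.comap_subtype).map _) T.dataQ.z_mem T.dataQ.z_ne
    T.dataQ.z_central (fun x _ hx => T.dataQ.cent x hx) T.dataQ.comm (fun q hq => ?_) ?_).1
  · exact T.dataQ.sq hq
  · obtain ⟨i, hi, j, hj, hij⟩ := T.exists_noncomm
    refine ⟨_, T.mem_Jq.2 ⟨i, hi, rfl⟩, _, T.mem_Jq.2 ⟨j, hj, rfl⟩, fun h => T.z_ne_one_q ?_⟩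
    rw [← hij, commutatorElement_def, qa_mul (((T.J_a hi).mul_left (T.J_a hj)).mul_left (T.J_a hi).inv_left)
      (T.J_a hj).inv_left, qa_conj (T.J_a hi) (T.J_a hj), qa_inv (T.J_a hj)]
    exact h

theorem cardQ : Nat.card T.Jq = 512 := by
  let f : T.J →* Qa a := MonoidHom.mk' (fun j => qa a j) fun i j => qa_mul (T.J_a i.2) (T.J_a j.2)
  have hr : f.range = T.Jq := by
    refine SetLike.ext fun y => ⟨?_, fun h => ?_⟩
    · rintro ⟨j, e⟩
      exact T.mem_Jq.2 ⟨j, j.2, e⟩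
    · obtain ⟨j, hj, e⟩ := T.mem_Jq.1 h
      exact ⟨⟨j, hj⟩, e⟩
  have hk : Nat.card f.ker = 2 := by
    rw [Nat.card_eq_two_iff' (1 : f.ker)]
    refine ⟨⟨⟨a, T.a_mem⟩, (qa_eq_one T.a_sq (Commute.refl a)).2 (Or.inr rfl)⟩,
      fun h => T.a_ne (congrArg (fun x : f.ker => ((x : T.J) : G)) h), fun y hy => ?_⟩
    rcases (qa_eq_one T.a_sq (T.J_a (y : T.J).2)).1 y.2 with e | e
    · exact absurd (Subtype.ext (Subtype.ext e)) hy
    · exact Subtype.ext (Subtype.ext e)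
  have h := f.ker.card_mul_index
  rw [Subgroup.index_ker, hr, hk, T.card] at h
  omega

/-- The setting on the quotient, in the swapping case. -/
noncomputable def preQ (hs : ¬ T.central) : Pre (qa a z) where
  J := T.Jq
  φ := T.φq
  D := T.dataQ
  extra := T.extraQ
  card := T.cardQ
  φ_mul g h hg hh := by
    obtain ⟨x, hxa, rfl⟩ := qa_surj g
    obtain ⟨y, hya, rfl⟩ := qa_surj h
    have hx := T.mem_of_swap hs ((T.comm_qz hxa).1 hg) hxa
    have hy := T.mem_of_swap hs ((T.comm_qz hya).1 hh) hya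
    rw [← qa_mul hxa hya, T.φq_qa (mul_mem hx hy), T.φq_qa hx, T.φq_qa hy, T.φ_mul x hx y hy]
  φ_ker g hg := by
    obtain ⟨x, hxa, rfl⟩ := qa_surj g
    have hx := T.mem_of_swap hs ((T.comm_qz hxa).1 hg) hxa
    rw [T.φq_qa hx, T.φ_ker x hx, T.qa_mem_Jq hxa]
  φ_surj x := by
    obtain ⟨h, hh, rfl⟩ := T.φ_surj x
    exact ⟨qa a h, (T.comm_qz (T.lea h hh)).2 (T.le h hh), T.φq_qa hh⟩

/-- The setting on the quotient, in the central case. -/
noncomputable def extQ (hc : T.central) : Ext (qa a z) where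
  J := T.Jq
  H0 := T.H0q
  φ := T.φq
  D := T.dataQ
  extra := T.extraQ
  card := T.cardQ
  le h hh := by
    obtain ⟨x, hx, rfl⟩ := T.mem_H0q.1 hh
    exact (T.comm_qz (T.lea x hx)).2 (T.le x hx)
  J_le y hy := by
    obtain ⟨j, hj, rfl⟩ := T.mem_Jq.1 hy
    exact T.mem_H0q.2 ⟨j, T.J_le hj, rfl⟩
  norm g hg h hh := by
    obtain ⟨x, hxa, rfl⟩ := qa_surj g
    obtain ⟨y, hy, rfl⟩ := T.mem_H0q.1 hh
    rw [← qa_conj hxa (T.lea y hy)]
    exact T.mem_H0q.2 ⟨_, T.H0norm x ((T.comm_qz hxa).1 hg) y hy, rfl⟩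
  out_mul g h hg hh hgH hhH := by
    obtain ⟨x, hxa, rfl⟩ := qa_surj g
    obtain ⟨y, hya, rfl⟩ := qa_surj h
    rw [← qa_mul hxa hya, T.qa_mem_H0q (hxa.mul_left hya)]
    exact T.out_mul x y ((T.comm_qz hxa).1 hg) ((T.comm_qz hya).1 hh) (fun e => hgH ((T.qa_mem_H0q hxa).2 e))
      fun e => hhH ((T.qa_mem_H0q hya).2 e)
  φ_mul g hg h hh := by
    obtain ⟨x, hx, rfl⟩ := T.mem_H0q.1 hg
    obtain ⟨y, hy, rfl⟩ := T.mem_H0q.1 hh
    rw [← qa_mul (T.lea x hx) (T.lea y hy), T.φq_qa (mul_mem hx hy), T.φq_qa hx, T.φq_qa hy, T.φ_mul x hx y hy]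
  φ_ker g hg := by
    obtain ⟨x, hx, rfl⟩ := T.mem_H0q.1 hg
    rw [T.φq_qa hx, T.φ_ker x hx, T.qa_mem_Jq (T.lea x hx)]
  φ_surj u := by
    obtain ⟨h, hh, rfl⟩ := T.φ_surj u
    exact ⟨qa a h, T.mem_H0q.2 ⟨h, hh, rfl⟩, T.φq_qa hh⟩
  out g hg hfix := by
    obtain ⟨x, hxa, rfl⟩ := qa_surj g
    have hxz := (T.comm_qz hxa).1 hg
    refine (T.qa_mem_H0q hxa).2 (T.out x hxz fun k hk => ?_)
    have := hfix _ (T.mem_H0q.2 ⟨k, hk, rfl⟩)
    rw [← qa_conj hxa (T.lea k hk), T.φq_qa (T.H0norm x hxz k hk), T.φq_qa hk] at this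
    exact this

theorem extQ_out (hc : T.central) : ∃ x, Commute x (qa a z) ∧ x ∉ (T.extQ hc).H0 := by
  obtain ⟨x, hx, hxo⟩ := T.hout
  exact ⟨qa a x, (T.comm_qz (hc x hx)).2 hx, fun h => hxo ((T.qa_mem_H0q (hc x hx)).1 h)⟩

/-- Isolation in the quotient is isolation in the centraliser of a. -/
theorem iso_of_qa (h : ∀ y : Qa a, Commute (y * qa a z * y⁻¹) (qa a z) → y * qa a z * y⁻¹ = qa a z) :
    T.Iso := by
  intro x hxa hc
  have hm : Commute (x * z * x⁻¹) a := (hxa.mul_left T.az_comm.symm).mul_left hxa.inv_left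
  have e := h (qa a x) (by
    rw [← qa_conj hxa T.az_comm.symm]
    exact (T.comm_qz hm).2 hc.symm)
  have hx : Commute x z := (T.comm_qz hxa).1 (mul_inv_eq_iff_eq_mul.1 e)
  rw [hx.eq, mul_inv_cancel_right]

end Two

/-! ### Coordinates -/

/-- Coordinates of J modulo its centre. -/
structure Mod3 {G : Type u} [Group G] {z a : G} (T : Two z a) (V : Type v) [AddCommGroup V] where
  /-- The coordinates. -/
  vc : G → V
  /-- The module. -/
  rep : Rep V
  vc_mul : ∀ i ∈ T.J, ∀ j ∈ T.J, vc (i * j) = vc i + vc j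
  vc_surj : ∀ x : V, ∃ j ∈ T.J, vc j = x
  vc_ker : ∀ j ∈ T.J, vc j = 0 → T.isW j
  vc_z : vc z = 0
  vc_a : vc a = 0
  sq_iff : ∀ j ∈ T.J, (j * j = 1 ↔ rep.q (vc j) = 0)
  comm_iff : ∀ i ∈ T.J, ∀ j ∈ T.J, (Commute i j ↔ rep.β (vc i) (vc j) = 0)
  vc_conj : ∀ h ∈ T.H0, ∀ j ∈ T.J, vc (h * j * h⁻¹) = rep.act (T.φ h) (vc j)

namespace Two

variable {G : Type u} [Group G] {z a : G} (T : Two z a)

/-- Coordinates from a quotient setting. -/
noncomputable def mod3_of {L : Type u} [Group L] {z' : L} (P : Pre z') {V : Type v} [AddCommGroup V]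
    (M : Modl P V) (ι : G → L) (hmul : ∀ x ∈ T.H0, ∀ y ∈ T.H0, ι (x * y) = ι x * ι y) (hz : ι z = z')
    (ha : ι a = 1) (hJ : ∀ j ∈ T.J, ι j ∈ P.J) (hsurj : ∀ p ∈ P.J, ∃ j ∈ T.J, ι j = p)
    (hker : ∀ j ∈ T.J, ι j = 1 → T.isW j) (hcomm : ∀ h ∈ T.H0, Commute (ι h) z')
    (hφ : ∀ h ∈ T.H0, P.φ (ι h) = T.φ h) : Mod3 T V :=
  have h1 : ι 1 = 1 := by
    have := hmul 1 (one_mem _) 1 (one_mem _)
    rw [mul_one] at this
    exact mul_eq_left.1 this.symm
  have hinv : ∀ x ∈ T.H0, ι x⁻¹ = (ι x)⁻¹ := fun x hx =>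
    eq_inv_of_mul_eq_one_left (by rw [← hmul _ (inv_mem hx) _ hx, inv_mul_cancel, h1])
  have hz1 : z' ≠ 1 := P.D.z_ne
  { vc := fun x => M.vc (ι x)
    rep := M.rep
    vc_mul := fun i hi j hj => by rw [hmul i (T.J_le hi) j (T.J_le hj), M.vc_mul _ (hJ i hi) _ (hJ j hj)]
    vc_surj := fun x => by
      obtain ⟨p, hp, rfl⟩ := M.vc_surj x
      obtain ⟨j, hj, rfl⟩ := hsurj p hp
      exact ⟨j, hj, rfl⟩
    vc_ker := fun j hj e => by
      rcases M.vc_ker _ (hJ j hj) e with h | h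
      · exact hker j hj h
      · have := hker (j * z) (mul_mem hj T.z_mem) (by
          rw [hmul j (T.J_le hj) z (T.J_le T.z_mem), h, hz, P.sq])
        have h' := T.W_mul this T.W_z
        rwa [mul_assoc, T.z_sq, mul_one] at h'
    vc_z := by rw [hz]; exact M.vc_z
    vc_a := by rw [ha]; exact M.vc_one
    sq_iff := fun j hj => by
      rw [← M.sq_iff _ (hJ j hj), ← hmul j (T.J_le hj) j (T.J_le hj)]
      rcases T.sq j hj with e | e
      · rw [e]; exact iff_of_true rfl h1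
      · rw [e, hz]; exact iff_of_false T.z_ne hz1
    comm_iff := fun i hi j hj => by
      rw [← M.comm_iff _ (hJ i hi) _ (hJ j hj)]
      constructor
      · intro h
        show ι i * ι j = ι j * ι i
        rw [← hmul i (T.J_le hi) j (T.J_le hj), ← hmul j (T.J_le hj) i (T.J_le hi), h.eq]
      · intro h
        refine commutatorElement_eq_one_iff_mul_comm.1 ((T.comm i hi j hj).resolve_right fun e => hz1 ?_)
        rw [← hz, ← e, commutatorElement_def, hmul _ (mul_mem (mul_mem (T.J_le hi) (T.J_le hj)) (inv_mem (T.J_le hi)))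
          _ (inv_mem (T.J_le hj)), hmul _ (mul_mem (T.J_le hi) (T.J_le hj)) _ (inv_mem (T.J_le hi)),
          hmul i (T.J_le hi) j (T.J_le hj), hinv i (T.J_le hi), hinv j (T.J_le hj)]
        exact commutatorElement_eq_one_iff_mul_comm.2 h.eq
    vc_conj := fun h hh j hj => by
      rw [hmul _ (mul_mem hh (T.J_le hj)) _ (inv_mem hh), hmul h hh j (T.J_le hj), hinv h hh,
        M.vc_conj _ (hcomm h hh) _ (hJ j hj), hφ h hh] }

/-- Coordinates exist; in the reducible case z is isolated in the centraliser of a. -/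
theorem exists_mod3 [Finite G] :
    ∃ (V : Type u) (_ : AddCommGroup V) (M : Mod3 T V), M.rep.IsRed → T.Iso := by
  classical
  have hker : ∀ j ∈ T.J, qa a j = 1 → T.isW j := fun j hj e => by
    rcases (qa_eq_one T.a_sq (T.J_a hj)).1 e with h | h <;> rw [h]
    exacts [T.W_one, T.W_a]
  by_cases hc : T.central
  · obtain ⟨M, hM2, hHM, hMH, h1, hh1, hh1M⟩ := (T.extQ hc).exists_index_two (T.extQ_out hc)
    obtain ⟨V, iV, ⟨N⟩⟩ := ((T.extQ hc).toPre M hHM hMH).exists_modl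
    have hm : ∀ x ∈ T.H0, qa a x ∈ M := fun x hx => hHM (T.mem_H0q.2 ⟨x, hx, rfl⟩)
    let ι : G → M := fun x => if h : qa a x ∈ M then ⟨qa a x, h⟩ else 1
    have hι : ∀ x ∈ T.H0, (ι x : Qa a) = qa a x := fun x hx => by simp only [ι]; rw [dif_pos (hm x hx)]
    refine ⟨V, iV, T.mod3_of _ N ι (fun x hx y hy => Subtype.ext ?_) (Subtype.ext (hι z (T.J_le T.z_mem)))
      (Subtype.ext ?_) (fun j hj => ?_) (fun p hp => ?_) (fun j hj e => hker j hj ?_) (fun h hh => Subtype.ext ?_)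
      (fun h hh => ?_), fun hR => T.iso_of_qa fun y hy => ?_⟩
    · rw [Subgroup.coe_mul, hι _ (mul_mem hx hy), hι x hx, hι y hy, qa_mul (T.lea x hx) (T.lea y hy)]
    · rw [hι a (T.J_le T.a_mem), (qa_eq_one T.a_sq (Commute.refl a)).2 (Or.inr rfl)]
      rfl
    · show (ι j : Qa a) ∈ T.Jq
      rw [hι j (T.J_le hj)]
      exact T.mem_Jq.2 ⟨j, hj, rfl⟩
    · obtain ⟨j, hj, e⟩ := T.mem_Jq.1 (show (p : Qa a) ∈ T.Jq from hp)
      exact ⟨j, hj, Subtype.ext ((hι j (T.J_le hj)).trans e)⟩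
    · rw [← hι j (T.J_le hj), e]
      rfl
    · show (ι h : Qa a) * qa a z = qa a z * (ι h : Qa a)
      rw [hι h hh]
      exact (T.comm_qz (T.lea h hh)).2 (T.le h hh)
    · show T.φq (ι h : Qa a) = T.φ h
      rw [hι h hh, T.φq_qa hh]
    · have hzM : qa a z ∈ M := hm z (T.J_le T.z_mem)
      have key : ∀ w ∈ M, Commute (w * qa a z * w⁻¹) (qa a z) → w * qa a z * w⁻¹ = qa a z := fun w hw hcw =>
        congrArg Subtype.val (N.isolated_of_red hR ⟨w, hw⟩ (Subtype.ext hcw.eq))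
      by_cases hyM : y ∈ M
      · exact key y hyM hy
      · haveI := Subgroup.normal_of_index_eq_two hM2
        have hm' : y * h1 ∈ M := (Subgroup.mul_mem_iff_of_index_two hM2).2
          ⟨fun h => absurd h hyM, fun h => absurd h hh1M⟩
        have e : y * h1 * qa a z * (y * h1)⁻¹ = y * qa a z * y⁻¹ := by
          rw [mul_assoc y h1, hh1.eq]; group
        rw [← e] at hy ⊢
        exact key _ hm' hy
  · obtain ⟨V, iV, ⟨N⟩⟩ := (T.preQ hc).exists_modl
    refine ⟨V, iV, T.mod3_of _ N (qa a) (fun x hx y hy => qa_mul (T.lea x hx) (T.lea y hy)) rfl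
      ((qa_eq_one T.a_sq (Commute.refl a)).2 (Or.inr rfl)) (fun j hj => T.mem_Jq.2 ⟨j, hj, rfl⟩)
      (fun p hp => T.mem_Jq.1 hp) hker (fun h hh => (T.comm_qz (T.lea h hh)).2 (T.le h hh))
      (fun h hh => T.φq_qa hh), fun hR => T.iso_of_qa fun y hy => N.isolated_of_red hR y hy⟩

end Two

end Cfsg.Agent.U62Rec
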