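/-
The action of the centraliser on the module, and semilinearity on the natural module.

* `Rep.perp`, `Rep.card_perp`, `Rep.isotropic_card`, `Rep.hyper` : perpendiculars, fixed hyperplanes;
* `Mod3.T` : the action of the centraliser; `Mod3.triv_inner`, `Mod3.hyper` : trivial actions are inner;
* `Crd3 M` : natural coordinates; `Crd3.semilinear`, `Crd3.inner_of_linear`, `Crd3.anti_fix` : outer involutions
  fix at most sixteen vectors.
-/
import Cfsg.Agent.Lib.U62Rec.TwoMod

set_option autoImplicit false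

namespace Cfsg.Agent.U62Rec

open Cfsg.Agent.ThreeTransSU Cfsg.Agent.LargeExtraspecial
open scoped commutatorElement

universe u v

/-- The homomorphisms of an elementary abelian 2-group to the field of two elements. -/
theorem card_hom_two {M : Type*} [AddCommGroup M] [Finite M] (h2 : ∀ v : M, v + v = 0) :
    Nat.card (M →+ ZMod 2) = Nat.card M := by
  letI : Module (ZMod 2) M := AddCommGroup.zmodModule (n := 2) fun v => by rw [two_nsmul]; exact h2 v
  haveI : Module.Finite (ZMod 2) M := Module.Finite.of_finite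
  have e : Nat.card (M →+ ZMod 2) = Nat.card (Module.Dual (ZMod 2) M) := Nat.card_congr
    { toFun := fun f => f.toZModLinearMap 2
      invFun := fun f => f.toAddMonoidHom
      left_inv := fun _ => rfl
      right_inv := fun _ => rfl }
  rw [e, Module.natCard_eq_pow_finrank (K := ZMod 2), Module.natCard_eq_pow_finrank (K := ZMod 2) (V := M),
    Subspace.dual_finrank_eq]

namespace Rep

variable {V : Type v} [AddCommGroup V] (ρ : Rep V)

/-- The perpendicular. -/
def perp (S : AddSubgroup V) : AddSubgroup V where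
  carrier := {v | ∀ s ∈ S, ρ.β s v = 0}
  zero_mem' := fun s _ => ρ.bzero s
  add_mem' := fun {x y} hx hy s hs => by rw [ρ.baddr, hx s hs, hy s hs, add_zero]
  neg_mem' := fun {x} hx => by rw [ρ.neg_eq]; exact hx

theorem card_perp (S : AddSubgroup V) : Nat.card S * Nat.card (ρ.perp S) = 256 := by
  classical
  haveI := ρ.finite
  have hq2 : ∀ x : V ⧸ ρ.perp S, x + x = 0 := by
    rintro ⟨x⟩
    show ((x + x : V) : V ⧸ ρ.perp S) = 0
    rw [ρ.self]
    rfl
  haveI : Finite (V ⧸ ρ.perp S →+ ZMod 2) := Finite.of_injective _ DFunLike.coe_injective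
  haveI : Finite (S →+ ZMod 2) := Finite.of_injective _ DFunLike.coe_injective
  let row : V →+ (S →+ ZMod 2) :=
    AddMonoidHom.mk' (fun v => AddMonoidHom.mk' (fun s => ρ.β s v) fun a b => ρ.β_add _ _ _)
      fun a b => AddMonoidHom.ext fun s => ρ.baddr _ _ _
  let f : V ⧸ ρ.perp S →+ (S →+ ZMod 2) := QuotientAddGroup.lift _ row fun v hv =>
    AddMonoidHom.ext fun s => hv s s.2
  have hf : Function.Injective f := by
    refine (injective_iff_map_eq_zero f).2 ?_
    rintro ⟨v⟩ hv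
    exact (QuotientAddGroup.eq_zero_iff v).2 fun s hs => DFunLike.congr_fun hv ⟨s, hs⟩
  let col : S → (V ⧸ ρ.perp S →+ ZMod 2) := fun s =>
    QuotientAddGroup.lift _ (AddMonoidHom.mk' (fun v => ρ.β s v) fun a b => ρ.baddr _ _ _) fun v hv => hv s s.2
  have hc : Function.Injective col := fun a b h => Subtype.ext (ρ.eq_of_add (ρ.β_nondeg _ fun v => by
    have e : ρ.β a v = ρ.β b v := DFunLike.congr_fun h (v : V ⧸ ρ.perp S)
    rw [ρ.β_add, e]
    exact ZModModule.add_self _))
  have h1 := Nat.card_le_card_of_injective f hf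
  have h2 := Nat.card_le_card_of_injective col hc
  rw [card_hom_two fun s : S => Subtype.ext (ρ.self _)] at h1
  rw [card_hom_two hq2] at h2
  have h := AddSubgroup.card_eq_card_quotient_mul_card_addSubgroup (ρ.perp S)
  rw [ρ.card, le_antisymm h1 h2] at h
  exact h.symm

/-- A totally isotropic subgroup is small. -/
theorem isotropic_card (S : AddSubgroup V) (h : ∀ x ∈ S, ∀ y ∈ S, ρ.β x y = 0) : Nat.card S ≤ 16 := by
  haveI := ρ.finite
  have h1 := ρ.card_perp S
  have h2 := AddSubgroup.card_le_of_le (H := S) (K := ρ.perp S) fun x hx s hs => h s hs x hx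
  by_contra hlt
  have := Nat.mul_le_mul (show 17 ≤ Nat.card S by omega) (show 17 ≤ Nat.card (ρ.perp S) by omega)
  omega

theorem bself (v : V) : ρ.β v v = 0 := by
  have h := ρ.q_add v v
  rw [ρ.self, ρ.qzero, ZModModule.add_self, zero_add] at h
  exact h.symm

/-- An isometry fixing the perpendicular of a singular vector pointwise is trivial. -/
theorem hyper (f : V → V) (hadd : ∀ x y, f (x + y) = f x + f y) (hq : ∀ x, ρ.q (f x) = ρ.q x) {v0 : V}
    (hv : ρ.q v0 = 0) (hfix : ∀ u, ρ.β v0 u = 0 → f u = u) : ∀ w, f w = w := by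
  intro w
  by_cases hw : ρ.β v0 w = 0
  · exact hfix w hw
  replace hw := (two_cases _).resolve_left hw
  have hβ : ∀ x y, ρ.β (f x) (f y) = ρ.β x y := fun x y => by
    have h := ρ.q_add (f x) (f y)
    rw [← hadd, hq, hq, hq, ρ.q_add x y] at h
    exact (add_left_cancel h).symm
  set d := f w + w with hd
  have hdu : ∀ u, ρ.β v0 u = 0 → ρ.β d u = 0 := fun u hu => by
    have h := hβ w u
    rw [hfix u hu] at h
    rw [hd, ρ.β_add, h]
    exact ZModModule.add_self _
  have hcases : d = 0 ∨ d = v0 := by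
    rcases two_cases (ρ.β d w) with e | e
    · left
      refine ρ.β_nondeg d fun y => ?_
      rcases two_cases (ρ.β v0 y) with hy | hy
      · exact hdu y hy
      · have h := hdu (y + w) (by rw [ρ.baddr, hy, hw]; decide)
        rwa [ρ.baddr, e, add_zero] at h
    · right
      refine ρ.eq_of_add (ρ.β_nondeg _ fun y => ?_)
      rw [ρ.β_add]
      rcases two_cases (ρ.β v0 y) with hy | hy
      · rw [hdu y hy, hy, add_zero]
      · have h := hdu (y + w) (by rw [ρ.baddr, hy, hw]; decide)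
        rw [ρ.baddr, e] at h
        rw [hy]
        exact h
  rcases hcases with e | e
  · exact ρ.eq_of_add e
  · exfalso
    have hfw : f w = w + v0 := by rw [← e, hd, add_comm (f w) w, ← add_assoc, ρ.self, zero_add]
    have h := hq w
    rw [hfw, ρ.q_add, hv, add_zero, ρ.bsymm, hw] at h
    exact one_ne_zero (add_eq_left.1 h)

end Rep

namespace Mod3

variable {G : Type u} [Group G] {z a : G} {T : Two z a} {V : Type v} [AddCommGroup V] (M : Mod3 T V)

include M

theorem vc_one : M.vc 1 = 0 := by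
  have h := M.vc_mul 1 (one_mem _) 1 (one_mem _)
  rw [one_mul] at h
  exact h.trans (M.rep.self _)

theorem vc_inv {j : G} (hj : j ∈ T.J) : M.vc j⁻¹ = M.vc j := by
  have h := M.vc_mul _ (inv_mem hj) _ hj
  rw [inv_mul_cancel, M.vc_one] at h
  exact M.rep.eq_of_add h.symm

theorem vc_W {x : G} (hx : T.isW x) : M.vc x = 0 := by
  rcases hx with rfl | rfl | rfl | rfl
  · exact M.vc_one
  · exact M.vc_z
  · exact M.vc_a
  · rw [M.vc_mul a T.a_mem z T.z_mem, M.vc_a, M.vc_z, add_zero]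

theorem vc_eq {i j : G} (hi : i ∈ T.J) (hj : j ∈ T.J) (h : M.vc i = M.vc j) : T.isW (j⁻¹ * i) :=
  M.vc_ker _ (mul_mem (inv_mem hj) hi) (by rw [M.vc_mul _ (inv_mem hj) _ hi, M.vc_inv hj, h, M.rep.self])

theorem vc_ne_zero {j : G} (hj : j ∈ T.J) (h : ¬ T.isW j) : M.vc j ≠ 0 := fun e => h (M.vc_ker j hj e)

/-- The action of an element of the centraliser. -/
noncomputable def T' (x : G) (w : V) : V := M.vc (x * (M.vc_surj w).choose * x⁻¹)

variable {x y : G} (hx : Commute x z)
include hx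

theorem conj_W {w : G} (hw : T.isW w) : T.isW (x * w * x⁻¹) := by
  have ez : x * z * x⁻¹ = z := by rw [hx.eq, mul_inv_cancel_right]
  rcases hw with e | e | e | e
  · rw [e, mul_one, mul_inv_cancel]; exact T.W_one
  · rw [e, ez]; exact T.W_z
  · rw [e]
    rcases T.aconj x hx with h | h <;> rw [h]
    exacts [T.W_a, T.W_az]
  · rw [e, show x * (a * z) * x⁻¹ = x * a * x⁻¹ * (x * z * x⁻¹) by group, ez]
    refine T.W_mul ?_ T.W_z
    rcases T.aconj x hx with h | h <;> rw [h]
    exacts [T.W_a, T.W_az]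

theorem T_vc {j : G} (hj : j ∈ T.J) : M.T' x (M.vc j) = M.vc (x * j * x⁻¹) := by
  obtain ⟨hi, he⟩ := (M.vc_surj (M.vc j)).choose_spec
  rw [T']
  generalize (M.vc_surj (M.vc j)).choose = i at hi he
  have hw := M.conj_W hx (M.vc_eq hi hj he)
  have e : x * i * x⁻¹ = x * j * x⁻¹ * (x * (j⁻¹ * i) * x⁻¹) := by group
  rw [e, M.vc_mul _ (T.norm x hx j hj) _ (T.W_mem hw), M.vc_W hw, add_zero]

theorem T_add (a b : V) : M.T' x (a + b) = M.T' x a + M.T' x b := by
  obtain ⟨i, hi, rfl⟩ := M.vc_surj a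
  obtain ⟨j, hj, rfl⟩ := M.vc_surj b
  rw [← M.vc_mul i hi j hj, M.T_vc hx (mul_mem hi hj), M.T_vc hx hi, M.T_vc hx hj,
    ← M.vc_mul _ (T.norm x hx i hi) _ (T.norm x hx j hj)]
  congr 1
  group

theorem T_zero : M.T' x 0 = 0 := by
  have h := M.T_add hx 0 0
  rw [add_zero] at h
  exact left_eq_add.1 h

theorem T_q (w : V) : M.rep.q (M.T' x w) = M.rep.q w := by
  obtain ⟨j, hj, rfl⟩ := M.vc_surj w
  rw [M.T_vc hx hj]
  have hiff : x * j * x⁻¹ * (x * j * x⁻¹) = 1 ↔ j * j = 1 := by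
    rw [show x * j * x⁻¹ * (x * j * x⁻¹) = x * (j * j) * x⁻¹ by group, conj_eq_one_iff]
  have h1 := M.sq_iff j hj
  have h2 := M.sq_iff _ (T.norm x hx j hj)
  rw [hiff, h1] at h2
  rcases two_cases (M.rep.q (M.vc j)) with e | e
  · rw [e, h2.1 e]
  · rcases two_cases (M.rep.q (M.vc (x * j * x⁻¹))) with e' | e'
    · rw [h2.2 e'] at e
      exact absurd e zero_ne_one
    · rw [e, e']

theorem T_β (a b : V) : M.rep.β (M.T' x a) (M.T' x b) = M.rep.β a b := by
  have h := M.rep.q_add (M.T' x a) (M.T' x b)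
  rw [← M.T_add hx, M.T_q hx, M.T_q hx, M.T_q hx, M.rep.q_add a b] at h
  exact (add_left_cancel h).symm

theorem T_act {h : G} (hh : h ∈ T.H0) (w : V) :
    M.T' x (M.rep.act (T.φ h) w) = M.rep.act (T.φ (x * h * x⁻¹)) (M.T' x w) := by
  obtain ⟨j, hj, rfl⟩ := M.vc_surj w
  rw [← M.vc_conj h hh j hj, M.T_vc hx (T.norm h (T.le h hh) j hj), M.T_vc hx hj,
    ← M.vc_conj _ (T.H0norm x hx h hh) _ (T.norm x hx j hj)]
  congr 1
  group

theorem T_mul (hy : Commute y z) (w : V) : M.T' (x * y) w = M.T' x (M.T' y w) := by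
  obtain ⟨j, hj, rfl⟩ := M.vc_surj w
  rw [M.T_vc (hx.mul_left hy) hj, M.T_vc hy hj, M.T_vc hx (T.norm y hy j hj)]
  congr 1
  group

omit hx in
theorem T_of_mem {h : G} (hh : h ∈ T.H0) (w : V) : M.T' h w = M.rep.act (T.φ h) w := by
  obtain ⟨j, hj, rfl⟩ := M.vc_surj w
  rw [M.T_vc (T.le h hh) hj, M.vc_conj h hh j hj]

omit hx in
theorem T_J {j : G} (hj : j ∈ T.J) (w : V) : M.T' j w = w := by
  rw [M.T_of_mem (T.J_le hj), T.φ_J hj, M.rep.act_one]

omit hx in
theorem T_one (w : V) : M.T' 1 w = w := M.T_J (one_mem _) w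

theorem T_inv (w : V) : M.T' x⁻¹ (M.T' x w) = w := by
  rw [← M.T_mul hx.inv_left hx, inv_mul_cancel, M.T_one]

theorem T_inj : Function.Injective (M.T' x) := fun a b h => by
  rw [← M.T_inv hx a, h, M.T_inv hx]

theorem T_invol (h2 : x * x ∈ T.J) (w : V) : M.T' x (M.T' x w) = w := by
  rw [← M.T_mul hx hx, M.T_J h2]

/-- A trivial action is inner. -/
theorem triv_inner (h : ∀ w, M.T' x w = w) : x ∈ T.J := by
  have hxH : x ∈ T.H0 := T.out x hx fun k hk => by
    refine (inv_mul_eq_one.1 (M.rep.faithful _ fun u => ?_)).symm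
    have e := M.T_act hx hk u
    rw [h, h] at e
    rw [M.rep.act_mul, ← e, ← M.rep.act_mul, inv_mul_cancel, M.rep.act_one]
  exact (T.φ_ker x hxH).1 (M.rep.faithful _ fun w => by rw [← M.T_of_mem hxH, h])

/-- An element fixing the perpendicular of a singular vector lies in J. -/
theorem hyper {v0 : V} (hv : M.rep.q v0 = 0) (hfix : ∀ u, M.rep.β v0 u = 0 → M.T' x u = u) : x ∈ T.J :=
  M.triv_inner hx (M.rep.hyper _ (M.T_add hx) (M.T_q hx) hv hfix)

/-- Fixed vectors. -/
noncomputable def fix : AddSubgroup V where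
  carrier := {w | M.T' x w = w}
  zero_mem' := M.T_zero hx
  add_mem' := fun {a b} ha hb => by
    show M.T' x (a + b) = a + b
    rw [M.T_add hx, ha, hb]
  neg_mem' := fun {a} ha => by rw [M.rep.neg_eq]; exact ha

end Mod3

/-! ### The natural module -/

/-- Natural coordinates. -/
structure Crd3 {G : Type u} [Group G] {z a : G} {T : Two z a} {V : Type v} [AddCommGroup V] (M : Mod3 T V) where
  /-- The map onto the natural module. -/
  f : V → V4
  fb : Function.Bijective f
  fa : ∀ x y, f (x + y) = f x + f y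
  fc : ∀ a w, f (M.rep.act a w) = ThreeTransSU.act a (f w)
  fq : ∀ w, M.rep.q w = 0 ↔ hf (f w) (f w) = 0

namespace Two

variable {G : Type u} [Group G] {z a : G}

/-- Another identification of the image. -/
def twist (T : Two z a) (ψ : U4 ≃* U4) : Two z a where
  J := T.J
  H0 := T.H0
  φ h := ψ (T.φ h)
  z_ne := T.z_ne
  z_sq := T.z_sq
  a_sq := T.a_sq
  a_ne := T.a_ne
  a_nez := T.a_nez
  z_mem := T.z_mem
  a_mem := T.a_mem
  card := T.card
  J_le := T.J_le
  le := T.le
  lea := T.lea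
  cent := T.cent
  comm := T.comm
  sq := T.sq
  norm := T.norm
  H0norm := T.H0norm
  out_mul := T.out_mul
  φ_mul g hg h hh := by rw [T.φ_mul g hg h hh, map_mul]
  φ_ker h hh := by rw [← T.φ_ker h hh]; exact MulEquiv.map_eq_one_iff ψ
  φ_surj x := by
    obtain ⟨h, hh, e⟩ := T.φ_surj (ψ.symm x)
    exact ⟨h, hh, by rw [e, MulEquiv.apply_symm_apply]⟩
  out x hx h := T.out x hx fun k hk => ψ.injective (h k hk)
  hout := T.hout
  aconj := T.aconj

end Two

namespace Mod3

variable {G : Type u} [Group G] {z a : G} {T : Two z a} {V : Type v} [AddCommGroup V]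

/-- The same coordinates for a twisted map. -/
noncomputable def twist (M : Mod3 T V) (ψ : U4 ≃* U4) : Mod3 (T.twist ψ) V where
  vc := M.vc
  rep :=
    { act := fun a => M.rep.act (ψ.symm a)
      q := M.rep.q
      β := M.rep.β
      act_one := fun w => by rw [map_one]; exact M.rep.act_one w
      act_mul := fun a b w => by rw [map_mul]; exact M.rep.act_mul _ _ w
      self := M.rep.self
      q_add := M.rep.q_add
      β_add := M.rep.β_add
      β_nondeg := M.rep.β_nondeg
      q_act := fun a w => M.rep.q_act _ w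
      faithful := fun a h => ψ.symm.map_eq_one_iff.1 (M.rep.faithful _ h)
      card := M.rep.card }
  vc_mul := M.vc_mul
  vc_surj := M.vc_surj
  vc_ker := M.vc_ker
  vc_z := M.vc_z
  vc_a := M.vc_a
  sq_iff := M.sq_iff
  comm_iff := M.comm_iff
  vc_conj h hh j hj := by
    show _ = M.rep.act (ψ.symm (ψ (T.φ h))) (M.vc j)
    rw [MulEquiv.symm_apply_apply]
    exact M.vc_conj h hh j hj

/-- Natural coordinates exist in the natural case. -/
theorem exists_crd (M : Mod3 T V) (h : M.rep.IsNat) : ∃ ψ : U4 ≃* U4, Nonempty (Crd3 (M.twist ψ)) := by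
  obtain ⟨f, ψ, hb, ha, hc, hq⟩ := M.rep.exists_natural h
  refine ⟨ψ, ⟨⟨f, hb, ha, fun a w => ?_, hq⟩⟩⟩
  show f (M.rep.act (ψ.symm a) w) = _
  rw [hc, MulEquiv.apply_symm_apply]

end Mod3

/-- Fixed vectors of an antilinear map. -/
theorem anti_fix_card (f : V4 → V4) (hadd : ∀ u w, f (u + w) = f u + f w)
    (hanti : ∀ (c : K) (u : V4), f (c • u) = c ^ 2 • f u) : {u | f u = u}.ncard ≤ 16 := by
  rw [← Nat.card_coe_set_eq]
  set F : Set V4 := {u | f u = u}
  have hinj : Function.Injective (fun p : F × F => (p.1 : V4) + om • (p.2 : V4)) := by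
    rintro ⟨⟨a, ha⟩, ⟨b, hb⟩⟩ ⟨⟨a', ha'⟩, ⟨b', hb'⟩⟩ h
    have h : a + om • b = a' + om • b' := h
    have h' := congrArg f h
    rw [hadd, hadd, hanti, hanti, ha, ha', hb, hb'] at h'
    have e : b = b' := funext fun i => by
      have h1 := congrFun h i
      have h2 := congrFun h' i
      simp only [Pi.add_apply, Pi.smul_apply, smul_eq_mul] at h1 h2
      refine k_eq_of_add _ _ (k_sep (a i + a' i) _ ?_ ?_)
      · rw [mul_add, add_add_add_comm, h1]; exact k_add_self _
      · rw [mul_add, add_add_add_comm, h2]; exact k_add_self _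
    subst e
    exact Prod.ext (Subtype.ext (add_right_cancel h)) rfl
  have := Nat.card_le_card_of_injective _ hinj
  rw [Nat.card_prod, Nat.card_pi, Finset.prod_const, Finset.card_univ, Fintype.card_fin,
    Nat.card_eq_fintype_card (α := K), cardK] at this
  by_contra hlt
  have := Nat.mul_le_mul (show 17 ≤ Nat.card F by omega) (show 17 ≤ Nat.card F by omega)
  omega

namespace Crd3

variable {G : Type u} [Group G] {z a : G} {T : Two z a} {V : Type v} [AddCommGroup V] {M : Mod3 T V} (C : Crd3 M)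

/-- The coordinate vector. -/
def vec (j : G) : V4 := C.f (M.vc j)

/-- The action in coordinates. -/
noncomputable def T4 (x : G) (u : V4) : V4 := C.f (M.T' x ((Equiv.ofBijective C.f C.fb).symm u))

include C

theorem f_zero : C.f 0 = 0 := by
  have := C.fa 0 0
  rw [add_zero] at this
  exact left_eq_add.1 this

theorem vec_surj (x : V4) : ∃ j ∈ T.J, C.vec j = x := by
  obtain ⟨w, rfl⟩ := C.fb.2 x
  obtain ⟨j, hj, rfl⟩ := M.vc_surj w
  exact ⟨j, hj, rfl⟩

theorem vec_conj {h j : G} (hh : h ∈ T.H0) (hj : j ∈ T.J) :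
    C.vec (h * j * h⁻¹) = ThreeTransSU.act (T.φ h) (C.vec j) := by
  rw [vec, vec, M.vc_conj h hh j hj, C.fc]

theorem β_iff (a b : V) : M.rep.β a b = 0 ↔ B (C.f a) (C.f b) = 0 := by
  have hs' : ∀ x : V4, hf x x = 0 ∨ hf x x = 1 := fun x => k_cases _ ((herm cardK).self_fixed x)
  have hB : B (C.f a) (C.f b) = 0 ∨ B (C.f a) (C.f b) = 1 := k_cases _ (by
    have : ∀ t : K, (t + t ^ 2) ^ 2 = t + t ^ 2 := by decide +kernel
    exact this _)
  have hsum : hf (C.f (a + b)) (C.f (a + b)) = hf (C.f a) (C.f a) + hf (C.f b) (C.f b) + B (C.f a) (C.f b) := by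
    rw [C.fa]
    simp only [hl, hr, B, hs (C.f a) (C.f b)]
    ring
  have h1 := C.fq a
  have h2 := C.fq b
  have h3 := C.fq (a + b)
  rw [M.rep.q_add, hsum] at h3
  have h11 : (1 : K) + 1 = 0 := k_add_self 1
  have h11' : (1 : ZMod 2) + 1 = 0 := by decide
  rcases two_cases (M.rep.q a) with p | p <;> rcases two_cases (M.rep.q b) with r | r <;>
    rcases two_cases (M.rep.β a b) with s | s <;> rcases hs' (C.f a) with x | x <;>
    rcases hs' (C.f b) with y | y <;> rcases hB with w | w <;>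
    simp [p, r, s, x, y, w, h11, h11'] at h1 h2 h3 ⊢

theorem T4_f (x : G) (w : V) : C.T4 x (C.f w) = C.f (M.T' x w) := by
  rw [T4, Equiv.ofBijective_symm_apply_apply]

variable {x : G} (hx : Commute x z)
include hx

theorem T4_vec {j : G} (hj : j ∈ T.J) : C.T4 x (C.vec j) = C.vec (x * j * x⁻¹) := by
  rw [vec, C.T4_f, M.T_vc hx hj]
  rfl

theorem T4_add (a b : V4) : C.T4 x (a + b) = C.T4 x a + C.T4 x b := by
  obtain ⟨a, rfl⟩ := C.fb.2 a
  obtain ⟨b, rfl⟩ := C.fb.2 b
  rw [← C.fa, C.T4_f, C.T4_f, C.T4_f, M.T_add hx, C.fa]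

theorem T4_inv (u : V4) : C.T4 x⁻¹ (C.T4 x u) = u := by
  obtain ⟨w, rfl⟩ := C.fb.2 u
  rw [C.T4_f, C.T4_f, M.T_inv hx]

theorem T4_inv' (u : V4) : C.T4 x (C.T4 x⁻¹ u) = u := by
  have := C.T4_inv hx.inv_left u
  rwa [inv_inv] at this

theorem T4_inj : Function.Injective (C.T4 x) := fun a b h => by
  rw [← C.T4_inv hx a, h, C.T4_inv hx]

theorem T4_zero : C.T4 x 0 = 0 := by
  have h := C.T4_add hx 0 0
  rw [add_zero] at h
  exact left_eq_add.1 h

theorem T4_B (a b : V4) : B (C.T4 x a) (C.T4 x b) = 0 ↔ B a b = 0 := by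
  obtain ⟨a, rfl⟩ := C.fb.2 a
  obtain ⟨b, rfl⟩ := C.fb.2 b
  rw [C.T4_f, C.T4_f, ← C.β_iff, ← C.β_iff, M.T_β hx]

theorem T4_act {h : G} (hh : h ∈ T.H0) (u : V4) :
    C.T4 x (ThreeTransSU.act (T.φ h) u) = ThreeTransSU.act (T.φ (x * h * x⁻¹)) (C.T4 x u) := by
  obtain ⟨w, rfl⟩ := C.fb.2 u
  rw [← C.fc, C.T4_f, C.T4_f, ← C.fc, M.T_act hx hh]

/-- Isotropic lines go to lines. -/
theorem line {p : V4} (hp : Iso p) (d : K) : ∃ c : K, C.T4 x (d • p) = c • C.T4 x p := by
  obtain ⟨h, hh, hφ⟩ := T.φ_surj (t4 p)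
  set k' := T.φ (x * h * x⁻¹)
  have key : ∀ u, C.T4 x (hf u p • p) = R k' (C.T4 x u) := fun u => by
    have h1 := C.T4_act hx hh u
    rw [hφ, act_tv cardK hp.2, C.T4_add hx, act_eq_add k' (C.T4 x u)] at h1
    exact add_left_cancel h1
  obtain ⟨u0, hu0⟩ := exists_hf_one cardK hp.1
  have hTp : C.T4 x p = R k' (C.T4 x u0) := by rw [← key, hu0, one_smul]
  have hne : C.T4 x p ≠ 0 := fun e => hp.1 (C.T4_inj hx (e.trans (C.T4_zero hx).symm))
  have hd : ∀ c : K, ∃ d : K, C.T4 x (d • p) = c • C.T4 x p := fun c => by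
    refine ⟨hf (C.T4 x⁻¹ (c • C.T4 x u0)) p, ?_⟩
    rw [key, C.T4_inv' hx, R_smul, hTp]
  choose e he using hd
  have hinj : Function.Injective e := fun a b h => by
    have := he a
    rw [h, he b] at this
    exact (smul_left_injective K hne this).symm
  obtain ⟨c, rfl⟩ := (Finite.injective_iff_surjective.1 hinj) d
  exact ⟨c, he c⟩

theorem line_tau {p : V4} (hp : Iso p) : (∀ d : K, C.T4 x (d • p) = d • C.T4 x p) ∨
    ∀ d : K, C.T4 x (d • p) = d ^ 2 • C.T4 x p := by
  choose t ht using fun d => C.line hx hp d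
  have hne : C.T4 x p ≠ 0 := fun e => hp.1 (C.T4_inj hx (e.trans (C.T4_zero hx).symm))
  have hinj := smul_left_injective K hne
  rcases k_tau t (fun a b => hinj (by
      show t (a + b) • C.T4 x p = (t a + t b) • C.T4 x p
      rw [← ht, add_smul, add_smul, C.T4_add hx, ← ht, ← ht]))
    (hinj (by show t 1 • C.T4 x p = (1 : K) • C.T4 x p; rw [← ht, one_smul, one_smul]))
    (fun a ha => by
      have := ht a
      rw [ha, zero_smul, ← C.T4_zero hx] at this
      exact (smul_eq_zero.1 (C.T4_inj hx this)).resolve_right hp.1) with h | h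
  · exact Or.inl fun d => by rw [ht, h]
  · exact Or.inr fun d => by rw [ht, h]

theorem tau_pair {p q : V4} (hpq : OrthPair p q) {τ τ' : K → K} (hτ : ∀ d, C.T4 x (d • p) = τ d • C.T4 x p)
    (hτ' : ∀ d, C.T4 x (d • q) = τ' d • C.T4 x q) (d : K) : τ d = τ' d := by
  have hsum : Iso (p + q) := ⟨fun e => hpq.2.2.2 1 (by rw [one_smul]; exact (veq e).symm), by
    simp only [hl, hr, hpq.1.2, hpq.2.1.2, hpq.2.2.1, hs0 hpq.2.2.1, add_zero]⟩
  obtain ⟨c, hc⟩ := C.line hx hsum d
  rw [smul_add, C.T4_add hx, C.T4_add hx, hτ, hτ', smul_add] at hc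
  have hli : LinearIndependent K ![C.T4 x p, C.T4 x q] := by
    refine (LinearIndependent.pair_iff' fun e => hpq.1.1 (C.T4_inj hx (e.trans (C.T4_zero hx).symm))).2 fun a e => ?_
    have hd : ∀ c : K, ∃ d : K, τ d = c := by
      have hinj : Function.Injective τ := fun a b h => by
        have h1 := hτ a
        rw [h, ← hτ b] at h1
        exact smul_left_injective K hpq.1.1 (C.T4_inj hx h1)
      exact fun c => (Finite.injective_iff_surjective.1 hinj) c
    obtain ⟨b, rfl⟩ := hd a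
    rw [← hτ] at e
    exact hpq.2.2.2 b (C.T4_inj hx e).symm
  have h0 := Fintype.linearIndependent_iff.1 hli ![τ d + c, τ' d + c] (by
    rw [Fin.sum_univ_two]
    simp only [Matrix.cons_val_zero, Matrix.cons_val_one, add_smul]
    rw [add_add_add_comm, hc]
    exact vv _)
  exact (k_eq_of_add _ _ (h0 0)).trans (k_eq_of_add _ _ (h0 1)).symm

/-- Elements of the centraliser act semilinearly. -/
theorem semilinear : (∀ (c : K) (u : V4), C.T4 x (c • u) = c • C.T4 x u) ∨
    ∀ (c : K) (u : V4), C.T4 x (c • u) = c ^ 2 • C.T4 x u := by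
  obtain ⟨q, f, g, hfr⟩ := exists_frame_one (p := p₀) std_pair.1
  set p := p₀
  have hpq : OrthPair p q := ⟨hfr.iso_p, hfr.iso_q, hfr.pq, fun c e => by
    have := congrArg (fun y => hf y g) e
    simp only [sl, hfr.qg, hfr.pg, mul_zero] at this
    exact one_ne_zero this⟩
  have hfg : OrthPair f g := ⟨hfr.iso_f, hfr.iso_g, hfr.fg, fun c e => by
    have := congrArg (fun y => hf y q) e
    simp only [sl, hfr.gq, hfr.fq, mul_zero] at this
    exact one_ne_zero this⟩
  have hpg : OrthPair p g := ⟨hfr.iso_p, hfr.iso_g, hfr.pg, fun c e => by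
    have := congrArg (fun y => hf y q) e
    simp only [sl, hfr.gq, hfr.pq, mul_zero] at this
    exact one_ne_zero this⟩
  obtain ⟨τ, hτ, hτm⟩ : ∃ τ : K → K, ((∀ d, τ d = d) ∨ ∀ d, τ d = d ^ 2) ∧
      ∀ d, C.T4 x (d • p) = τ d • C.T4 x p := by
    rcases C.line_tau hx hfr.iso_p with h | h
    exacts [⟨id, Or.inl fun _ => rfl, h⟩, ⟨fun d => d ^ 2, Or.inr fun _ => rfl, h⟩]
  have hmul : ∀ a b, τ (a * b) = τ a * τ b := fun a b => by
    rcases hτ with h | h <;> rw [h, h, h]
    exact mul_pow a b 2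
  have any : ∀ r : V4, Iso r → ∃ τ' : K → K, ∀ d, C.T4 x (d • r) = τ' d • C.T4 x r := fun r hr => by
    rcases C.line_tau hx hr with h | h
    exacts [⟨id, h⟩, ⟨fun d => d ^ 2, h⟩]
  obtain ⟨τq, hq⟩ := any q hfr.iso_q
  obtain ⟨τg, hg⟩ := any g hfr.iso_g
  obtain ⟨τf, hf'⟩ := any f hfr.iso_f
  have eq' : ∀ d, τq d = τ d := fun d => (C.tau_pair hx hpq hτm hq d).symm
  have eg : ∀ d, τg d = τ d := fun d => (C.tau_pair hx hpg hτm hg d).symm
  have ef : ∀ d, τf d = τ d := fun d => (C.tau_pair hx hfg hf' hg d).trans (eg d)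
  have hall : ∀ c u, C.T4 x (c • u) = τ c • C.T4 x u := by
    intro c u
    rw [hfr.expand u]
    simp only [smul_add, smul_smul, C.T4_add hx, hτm, hq, hg, hf', eq', eg, ef, hmul]
  rcases hτ with h | h
  · exact Or.inl fun c u => by rw [hall, h]
  · exact Or.inr fun c u => by rw [hall, h]

/-- A linearly acting element with square in J is inner. -/
theorem inner_of_linear (h2 : x * x ∈ T.J) (hlin : ∀ (c : K) (u : V4), C.T4 x (c • u) = c • C.T4 x u) :
    x ∈ T.H0 := by
  classical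
  have hiso : ∀ u w, hf (C.T4 x u) (C.T4 x w) = hf u w := fun u w => by
    refine k_lin _ _ (C.T4_B hx u w) ?_
    have := C.T4_B hx (om • u) w
    rw [hlin, B, B, sl, sl] at this
    exact this
  let L : V4 →ₗ[K] V4 :=
    { toFun := C.T4 x
      map_add' := C.T4_add hx
      map_smul' := fun c u => by rw [RingHom.id_apply]; exact hlin c u }
  set m := LinearMap.toMatrix' L with hm
  have hmv : ∀ u, Matrix.mulVec m u = C.T4 x u := fun u => LinearMap.toMatrix'_mulVec L u
  have hinv : ∀ u, C.T4 x (C.T4 x u) = u := fun u => by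
    obtain ⟨w, rfl⟩ := C.fb.2 u
    rw [C.T4_f, C.T4_f, M.T_invol hx h2]
  have hdet : m.det = 1 := by
    have hmm : m * m = 1 := by
      refine Matrix.toLin'.injective (LinearMap.ext fun u => ?_)
      rw [Matrix.toLin'_apply, Matrix.toLin'_apply, ← Matrix.mulVec_mulVec, hmv, hmv, hinv, Matrix.one_mulVec]
    have h1 := congrArg Matrix.det hmm
    rw [Matrix.det_mul, Matrix.det_one] at h1
    have : ∀ d : K, d * d = 1 → d = 1 := by decide +kernel
    exact this _ h1
  let k : U4 := ⟨⟨m, hdet⟩, fun u w => by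
    show hf (Matrix.mulVec m u) (Matrix.mulVec m w) = hf u w
    rw [hmv, hmv, hiso]⟩
  have hk : ∀ u, ThreeTransSU.act k u = C.T4 x u := hmv
  obtain ⟨h, hh, hφ⟩ := T.φ_surj k
  have hconj : ∀ n ∈ T.H0, T.φ (x * n * x⁻¹) = k * T.φ n * k⁻¹ := fun n hn => by
    refine act_ext fun u => ?_
    have h1 := C.T4_act hx hn (C.T4 x⁻¹ u)
    rw [C.T4_inv' hx] at h1
    rw [← h1, act_mul, act_mul, ← hk]
    congr 2
    apply C.T4_inj hx
    rw [C.T4_inv' hx, ← hk, act_act_inv]
  have hh' := T.le h hh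
  have hxh : h⁻¹ * x ∈ T.H0 := T.out _ (hh'.inv_left.mul_left hx) fun n hn => by
    have hm' := T.H0norm x hx n hn
    rw [show h⁻¹ * x * n * (h⁻¹ * x)⁻¹ = h⁻¹ * (x * n * x⁻¹) * (h⁻¹)⁻¹ by group,
      T.φ_conj (inv_mem hh) hm', hconj n hn, T.φ_inv hh, hφ]
    group
  have := T.H0.mul_mem hh hxh
  rwa [mul_inv_cancel_left] at this

/-- An outer element with square in J fixes at most sixteen vectors. -/
theorem anti_fix [Finite G] (h2 : x * x ∈ T.J) (hxo : x ∉ T.H0) : Nat.card (M.fix hx) ≤ 16 := by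
  haveI := M.rep.finite
  have hanti := (C.semilinear hx).resolve_left fun h => hxo (C.inner_of_linear hx h2 h)
  refine le_trans ?_ (anti_fix_card (C.T4 x) (C.T4_add hx) hanti)
  rw [← Nat.card_coe_set_eq]
  exact Nat.card_le_card_of_injective (fun u : M.fix hx => (⟨C.f u, by
    show C.T4 x (C.f u) = C.f u
    rw [C.T4_f, show M.T' x (u : V) = u from u.2]⟩ : {u | C.T4 x u = u})) fun a b h =>
    Subtype.ext (C.fb.1 (congrArg Subtype.val h))

end Crd3

end Cfsg.Agent.U62Rec
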