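/-
Groups of order sixteen acting on the eight-dimensional orthogonal space.

* `Rep.perp_perp` : perpendiculars are involutive;
* `Rep.small_group` : such a group fixing a subgroup of order at least 32 pointwise is abelian.
-/
import Cfsg.Agent.Lib.U62Rec.TwoAct

set_option autoImplicit false

namespace Cfsg.Agent.U62Rec

open Cfsg.Agent.ThreeTransSU

universe v w

theorem pow_two_dvd_six {n : ℕ} (h1 : n ∣ 6) (h2 : n ∣ 16) : n ≤ 2 :=
  Nat.le_of_dvd two_pos (by simpa using Nat.dvd_gcd h1 h2)

namespace Rep

variable {V : Type v} [AddCommGroup V] (ρ : Rep V)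

theorem perp_perp (S : AddSubgroup V) : ρ.perp (ρ.perp S) = S := by
  haveI := ρ.finite
  refine (AddSubgroup.eq_of_le_of_card_ge (fun s hs v hv => by rw [ρ.bsymm]; exact hv s hs) ?_).symm
  have h1 := ρ.card_perp S
  have h2 := ρ.card_perp (ρ.perp S)
  rw [mul_comm] at h1
  exact le_of_eq (Nat.eq_of_mul_eq_mul_left Nat.card_pos (h2.trans h1.symm))

theorem perp_anti {S S' : AddSubgroup V} (h : S ≤ S') : ρ.perp S' ≤ ρ.perp S := fun _ hv s hs => hv s (h hs)

variable {P : Type w} [Group P] (T : P → V → V)
  (hmul : ∀ p q v, T (p * q) v = T p (T q v)) (hadd : ∀ p x y, T p (x + y) = T p x + T p y)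
  (hq : ∀ p v, ρ.q (T p v) = ρ.q v) (hinj : ∀ p, (∀ v, T p v = v) → p = 1)
  (F : AddSubgroup V) (hfix : ∀ p, ∀ f ∈ F, T p f = f)
include hmul hadd hq hinj hfix

/-- A group of order sixteen of isometries fixing a subgroup of order at least 32 pointwise is abelian. -/
theorem small_group [Finite P] (hP : Nat.card P = 16) (hF : 32 ≤ Nat.card F) : ∀ x y : P, x * y = y * x := by
  classical
  haveI := ρ.finite
  have T1 : ∀ v, T 1 v = v := fun v => by
    have h := hmul 1 1 v
    rw [one_mul] at h
    have hi : Function.Injective (T 1) := by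
      refine Finite.injective_iff_surjective.2 fun y => ?_
      by_contra hy
      have hb : ∀ x y, ρ.β (T 1 x) (T 1 y) = ρ.β x y := fun x y => by
        have h := ρ.q_add (T 1 x) (T 1 y)
        rw [← hadd, hq, hq, hq, ρ.q_add x y] at h
        exact (add_left_cancel h).symm
      have hinj' : Function.Injective (T 1) := fun a b e => ρ.eq_of_add (ρ.β_nondeg _ fun u => by
        rw [← hb, hadd, e, ρ.self, ρ.bzero'])
      exact hy ((Finite.injective_iff_surjective.1 hinj') y)
    exact (hi h.symm)
  have Tinv : ∀ p v, T p (T p⁻¹ v) = v := fun p v => by rw [← hmul, mul_inv_cancel, T1]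
  have hβ : ∀ p x y, ρ.β (T p x) (T p y) = ρ.β x y := fun p x y => by
    have h := ρ.q_add (T p x) (T p y)
    rw [← hadd, hq, hq, hq, ρ.q_add x y] at h
    exact (add_left_cancel h).symm
  have T0 : ∀ p, T p 0 = 0 := fun p => hfix p 0 F.zero_mem
  set N := ρ.perp F with hN
  have hNcard : Nat.card N ≤ 8 := by
    have := ρ.card_perp F
    rw [← hN] at this
    by_contra hlt
    have := Nat.mul_le_mul hF (show 9 ≤ Nat.card N by omega)
    omega
  have hperpN : ρ.perp N = F := ρ.perp_perp F
  have hD : ∀ p v, T p v + v ∈ N := fun p v f hf => by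
    have h := hβ p f v
    rw [hfix p f hf] at h
    rw [ρ.baddr, h]
    exact ZModModule.add_self _
  have hTN : ∀ p, ∀ n ∈ N, T p n ∈ N := fun p n hn => by
    have := add_mem (hD p n) hn
    rwa [add_assoc, ρ.self, add_zero] at this
  intro x y
  by_cases hiso : ∀ m ∈ N, ∀ n ∈ N, ρ.β m n = 0
  · -- everything fixes the differences
    have hle : N ≤ F := by
      rw [← hperpN]
      exact fun n hn m hm => hiso m hm n hn
    have hTD : ∀ p q v, T p (T q v) = v + (T p v + v) + (T q v + v) := fun p q v => by
      have e : T q v = v + (T q v + v) := by rw [add_comm (T q v), ← add_assoc, ρ.self, zero_add]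
      conv_lhs => rw [e, hadd, hfix p _ (hle (hD q v))]
      rw [add_comm (T p v) v, ← add_assoc v v, ρ.self, zero_add]
    have h : ∀ v, T (x * y) v = T (y * x) v := fun v => by rw [hmul, hmul, hTD, hTD]; abel
    have h1 : ∀ v, T ((y * x)⁻¹ * (x * y)) v = v := fun v => by
      rw [hmul, h, ← hmul, inv_mul_cancel, T1]
    exact (inv_mul_eq_one.1 (hinj _ h1)).symm
  exfalso
  push Not at hiso
  obtain ⟨b, hb, c, hc, hbc⟩ := hiso
  replace hbc := (two_cases _).resolve_left hbc
  have hcb : ρ.β c b = 1 := by rw [ρ.bsymm]; exact hbc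
  -- the classes modulo the radical
  let cls : V → ZMod 2 × ZMod 2 := fun n => (ρ.β n b, ρ.β n c)
  let rep : ZMod 2 × ZMod 2 → V := fun x => (if x.1 = 1 then c else 0) + if x.2 = 1 then b else 0
  have hrepN : ∀ x, rep x ∈ N := fun x => by
    simp only [rep]
    refine add_mem ?_ ?_ <;> split_ifs <;> first | exact hb | exact hc | exact zero_mem _
  have hclsadd : ∀ m n, cls (m + n) = cls m + cls n := fun m n => Prod.ext (ρ.β_add m n b) (ρ.β_add m n c)
  have hclsrep : ∀ x, cls (rep x) = x := by
    intro x
    obtain ⟨i, j⟩ := x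
    rcases two_cases i with rfl | rfl <;> rcases two_cases j with rfl | rfl <;>
      simp [cls, rep, ρ.β_add, ρ.bself, hbc, hcb, ρ.bzero']
  set Rad : AddSubgroup V := N ⊓ F with hRad
  -- the radical has at most two elements
  have hRad2 : Nat.card Rad ≤ 2 := by
    let i : (ZMod 2 × ZMod 2) × Rad → N := fun p => ⟨rep p.1 + p.2, add_mem (hrepN _) p.2.2.1⟩
    have hcls0 : ∀ r : Rad, cls r = 0 := fun r =>
      Prod.ext (hb r r.2.2) (hc r r.2.2)
    have hi : Function.Injective i := by
      rintro ⟨x, r⟩ ⟨y, r'⟩ e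
      have e' : rep x + r = rep y + r' := congrArg Subtype.val e
      have e2 := congrArg cls e'
      rw [hclsadd (rep x), hclsadd (rep y), hclsrep, hclsrep, hcls0, hcls0, add_zero, add_zero] at e2
      subst e2
      exact Prod.ext rfl (Subtype.ext (add_left_cancel e'))
    have h := Nat.card_le_card_of_injective i hi
    rw [Nat.card_prod, Nat.card_prod, Nat.card_eq_fintype_card (α := ZMod 2), ZMod.card] at h
    omega
  have hker : ∀ n ∈ N, cls n = 0 → n ∈ Rad := fun n hn h => by
    refine ⟨hn, ?_⟩
    have key : ∀ m ∈ N, cls m = 0 → ∀ m' ∈ N, cls m' = 0 → ρ.β m m' = 0 := by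
      intro m hm h1 m' hm' h2
      by_contra hne
      replace hne := (two_cases _).resolve_left hne
      let l : ZMod 2 × ZMod 2 → ZMod 2 × ZMod 2 → N := fun p r =>
        ⟨rep p + ((if r.1 = 1 then m' else 0) + if r.2 = 1 then m else 0), add_mem (hrepN p) (add_mem
          (by split_ifs; exacts [hm', zero_mem _]) (by split_ifs; exacts [hm, zero_mem _]))⟩
      have hl : Function.Injective fun p : (ZMod 2 × ZMod 2) × (ZMod 2 × ZMod 2) => l p.1 p.2 := by
        rintro ⟨p, r⟩ ⟨p', r'⟩ e
        have e' : rep p + ((if r.1 = 1 then m' else 0) + if r.2 = 1 then m else 0) =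
            rep p' + ((if r'.1 = 1 then m' else 0) + if r'.2 = 1 then m else 0) := congrArg Subtype.val e
        simp only [cls, Prod.ext_iff, Prod.fst_zero, Prod.snd_zero] at h1 h2
        have z1 : ∀ r : ZMod 2 × ZMod 2, cls ((if r.1 = 1 then m' else 0) + if r.2 = 1 then m else 0) = 0 := by
          intro r
          refine Prod.ext ?_ ?_ <;> show ρ.β _ _ = 0 <;> split_ifs <;>
            simp [ρ.β_add, h1, h2, ρ.bzero']
        have ep := congrArg cls e'
        rw [hclsadd (rep p), hclsadd (rep p'), hclsrep, hclsrep, z1, z1, add_zero, add_zero] at ep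
        subst ep
        have er := add_left_cancel e'
        have hm'm : ρ.β m' m = 1 := by rw [ρ.bsymm]; exact hne
        have r1 := congrArg (fun v => ρ.β v m) er
        have r2 := congrArg (fun v => ρ.β v m') er
        obtain ⟨i1, i2⟩ := r
        obtain ⟨j1, j2⟩ := r'
        rcases two_cases i1 with rfl | rfl <;> rcases two_cases i2 with rfl | rfl <;>
          rcases two_cases j1 with rfl | rfl <;> rcases two_cases j2 with rfl | rfl <;>
          simp [ρ.β_add, ρ.bself, hne, hm'm, ρ.bzero'] at r1 r2 ⊢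
      have h := Nat.card_le_card_of_injective _ hl
      rw [Nat.card_prod, Nat.card_prod, Nat.card_eq_fintype_card (α := ZMod 2), ZMod.card] at h
      omega
    rw [← hperpN]
    intro m hm
    set m0 := m + rep (cls m) with hm0
    have h0 : cls m0 = 0 := by
      rw [hm0, hclsadd, hclsrep]
      exact Prod.ext (ZModModule.add_self _) (ZModModule.add_self _)
    have e1 : ρ.β m0 n = 0 := key m0 (add_mem hm (hrepN _)) h0 n hn h
    have e2 : ρ.β (rep (cls m)) n = 0 := by
      simp only [cls, Prod.ext_iff, Prod.fst_zero, Prod.snd_zero] at h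
      simp only [rep]
      split_ifs <;> simp [ρ.β_add, ρ.bzero', ρ.bsymm b n, ρ.bsymm c n, h]
    rw [hm0, ρ.β_add, e2, add_zero] at e1
    exact e1
  have hclsT : ∀ p, ∀ n ∈ N, ∀ n' ∈ N, cls n = cls n' → cls (T p n) = cls (T p n') := by
    intro p n hn n' hn' e
    have hr : n + n' ∈ Rad := hker _ (add_mem hn hn') (by
      rw [hclsadd, e]; exact Prod.ext (ZModModule.add_self _) (ZModModule.add_self _))
    have e1 : T p n + T p n' = n + n' := by rw [← hadd, hfix p _ hr.2]
    have e2 : cls (T p n) + cls (T p n') = 0 := by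
      rw [← hclsadd, e1, hclsadd, e]; exact Prod.ext (ZModModule.add_self _) (ZModModule.add_self _)
    exact Prod.ext (by
      have := congrArg Prod.fst e2
      rcases two_cases (cls (T p n)).1 with u | u <;> rcases two_cases (cls (T p n')).1 with u' | u' <;>
        simp [u, u'] at this ⊢) (by
      have := congrArg Prod.snd e2
      rcases two_cases (cls (T p n)).2 with u | u <;> rcases two_cases (cls (T p n')).2 with u' | u' <;>
        simp [u, u'] at this ⊢)
  let σ : P → ZMod 2 × ZMod 2 → ZMod 2 × ZMod 2 := fun p x => cls (T p (rep x))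
  have hσmul : ∀ p q x, σ (p * q) x = σ p (σ q x) := fun p q x => by
    show cls (T (p * q) (rep x)) = cls (T p (rep (cls (T q (rep x)))))
    rw [hmul]
    exact hclsT p _ (hTN q _ (hrepN x)) _ (hrepN _) (hclsrep _).symm
  have hσ1 : ∀ x, σ 1 x = x := fun x => by show cls (T 1 (rep x)) = x; rw [T1, hclsrep]
  have hσ0 : ∀ p, σ p 0 = 0 := fun p => by
    show cls (T p (rep 0)) = 0
    have e : rep 0 = 0 := by simp [rep]
    rw [e, T0]
    exact Prod.ext (ρ.bzero' b) (ρ.bzero' c)
  have hσne : ∀ p (x : {x : ZMod 2 × ZMod 2 // x ≠ 0}), σ p x ≠ 0 := fun p x e => x.2 (by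
    have := congrArg (σ p⁻¹) e
    rwa [← hσmul, inv_mul_cancel, hσ1, hσ0] at this)
  let ψ : P →* Equiv.Perm {x : ZMod 2 × ZMod 2 // x ≠ 0} := MonoidHom.mk' (fun p =>
    { toFun := fun x => ⟨σ p x, hσne p x⟩
      invFun := fun x => ⟨σ p⁻¹ x, hσne p⁻¹ x⟩
      left_inv := fun x => Subtype.ext (by show σ p⁻¹ (σ p x) = x; rw [← hσmul, inv_mul_cancel, hσ1])
      right_inv := fun x => Subtype.ext (by show σ p (σ p⁻¹ x) = x; rw [← hσmul, mul_inv_cancel, hσ1]) })
    fun p q => Equiv.ext fun x => Subtype.ext (hσmul p q x)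
  have hrange : Nat.card ψ.range ≤ 2 := by
    refine pow_two_dvd_six ?_ (hP ▸ Subgroup.card_range_dvd ψ)
    have h6 : Nat.card (Equiv.Perm {x : ZMod 2 × ZMod 2 // x ≠ 0}) = 6 := by
      rw [Nat.card_perm, Nat.card_eq_fintype_card]; decide
    exact h6 ▸ Subgroup.card_subgroup_dvd_card _
  -- the kernel
  have hbr : rep (0, 1) = b := by simp [rep]
  have hcr : rep (1, 0) = c := by simp [rep]
  have hkbc : ∀ p : ψ.ker, T p b + b ∈ Rad ∧ T p c + c ∈ Rad := by
    intro p
    have h1 : ∀ x, x ≠ 0 → σ p x = x := fun x hx => by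
      have h2 := congrArg (fun π : Equiv.Perm {x : ZMod 2 × ZMod 2 // x ≠ 0} => (π ⟨x, hx⟩ : ZMod 2 × ZMod 2))
        (MonoidHom.mem_ker.1 p.2)
      exact h2
    have hb' := h1 (0, 1) (by simp)
    have hc' := h1 (1, 0) (by simp)
    simp only [σ, hbr, hcr] at hb' hc'
    refine ⟨hker _ (hD p b) ?_, hker _ (hD p c) ?_⟩
    · rw [hclsadd, hb', ← hbr, hclsrep]; decide
    · rw [hclsadd, hc', ← hcr, hclsrep]; decide
  -- elements fixing b and c fix the perpendicular of the radical
  let X : P → AddSubgroup V := fun p =>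
    { carrier := {v | T p v = v}
      zero_mem' := T0 p
      add_mem' := fun {a a'} ha ha' => by show T p (a + a') = a + a'; rw [hadd, ha, ha']
      neg_mem' := fun {a} ha => by rw [ρ.neg_eq]; exact ha }
  have hperpX : ∀ p, T p b = b → T p c = c → ρ.perp (X p) ≤ Rad := by
    intro p pb pc v hv
    have hFX : F ≤ X p := fun f hf => hfix p f hf
    have hvN : v ∈ N := ρ.perp_anti hFX hv
    refine hker v hvN (Prod.ext ?_ ?_)
    · show ρ.β v b = 0
      rw [ρ.bsymm]; exact hv b pb
    · show ρ.β v c = 0
      rw [ρ.bsymm]; exact hv c pc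
  have hXmem : ∀ p, T p b = b → T p c = c → ∀ v, (∀ r ∈ Rad, ρ.β r v = 0) → T p v = v := by
    intro p pb pc v hv
    have : v ∈ ρ.perp (ρ.perp (X p)) := fun r hr => hv r (hperpX p pb pc hr)
    rw [ρ.perp_perp] at this
    exact this
  have hTT : ∀ p q v, T p v = T q v → T (p⁻¹ * q) v = v := fun p q v e => by
    rw [hmul, ← e, ← hmul, inv_mul_cancel, T1]
  have hkc : Nat.card ψ.ker ≤ 4 := by
    by_cases hu : ∃ u ∈ Rad, ρ.q u = 1
    · obtain ⟨u, hu, hqu⟩ := hu
      have hu0 : u ≠ 0 := fun e => zero_ne_one (ρ.qzero.symm.trans (e ▸ hqu))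
      have hR : ∀ r ∈ Rad, r = 0 ∨ r = u := by
        intro r hr
        by_contra hne
        push Not at hne
        have hinj3 : Function.Injective (![⟨0, zero_mem _⟩, ⟨u, hu⟩, ⟨r, hr⟩] : Fin 3 → Rad) := by
          intro i j e
          fin_cases i <;> fin_cases j <;> simp [Subtype.ext_iff, hu0, hne.1, hne.2, hu0.symm, hne.1.symm, hne.2.symm] at e ⊢
        have := Nat.card_le_card_of_injective _ hinj3
        rw [Nat.card_eq_fintype_card, Fintype.card_fin] at this
        omega
      have hfixb : ∀ p : ψ.ker, T p b = b ∧ T p c = c := by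
        intro p
        have : ∀ n ∈ N, T p n + n ∈ Rad → T p n = n := by
          intro n hn hm
          rcases hR _ hm with e | e
          · exact ρ.eq_of_add e
          · exfalso
            have e' : T p n = n + u := by rw [← e, add_comm (T (p : P) n) n, ← add_assoc, ρ.self, zero_add]
            have h := hq p n
            rw [e', ρ.q_add, hqu, ρ.bsymm n u, show ρ.β u n = 0 from by rw [ρ.bsymm]; exact hu.2 |> fun hF => (hperpN.symm ▸ hF : u ∈ ρ.perp N) n hn,
              add_zero] at h
            exact one_ne_zero (add_eq_left.1 h)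
        exact ⟨this b hb (hkbc p).1, this c hc (hkbc p).2⟩
      obtain ⟨v0, hv0⟩ : ∃ v0, ρ.β u v0 = 1 := by
        by_contra hn
        push Not at hn
        exact hu0 (ρ.β_nondeg u fun y => (two_cases _).resolve_right (hn y))
      have hval : ∀ p : ψ.ker, T p v0 + v0 ∈ Rad := fun p => by
        refine hperpX p (hfixb p).1 (hfixb p).2 fun x hx => ?_
        have h := hβ p x v0
        rw [show T p x = x from hx] at h
        rw [ρ.baddr, h]
        exact ZModModule.add_self _
      let i : ψ.ker → Rad := fun p => ⟨_, hval p⟩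
      have hi : Function.Injective i := fun p p' e => by
        have e' : T p v0 = T p' v0 := add_right_cancel (congrArg Subtype.val e)
        have hX : ∀ v, T ((p : P)⁻¹ * p') v = v := by
          intro v
          have hp := hTT p p'
          have hlow : ∀ v, ρ.β u v = 0 → T ((p : P)⁻¹ * p') v = v := fun v hv => by
            refine hXmem _ (hp b ((hfixb p).1.trans (hfixb p').1.symm)) (hp c ((hfixb p).2.trans (hfixb p').2.symm)) v
              fun r hr => ?_
            rcases hR r hr with rfl | rfl
            exacts [ρ.bzero' v, hv]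
          rcases two_cases (ρ.β u v) with hv | hv
          · exact hlow v hv
          · have h := hlow (v + v0) (by rw [ρ.baddr, hv, hv0]; decide)
            rw [hadd, hp v0 e'] at h
            exact add_right_cancel h
        exact Subtype.ext (inv_mul_eq_one.1 (hinj _ hX))
      have := Nat.card_le_card_of_injective i hi
      omega
    · push Not at hu
      let i : ψ.ker → Rad × Rad := fun p => (⟨_, (hkbc p).1⟩, ⟨_, (hkbc p).2⟩)
      have hi : Function.Injective i := fun p p' e => by
        obtain ⟨e1, e2⟩ := Prod.mk.inj e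
        have hp := hTT p p'
        have pb := hp b (add_right_cancel (congrArg Subtype.val e1))
        have pc := hp c (add_right_cancel (congrArg Subtype.val e2))
        refine Subtype.ext (inv_mul_eq_one.1 (hinj _ ?_))
        by_cases hne : ∃ r ∈ Rad, r ≠ 0
        · obtain ⟨r, hr, hr0⟩ := hne
          refine ρ.hyper _ (hadd _) (hq _) ((two_cases _).resolve_right (hu r hr)) fun v hv => ?_
          refine hXmem _ pb pc v fun r' hr' => ?_
          by_cases h0 : r' = 0
          · rw [h0]; exact ρ.bzero' v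
          · have : r' = r := by
              by_contra hne'
              have hinj3 : Function.Injective (![⟨0, zero_mem _⟩, ⟨r, hr⟩, ⟨r', hr'⟩] : Fin 3 → Rad) := by
                intro i j e
                fin_cases i <;> fin_cases j <;> simp [Subtype.ext_iff, hr0, h0, hne', Ne.symm hr0, Ne.symm h0, Ne.symm hne'] at e ⊢
              have := Nat.card_le_card_of_injective _ hinj3
              rw [Nat.card_eq_fintype_card, Fintype.card_fin] at this
              omega
            rw [this]; exact hv
        · push Not at hne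
          exact fun v => hXmem _ pb pc v fun r hr => by rw [hne r hr]; exact ρ.bzero' v
      have h := Nat.card_le_card_of_injective i hi
      rw [Nat.card_prod] at h
      calc Nat.card ψ.ker ≤ Nat.card Rad * Nat.card Rad := h
        _ ≤ 2 * 2 := Nat.mul_le_mul hRad2 hRad2
  have h := ψ.ker.card_mul_index
  rw [Subgroup.index_ker, hP] at h
  have := Nat.mul_le_mul hkc hrange
  omega

end Rep

end Cfsg.Agent.U62Rec
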