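/-
Fixed vectors of the standard involutions on the eight-dimensional module.

* `Rep.fix_absorbed` : a subgroup absorbing differences, the fixed part and one torus shift contains them;
* `Rep.fix_big` : in the reducible case an involution fixes at least 64 vectors;
* `Rep.fixV_conj` : conjugate elements fix equally many vectors.
-/
import Cfsg.Agent.Lib.U62Rec.TwoGroup

set_option autoImplicit false

namespace Cfsg.Agent.U62Rec

open Cfsg.Agent.ThreeTransSU

universe v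

theorem sw_a' : sw 0 1 (1, 1, 2) = (1, 1, 2) ∧ sw 2 3 (1, 1, 2) = (1, 1, 2) := by decide +kernel
theorem dot_a' : (∀ k, lev k = 0 → dot ((1, 1, 2) : A3) (chr k) ≠ 0) ∧ dot ((1, 1, 2) : A3) (chr (mid 0)) ≠ 0 := by
  decide +kernel

namespace Rep

variable {V : Type v} [AddCommGroup V] (ρ : Rep V)

theorem D_fixV {k : U4} (hk : k * k = 1) (v : V) : ρ.act k (ρ.D k v) = ρ.D k v := by
  rw [D, map_add, ← ρ.act_mul, hk, ρ.act_one, add_comm]

theorem prj_ta (k : Fin 13) (b : A3) (v : V) : ρ.ta b (ρ.prj k v) = ρ.prj k (ρ.ta b v) := by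
  rw [prj, prj, map_add, map_sum, ρ.ta_eT, ρ.eT_comm]
  congr 1
  exact Finset.sum_congr rfl fun a _ => by rw [← ρ.ta_add, ← ρ.ta_add, add_comm]

theorem nat_ta_fix (hN : ρ.IsNat) {a : A3} (ha : ∀ k, lev k = 0 → dot a (chr k) ≠ 0) {v : V}
    (h : ρ.ta a v = v) : v = 0 := by
  rw [← ρ.sum_prj v, hN.2.2 _ (ρ.eT_mem v), add_zero]
  refine Finset.sum_eq_zero fun k _ => ?_
  by_cases hk : lev k = 0
  · exact ρ.W_moved (ρ.prj_mem k v) (ha k hk) (by rw [ρ.prj_ta, h])
  · exact hN.2.1 k hk _ (ρ.prj_mem k v)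

theorem std_comm {k : U4} (hstd : k = t4 (w2 0 1 0) ∨ k = s₂) (v : V) :
    ρ.act k (ρ.ta (1, 1, 2) v) = ρ.ta (1, 1, 2) (ρ.act k v) := by
  rcases hstd with rfl | rfl
  · rw [ρ.act_tor_comm (fun a => w2_tor (by decide) 0 a), sw_a'.1]
  · rw [ρ.s₂_comm, sw_a'.2, sw_a'.1]

theorem std_sq {k : U4} (hstd : k = t4 (w2 0 1 0) ∨ k = s₂) : k * k = 1 := by
  rcases hstd with rfl | rfl
  exacts [U62Cover.tv_sq cardK (iso_w2 0 1 0 (by decide)), s₂_sq]

theorem std_fix_zero (hR : ρ.IsRed) {k : U4} (hstd : k = t4 (w2 0 1 0) ∨ k = s₂) {w : V}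
    (hw : w ∈ ρ.W (mid 0)) : ρ.act k w = w := by
  rcases hstd with rfl | rfl
  exacts [ρ.t_fix_zero hR hw, ρ.s₂_fix_zero hR hw]

theorem s₂_prj (i : Fin 3) (v : V) : ρ.act s₂ (ρ.prj (mid i) v) = ρ.prj (mid i) (ρ.act s₂ v) := by
  rw [s₂, ρ.act_mul, ρ.act_mul, ρ.w2_prj (i := 2) (j := 3) (by decide) 0,
    ρ.w2_prj (i := 0) (j := 1) (by decide) 0]
  congr 1
  obtain ⟨a1, a2, a3, a4, a5, a6, -, b0, b1, b2⟩ := swap_mid
  fin_cases i <;> simp [b0, b1, b2, a1, a2, a3]

/-- A fixed vector of a part on which the exchange inverts the torus is a difference. -/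
theorem s₂_fix_D (i : Fin 3) (hi : i ≠ 0) {p : V} (hp : p ∈ ρ.W (mid i)) (hf : ρ.act s₂ p = p) :
    ρ.D s₂ (ρ.ta (ak (mid i)) p) = p := by
  set a := ak (mid i)
  have e : ρ.act s₂ (ρ.ta a p) = ρ.ta (a + a) p := by
    rw [ρ.s₂_comm, hf]
    exact ρ.W_ta hp (by rw [dot_flip i hi, dot_add, dot_ak]; decide)
  rw [D, e]
  have hv : p + ρ.ta a p + ρ.ta (a + a) p = 0 := by
    refine ρ.W_moved (add_mem (add_mem hp (ρ.ta_mem hp _)) (ρ.ta_mem hp _)) (a := a) (by rw [dot_ak]; decide) ?_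
    rw [map_add, map_add, ← ρ.ta_add, ← ρ.ta_add,
      show ρ.ta (a + (a + a)) p = p from by
        rw [ρ.W_ta hp (a := a + (a + a)) (b := 0) (by
          show dot (ak (mid i) + (ak (mid i) + ak (mid i))) _ = _
          rw [dot_add, dot_add, dot_ak]
          simp [dot, e_zero]
          decide),
          ρ.ta_zero]]
    abel
  rw [add_assoc] at hv
  exact (ρ.eq_of_add hv).symm

/-- A subgroup absorbing differences, the fixed part and a torus shift contains the fixed vectors. -/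
theorem fix_absorbed {k : U4} (hstd : k = t4 (w2 0 1 0) ∨ k = s₂) (X : AddSubgroup V)
    (hD : ∀ w, ρ.D k w ∈ X) (hy : ∀ u, ρ.act k u = u → u + ρ.ta (1, 1, 2) u ∈ X)
    (hfT : ρ.IsRed → ∀ u ∈ ρ.fixT, u ∈ X) : ∀ u, ρ.act k u = u → u ∈ X := by
  classical
  haveI := ρ.finite
  rcases ρ.dichotomy with hN | hR
  · let F : ρ.fixV k → ρ.fixV k := fun u => ⟨u + ρ.ta (1, 1, 2) u, add_mem u.2 (by
      show ρ.act k _ = _
      rw [ρ.std_comm hstd, show ρ.act k (u : V) = u from u.2])⟩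
    have hFi : Function.Injective F := fun x y h => by
      have e : (x : V) + ρ.ta (1, 1, 2) x = y + ρ.ta (1, 1, 2) y := congrArg Subtype.val h
      refine Subtype.ext (ρ.eq_of_add (ρ.nat_ta_fix hN dot_a'.1 ?_))
      rw [map_add]
      refine ρ.eq_of_add ?_
      rw [add_add_add_comm, add_comm (ρ.ta _ (x : V)), add_comm (ρ.ta _ (y : V)), e]
      exact ρ.self _
    intro u hu
    obtain ⟨v, hv⟩ := (Finite.injective_iff_surjective.1 hFi) ⟨u, hu⟩
    rw [← show (v : V) + ρ.ta (1, 1, 2) v = u from congrArg Subtype.val hv]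
    exact hy _ v.2
  · intro u hu
    -- the first part
    have h0 : ∀ w ∈ ρ.W (mid 0), w ∈ X := by
      intro w hw
      let F : ρ.W (mid 0) → ρ.W (mid 0) := fun u => ⟨u + ρ.ta (1, 1, 2) u, add_mem u.2 (ρ.ta_mem u.2 _)⟩
      have hFi : Function.Injective F := fun x y h => by
        have e : (x : V) + ρ.ta (1, 1, 2) x = y + ρ.ta (1, 1, 2) y := congrArg Subtype.val h
        refine Subtype.ext (ρ.eq_of_add (ρ.W_moved (add_mem x.2 y.2) dot_a'.2 ?_))
        rw [map_add]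
        refine ρ.eq_of_add ?_
        rw [add_add_add_comm, add_comm (ρ.ta _ (x : V)), add_comm (ρ.ta _ (y : V)), e]
        exact ρ.self _
      obtain ⟨v, hv⟩ := (Finite.injective_iff_surjective.1 hFi) ⟨w, hw⟩
      rw [← show (v : V) + ρ.ta (1, 1, 2) v = w from congrArg Subtype.val hv]
      exact hy _ (ρ.std_fix_zero hR hstd v.2)
    have h12 : ρ.prj (mid 1) u + ρ.prj (mid 2) u ∈ X := by
      rcases hstd with rfl | rfl
      · have h := ρ.w2_prj (i := 0) (j := 1) (by decide) 0 (mid 1) u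
        rw [swap_mid.1, hu] at h
        rw [← h]
        exact hD _
      · have hfx : ∀ i, ρ.act s₂ (ρ.prj (mid i) u) = ρ.prj (mid i) u := fun i => by rw [ρ.s₂_prj, hu]
        rw [← ρ.s₂_fix_D 1 (by decide) (ρ.prj_mem _ u) (hfx 1), ← ρ.s₂_fix_D 2 (by decide) (ρ.prj_mem _ u) (hfx 2)]
        exact add_mem (hD _) (hD _)
    rw [← ρ.sum_mid hR u, add_assoc (ρ.prj (mid 0) u)]
    exact add_mem (add_mem (h0 _ (ρ.prj_mem _ u)) h12) (hfT hR _ (ρ.eT_mem u))

theorem fixV_conj (g k : U4) : Nat.card (ρ.fixV (g * k * g⁻¹)) = Nat.card (ρ.fixV k) := by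
  have h1 : ∀ u ∈ ρ.fixV k, ρ.act g u ∈ ρ.fixV (g * k * g⁻¹) := fun u hu => by
    show ρ.act (g * k * g⁻¹) _ = _
    rw [← ρ.act_mul, inv_mul_cancel_right, ρ.act_mul, show ρ.act k u = u from hu]
  have h2 : ∀ u ∈ ρ.fixV (g * k * g⁻¹), ρ.act g⁻¹ u ∈ ρ.fixV k := fun u hu => by
    show ρ.act k _ = _
    conv_rhs => rw [← show ρ.act (g * k * g⁻¹) u = u from hu]
    rw [← ρ.act_mul, ← ρ.act_mul]
    congr 2
    group
  exact (Nat.card_congr
    { toFun := fun u : ρ.fixV k => (⟨ρ.act g u, h1 u u.2⟩ : ρ.fixV (g * k * g⁻¹))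
      invFun := fun u => ⟨ρ.act g⁻¹ u, h2 u u.2⟩
      left_inv := fun u => Subtype.ext (by
        show ρ.act g⁻¹ (ρ.act g u) = u
        rw [← ρ.act_mul, inv_mul_cancel, ρ.act_one])
      right_inv := fun u => Subtype.ext (by
        show ρ.act g (ρ.act g⁻¹ u) = u
        rw [← ρ.act_mul, mul_inv_cancel, ρ.act_one]) }).symm

/-- The differences. -/
noncomputable def Dhom (k : U4) : V →+ V := AddMonoidHom.mk' (ρ.D k) (ρ.D_add k)

theorem card_fixV_range (k : U4) : Nat.card (ρ.fixV k) * Nat.card (ρ.Dhom k).range = 256 := by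
  have h := AddSubgroup.card_eq_card_quotient_mul_card_addSubgroup (ρ.Dhom k).ker
  rw [ρ.card, Nat.card_congr (QuotientAddGroup.quotientKerEquivRange (ρ.Dhom k)).toEquiv, mul_comm] at h
  rw [h]
  congr 1
  refine Nat.card_congr (Equiv.subtypeEquivRight fun v => ?_)
  show ρ.act k v = v ↔ ρ.D k v = 0
  constructor
  · intro e; rw [D, e, ρ.self]
  · intro e; exact (ρ.eq_of_add e).symm

/-- In the reducible case an involution fixes at least 64 vectors. -/
theorem fix_big (hR : ρ.IsRed) {k : U4} (hk : k * k = 1) (hne : k ≠ 1) : 64 ≤ Nat.card (ρ.fixV k) := by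
  classical
  haveI := ρ.finite
  obtain ⟨g, hg⟩ := invol_conj hk hne
  rw [← ρ.fixV_conj g k]
  generalize g * k * g⁻¹ = k' at hg
  suffices h : Nat.card (ρ.Dhom k').range ≤ 4 by
    have := ρ.card_fixV_range k'
    by_contra hlt
    have := Nat.mul_le_mul (show Nat.card (ρ.fixV k') ≤ 63 by omega) h
    omega
  have h0 : ∀ v, ρ.D k' (ρ.prj (mid 0) v) = 0 := fun v => by
    rw [D, ρ.std_fix_zero hR hg (ρ.prj_mem _ v), ρ.self]
  have hu : ∀ v, ρ.D k' (ρ.eT v) = 0 := fun v => by rw [D, ρ.fix_act hR (ρ.eT_mem v), ρ.self]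
  have hsplit : ∀ v, ρ.D k' v = ρ.D k' (ρ.prj (mid 1) v) + ρ.D k' (ρ.prj (mid 2) v) := fun v => by
    conv_lhs => rw [← ρ.sum_mid hR v]
    rw [ρ.D_add, ρ.D_add, ρ.D_add, h0, hu, zero_add, add_zero]
  rcases hg with rfl | rfl
  · set t := t4 (w2 0 1 0) with ht
    have hm : ∀ v, ρ.act t (ρ.prj (mid 2) v) ∈ ρ.W (mid 1) := fun v => by
      have := ρ.w2_W (i := 0) (j := 1) (by decide) 0 (ρ.prj_mem (mid 2) v)
      rwa [swap_mid.2.1] at this
    have hDt : ∀ x, ρ.D t (ρ.act t x) = ρ.D t x := fun x => by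
      rw [D, D, ← ρ.act_mul, std_sq (Or.inl rfl), ρ.act_one, add_comm]
    refine le_trans (Nat.card_le_card_of_surjective
      (fun w : ρ.W (mid 1) => (⟨ρ.D t w, w, rfl⟩ : (ρ.Dhom t).range)) ?_) (le_of_eq (hR.2.1 _ (lev_mid 1)))
    rintro ⟨_, v, rfl⟩
    refine ⟨⟨_, add_mem (ρ.prj_mem (mid 1) v) (hm v)⟩, Subtype.ext ?_⟩
    show ρ.D t (_ + _) = ρ.D t v
    rw [ρ.D_add, hDt, ← hsplit]
  · have hF : ∀ i : Fin 3, i ≠ 0 → Nat.card {w : ρ.W (mid i) // ρ.act s₂ (w : V) = w} ≤ 2 := by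
      intro i hi
      by_cases hex : ∃ w : ρ.W (mid i), ρ.act s₂ (w : V) = w ∧ (w : V) ≠ 0
      · obtain ⟨⟨w, hw⟩, hwf, hw0⟩ := hex
        set a := ak (mid i)
        have hmove : ∀ b : A3, dot b (chr (mid i)) ≠ 0 → ρ.act s₂ (ρ.ta b w) ≠ ρ.ta b w := fun b hb e => by
          rw [ρ.s₂_comm, show ρ.act s₂ w = w from hwf] at e
          rw [ρ.W_ta hw (a := sw 0 1 (sw 2 3 b)) (b := b + b) (by
            rw [dot_flip i hi, dot_add]; generalize dot b (chr (mid i)) = r; revert r; decide), ρ.ta_add] at e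
          exact hw0 (ρ.W_moved hw hb (ρ.act_injective _ e))
        have hall : ∀ y : {w : ρ.W (mid i) // ρ.act s₂ (w : V) = w}, (y.1 : V) = 0 ∨ (y.1 : V) = w := by
          rintro ⟨⟨y, hy⟩, hyf⟩
          rcases ρ.W_four hR i hw hw0 hy with e | e | e | e
          · exact Or.inl e
          · exact Or.inr e
          · subst e; exact absurd hyf (hmove a (by rw [dot_ak]; decide))
          · rw [← ρ.ta_add] at e
            subst e; exact absurd hyf (hmove (a + a) (by rw [dot_add, dot_ak]; decide))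
        refine le_trans (Nat.card_le_card_of_injective (fun y => decide ((y.1 : V) = 0)) fun x y e => ?_)
          (le_of_eq (by rw [Nat.card_eq_fintype_card, Fintype.card_bool]))
        simp only [decide_eq_decide] at e
        rcases hall x with ex | ex <;> rcases hall y with ey | ey
        · exact Subtype.ext (Subtype.ext (ex.trans ey.symm))
        · exact absurd (ey.symm.trans (e.1 ex)) hw0
        · exact absurd (ex.symm.trans (e.2 ey)) hw0
        · exact Subtype.ext (Subtype.ext (ex.trans ey.symm))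
      · push Not at hex
        haveI : Subsingleton {w : ρ.W (mid i) // ρ.act s₂ (w : V) = w} :=
          ⟨fun x y => Subtype.ext (Subtype.ext ((hex x.1 x.2).trans (hex y.1 y.2).symm))⟩
        exact le_trans (Finite.card_le_one_iff_subsingleton.2 inferInstance) (by norm_num)
    let f : {w : ρ.W (mid 1) // ρ.act s₂ (w : V) = w} × {w : ρ.W (mid 2) // ρ.act s₂ (w : V) = w} →
        {d : V // ∃ p1 p2, d = p1 + p2} := fun p => ⟨(p.1.1 : V) + p.2.1, _, _, rfl⟩
    have hf : ∀ d : (ρ.Dhom s₂).range, ∃ p, (f p : V) = d := by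
      rintro ⟨_, v, rfl⟩
      exact ⟨(⟨⟨_, add_mem (ρ.prj_mem (mid 1) v) (ρ.s₂_W 1 (ρ.prj_mem _ v))⟩, ρ.D_fixV s₂_sq _⟩,
        ⟨⟨_, add_mem (ρ.prj_mem (mid 2) v) (ρ.s₂_W 2 (ρ.prj_mem _ v))⟩, ρ.D_fixV s₂_sq _⟩), (hsplit v).symm⟩
    choose pre hpre using hf
    refine le_trans (Nat.card_le_card_of_injective pre fun x y e => Subtype.ext (by rw [← hpre x, e, hpre y])) ?_
    rw [Nat.card_prod]
    calc _ ≤ 2 * 2 := Nat.mul_le_mul (hF 1 (by decide)) (hF 2 (by decide))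

end Rep

end Cfsg.Agent.U62Rec
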