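/-
The elements of J commuting with an inner involution, and triples of conjugates of the central involutions
with equal centralisers in J.

* `Two.fixT_comm` : commutators of the inner part with the fixed part lie in ⟨z⟩;
* `Mod3.cbar`, `Mod3.cbar_index` : their image has index at most two in the fixed vectors;
* `Tri T g` : the triple; `Tri.exists_inner` : one member is inner.
-/
import Cfsg.Agent.Lib.U62Rec.TwoFix

set_option autoImplicit false

namespace Cfsg.Agent.U62Rec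

open Cfsg.Agent.ThreeTransSU Cfsg.Agent.LargeExtraspecial
open scoped commutatorElement

universe u v

namespace Two

variable {G : Type u} [Group G] {z a : G} (T : Two z a)

include T

theorem W_sq {x : G} (hx : T.isW x) : x * x = 1 := by
  rcases hx with rfl | rfl | rfl | rfl
  exacts [mul_one 1, T.z_sq, T.a_sq, T.az_sq]

/-- The component outside ⟨z⟩ is a homomorphism. -/
theorem W_half {x y : G} (hx : T.isW x) (hy : T.isW y) :
    (x * y = 1 ∨ x * y = z) ↔ ((x = 1 ∨ x = z) ↔ (y = 1 ∨ y = z)) := by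
  have h1 : z * a = a * z := T.az_comm.symm.eq
  have h2 : z * (a * z) = a := by rw [← mul_assoc, h1, mul_assoc, T.z_sq, mul_one]
  have h3 : a * (a * z) = z := by rw [← mul_assoc, T.a_sq, one_mul]
  have h4 : a * z * z = a := by rw [mul_assoc, T.z_sq, mul_one]
  have h5 : a * z * a = z := by rw [mul_assoc, h1, h3]
  have := T.a_ne
  have := T.a_nez
  have := T.az_ne
  have := T.az_nez
  rcases hx with rfl | rfl | rfl | rfl <;> rcases hy with rfl | rfl | rfl | rfl <;>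
    simp [*, T.z_sq, T.a_sq, T.az_sq]

theorem W_conj {h x : G} (hh : h ∈ T.H0) (hx : T.isW x) : h * x * h⁻¹ = x := by
  rw [(T.W_comm hx hh).eq, mul_inv_cancel_right]

theorem comm_W {i j : G} (hi : i ∈ T.J) (hj : j ∈ T.J) : ⁅i, j⁆ = 1 ∨ ⁅i, j⁆ = z := T.comm i hi j hj

/-- Commutators of the inner part with a lift of a fixed vector lie in ⟨z⟩. -/
theorem fixT_comm {V : Type v} [AddCommGroup V] (M : Mod3 T V) {q : G} (hq : q ∈ T.J)
    (hf : ∀ b : U4, M.rep.act b (M.vc q) = M.vc q) {h : G} (hh : h ∈ T.H0) : ⁅h, q⁆ = 1 ∨ ⁅h, q⁆ = z := by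
  classical
  have hW : ∀ k ∈ T.H0, T.isW ⁅k, q⁆ := fun k hk => by
    refine M.vc_ker _ (mul_mem (T.norm k (T.le k hk) q hq) (inv_mem hq)) ?_
    rw [commutatorElement_def, M.vc_mul _ (T.norm k (T.le k hk) q hq) _ (inv_mem hq), M.vc_inv hq,
      M.vc_conj k hk q hq, hf, M.rep.self]
  have hprod : ∀ k ∈ T.H0, ∀ l ∈ T.H0, ⁅k * l, q⁆ = ⁅l, q⁆ * ⁅k, q⁆ := fun k hk l hl => by
    rw [show ⁅k * l, q⁆ = k * ⁅l, q⁆ * k⁻¹ * ⁅k, q⁆ by simp only [commutatorElement_def]; group,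
      T.W_conj hk (hW l hl)]
  let χ : G → Multiplicative (ZMod 2) := fun k =>
    Multiplicative.ofAdd (if ⁅k, q⁆ = 1 ∨ ⁅k, q⁆ = z then 0 else 1)
  have hχ : ∀ k ∈ T.H0, ∀ l ∈ T.H0, χ (k * l) = χ k * χ l := fun k hk l hl => by
    simp only [χ]
    rw [← ofAdd_add, hprod k hk l hl]
    congr 1
    have := T.W_half (hW l hl) (hW k hk)
    by_cases p1 : ⁅k, q⁆ = 1 ∨ ⁅k, q⁆ = z <;> by_cases p2 : ⁅l, q⁆ = 1 ∨ ⁅l, q⁆ = z <;>
      simp only [p1, p2, this, iff_self, if_true, if_false] <;> decide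
  have hJ : ∀ j ∈ T.J, χ j = 1 := fun j hj => by
    simp only [χ]
    rw [if_pos (T.comm j hj q hq)]
    rfl
  choose s hs hφs using T.φ_surj
  have hdep : ∀ b, ∀ k ∈ T.H0, T.φ k = b → χ k = χ (s b) := fun b k hk e => by
    have hm : (s b)⁻¹ * k ∈ T.J := by
      rw [← T.φ_ker _ (mul_mem (inv_mem (hs b)) hk), T.φ_mul _ (inv_mem (hs b)) _ hk, T.φ_inv (hs b), hφs, e,
        inv_mul_cancel]
    calc χ k = χ (s b * ((s b)⁻¹ * k)) := by rw [mul_inv_cancel_left]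
      _ = χ (s b) := by rw [hχ _ (hs b) _ (T.J_le hm), hJ _ hm, mul_one]
  let f : U4 →* Multiplicative (ZMod 2) := MonoidHom.mk' (fun b => χ (s b)) fun b c => by
    rw [← hχ _ (hs b) _ (hs c)]
    exact (hdep _ _ (mul_mem (hs b) (hs c)) (by rw [T.φ_mul _ (hs b) _ (hs c), hφs, hφs])).symm
  have h1 : χ h = 1 := (hdep _ h hh rfl).trans (U4_hom_trivial f _)
  simp only [χ] at h1
  split_ifs at h1 with h2
  · exact h2
  · exact absurd (Multiplicative.ofAdd.injective (h1.trans ofAdd_zero.symm)) one_ne_zero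

/-- The elements of J commuting with x. -/
def cj (x : G) : Subgroup G := T.J ⊓ Subgroup.centralizer ({x} : Set G)

theorem mem_cj {x j : G} : j ∈ T.cj x ↔ j ∈ T.J ∧ Commute j x :=
  ⟨fun h => ⟨h.1, Subgroup.mem_centralizer_singleton_iff.1 h.2⟩,
    fun h => ⟨h.1, Subgroup.mem_centralizer_singleton_iff.2 h.2.eq⟩⟩

end Two

namespace Mod3

variable {G : Type u} [Group G] {z a : G} {T : Two z a} {V : Type v} [AddCommGroup V] (M : Mod3 T V)

/-- The image of the elements of J commuting with x. -/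
noncomputable def cbar (x : G) : AddSubgroup V where
  carrier := {u | ∃ j ∈ T.J, Commute j x ∧ M.vc j = u}
  zero_mem' := ⟨1, one_mem _, Commute.one_left x, M.vc_one⟩
  add_mem' := by
    rintro _ _ ⟨i, hi, hix, rfl⟩ ⟨j, hj, hjx, rfl⟩
    exact ⟨i * j, mul_mem hi hj, hix.mul_left hjx, M.vc_mul i hi j hj⟩
  neg_mem' := fun {u} hu => by rw [M.rep.neg_eq]; exact hu

include M

theorem cbar_congr {x y : G} (h : ∀ j ∈ T.J, (Commute j x ↔ Commute j y)) : M.cbar x = M.cbar y := by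
  refine SetLike.ext fun u => ⟨?_, ?_⟩ <;> rintro ⟨j, hj, hjx, e⟩
  exacts [⟨j, hj, (h j hj).1 hjx, e⟩, ⟨j, hj, (h j hj).2 hjx, e⟩]

theorem cbar_fix {x : G} (hx : Commute x z) : M.cbar x ≤ M.fix hx := by
  rintro _ ⟨j, hj, hjx, rfl⟩
  show M.T' x (M.vc j) = M.vc j
  rw [M.T_vc hx hj, hjx.symm.eq, mul_inv_cancel_right]

theorem cbar_fixV {x : G} (hx : x ∈ T.H0) : M.cbar x ≤ M.rep.fixV (T.φ x) := fun u hu => by
  have h : M.T' x u = u := M.cbar_fix (T.le x hx) hu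
  rw [M.T_of_mem hx] at h
  exact h

theorem cbar_lift {x : G} (hx : x ∈ T.H0) {j : G} (hj : j ∈ T.J) (h : M.vc j ∈ M.cbar x) : Commute j x := by
  obtain ⟨i, hi, hix, e⟩ := h
  have hW := M.vc_eq hj hi e.symm
  have := hix.mul_left (T.W_comm hW hx).symm
  rwa [mul_inv_cancel_left] at this

/-- The image has index at most two in the fixed vectors. -/
theorem cbar_index {e : G} (he : e ∈ T.H0) (heJ : e ∉ T.J) (he2 : e * e = 1) :
    Nat.card (M.rep.fixV (T.φ e)) ≤ 2 * Nat.card (M.cbar e) := by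
  classical
  haveI := M.rep.finite
  have hk2 : T.φ e * T.φ e = 1 := by rw [← T.φ_mul e he e he, he2, T.φ_one]
  have hkne : T.φ e ≠ 1 := fun h => heJ ((T.φ_ker e he).1 h)
  obtain ⟨g, hg⟩ := invol_conj hk2 hkne
  obtain ⟨h, hh, rfl⟩ := T.φ_surj g
  set e' := h * e * h⁻¹ with he'
  have he'H : e' ∈ T.H0 := mul_mem (mul_mem hh he) (inv_mem hh)
  have he'2 : e' * e' = 1 := by
    rw [he', show h * e * h⁻¹ * (h * e * h⁻¹) = h * (e * e) * h⁻¹ by group, he2, mul_one, mul_inv_cancel]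
  rw [← T.φ_conj hh he, ← he'] at hg
  have hcW : ∀ j ∈ T.J, M.rep.act (T.φ e') (M.vc j) = M.vc j → T.isW ⁅e', j⁆ := fun j hj hf => by
    refine M.vc_ker _ (mul_mem (T.norm e' (T.le _ he'H) j hj) (inv_mem hj)) ?_
    rw [commutatorElement_def, M.vc_mul _ (T.norm e' (T.le _ he'H) j hj) _ (inv_mem hj), M.vc_inv hj,
      M.vc_conj e' he'H j hj, hf, M.rep.self]
  let X : AddSubgroup V :=
    { carrier := {u | ∃ j ∈ T.J, M.vc j = u ∧ (⁅e', j⁆ = 1 ∨ ⁅e', j⁆ = z)}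
      zero_mem' := ⟨1, one_mem _, M.vc_one, Or.inl (commutatorElement_one_right e')⟩
      add_mem' := by
        rintro _ _ ⟨i, hi, rfl, hci⟩ ⟨j, hj, rfl, hcj⟩
        refine ⟨i * j, mul_mem hi hj, M.vc_mul i hi j hj, ?_⟩
        have hjW : T.isW ⁅e', j⁆ := hcj.elim Or.inl fun h => Or.inr (Or.inl h)
        have hiW : T.isW ⁅e', i⁆ := hci.elim Or.inl fun h => Or.inr (Or.inl h)
        rw [show ⁅e', i * j⁆ = ⁅e', i⁆ * (i * ⁅e', j⁆ * i⁻¹) by simp only [commutatorElement_def]; group,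
          T.W_conj (T.J_le hi) hjW]
        exact (T.W_half hiW hjW).2 (iff_of_true hci hcj)
      neg_mem' := fun {u} hu => by rw [M.rep.neg_eq]; exact hu }
  have hX : ∀ u, M.rep.act (T.φ e') u = u → u ∈ X := by
    refine M.rep.fix_absorbed hg X (fun w => ?_) (fun u hu => ?_) fun hR u hu => ?_
    · obtain ⟨j', hj', rfl⟩ := M.vc_surj w
      have hm : e' * j' * e'⁻¹ ∈ T.J := T.norm e' (T.le _ he'H) j' hj'
      refine ⟨j' * (e' * j' * e'⁻¹), mul_mem hj' hm, by rw [M.vc_mul _ hj' _ hm, M.vc_conj e' he'H j' hj']; rfl, ?_⟩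
      have e0 : e'⁻¹ = e' := inv_eq_of_mul_eq_one_right he'2
      have e1 : ⁅e', j' * (e' * j' * e'⁻¹)⁆ = ⁅e' * j' * e'⁻¹, j'⁆ := by
        simp only [commutatorElement_def, mul_inv_rev, e0, mul_assoc]
        rw [← mul_assoc e' e', he'2, one_mul]
      rw [e1]
      exact T.comm _ hm _ hj'
    · obtain ⟨y, hy, hyφ⟩ := T.φ_surj (tor (1, 1, 2))
      obtain ⟨j, hj, rfl⟩ := M.vc_surj u
      have hc := hcW j hj hu
      set c := ⁅e', j⁆ with hcdef
      have hcomm : T.φ e' * tor (1, 1, 2) = tor (1, 1, 2) * T.φ e' := by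
        refine (inv_mul_eq_one.1 (M.rep.faithful _ fun w => ?_)).symm
        have h1 : M.rep.act (T.φ e' * tor (1, 1, 2)) w = M.rep.act (tor (1, 1, 2) * T.φ e') w := by
          rw [M.rep.act_mul, M.rep.act_mul]
          exact M.rep.std_comm hg w
        rw [M.rep.act_mul, h1, ← M.rep.act_mul, inv_mul_cancel, M.rep.act_one]
      have hyj : y * j * y⁻¹ ∈ T.J := T.norm y (T.le y hy) j hj
      have hi : e'⁻¹ * (y⁻¹ * e' * y) ∈ T.J := by
        rw [← T.φ_ker _ (mul_mem (inv_mem he'H) (mul_mem (mul_mem (inv_mem hy) he'H) hy)),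
          T.φ_mul _ (inv_mem he'H) _ (mul_mem (mul_mem (inv_mem hy) he'H) hy), T.φ_mul _ (mul_mem (inv_mem hy) he'H)
          _ hy, T.φ_mul _ (inv_mem hy) _ he'H, T.φ_inv he'H, T.φ_inv hy, hyφ, mul_assoc _ (T.φ e'), hcomm]
        group
      set i := e'⁻¹ * (y⁻¹ * e' * y) with hidef
      have hij := T.comm i hi j hj
      have hijW : T.isW ⁅i, j⁆ := hij.elim Or.inl fun h => Or.inr (Or.inl h)
      have h2 : ⁅e', y * j * y⁻¹⁆ = ⁅i, j⁆ * c := by
        rw [show ⁅e', y * j * y⁻¹⁆ = y * ⁅e' * i, j⁆ * y⁻¹ by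
            simp only [hidef, commutatorElement_def]; group,
          show ⁅e' * i, j⁆ = e' * ⁅i, j⁆ * e'⁻¹ * c by simp only [hcdef, commutatorElement_def]; group,
          T.W_conj he'H hijW, T.W_conj hy (T.W_mul hijW hc)]
      refine ⟨j * (y * j * y⁻¹), mul_mem hj hyj, by rw [M.vc_mul j hj _ hyj, M.vc_conj y hy j hj, hyφ]; rfl, ?_⟩
      have h3 : ⁅e', j * (y * j * y⁻¹)⁆ = ⁅i, j⁆ := by
        rw [show ⁅e', j * (y * j * y⁻¹)⁆ = c * (j * ⁅e', y * j * y⁻¹⁆ * j⁻¹) by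
            simp only [hcdef, commutatorElement_def]; group,
          h2, T.W_conj (T.J_le hj) (T.W_mul hijW hc), ← mul_assoc,
          (T.W_J hijW (T.W_mem hc)).eq, mul_assoc, T.W_sq hc, mul_one]
      rw [h3]
      exact hij
    · obtain ⟨q, hq, rfl⟩ := M.vc_surj u
      exact ⟨q, hq, rfl, T.fixT_comm M hq (fun b => M.rep.fix_act hR hu b) he'H⟩
  -- back to e
  have hlift : ∀ u : M.rep.fixV (T.φ e), ∃ j ∈ T.J, M.vc j = u ∧ (⁅e, j⁆ = 1 ∨ ⁅e, j⁆ = z) := by
    intro u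
    obtain ⟨j, hj, hju, hc⟩ := hX (M.rep.act (T.φ h) u) (by
      rw [he', T.φ_conj hh he, ← M.rep.act_mul, inv_mul_cancel_right, M.rep.act_mul,
        show M.rep.act (T.φ e) (u : V) = u from u.2])
    refine ⟨h⁻¹ * j * h, by simpa using T.norm h⁻¹ (T.le h hh).inv_left j hj, ?_, ?_⟩
    · have := M.vc_conj h⁻¹ (inv_mem hh) j hj
      rw [inv_inv, T.φ_inv hh, hju, ← M.rep.act_mul, inv_mul_cancel, M.rep.act_one] at this
      exact this
    · have e1 : ⁅e, h⁻¹ * j * h⁆ = h⁻¹ * ⁅e', j⁆ * h⁻¹⁻¹ := by simp only [he', commutatorElement_def]; group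
      rw [e1]
      rcases hc with h1 | h1 <;> rw [h1]
      · exact Or.inl (by group)
      · exact Or.inr (T.W_conj (inv_mem hh) T.W_z)
  choose r hr hru hrc using hlift
  have hin : ∀ u : M.rep.fixV (T.φ e), ⁅e, r u⁆ = 1 → (u : V) ∈ M.cbar e := fun u h1 =>
    ⟨r u, hr u, Commute.symm (commutatorElement_eq_one_iff_mul_comm.1 h1), hru u⟩
  by_cases hall : ∀ u : M.rep.fixV (T.φ e), ⁅e, r u⁆ = 1
  · refine le_trans (AddSubgroup.card_le_of_le fun u hu => hin ⟨u, hu⟩ (hall _)) ?_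
    omega
  push Not at hall
  obtain ⟨u0, hu0⟩ := hall
  have hu0z := (hrc u0).resolve_left hu0
  have hsum : ∀ u : M.rep.fixV (T.φ e), ⁅e, r u⁆ ≠ 1 → (u : V) + u0 ∈ M.cbar e := fun u hu => by
    refine ⟨r u * r u0, mul_mem (hr u) (hr u0), Commute.symm (commutatorElement_eq_one_iff_mul_comm.1 ?_),
      by rw [M.vc_mul _ (hr u) _ (hr u0), hru, hru]⟩
    rw [show ⁅e, r u * r u0⁆ = ⁅e, r u⁆ * (r u * ⁅e, r u0⁆ * (r u)⁻¹) by simp only [commutatorElement_def]; group,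
      (hrc u).resolve_left hu, hu0z, T.W_conj (T.J_le (hr u)) T.W_z, T.z_sq]
  let i : M.rep.fixV (T.φ e) → M.cbar e × Bool := fun u =>
    if h : ⁅e, r u⁆ = 1 then (⟨u, hin u h⟩, false) else (⟨(u : V) + u0, hsum u h⟩, true)
  have hinj : Function.Injective i := fun x y h => by
    simp only [i] at h
    split_ifs at h with h1 h2 h2 <;> simp only [Prod.mk.injEq, Subtype.mk.injEq, Bool.false_eq_true,
      Bool.true_eq_false, and_false, and_true] at h
    · exact Subtype.ext h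
    · exact Subtype.ext (add_right_cancel h)
  have := Nat.card_le_card_of_injective i hinj
  rw [Nat.card_prod, Nat.card_eq_fintype_card (α := Bool), Fintype.card_bool] at this
  omega

end Mod3

/-! ### Triples -/

/-- Three commuting conjugates, none in J, with the same centraliser in J. -/
structure Tri {G : Type u} [Group G] {z a : G} (T : Two z a) (g : G) : Prop where
  wz : Commute (g * z * g⁻¹) z
  vz : Commute (g * a * g⁻¹) z
  wJ : g * z * g⁻¹ ∉ T.J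
  vJ : g * a * g⁻¹ ∉ T.J
  uJ : g * (a * z) * g⁻¹ ∉ T.J
  eqv : ∀ j ∈ T.J, (Commute j (g * z * g⁻¹) ↔ Commute j (g * a * g⁻¹))
  equ : ∀ j ∈ T.J, Commute j (g * (a * z) * g⁻¹) → Commute j (g * a * g⁻¹)

namespace Tri

variable {G : Type u} [Group G] {z a : G} {T : Two z a} {g : G}

theorem twist (h : Tri T g) (ψ : U4 ≃* U4) : Tri (T.twist ψ) g :=
  ⟨h.wz, h.vz, h.wJ, h.vJ, h.uJ, h.eqv, h.equ⟩

variable (h : Tri T g)
include h

/-- The members. -/
def Mem (_h : Tri T g) (x : G) : Prop := x = g * z * g⁻¹ ∨ x = g * a * g⁻¹ ∨ x = g * (a * z) * g⁻¹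

theorem u_eq : g * (a * z) * g⁻¹ = g * a * g⁻¹ * (g * z * g⁻¹) := by group

theorem mem_z {x : G} (hx : h.Mem x) : Commute x z := by
  rcases hx with rfl | rfl | rfl
  exacts [h.wz, h.vz, h.u_eq ▸ h.vz.mul_left h.wz]

theorem mem_sq {x : G} (hx : h.Mem x) : x * x = 1 := by
  have key : ∀ y : G, y * y = 1 → g * y * g⁻¹ * (g * y * g⁻¹) = 1 := fun y hy => by
    rw [show g * y * g⁻¹ * (g * y * g⁻¹) = g * (y * y) * g⁻¹ by group, hy, mul_one, mul_inv_cancel]
  rcases hx with rfl | rfl | rfl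
  exacts [key z T.z_sq, key a T.a_sq, key _ T.az_sq]

theorem mem_notJ {x : G} (hx : h.Mem x) : x ∉ T.J := by
  rcases hx with rfl | rfl | rfl
  exacts [h.wJ, h.vJ, h.uJ]

theorem mem_comm {x : G} (hx : h.Mem x) {j : G} (hj : j ∈ T.J) : Commute j x ↔ Commute j (g * z * g⁻¹) := by
  rcases hx with rfl | rfl | rfl
  · exact Iff.rfl
  · exact (h.eqv j hj).symm
  · refine ⟨fun hu => (h.eqv j hj).2 (h.equ j hj hu), fun hw => ?_⟩
    rw [h.u_eq]
    exact ((h.eqv j hj).1 hw).mul_right hw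

theorem exists_inner : ∃ x, h.Mem x ∧ x ∈ T.H0 := by
  by_contra! hn
  refine hn _ (Or.inr (Or.inr rfl)) ?_
  rw [h.u_eq]
  exact T.out_mul _ _ h.vz h.wz (hn _ (Or.inr (Or.inl rfl))) (hn _ (Or.inl rfl))

theorem conj_left {c : G} (hc : Commute c z) : Tri T (c * g) := by
  have key : ∀ y : G, c * g * y * (c * g)⁻¹ = c * (g * y * g⁻¹) * c⁻¹ := fun y => by group
  have hz : ∀ {x : G}, Commute x z → Commute (c * x * c⁻¹) z := fun hx => (hc.mul_left hx).mul_left hc.inv_left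
  have hJ : ∀ {x : G}, x ∉ T.J → c * x * c⁻¹ ∉ T.J := fun {x} hx hm => hx (by
    simpa [mul_assoc] using T.norm c⁻¹ hc.inv_left _ hm)
  have hin : ∀ j ∈ T.J, c⁻¹ * j * c ∈ T.J := fun j hj => by simpa using T.norm c⁻¹ hc.inv_left j hj
  have hcm : ∀ j x : G, Commute j (c * x * c⁻¹) ↔ Commute (c⁻¹ * j * c) x := fun j x => by
    refine ⟨fun h => commute_conj₀' c h, fun h => ?_⟩
    have := commute_conj₀ c h
    rwa [show c * (c⁻¹ * j * c) * c⁻¹ = j by group] at this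
  refine ⟨?_, ?_, ?_, ?_, ?_, fun j hj => ?_, fun j hj hu => ?_⟩ <;> rw [key]
  · exact hz h.wz
  · exact hz h.vz
  · exact hJ h.wJ
  · exact hJ h.vJ
  · exact hJ h.uJ
  · rw [key, hcm, hcm]; exact h.eqv _ (hin j hj)
  · rw [key, hcm] at hu
    rw [hcm]; exact h.equ _ (hin j hj) hu

theorem cbar_eq {V : Type v} [AddCommGroup V] (M : Mod3 T V) {x : G} (hx : h.Mem x) :
    M.cbar x = M.cbar (g * z * g⁻¹) := M.cbar_congr fun _ hj => h.mem_comm hx hj

end Tri

end Cfsg.Agent.U62Rec
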