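/-
No triple in the natural case.

* `tor_stab` : the elements fixing the centres of s₂ and commuting with a torus element;
* `Crd3.no_transvection`, `Crd3.plane_fixed`, `Crd3.lift_torus` : the members of a triple;
* `Crd3.nat_kill` : there is no triple.
-/
import Cfsg.Agent.Lib.U62Rec.TwoTri

set_option autoImplicit false

namespace Cfsg.Agent.U62Rec

open Cfsg.Agent.ThreeTransSU Cfsg.Agent.U62Cover Cfsg.Agent.LargeExtraspecial
open scoped commutatorElement

universe u v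

theorem eig_zero : ∀ x : V4, dg (2, 2, 1) x = pw 2 • x → hf x x = 1 → hf x p₀ = 1 →
    x = Pi.single 0 1 ∨ x = Pi.single 1 1 := by decide +kernel
theorem eig_two : ∀ x : V4, dg (2, 2, 1) x = pw 1 • x → hf x x = 1 → hf x q₀ = 1 →
    x = Pi.single 2 1 ∨ x = Pi.single 3 1 := by decide +kernel
theorem eig_tbl : dg (2, 2, 1) (Pi.single 0 1 : V4) = pw 2 • Pi.single 0 1 ∧
    dg (2, 2, 1) (Pi.single 2 1 : V4) = pw 1 • Pi.single 2 1 ∧
    hf (Pi.single 0 1 : V4) (Pi.single 0 1) = 1 ∧ hf (Pi.single 2 1 : V4) (Pi.single 2 1) = 1 ∧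
    hf (Pi.single 0 1 : V4) p₀ = 1 ∧ hf (Pi.single 2 1 : V4) q₀ = 1 := by decide +kernel
theorem std_sums : p₀ = Pi.single 0 1 + Pi.single 1 1 ∧ q₀ = Pi.single 2 1 + Pi.single 3 1 := by decide +kernel
theorem p_tbl : tvf p₀ (Pi.single 0 1) = Pi.single 1 1 ∧ tvf p₀ (Pi.single 2 1) = Pi.single 2 1 ∧
    tvf q₀ (Pi.single 0 1) = Pi.single 0 1 ∧ tvf q₀ (Pi.single 2 1) = Pi.single 3 1 ∧
    tvf p₀ (Pi.single 3 1) = Pi.single 3 1 := by decide +kernel

/-- The elements fixing both centres and commuting with the square of the torus element. -/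
theorem tor_stab {k : U4} (h1 : act k p₀ = p₀) (h2 : act k q₀ = q₀)
    (hc : k * tor (2, 2, 1) = tor (2, 2, 1) * k) : k = 1 ∨ k = t4 p₀ ∨ k = t4 q₀ ∨ k = s₂ := by
  obtain ⟨a0, a2, b0, b2, c0, c2⟩ := eig_tbl
  have hk : ∀ x, act k (dg (2, 2, 1) x) = dg (2, 2, 1) (act k x) := fun x => by
    rw [← act_tor, ← act_tor, ← act_mul, hc, act_mul]
  have e0 := eig_zero (act k (Pi.single 0 1)) (by rw [← hk, a0, act_smul]) (by rw [act_hf, b0])
    (by conv_lhs => rw [← h1, act_hf, c0])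
  have e2 := eig_two (act k (Pi.single 2 1)) (by rw [← hk, a2, act_smul]) (by rw [act_hf, b2])
    (by conv_lhs => rw [← h2, act_hf, c2])
  obtain ⟨r1, r3⟩ := std_sums
  obtain ⟨t0, t2, u0, u2, t3⟩ := p_tbl
  have hq : hf q₀ q₀ = 0 := std_pair.2.1.2
  have hp : hf p₀ p₀ = 0 := std_pair.1.2
  -- determined by two values
  have det : ∀ l : U4, act l p₀ = p₀ → act l q₀ = q₀ → act l (Pi.single 0 1) = act k (Pi.single 0 1) →
      act l (Pi.single 2 1) = act k (Pi.single 2 1) → k = l := by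
    intro l l1 l2 l0 l3
    refine ext_basis fun i => ?_
    fin_cases i
    · exact l0.symm
    · have e := l1.trans h1.symm
      rw [r1, act_add, act_add, l0] at e
      exact (add_left_cancel e).symm
    · exact l3.symm
    · have e := l2.trans h2.symm
      rw [r3, act_add, act_add, l3] at e
      exact (add_left_cancel e).symm
  have hpq : hf p₀ q₀ = 0 := std_pair.2.2.1
  have fp : act (t4 p₀) p₀ = p₀ := act_tv_of_orth cardK hp hp
  have fq : act (t4 p₀) q₀ = q₀ := act_tv_of_orth cardK hp (hs0 hpq)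
  have gp : act (t4 q₀) p₀ = p₀ := act_tv_of_orth cardK hq hpq
  have gq : act (t4 q₀) q₀ = q₀ := act_tv_of_orth cardK hq hq
  rcases e0 with e0 | e0 <;> rcases e2 with e2 | e2
  · exact Or.inl (det 1 (act_one _) (act_one _) (by rw [act_one, e0]) (by rw [act_one, e2]))
  · refine Or.inr (Or.inr (Or.inl (det _ gp gq ?_ ?_))) <;> rw [act_t4 hq]
    exacts [u0.trans e0.symm, u2.trans e2.symm]
  · refine Or.inr (Or.inl (det _ fp fq ?_ ?_)) <;> rw [act_t4 hp]
    exacts [t0.trans e0.symm, t2.trans e2.symm]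
  · refine Or.inr (Or.inr (Or.inr ?_))
    rw [s₂_eq]
    refine det _ (by rw [act_mul, gp, fp]) (by rw [act_mul, gq, fq]) ?_ ?_ <;>
      rw [act_mul, act_t4 hq, act_t4 hp]
    · rw [u0, t0, e0]
    · rw [u2, t3, e2]

/-- Fixed vectors of an antilinear map are independent over the prime field. -/
theorem anti_pair_inj {f : V4 → V4} (hadd : ∀ u w, f (u + w) = f u + f w)
    (hanti : ∀ (c : K) (u : V4), f (c • u) = c ^ 2 • f u) {a b a' b' : V4} (ha : f a = a) (hb : f b = b)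
    (ha' : f a' = a') (hb' : f b' = b') (h : a + om • b = a' + om • b') : a = a' ∧ b = b' := by
  have h' := congrArg f h
  rw [hadd, hadd, hanti, hanti, ha, ha', hb, hb'] at h'
  have e : b = b' := funext fun i => by
    have h1 := congrFun h i
    have h2 := congrFun h' i
    simp only [Pi.add_apply, Pi.smul_apply, smul_eq_mul] at h1 h2
    refine k_eq_of_add _ _ (k_sep (a i + a' i) _ ?_ ?_)
    · rw [mul_add, add_add_add_comm, h1]; exact k_add_self _
    · rw [mul_add, add_add_add_comm, h2]; exact k_add_self _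
  subst e
  exact ⟨add_right_cancel h, rfl⟩

namespace Crd3

variable {G : Type u} [Group G] [Finite G] {z a : G} {T : Two z a} {V : Type v} [AddCommGroup V] {M : Mod3 T V}
  (C : Crd3 M) {g : G} (h : Tri T g)
include C h

omit [Finite G] in
theorem mem_fix_f {y : G} (hy : y ∈ T.H0) (hm : h.Mem y) {u : V} (hu : u ∈ M.cbar (g * z * g⁻¹)) :
    ThreeTransSU.act (T.φ y) (C.f u) = C.f u := by
  rw [← C.fc]
  exact congrArg C.f (M.cbar_fixV hy (h.cbar_eq M hm ▸ hu))

/-- No member is a transvection. -/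
theorem no_transvection {x : G} (hm : h.Mem x) (hx : x ∈ T.H0) {p : V4} (hp : Iso p) : T.φ x ≠ t4 p := by
  classical
  haveI := M.rep.finite
  intro hφ
  obtain ⟨q, f, gg, hfr⟩ := exists_frame_one hp
  -- the perpendicular
  have hperp : {w : V4 | hf w p = 0}.ncard ≤ 64 := by
    have h64 : (Set.univ : Set (K × K × K)).ncard = 64 := by
      rw [Set.ncard_univ, Nat.card_eq_fintype_card, Fintype.card_prod, Fintype.card_prod, cardK]
    rw [← h64]
    refine Set.ncard_le_ncard_of_injOn (fun w => (hf w f, hf w gg, hf w q)) (fun _ _ => Set.mem_univ _) ?_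
    intro u hu w hw e
    simp only [Prod.mk.injEq] at e
    exact hfr.eq_of (hu.trans hw.symm) e.2.2 e.1 e.2.1
  have hlow : 64 ≤ Nat.card (M.rep.fixV (T.φ x)) := by
    choose pre hpre using C.fb.2
    have hfix : ∀ k : K × K × K, pre (k.1 • p + k.2.1 • q + k.2.2 • gg) ∈ M.rep.fixV (T.φ x) := fun k => by
      apply C.fb.1
      show C.f (M.rep.act (T.φ x) _) = _
      rw [C.fc, hpre, hφ]
      exact (fix_one hp _).2 (by simp only [hl, sl, hfr.pp, hfr.qp, hfr.gp, mul_zero, add_zero])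
    refine le_trans (le_of_eq ?_) (Nat.card_le_card_of_injective
      (fun k : K × K × K => (⟨_, hfix k⟩ : M.rep.fixV (T.φ x))) fun k k' e' => ?_)
    · rw [Nat.card_eq_fintype_card, Fintype.card_prod, Fintype.card_prod, cardK]
    · have e2 := congrArg C.f (congrArg Subtype.val e')
      rw [hpre, hpre] at e2
      have e3 := congrArg (fun w => hf w f) e2
      have e4 := congrArg (fun w => hf w gg) e2
      have e5 := congrArg (fun w => hf w q) e2
      simp only [hl, sl, hfr.pf, hfr.qf, hfr.gf, hfr.pg, hfr.qg, hfr.gg, hfr.pq, hfr.qq, hfr.gq, mul_zero,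
        mul_one, add_zero, zero_add] at e3 e4 e5
      exact Prod.ext e3 (Prod.ext e4 e5)
  have hI : 32 ≤ Nat.card (M.cbar (g * z * g⁻¹)) := by
    have := M.cbar_index hx (h.mem_notJ hm) (h.mem_sq hm)
    rw [h.cbar_eq M hm] at this
    omega
  have hin : ∀ y, h.Mem y → y ∈ T.H0 := fun y hy => by
    by_contra hyo
    have h16 := C.anti_fix (h.mem_z hy) (by rw [h.mem_sq hy]; exact one_mem _) hyo
    have := AddSubgroup.card_le_of_le (M.cbar_fix (h.mem_z hy))
    rw [h.cbar_eq M hy] at this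
    omega
  have hall : ∀ y, h.Mem y → T.φ y = t4 p := by
    intro y hy
    have hfixp : ∀ w, hf w p = 0 → ThreeTransSU.act (T.φ y) w = w := by
      intro w hw
      by_contra hne
      have hIp : ∀ u : M.cbar (g * z * g⁻¹), hf (C.f u) p = 0 := fun u =>
        (fix_one hp _).1 (hφ ▸ C.mem_fix_f h hx hm u.2)
      let i : M.cbar (g * z * g⁻¹) × K → {w : V4 | hf w p = 0} := fun k =>
        ⟨C.f k.1 + k.2 • w, by show hf _ p = 0; rw [hl, sl, hIp, hw, mul_zero, add_zero]⟩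
      have hi : Function.Injective i := by
        rintro ⟨u, c⟩ ⟨u', c'⟩ e
        have e' : C.f u + c • w = C.f u' + c' • w := congrArg Subtype.val e
        by_cases hc : c = c'
        · subst hc
          exact Prod.ext (Subtype.ext (C.fb.1 (add_right_cancel e'))) rfl
        · exfalso
          have hd : (c + c') • w = C.f u + C.f u' := by
            refine veq ?_
            rw [add_smul, add_add_add_comm, add_comm (c • w), add_comm (c' • w), e']
            exact vv _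
          have e2 : ThreeTransSU.act (T.φ y) ((c + c') • w) = (c + c') • w := by
            rw [hd, act_add, C.mem_fix_f h (hin y hy) hy u.2, C.mem_fix_f h (hin y hy) hy u'.2]
          rw [act_smul] at e2
          exact hne (smul_right_injective V4 (fun h0 => hc (k_eq_of_add _ _ h0)) e2)
      have := Nat.card_le_card_of_injective i hi
      rw [Nat.card_prod, Nat.card_coe_set_eq, Nat.card_eq_fintype_card (α := K), cardK] at this
      omega
    by_contra hne
    have h1 : T.φ y ≠ 1 := fun e => h.mem_notJ hy ((T.φ_ker y (hin y hy)).1 e)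
    have ht1 : t4 p ≠ 1 := fun e => h.mem_notJ hm ((T.φ_ker x hx).1 (hφ.trans e))
    have h3 : ({1, t4 p, T.φ y} : Set U4).ncard ≤ 2 := by
      refine le_trans (Set.ncard_le_ncard ?_) hfr.card_fix_three
      rintro k (rfl | rfl | rfl)
      · exact ⟨act_one _, act_one _, act_one _⟩
      · exact ⟨(fix_one hp _).2 hfr.pp, (fix_one hp _).2 hfr.qp, (fix_one hp _).2 hfr.gp⟩
      · exact ⟨hfixp _ hfr.pp, hfixp _ hfr.qp, hfixp _ hfr.gp⟩
    rw [Set.ncard_eq_three.2 ⟨1, t4 p, T.φ y, Ne.symm ht1, Ne.symm h1, Ne.symm hne, rfl⟩] at h3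
    omega
  have mw : h.Mem (g * z * g⁻¹) := Or.inl rfl
  have mv : h.Mem (g * a * g⁻¹) := Or.inr (Or.inl rfl)
  refine h.uJ ((T.φ_ker _ (hin _ (Or.inr (Or.inr rfl)))).1 ?_)
  rw [h.u_eq, T.φ_mul _ (hin _ mv) _ (hin _ mw), hall _ mv, hall _ mw]
  exact U62Cover.tv_sq cardK hp.2

/-- When one member is the standard pair, all are inner and fix its centres. -/
theorem plane_fixed {x : G} (hm : h.Mem x) (hx : x ∈ T.H0) (hφ : T.φ x = s₂) {y : G} (hy : h.Mem y) :
    y ∈ T.H0 ∧ ThreeTransSU.act (T.φ y) p₀ = p₀ ∧ ThreeTransSU.act (T.φ y) q₀ = q₀ := by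
  classical
  haveI := M.rep.finite
  obtain ⟨f, gg, hfr⟩ := exists_frame std_pair
  have hL : {w : V4 | hf w p₀ = 0 ∧ hf w q₀ = 0}.ncard ≤ 16 := by
    have h16 : (Set.univ : Set (K × K)).ncard = 16 := by
      rw [Set.ncard_univ, Nat.card_eq_fintype_card, Fintype.card_prod, cardK]
    rw [← h16]
    refine Set.ncard_le_ncard_of_injOn (fun w => (hf w f, hf w gg)) (fun _ _ => Set.mem_univ _) ?_
    intro u hu w hw e
    simp only [Prod.mk.injEq] at e
    exact hfr.eq_of (hu.1.trans hw.1.symm) (hu.2.trans hw.2.symm) e.1 e.2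
  have hlow : 16 ≤ Nat.card (M.rep.fixV (T.φ x)) := by
    choose pre hpre using C.fb.2
    have hfix : ∀ k : K × K, pre (k.1 • p₀ + k.2 • q₀) ∈ M.rep.fixV (T.φ x) := fun k => by
      apply C.fb.1
      show C.f (M.rep.act (T.φ x) _) = _
      rw [C.fc, hpre, hφ, s₂_eq]
      refine (fix_two std_pair _).2 ⟨?_, ?_⟩ <;>
        simp only [hl, sl, hfr.pp, hfr.qp, hfr.pq, hfr.qq, mul_zero, add_zero]
    refine le_trans (le_of_eq ?_) (Nat.card_le_card_of_injective
      (fun k : K × K => (⟨_, hfix k⟩ : M.rep.fixV (T.φ x))) fun k k' e' => ?_)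
    · rw [Nat.card_eq_fintype_card, Fintype.card_prod, cardK]
    · have e2 := congrArg C.f (congrArg Subtype.val e')
      rw [hpre, hpre] at e2
      have e3 := congrArg (fun w => hf w f) e2
      have e4 := congrArg (fun w => hf w gg) e2
      simp only [hl, sl, hfr.pf, hfr.qf, hfr.pg, hfr.qg, mul_zero, mul_one, add_zero, zero_add] at e3 e4
      exact Prod.ext e3 e4
  have hI : 8 ≤ Nat.card (M.cbar (g * z * g⁻¹)) := by
    have := M.cbar_index hx (h.mem_notJ hm) (h.mem_sq hm)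
    rw [h.cbar_eq M hm] at this
    omega
  have hIL : ∀ u : M.cbar (g * z * g⁻¹), hf (C.f u) p₀ = 0 ∧ hf (C.f u) q₀ = 0 := fun u =>
    (fix_two std_pair _).1 (by rw [← s₂_eq, ← hφ]; exact C.mem_fix_f h hx hm u.2)
  have hin : y ∈ T.H0 := by
    by_contra hyo
    have hyz := h.mem_z hy
    have hanti := (C.semilinear hyz).resolve_left fun hl' => hyo (C.inner_of_linear hyz
      (by rw [h.mem_sq hy]; exact one_mem _) hl')
    have hfx : ∀ u : M.cbar (g * z * g⁻¹), C.T4 y (C.f u) = C.f u := fun u => by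
      rw [C.T4_f]
      have hu : (u : V) ∈ M.cbar y := by rw [h.cbar_eq M hy]; exact u.2
      exact congrArg C.f (M.cbar_fix hyz hu)
    let i : M.cbar (g * z * g⁻¹) × M.cbar (g * z * g⁻¹) → {w : V4 | hf w p₀ = 0 ∧ hf w q₀ = 0} := fun k =>
      ⟨C.f k.1 + om • C.f k.2, by
        show hf _ p₀ = 0 ∧ hf _ q₀ = 0
        simp only [hl, sl, (hIL k.1).1, (hIL k.1).2, (hIL k.2).1, (hIL k.2).2, mul_zero, add_zero, and_self]⟩
    have hi : Function.Injective i := fun k k' e => by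
      obtain ⟨e1, e2⟩ := anti_pair_inj (C.T4_add hyz) hanti (hfx k.1) (hfx k.2) (hfx k'.1) (hfx k'.2)
        (congrArg Subtype.val e)
      exact Prod.ext (Subtype.ext (C.fb.1 e1)) (Subtype.ext (C.fb.1 e2))
    have h1 := Nat.card_le_card_of_injective i hi
    rw [Nat.card_prod, Nat.card_coe_set_eq] at h1
    have := Nat.mul_le_mul hI hI
    omega
  refine ⟨hin, ?_⟩
  have key : ∀ w : V4, hf w p₀ = 0 → hf w q₀ = 0 → ThreeTransSU.act (T.φ y) w = w := by
    intro w h1 h2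
    by_contra hne
    let i : M.cbar (g * z * g⁻¹) × K → {w : V4 | hf w p₀ = 0 ∧ hf w q₀ = 0} := fun k =>
      ⟨C.f k.1 + k.2 • w, by
        show hf _ p₀ = 0 ∧ hf _ q₀ = 0
        simp only [hl, sl, (hIL k.1).1, (hIL k.1).2, h1, h2, mul_zero, add_zero, and_self]⟩
    have hi : Function.Injective i := by
      rintro ⟨u, c⟩ ⟨u', c'⟩ e
      have e' : C.f u + c • w = C.f u' + c' • w := congrArg Subtype.val e
      by_cases hc : c = c'
      · subst hc
        exact Prod.ext (Subtype.ext (C.fb.1 (add_right_cancel e'))) rfl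
      · exfalso
        have hd : (c + c') • w = C.f u + C.f u' := by
          refine veq ?_
          rw [add_smul, add_add_add_comm, add_comm (c • w), add_comm (c' • w), e']
          exact vv _
        have e2 : ThreeTransSU.act (T.φ y) ((c + c') • w) = (c + c') • w := by
          rw [hd, act_add, C.mem_fix_f h hin hy u.2, C.mem_fix_f h hin hy u'.2]
        rw [act_smul] at e2
        exact hne (smul_right_injective V4 (fun h0 => hc (k_eq_of_add _ _ h0)) e2)
    have := Nat.card_le_card_of_injective i hi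
    rw [Nat.card_prod, Nat.card_coe_set_eq, Nat.card_eq_fintype_card (α := K), cardK] at this
    omega
  exact ⟨key _ hfr.pp hfr.pq, key _ hfr.qp hfr.qq⟩

omit [Finite G] h in
/-- A torus element lifts to the centraliser of an involution over the standard pair. -/
theorem lift_torus {w : G} (hw : w ∈ T.H0) (hw2 : w * w = 1) (hφw : T.φ w = s₂) :
    ∃ y ∈ T.H0, T.φ y = tor (1, 1, 2) ∧ y * w * y⁻¹ = w := by
  obtain ⟨f, gg, hfr⟩ := exists_frame std_pair
  obtain ⟨y, hy, hyφ⟩ := T.φ_surj (tor (1, 1, 2))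
  have hcommx : s₂ * tor (1, 1, 2) = tor (1, 1, 2) * s₂ := by
    rw [s₂, mul_assoc, w2_tor (by decide), ← mul_assoc, w2_tor (by decide),
      show sw 0 1 (sw 2 3 (1, 1, 2)) = (1, 1, 2) from by decide +kernel, mul_assoc]
  set d := w⁻¹ * (y * w * y⁻¹) with hd
  have hyw : y * w * y⁻¹ ∈ T.H0 := mul_mem (mul_mem hy hw) (inv_mem hy)
  have hdJ : d ∈ T.J := by
    rw [hd, ← T.φ_ker _ (mul_mem (inv_mem hw) hyw), T.φ_mul _ (inv_mem hw) _ hyw, T.φ_inv hw, T.φ_conj hy hw,
      hyφ, hφw, ← hcommx, mul_inv_cancel_right, inv_mul_cancel]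
  have hwi : w⁻¹ = w := inv_eq_of_mul_eq_one_right hw2
  -- the difference is fixed
  have hfix : M.rep.act s₂ (M.vc d) = M.vc d := by
    rw [← hφw, ← M.vc_conj w hw d hdJ]
    have e : w * d * w⁻¹ = d⁻¹ := by
      have e2 : y * w * y⁻¹ * (y * w * y⁻¹) = 1 := by
        rw [show y * w * y⁻¹ * (y * w * y⁻¹) = y * (w * w) * y⁻¹ by group, hw2, mul_one, mul_inv_cancel]
      rw [hd, mul_inv_rev, inv_inv, inv_eq_of_mul_eq_one_right e2, ← mul_assoc w w⁻¹, mul_inv_cancel, one_mul, hwi]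
    rw [e, M.vc_inv hdJ]
  have hfd : ThreeTransSU.act s₂ (C.f (M.vc d)) = C.f (M.vc d) := by rw [← C.fc, hfix]
  rw [s₂_eq] at hfd
  obtain ⟨hd1, hd2⟩ := (fix_two std_pair _).1 hfd
  obtain ⟨j, hj, hjξ⟩ := C.vec_surj (hf (C.f (M.vc d)) f • f + hf (C.f (M.vc d)) gg • gg)
  have hDj : C.f (M.rep.D s₂ (M.vc j)) = C.f (M.vc d) := by
    rw [Rep.D, C.fa, C.fc, show C.f (M.vc j) = _ from hjξ, ← R, s₂_eq, R_two std_pair]
    conv_rhs => rw [hfr.expand (C.f (M.vc d)), hd1, hd2]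
    simp only [hl, sl, hfr.fp, hfr.gp, hfr.fq, hfr.gq, mul_zero, mul_one, add_zero, zero_add, zero_smul]
  have hwj : w⁻¹ * j * w ∈ T.J := by simpa using T.norm w⁻¹ (T.le w hw).inv_left j hj
  have hjd : j * d * j⁻¹ ∈ T.J := mul_mem (mul_mem hj hdJ) (inv_mem hj)
  set e := w⁻¹ * j * w * j⁻¹ * (j * d * j⁻¹) with he
  have heJ : e ∈ T.J := mul_mem (mul_mem hwj (inv_mem hj)) hjd
  have heW : T.isW e := M.vc_ker e heJ (by
    rw [he, M.vc_mul _ (mul_mem hwj (inv_mem hj)) _ hjd, M.vc_mul _ hwj _ (inv_mem hj), M.vc_inv hj,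
      M.vc_mul _ (mul_mem hj hdJ) _ (inv_mem hj), M.vc_inv hj, M.vc_mul j hj d hdJ,
      show w⁻¹ * j * w = w * j * w⁻¹ by rw [hwi], M.vc_conj w hw j hj, hφw]
    have hD := C.fb.1 hDj
    rw [← hD, Rep.D]
    generalize M.rep.act s₂ (M.vc j) = r
    generalize M.vc j = v
    have e1 : v + (v + r) + v = v + r := by rw [← add_assoc v v, M.rep.self, zero_add, add_comm]
    rw [e1, add_comm r v]
    exact M.rep.self _)
  set y1 := j * y with hy1
  have hy1H : y1 ∈ T.H0 := mul_mem (T.J_le hj) hy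
  have hy1w : y1 * w * y1⁻¹ = w * e := by
    rw [hy1, he, hd]
    group
  have hy1φ : T.φ y1 = tor (1, 1, 2) := by
    rw [hy1, T.φ_mul _ (T.J_le hj) _ hy, T.φ_J hj, one_mul, hyφ]
  have h3J : y1 * y1 * y1 ∈ T.J := by
    rw [← T.φ_ker _ (mul_mem (mul_mem hy1H hy1H) hy1H), T.φ_mul _ (mul_mem hy1H hy1H) _ hy1H,
      T.φ_mul _ hy1H _ hy1H, hy1φ, ← tor_add, ← tor_add,
      show ((1, 1, 2) : A3) + (1, 1, 2) + (1, 1, 2) = 0 from by decide, tor_zero]
  have hce : y1 * e = e * y1 := (T.W_comm heW hy1H).eq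
  have e3 : y1 * y1 * y1 * w * (y1 * y1 * y1)⁻¹ = w * e := by
    have hye : ∀ x, y1 * (x * e) * y1⁻¹ = y1 * x * y1⁻¹ * e := fun x => by
      calc y1 * (x * e) * y1⁻¹ = y1 * x * (e * y1⁻¹) := by group
        _ = y1 * x * (y1⁻¹ * e) := by rw [(T.W_comm heW (inv_mem hy1H)).eq]
        _ = _ := by group
    rw [show y1 * y1 * y1 * w * (y1 * y1 * y1)⁻¹ = y1 * (y1 * (y1 * w * y1⁻¹) * y1⁻¹) * y1⁻¹ by group, hy1w,
      hye, hy1w, hye, hye, hy1w, mul_assoc (w * e) e e, T.W_sq heW, mul_one]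
  obtain ⟨Y, hY⟩ : ∃ Y, Y = y1 * y1 * y1 := ⟨_, rfl⟩
  rw [← hY] at h3J e3
  refine ⟨Y⁻¹ * y1, mul_mem (inv_mem (T.J_le h3J)) hy1H, ?_, ?_⟩
  · rw [T.φ_mul _ (inv_mem (T.J_le h3J)) _ hy1H, T.φ_inv (T.J_le h3J), T.φ_J h3J, inv_one, one_mul, hy1φ]
  · calc Y⁻¹ * y1 * w * (Y⁻¹ * y1)⁻¹ = Y⁻¹ * (y1 * w * y1⁻¹) * Y := by group
      _ = Y⁻¹ * (Y * w * Y⁻¹) * Y := by rw [hy1w, e3]
      _ = w := by group

/-- No triple. -/
theorem nat_kill : False := by
  classical
  have inner_all : ∀ {g : G}, Tri T g → ∀ y, y = g * z * g⁻¹ → y ∈ T.H0 := by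
    intro g h y hy
    obtain ⟨x, hm, hx⟩ := h.exists_inner
    have hk2 : T.φ x * T.φ x = 1 := by rw [← T.φ_mul x hx x hx, h.mem_sq hm, T.φ_one]
    obtain ⟨k, hk⟩ := invol_conj hk2 fun e => h.mem_notJ hm ((T.φ_ker x hx).1 e)
    obtain ⟨c, hc, rfl⟩ := T.φ_surj k
    have h' := h.conj_left (T.le c hc)
    have hm' : h'.Mem (c * x * c⁻¹) := by
      rcases hm with rfl | rfl | rfl
      exacts [Or.inl (by group), Or.inr (Or.inl (by group)), Or.inr (Or.inr (by group))]
    have hx' : c * x * c⁻¹ ∈ T.H0 := mul_mem (mul_mem hc hx) (inv_mem hc)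
    rcases hk with hk | hk
    · exact absurd ((T.φ_conj hc hx).trans hk) (C.no_transvection h' hm' hx' (w2_iso (by decide) 0))
    · have := (C.plane_fixed h' hm' hx' ((T.φ_conj hc hx).trans hk) (y := c * g * z * (c * g)⁻¹) (Or.inl rfl)).1
      have e : y = c⁻¹ * (c * g * z * (c * g)⁻¹) * c := by rw [hy]; group
      rw [e]
      exact mul_mem (mul_mem (inv_mem hc) this) hc
  have hwH := inner_all h _ rfl
  have mw : h.Mem (g * z * g⁻¹) := Or.inl rfl
  have hk2 : T.φ (g * z * g⁻¹) * T.φ (g * z * g⁻¹) = 1 := by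
    rw [← T.φ_mul _ hwH _ hwH, h.mem_sq mw, T.φ_one]
  obtain ⟨k, hk⟩ := invol_conj hk2 fun e => h.wJ ((T.φ_ker _ hwH).1 e)
  obtain ⟨c, hc, rfl⟩ := T.φ_surj k
  have h' := h.conj_left (T.le c hc)
  set g' := c * g with hg'
  have ew : g' * z * g'⁻¹ = c * (g * z * g⁻¹) * c⁻¹ := by rw [hg']; group
  have hw'H : g' * z * g'⁻¹ ∈ T.H0 := ew ▸ mul_mem (mul_mem hc hwH) (inv_mem hc)
  have mw' : h'.Mem (g' * z * g'⁻¹) := Or.inl rfl
  have mv' : h'.Mem (g' * a * g'⁻¹) := Or.inr (Or.inl rfl)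
  rw [← T.φ_conj hc hwH, ← ew] at hk
  rcases hk with hk | hk
  · exact C.no_transvection h' mw' hw'H (w2_iso (by decide) 0) hk
  obtain ⟨hvH, hv1, hv2⟩ := C.plane_fixed h' mw' hw'H hk mv'
  obtain ⟨y, hy, hyφ, hyw⟩ := C.lift_torus hw'H (h'.mem_sq mw') hk
  -- the square commutes with v
  set v := g' * a * g'⁻¹ with hv
  set w := g' * z * g'⁻¹ with hw
  have hgy : Commute (g'⁻¹ * y * g') z := commute_conj₀' g' (mul_inv_eq_iff_eq_mul.1 hyw)
  have hyv : y * v * y⁻¹ = v ∨ y * v * y⁻¹ = v * w := by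
    have e : y * v * y⁻¹ = g' * ((g'⁻¹ * y * g') * a * (g'⁻¹ * y * g')⁻¹) * g'⁻¹ := by rw [hv]; group
    rcases T.aconj _ hgy with p | p <;> rw [e, p]
    · exact Or.inl rfl
    · exact Or.inr h'.u_eq
  have hcv : y * y * v * (y * y)⁻¹ = v := by
    rw [show y * y * v * (y * y)⁻¹ = y * (y * v * y⁻¹) * y⁻¹ by group]
    rcases hyv with p | p <;> rw [p]
    · exact p
    · rw [show y * (v * w) * y⁻¹ = y * v * y⁻¹ * (y * w * y⁻¹) by group, p, hyw, mul_assoc, h'.mem_sq mw', mul_one]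
  have hcφ : T.φ v * tor (2, 2, 1) = tor (2, 2, 1) * T.φ v := by
    have hyy := mul_mem hy hy
    have e : T.φ (y * y) = tor (2, 2, 1) := by
      rw [T.φ_mul y hy y hy, hyφ, ← tor_add]; rfl
    have e2 : y * y * v = v * (y * y) := mul_inv_eq_iff_eq_mul.1 hcv
    have := congrArg T.φ e2
    rw [T.φ_mul _ hyy _ hvH, T.φ_mul _ hvH _ hyy, e] at this
    exact this.symm
  rcases tor_stab hv1 hv2 hcφ with e | e | e | e
  · exact h'.vJ ((T.φ_ker _ hvH).1 e)
  · exact C.no_transvection h' mv' hvH std_pair.1 e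
  · exact C.no_transvection h' mv' hvH std_pair.2.1 e
  · refine h'.uJ ?_
    rw [h'.u_eq, ← T.φ_ker _ (mul_mem hvH hw'H), T.φ_mul _ hvH _ hw'H, e, hk]
    exact s₂_sq

end Crd3

end Cfsg.Agent.U62Rec
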