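/-
No pair of triples in the reducible case.

* `Mod3.T_fixT`, `Mod3.exists_fixed_one` : the fixed part under the whole centraliser;
* `Mod3.commutator_fixed` : commutators of elements centralising z and a centralise lifts of fixed vectors;
* `Mod3.red_kill` : there is no pair of triples.
-/
import Cfsg.Agent.Lib.U62Rec.TwoTri

set_option autoImplicit false

namespace Cfsg.Agent.U62Rec

open Cfsg.Agent.ThreeTransSU Cfsg.Agent.LargeExtraspecial
open scoped commutatorElement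

universe u v

namespace Two

variable {G : Type u} [Group G] {z a : G} (T : Two z a)
include T

theorem card_W : Nat.card {x // T.isW x} = 4 := by
  classical
  have := T.a_ne
  have := T.a_nez
  have := T.az_ne
  have := T.az_nez
  have := T.az_nea
  have := T.z_ne
  have hc : ({1, z, a, a * z} : Finset G).card = 4 := by
    simp [Finset.card_insert_of_notMem, *, Ne.symm T.z_ne, Ne.symm T.a_ne, Ne.symm T.az_ne, Ne.symm T.a_nez,
      Ne.symm T.az_nez, Ne.symm T.az_nea]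
  rw [← hc, ← Set.ncard_coe_finset, ← Nat.card_coe_set_eq]
  exact Nat.card_congr (Equiv.subtypeEquivRight fun x => by simp [Two.isW])

end Two

namespace Mod3

variable {G : Type u} [Group G] {z a : G} {T : Two z a} {V : Type v} [AddCommGroup V] (M : Mod3 T V)
include M

/-- The fixed part is invariant under the centraliser. -/
theorem T_fixT (hR : M.rep.IsRed) {x : G} (hx : Commute x z) {u : V} (hu : u ∈ M.rep.fixT) :
    M.T' x u ∈ M.rep.fixT := by
  intro b
  obtain ⟨k, hk, hkb⟩ := T.φ_surj (tor b)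
  have hk' := T.H0norm x⁻¹ hx.inv_left k hk
  have h := M.T_act hx hk' u
  rw [M.rep.fix_act hR hu, show x * (x⁻¹ * k * x⁻¹⁻¹) * x⁻¹ = k by group, hkb] at h
  exact h.symm

/-- A nonsingular fixed vector fixed by the whole centraliser. -/
theorem exists_fixed_one [Finite G] (hR : M.rep.IsRed) :
    ∃ u ∈ M.rep.fixT, M.rep.q u = 1 ∧ ∀ x, Commute x z → M.T' x u = u := by
  classical
  haveI := M.rep.finite
  obtain ⟨x0, hx0, hx0H⟩ := T.hout
  have hin : ∀ h ∈ T.H0, ∀ u ∈ M.rep.fixT, M.T' h u = u := fun h hh u hu => by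
    rw [M.T_of_mem hh, M.rep.fix_act hR hu]
  suffices hex : ∃ u ∈ M.rep.fixT, M.rep.q u = 1 ∧ M.T' x0 u = u by
    obtain ⟨u, hu, hq, hux⟩ := hex
    refine ⟨u, hu, hq, fun x hx => ?_⟩
    by_cases hxH : x ∈ T.H0
    · exact hin x hxH u hu
    · have hm := T.out_mul x x0 hx hx0 hxH hx0H
      have hi : M.T' x0⁻¹ u = u := by conv_lhs => rw [← hux, M.T_inv hx0]
      rw [show x = x * x0 * x0⁻¹ by group, M.T_mul (hx.mul_left hx0) hx0.inv_left, hi, hin _ hm u hu]
  obtain ⟨u, hu, hqu⟩ : ∃ u ∈ M.rep.fixT, M.rep.q u = 1 := by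
    by_contra! hn
    have h0 : ∀ u ∈ M.rep.fixT, M.rep.q u = 0 := fun u hu => (two_cases _).resolve_right (hn u hu)
    have hb : ∀ u ∈ M.rep.fixT, u = 0 := fun u hu => M.rep.fix_nondeg hu fun v hv => by
      have h := M.rep.q_add u v
      rw [h0 _ (add_mem hu hv), h0 u hu, h0 v hv, zero_add, zero_add] at h
      exact h.symm
    haveI : Subsingleton M.rep.fixT := ⟨fun x y => Subtype.ext ((hb x x.2).trans (hb y y.2).symm)⟩
    have := hR.1
    rw [Nat.card_of_subsingleton (0 : M.rep.fixT)] at this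
    omega
  by_cases hfix : M.T' x0 u = u
  · exact ⟨u, hu, hqu, hfix⟩
  set u' := M.T' x0 u with hu'
  have hu'm : u' ∈ M.rep.fixT := M.T_fixT hR hx0 hu
  have hq' : M.rep.q u' = 1 := by rw [hu', M.T_q hx0, hqu]
  have hback : M.T' x0 u' = u := by rw [hu', ← M.T_mul hx0 hx0, hin _ (T.sq_mem hx0) u hu]
  refine ⟨u + u', add_mem hu hu'm, ?_, by rw [M.T_add hx0, hback, ← hu', add_comm]⟩
  rw [M.rep.q_add, hqu, hq']
  rcases two_cases (M.rep.β u u') with e | e
  swap
  · rw [e]; decide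
  exfalso
  have hu0 : u ≠ 0 := fun h => zero_ne_one (M.rep.qzero.symm.trans (h ▸ hqu))
  have hu'0 : u' ≠ 0 := fun h => zero_ne_one (M.rep.qzero.symm.trans (h ▸ hq'))
  have hs0 : u + u' ≠ 0 := fun h => hfix (M.rep.eq_of_add h).symm
  haveI : Fintype M.rep.fixT := Fintype.ofFinite _
  let l : Finset M.rep.fixT := {0, ⟨u, hu⟩, ⟨u', hu'm⟩, ⟨u + u', add_mem hu hu'm⟩}
  have hlc : l.card = 4 := by
    simp [l, Finset.card_insert_of_notMem, Subtype.ext_iff, hu0, Ne.symm hu0, hu'0, Ne.symm hu'0, hs0, Ne.symm hs0,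
      hfix, Ne.symm hfix]
  have hlu : l = Finset.univ := Finset.eq_univ_of_card l (by rw [hlc, ← Nat.card_eq_fintype_card, hR.1])
  refine hu0 (M.rep.fix_nondeg hu fun v hv => ?_)
  have hm : (⟨v, hv⟩ : M.rep.fixT) ∈ l := by rw [hlu]; exact Finset.mem_univ _
  simp only [l, Finset.mem_insert, Finset.mem_singleton, Subtype.ext_iff] at hm
  rcases hm with h | h | h | h <;> rw [h]
  · exact M.rep.bzero u
  · exact M.rep.bself u
  · exact e
  · rw [M.rep.baddr, M.rep.bself, e, add_zero]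

/-- Commutators of elements centralising z and a centralise a lift of a fixed vector. -/
theorem commutator_fixed {q : G} (hq : q ∈ T.J) (hfix : ∀ x, Commute x z → Commute x a → M.T' x (M.vc q) = M.vc q) {i j : G}
    (hi : Commute i z) (hia : Commute i a) (hj : Commute j z) (hja : Commute j a) : Commute ⁅i, j⁆ q := by
  have hw : ∀ x, Commute x z → Commute x a → ∃ e, T.isW e ∧ x * q * x⁻¹ = e * q := fun x hx hxa => by
    refine ⟨x * q * x⁻¹ * q⁻¹, M.vc_ker _ (mul_mem (T.norm x hx q hq) (inv_mem hq)) ?_, by group⟩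
    rw [M.vc_mul _ (T.norm x hx q hq) _ (inv_mem hq), M.vc_inv hq, ← M.T_vc hx hq, hfix x hx hxa, M.rep.self]
  have hc : ∀ x, Commute x z → Commute x a → ∀ e, T.isW e → Commute x e := fun x h1 h2 e he => by
    rcases he with rfl | rfl | rfl | rfl
    exacts [Commute.one_right x, h1, h2, h2.mul_right h1]
  obtain ⟨e1, w1, h1⟩ := hw i hi hia
  obtain ⟨e2, w2, h2⟩ := hw j hj hja
  have hij : i * j * q * (i * j)⁻¹ = e2 * e1 * q := by
    calc i * j * q * (i * j)⁻¹ = i * (j * q * j⁻¹) * i⁻¹ := by group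
      _ = i * (e2 * q) * i⁻¹ := by rw [h2]
      _ = e2 * (i * q * i⁻¹) := by rw [← mul_assoc i e2, (hc i hi hia e2 w2).eq]; group
      _ = e2 * e1 * q := by rw [h1, mul_assoc]
  have hji : j * i * q * (j * i)⁻¹ = e2 * e1 * q := by
    calc j * i * q * (j * i)⁻¹ = j * (i * q * i⁻¹) * j⁻¹ := by group
      _ = j * (e1 * q) * j⁻¹ := by rw [h1]
      _ = e1 * (j * q * j⁻¹) := by rw [← mul_assoc j e1, (hc j hj hja e1 w1).eq]; group
      _ = e2 * e1 * q := by rw [h2, ← mul_assoc, (T.W_J w2 (T.W_mem w1)).eq]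
  rw [← hji] at hij
  show ⁅i, j⁆ * q = q * ⁅i, j⁆
  have hqq : q = (j * i)⁻¹ * (i * j) * q * ((j * i)⁻¹ * (i * j))⁻¹ := by
    calc q = (j * i)⁻¹ * (j * i * q * (j * i)⁻¹) * (j * i) := by group
      _ = (j * i)⁻¹ * (i * j * q * (i * j)⁻¹) * (j * i) := by rw [hij]
      _ = _ := by group
  have hcm : ⁅i, j⁆ = (j * i) * ((j * i)⁻¹ * (i * j)) * (j * i)⁻¹ := by rw [commutatorElement_def]; group
  have hcc : Commute ((j * i)⁻¹ * (i * j)) ((j * i)⁻¹ * q * (j * i)) := by
    obtain ⟨e3, w3, h3⟩ := hw (j * i)⁻¹ (hj.mul_left hi).inv_left (hja.mul_left hia).inv_left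
    rw [inv_inv] at h3
    rw [h3]
    exact (hc _ ((hj.mul_left hi).inv_left.mul_left (hi.mul_left hj))
      ((hja.mul_left hia).inv_left.mul_left (hia.mul_left hja)) e3 w3).mul_right (mul_inv_eq_iff_eq_mul.1 hqq.symm)
  rw [hcm]
  have := commute_conj₀ (j * i) hcc
  rwa [show j * i * ((j * i)⁻¹ * q * (j * i)) * (j * i)⁻¹ = q by group] at this

theorem cbar_big [Finite G] (hR : M.rep.IsRed) {g : G} (h : Tri T g) :
    32 ≤ Nat.card (M.cbar (g * z * g⁻¹)) := by
  obtain ⟨x, hm, hx⟩ := h.exists_inner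
  have h1 := M.cbar_index hx (h.mem_notJ hm) (h.mem_sq hm)
  have h2 := M.rep.fix_big hR (k := T.φ x) (by rw [← T.φ_mul x hx x hx, h.mem_sq hm, T.φ_one])
    fun e => h.mem_notJ hm ((T.φ_ker x hx).1 e)
  rw [h.cbar_eq M hm] at h1
  omega

theorem cbar_nonabelian [Finite G] (hR : M.rep.IsRed) {g : G} (h : Tri T g) :
    ∃ i ∈ T.J, ∃ j ∈ T.J, Commute i (g * z * g⁻¹) ∧ Commute j (g * z * g⁻¹) ∧ ⁅i, j⁆ = z := by
  by_contra! hn
  have hiso := M.rep.isotropic_card (M.cbar (g * z * g⁻¹)) (by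
    rintro _ ⟨i, hi, hiw, rfl⟩ _ ⟨j, hj, hjw, rfl⟩
    refine (M.comm_iff i hi j hj).1 (commutatorElement_eq_one_iff_mul_comm.1 ?_)
    exact (T.comm i hi j hj).resolve_right (hn i hi j hj hiw hjw))
  have := M.cbar_big hR h
  omega

/-- No pair of triples. -/
theorem red_kill [Finite G] (hR : M.rep.IsRed) {g : G} (h : Tri T g) (h' : Tri T g⁻¹) : False := by
  classical
  haveI := M.rep.finite
  set z' := g⁻¹ * z * g⁻¹⁻¹ with hz'
  set a' := g⁻¹ * a * g⁻¹⁻¹ with ha'
  obtain ⟨i1, hi1, j1, hj1, hi1w, hj1w, hij1⟩ := M.cbar_nonabelian hR h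
  obtain ⟨i2, hi2, j2, hj2, hi2w, hj2w, hij2⟩ := M.cbar_nonabelian hR h'
  -- conjugation into the centraliser
  have hout : ∀ {j x : G}, Commute j (g * x * g⁻¹) → Commute (g⁻¹ * j * g) x := fun hc => commute_conj₀' g hc
  have hback : ∀ {j x : G}, Commute j (g⁻¹ * x * g⁻¹⁻¹) → Commute (g * j * g⁻¹) x := fun {j x} hc => by
    have := commute_conj₀' g⁻¹ hc
    rwa [inv_inv] at this
  -- a fixed vector
  obtain ⟨f, hfT, hqf, hffix⟩ := M.exists_fixed_one hR
  obtain ⟨q0, hq0, rfl⟩ := M.vc_surj f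
  have hq0sq : q0 * q0 = z := (T.sq q0 hq0).resolve_left fun e => by
    rw [(M.sq_iff q0 hq0).1 e] at hqf
    exact zero_ne_one hqf
  have hq0w : Commute q0 (g * z * g⁻¹) := by
    have hij : ⁅g * i2 * g⁻¹, g * j2 * g⁻¹⁆ = g * z * g⁻¹ := by
      rw [← hij2]; simp only [commutatorElement_def]; group
    rw [← hij]
    exact (M.commutator_fixed hq0 (fun x hx _ => hffix x hx) (hback hi2w) (hback ((h'.eqv i2 hi2).1 hi2w)) (hback hj2w)
      (hback ((h'.eqv j2 hj2).1 hj2w))).symm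
  have hz'H : z' ∈ T.H0 := by
    have e : z' = ⁅g⁻¹ * i1 * g, g⁻¹ * j1 * g⁆ := by
      rw [hz', ← hij1, inv_inv]; simp only [commutatorElement_def]; group
    rw [e]
    exact T.commutator_mem (hout hi1w) (hout hj1w)
  -- lifts of the fixed part commute with z'
  have hQ : ∀ q ∈ T.J, M.vc q ∈ M.rep.fixT → Commute q z' := by
    intro q hq hqT
    by_contra hn
    have hfb : ∀ b : U4, M.rep.act b (M.vc q) = M.vc q := fun b => M.rep.fix_act hR hqT b
    have hz'q : ⁅z', q⁆ = z := (T.fixT_comm M hq hfb hz'H).resolve_left fun e =>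
      hn (Commute.symm (commutatorElement_eq_one_iff_mul_comm.1 e))
    have hza : ¬ Commute q a' := fun hc => hn ((h'.eqv q hq).2 hc)
    by_cases ha'H : a' ∈ T.H0
    · have ha'q : ⁅a', q⁆ = z := (T.fixT_comm M hq hfb ha'H).resolve_left fun e =>
        hza (Commute.symm (commutatorElement_eq_one_iff_mul_comm.1 e))
      refine hza (h'.equ q hq (Commute.symm (commutatorElement_eq_one_iff_mul_comm.1 ?_)))
      rw [h'.u_eq, show ⁅a' * z', q⁆ = a' * ⁅z', q⁆ * a'⁻¹ * ⁅a', q⁆ by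
          simp only [commutatorElement_def]; group, hz'q, ha'q, T.W_conj ha'H T.W_z, T.z_sq]
    · have hi0z : Commute (g⁻¹ * q0 * g) z := hout hq0w
      have hi0sq : g⁻¹ * q0 * g * (g⁻¹ * q0 * g) = z' := by
        rw [hz', inv_inv, ← hq0sq]; group
      obtain ⟨i, hi, hisq⟩ : ∃ i ∈ T.H0, i * i = z' := by
        by_cases hm : g⁻¹ * q0 * g ∈ T.H0
        · exact ⟨_, hm, hi0sq⟩
        · refine ⟨g⁻¹ * q0 * g * a', T.out_mul _ _ hi0z h'.vz hm ha'H, ?_⟩
          have hc : q0 * a = a * q0 := (T.J_a hq0).eq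
          have e : q0 * a * (q0 * a) = q0 * q0 := by
            rw [show q0 * a * (q0 * a) = q0 * (a * q0) * a by group, ← hc,
              show q0 * (q0 * a) * a = q0 * q0 * (a * a) by group, T.a_sq, mul_one]
          calc g⁻¹ * q0 * g * a' * (g⁻¹ * q0 * g * a') = g⁻¹ * (q0 * a * (q0 * a)) * g := by
                rw [ha', inv_inv]; group
            _ = z' := by rw [e, hq0sq, hz', inv_inv]
      refine hn (Commute.symm (commutatorElement_eq_one_iff_mul_comm.1 ?_))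
      rw [← hisq, show ⁅i * i, q⁆ = i * ⁅i, q⁆ * i⁻¹ * ⁅i, q⁆ by simp only [commutatorElement_def]; group]
      rcases T.fixT_comm M hq hfb hi with e | e <;> rw [e]
      · group
      · rw [T.W_conj hi T.W_z, T.z_sq]
  -- the group of lifts
  let Qf : Subgroup G :=
    { carrier := {q | q ∈ T.J ∧ M.vc q ∈ M.rep.fixT}
      one_mem' := ⟨one_mem _, by rw [M.vc_one]; exact zero_mem _⟩
      mul_mem' := fun {p q} hp hq => ⟨mul_mem hp.1 hq.1, by rw [M.vc_mul _ hp.1 _ hq.1]; exact add_mem hp.2 hq.2⟩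
      inv_mem' := fun {p} hp => ⟨inv_mem hp.1, by rw [M.vc_inv hp.1]; exact hp.2⟩ }
  have hnd : ∀ p ∈ Qf, ¬ T.isW p → ∃ q ∈ Qf, ⁅p, q⁆ = z := by
    intro p hp hpW
    by_contra! hn
    refine M.vc_ne_zero hp.1 hpW (M.rep.fix_nondeg hp.2 fun v hv => ?_)
    obtain ⟨q, hq, rfl⟩ := M.vc_surj v
    exact (M.comm_iff p hp.1 q hq).1
      (commutatorElement_eq_one_iff_mul_comm.1 ((T.comm p hp.1 q hq).resolve_right (hn q ⟨hq, hv⟩)))
  have hQz : ∀ p ∈ Qf, Commute (g * p * g⁻¹) z := fun p hp => hback (hQ p hp.1 hp.2)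
  have htriv : ∀ p ∈ Qf, g * p * g⁻¹ ∈ T.J → p = 1 := by
    intro p hp hpJ
    by_contra hp1
    by_cases hW : T.isW p
    · rcases hW with rfl | rfl | rfl | rfl
      exacts [hp1 rfl, h.wJ hpJ, h.vJ hpJ, h.uJ hpJ]
    · obtain ⟨q, hq, hpq⟩ := hnd p hp hW
      refine h.wJ ?_
      have e : g * ⁅p, q⁆ * g⁻¹ = g * p * g⁻¹ * (g * q * g⁻¹ * (g * p * g⁻¹)⁻¹ * (g * q * g⁻¹)⁻¹) := by
        simp only [commutatorElement_def]; group
      rw [hpq] at e
      rw [e]
      exact mul_mem hpJ (T.norm _ (hQz q hq) _ (inv_mem hpJ))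
  let Tp : Qf → V → V := fun p => M.T' (g * p * g⁻¹)
  have hP : Nat.card Qf = 16 := by
    let π : Qf →* Multiplicative M.rep.fixT :=
      MonoidHom.mk' (fun q => Multiplicative.ofAdd ⟨M.vc q, q.2.2⟩) fun p q =>
        congrArg Multiplicative.ofAdd (Subtype.ext (M.vc_mul _ p.2.1 _ q.2.1))
    have hr : π.range = ⊤ := by
      refine eq_top_iff.2 fun y _ => ?_
      obtain ⟨q, hq, e⟩ := M.vc_surj (Multiplicative.toAdd y : M.rep.fixT)
      refine ⟨⟨q, hq, by rw [e]; exact (Multiplicative.toAdd y).2⟩, ?_⟩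
      exact congrArg Multiplicative.ofAdd (Subtype.ext e)
    have hk : Nat.card π.ker = 4 := by
      rw [← T.card_W]
      exact Nat.card_congr
        { toFun := fun q => ⟨(q.1 : G), M.vc_ker _ q.1.2.1
            (congrArg (fun y : Multiplicative M.rep.fixT => ((Multiplicative.toAdd y : M.rep.fixT) : V)) q.2)⟩
          invFun := fun x => ⟨⟨x.1, T.W_mem x.2, by rw [M.vc_W x.2]; exact zero_mem _⟩,
            congrArg Multiplicative.ofAdd (Subtype.ext (M.vc_W x.2))⟩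
          left_inv := fun _ => rfl
          right_inv := fun _ => rfl }
    have h0 := π.ker.card_mul_index
    rw [Subgroup.index_ker, hr, Subgroup.card_top, hk, Nat.card_congr (Multiplicative.toAdd (α := M.rep.fixT)),
      hR.1] at h0
    exact h0.symm
  have hab := M.rep.small_group Tp (fun p q v => by
      show M.T' (g * (p * q : G) * g⁻¹) v = _
      rw [show g * ((p : G) * q) * g⁻¹ = g * p * g⁻¹ * (g * q * g⁻¹) by group]
      exact M.T_mul (hQz p p.2) (hQz q q.2) v)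
    (fun p => M.T_add (hQz p p.2)) (fun p => M.T_q (hQz p p.2))
    (fun p hp => Subtype.ext (htriv p p.2 (M.triv_inner (hQz p p.2) hp))) (M.cbar (g * z * g⁻¹))
    (fun p u hu => by
      obtain ⟨j, hj, hjw, rfl⟩ := hu
      show M.T' (g * (p : G) * g⁻¹) (M.vc j) = M.vc j
      rw [M.T_vc (hQz p p.2) hj]
      set j0 := g⁻¹ * j * g with hj0
      have hj0z : Commute j0 z := hout hjw
      have hc : j0 * (p : G)⁻¹ * j0⁻¹ ∈ Qf := ⟨T.norm j0 hj0z _ (inv_mem p.2.1), by
        rw [← M.T_vc hj0z (inv_mem p.2.1)]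
        exact M.T_fixT hR hj0z (by rw [M.vc_inv p.2.1]; exact p.2.2)⟩
      have hcQ : ⁅(p : G), j0⁆ ∈ Qf := by
        rw [show ⁅(p : G), j0⁆ = p * (j0 * (p : G)⁻¹ * j0⁻¹) by simp only [commutatorElement_def]; group]
        exact mul_mem p.2 hc
      have e : g * ⁅(p : G), j0⁆ * g⁻¹ = g * p * g⁻¹ * j * (g * p * g⁻¹)⁻¹ * j⁻¹ := by
        rw [hj0]; simp only [commutatorElement_def]; group
      have h1 := htriv _ hcQ (by
        rw [e]
        exact mul_mem (T.norm _ (hQz p p.2) j hj) (inv_mem hj))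
      rw [h1, mul_one, mul_inv_cancel] at e
      rw [(mul_inv_eq_one.1 e.symm)])
    hP (M.cbar_big hR h)
  obtain ⟨u, hu, hu0⟩ : ∃ u ∈ M.rep.fixT, u ≠ 0 := ⟨M.vc q0, hfT, fun e => by
    rw [e, M.rep.qzero] at hqf
    exact zero_ne_one hqf⟩
  obtain ⟨p, hp, rfl⟩ := M.vc_surj u
  obtain ⟨q, hq, hpq⟩ := hnd p ⟨hp, hu⟩ fun hW => hu0 (M.vc_W hW)
  have hc : p * q = q * p := congrArg Subtype.val (hab ⟨p, hp, hu⟩ ⟨q, hq⟩)
  exact T.z_ne (hpq.symm.trans (commutatorElement_eq_one_iff_mul_comm.2 hc))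

end Mod3

end Cfsg.Agent.U62Rec
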