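/-
No pair of triples.

* `Two.kill` : there is no triple whose reverse is a triple.
-/
import Cfsg.Agent.Lib.U62Rec.TwoNatKill
import Cfsg.Agent.Lib.U62Rec.TwoRedKill

set_option autoImplicit false

namespace Cfsg.Agent.U62Rec

universe u

variable {G : Type u} [Group G] [Finite G] {z a : G}

/-- No pair of triples. -/
theorem Two.kill (T : Two z a) {g : G} (h : Tri T g) (h' : Tri T g⁻¹) : False := by
  obtain ⟨V, _, M, -⟩ := T.exists_mod3
  rcases M.rep.dichotomy with hn | hr
  · obtain ⟨ψ, ⟨C⟩⟩ := M.exists_crd hn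
    exact C.nat_kill (h.twist ψ)
  · exact M.red_kill hr h h'

end Cfsg.Agent.U62Rec
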