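/-
A conjugate of z inside J with a conjugate of a outside, when both are trapped.

* `Crd3.jcase_nat`, `Mod3.jcase_red` : impossible in either shape;
* `Two.jcase` : impossible.
-/
import Cfsg.Agent.Lib.U62Rec.TwoKill

set_option autoImplicit false

namespace Cfsg.Agent.U62Rec

open Cfsg.Agent.ThreeTransSU Cfsg.Agent.U62Cover Cfsg.Agent.LargeExtraspecial
open scoped commutatorElement

universe u v

variable {G : Type u} [Group G] [Finite G] {z a : G} {T : Two z a} {V : Type v} [AddCommGroup V]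

namespace Crd3

variable {M : Mod3 T V} (C : Crd3 M)
include C

omit [Finite G] in
/-- A vector orthogonal to the perpendicular of p lies on its line. -/
theorem line_of_perp {p q f gg : V4} (hfr : Frame p q f gg) {w : V4}
    (h : ∀ x, hf x p = 0 → B x w = 0) : w = hf w f • p := by
  have hz : ∀ x, hf x p = 0 → hf w x = 0 := fun x hx => hs0 (trace_all fun c => by
    have := h (c • x) (by rw [sl, hx, mul_zero])
    rwa [B, sl] at this)
  conv_lhs => rw [hfr.expand w]
  rw [hz gg hfr.gp, hz p hfr.pp, hz q hfr.qp]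
  simp

/-- The natural shape. -/
theorem jcase_nat (hI : T.Iso) {g : G} (hw : Commute (g * z * g⁻¹) z) (hv : Commute (g * a * g⁻¹) z)
    (hwJ : g * z * g⁻¹ ∈ T.J) (hwW : ¬ T.isW (g * z * g⁻¹)) (hvJ : g * a * g⁻¹ ∉ T.J)
    (hbig : 64 ≤ Nat.card (M.cbar (g * a * g⁻¹))) : False := by
  classical
  haveI := M.rep.finite
  set v := g * a * g⁻¹ with hvdef
  set w := g * z * g⁻¹ with hwdef
  have hv2 : v * v = 1 := by
    rw [hvdef, show g * a * g⁻¹ * (g * a * g⁻¹) = g * (a * a) * g⁻¹ by group, T.a_sq, mul_one, mul_inv_cancel]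
  have hvi : v⁻¹ = v := inv_eq_of_mul_eq_one_right hv2
  have hvH : v ∈ T.H0 := by
    by_contra hvo
    have h16 := C.anti_fix hv (by rw [hv2]; exact one_mem _) hvo
    have := AddSubgroup.card_le_of_le (M.cbar_fix hv)
    omega
  have hk2 : T.φ v * T.φ v = 1 := by rw [← T.φ_mul v hvH v hvH, hv2, T.φ_one]
  have hkne : T.φ v ≠ 1 := fun e => hvJ ((T.φ_ker v hvH).1 e)
  have hfixle := AddSubgroup.card_le_of_le (M.cbar_fixV hvH)
  obtain ⟨p, hp, hφ⟩ : ∃ p, Iso p ∧ T.φ v = t4 p := by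
    rcases invol_cases hk2 hkne with h | ⟨p, q, hpq, hφ⟩
    · exact h
    exfalso
    obtain ⟨f, gg, hfr⟩ := exists_frame hpq
    have hfx : ∀ u : M.rep.fixV (T.φ v), hf (C.f u) p = 0 ∧ hf (C.f u) q = 0 := fun u =>
      (fix_two hpq _).1 (by rw [← hφ, ← C.fc, show M.rep.act (T.φ v) (u : V) = u from u.2])
    have h16 : Nat.card (M.rep.fixV (T.φ v)) ≤ 16 := by
      refine le_trans (Nat.card_le_card_of_injective (fun u => (hf (C.f u.1) f, hf (C.f u.1) gg)) ?_) ?_
      · intro u u' e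
        simp only [Prod.mk.injEq] at e
        exact Subtype.ext (C.fb.1 (hfr.eq_of ((hfx u).1.trans (hfx u').1.symm) ((hfx u).2.trans (hfx u').2.symm)
          e.1 e.2))
      · rw [Nat.card_eq_fintype_card, Fintype.card_prod, cardK]
    omega
  obtain ⟨q, f, gg, hfr⟩ := exists_frame_one hp
  have hfixp : ∀ u : V, M.rep.act (T.φ v) u = u ↔ hf (C.f u) p = 0 := fun u => by
    rw [← C.fb.1.eq_iff, C.fc, hφ]
    exact fix_one hp _
  -- the centraliser is the whole perpendicular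
  have h64 : Nat.card (M.rep.fixV (T.φ v)) ≤ 64 := by
    refine le_trans (Nat.card_le_card_of_injective (fun u => (hf (C.f u.1) f, hf (C.f u.1) gg, hf (C.f u.1) q)) ?_) ?_
    · intro u u' e
      simp only [Prod.mk.injEq] at e
      exact Subtype.ext (C.fb.1 (hfr.eq_of (((hfixp _).1 u.2).trans ((hfixp _).1 u'.2).symm) e.2.2 e.1 e.2.1))
    · rw [Nat.card_eq_fintype_card, Fintype.card_prod, Fintype.card_prod, cardK]
  have heq : M.cbar v = M.rep.fixV (T.φ v) :=
    AddSubgroup.eq_of_le_of_card_ge (M.cbar_fixV hvH) (le_trans h64 hbig)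
  have hall : ∀ d ∈ T.J, hf (C.vec d) p = 0 → Commute d v := fun d hd h0 =>
    M.cbar_lift hvH hd (by rw [heq]; exact (hfixp _).2 h0)
  have hBcomm : ∀ i ∈ T.J, ∀ j ∈ T.J, Commute i j → B (C.vec i) (C.vec j) = 0 := fun i hi j hj hc =>
    (C.β_iff _ _).1 ((M.comm_iff i hi j hj).1 hc)
  -- w lies on the line
  have hwline : C.vec w = hf (C.vec w) f • p := C.line_of_perp hfr fun x hx => by
    obtain ⟨i, hi, rfl⟩ := C.vec_surj x
    exact hBcomm i hi w hwJ (T.trap hI hw hi (hall i hi hx))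
  -- an element scaling the line
  obtain ⟨s, hsp, -⟩ := hfr.exists_diag (w := om) (by decide +kernel)
  obtain ⟨y, hy, hyφ⟩ := T.φ_surj s
  set d := v⁻¹ * (y * v * y⁻¹) with hd
  have hyv : y * v * y⁻¹ ∈ T.H0 := mul_mem (mul_mem hy hvH) (inv_mem hy)
  have hcs : Commute s (t4 p) := commute_tv hp (c := om) (by decide +kernel) hsp
  have hdJ : d ∈ T.J := by
    rw [hd, ← T.φ_ker _ (mul_mem (inv_mem hvH) hyv), T.φ_mul _ (inv_mem hvH) _ hyv, T.φ_inv hvH, T.φ_conj hy hvH,
      hyφ, hφ, hcs.eq, mul_inv_cancel_right, inv_mul_cancel]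
  have hdline : C.vec d = hf (C.vec d) f • p := C.line_of_perp hfr fun x hx => by
    obtain ⟨i, hi, rfl⟩ := C.vec_surj x
    refine hBcomm i hi d hdJ ?_
    have hi' : y⁻¹ * i * y ∈ T.J := by simpa using T.norm y⁻¹ (T.le y hy).inv_left i hi
    have hx' : hf (C.vec (y⁻¹ * i * y)) p = 0 := by
      have e := C.vec_conj (inv_mem hy) hi
      rw [inv_inv] at e
      rw [e, T.φ_inv hy, hyφ, ← act_hf s, act_act_inv, hsp, sr, hx, mul_zero]
    have h2 := commute_conj₀ y (hall _ hi' hx')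
    rw [show y * (y⁻¹ * i * y) * y⁻¹ = i by group] at h2
    exact (hall i hi hx).inv_right.mul_right h2
  obtain ⟨j, hj, hjξ⟩ := C.vec_surj (hf (C.vec d) f • f)
  have hDj : C.f (M.rep.D (T.φ v) (M.vc j)) = C.f (M.vc d) := by
    rw [Rep.D, C.fa, C.fc, show C.f (M.vc j) = _ from hjξ, ← R, hφ, R_one hp, sl, hfr.fp, mul_one]
    exact hdline.symm
  have hvj : v⁻¹ * j * v ∈ T.J := by simpa using T.norm v⁻¹ hv.inv_left j hj
  have hjd : j * d * j⁻¹ ∈ T.J := mul_mem (mul_mem hj hdJ) (inv_mem hj)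
  set e := v⁻¹ * j * v * j⁻¹ * (j * d * j⁻¹) with he
  have heW : T.isW e := M.vc_ker e (mul_mem (mul_mem hvj (inv_mem hj)) hjd) (by
    rw [he, M.vc_mul _ (mul_mem hvj (inv_mem hj)) _ hjd, M.vc_mul _ hvj _ (inv_mem hj), M.vc_inv hj,
      M.vc_mul _ (mul_mem hj hdJ) _ (inv_mem hj), M.vc_inv hj, M.vc_mul j hj d hdJ,
      show v⁻¹ * j * v = v * j * v⁻¹ by rw [hvi], M.vc_conj v hvH j hj]
    rw [← C.fb.1 hDj, Rep.D]
    generalize M.rep.act (T.φ v) (M.vc j) = r
    generalize M.vc j = x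
    have e1 : x + (x + r) + x = x + r := by rw [← add_assoc x x, M.rep.self, zero_add, add_comm]
    rw [e1, add_comm r x]
    exact M.rep.self _)
  set y1 := j * y with hy1
  have hy1H : y1 ∈ T.H0 := mul_mem (T.J_le hj) hy
  have hy1v : y1 * v * y1⁻¹ = v * e := by rw [hy1, he, hd]; group
  have hyy : y1 * y1 * v * (y1 * y1)⁻¹ = v := by
    rw [show y1 * y1 * v * (y1 * y1)⁻¹ = y1 * (y1 * v * y1⁻¹) * y1⁻¹ by group, hy1v,
      show y1 * (v * e) * y1⁻¹ = y1 * v * y1⁻¹ * (y1 * e * y1⁻¹) by group, hy1v, T.W_conj hy1H heW, mul_assoc,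
      T.W_sq heW, mul_one]
  -- it fixes w
  have hy2H : y1 * y1 ∈ T.H0 := mul_mem hy1H hy1H
  have hcJ : ⁅w, y1 * y1⁆ ∈ T.J := by
    rw [show ⁅w, y1 * y1⁆ = w * (y1 * y1 * w⁻¹ * (y1 * y1)⁻¹) by simp only [commutatorElement_def]; group]
    exact mul_mem hwJ (T.norm _ (T.le _ hy2H) _ (inv_mem hwJ))
  have hc : Commute w (y1 * y1) := commutatorElement_eq_one_iff_mul_comm.1
    (T.odd_J hcJ (T.trap' hI (mul_inv_eq_iff_eq_mul.1 hyy)))
  have hfw : C.vec (y1 * y1 * w * (y1 * y1)⁻¹) = C.vec w := by rw [← hc.eq, mul_inv_cancel_right]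
  have hφy : T.φ (y1 * y1) = s * s := by
    rw [T.φ_mul _ hy1H _ hy1H, hy1, T.φ_mul _ (T.J_le hj) _ hy, T.φ_J hj, one_mul, hyφ]
  rw [C.vec_conj hy2H hwJ, hφy, hwline, act_smul, act_mul, hsp, act_smul, hsp, smul_smul, smul_smul] at hfw
  have h0 : hf (C.vec w) f = 0 := by
    have h := smul_left_injective K hp.1 hfw
    have : ∀ c : K, c * om * om = c → c = 0 := by decide +kernel
    exact this _ h
  rw [h0, zero_smul] at hwline
  exact hwW (M.vc_ker w hwJ (C.fb.1 (hwline.trans C.f_zero.symm)))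

end Crd3

namespace Mod3

variable (M : Mod3 T V)
include M

/-- The reducible shape. -/
theorem jcase_red (hR : M.rep.IsRed) (hs : ¬ T.central) {g : G} (hw : Commute (g * z * g⁻¹) z)
    (hv : Commute (g * a * g⁻¹) z) (hwJ : g * z * g⁻¹ ∈ T.J) (hwW : ¬ T.isW (g * z * g⁻¹))
    (hvJ : g * a * g⁻¹ ∉ T.J) (hbig : 64 ≤ Nat.card (M.cbar (g * a * g⁻¹))) {i j : G} (hi : i ∈ T.J) (hj : j ∈ T.J)
    (hiw : Commute i (g⁻¹ * z * g)) (hiv : Commute i (g⁻¹ * a * g)) (hjw : Commute j (g⁻¹ * z * g))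
    (hjv : Commute j (g⁻¹ * a * g)) (hij : ⁅i, j⁆ = z) (htrap : ∀ x ∈ T.J, Commute x (g * a * g⁻¹) →
      Commute x (g * z * g⁻¹)) : False := by
  classical
  haveI := M.rep.finite
  set v := g * a * g⁻¹ with hvdef
  set w := g * z * g⁻¹ with hwdef
  set b := M.vc w with hbdef
  have hv2 : v * v = 1 := by
    rw [hvdef, show g * a * g⁻¹ * (g * a * g⁻¹) = g * (a * a) * g⁻¹ by group, T.a_sq, mul_one, mul_inv_cancel]
  have hvw : Commute v w := commute_conj₀ g T.az_comm
  have hw2 : w * w = 1 := by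
    rw [hwdef, show g * z * g⁻¹ * (g * z * g⁻¹) = g * (z * z) * g⁻¹ by group, T.z_sq, mul_one, mul_inv_cancel]
  -- w centralises the lifts of the fixed part
  have hb0 : M.rep.eT b = 0 := M.rep.eT_of_orth hR fun u hu => by
    obtain ⟨q, hq, rfl⟩ := M.vc_surj u
    refine (M.comm_iff q hq w hwJ).1 ?_
    have hc : ∀ {x y : G}, Commute x (g⁻¹ * y * g) → Commute (g * x * g⁻¹) y := fun {x y} h => by
      have := commute_conj₀ g h
      rwa [show g * (g⁻¹ * y * g) * g⁻¹ = y by group] at this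
    have e : ⁅g * i * g⁻¹, g * j * g⁻¹⁆ = w := by
      rw [hwdef, ← hij]; simp only [commutatorElement_def]; group
    rw [← e]
    exact (M.commutator_fixed hq (fun x hx hxa => by
      rw [M.T_of_mem (T.mem_of_swap hs hx hxa), M.rep.fix_act hR hu]) (hc hiw) (hc hiv) (hc hjw) (hc hjv)).symm
  have hb : b ≠ 0 := M.vc_ne_zero hwJ hwW
  have hqb : M.rep.q b = 0 := (M.sq_iff w hwJ).1 hw2
  obtain ⟨c, hc, hcb⟩ := M.rep.exists_five hR b
  have hc5 : c ^ 5 = 1 := hc ▸ pow_orderOf_eq_one c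
  -- a lift centralising w
  obtain ⟨h, hh, hhw, hhφ⟩ : ∃ h ∈ T.H0, Commute h w ∧ T.φ h = c := by
    obtain ⟨h, hh, hhφ⟩ := T.φ_surj c
    have hm : h * w * h⁻¹ ∈ T.J := T.norm h (T.le h hh) w hwJ
    set e := w⁻¹ * (h * w * h⁻¹) with he
    have heW : T.isW e := M.vc_eq hm hwJ (by rw [M.vc_conj h hh w hwJ, hhφ, hcb])
    have hconj : h * w * h⁻¹ = w * e := by rw [he]; group
    have hp : ∀ n : ℕ, h ^ n * w * (h ^ n)⁻¹ = w * e ^ n := fun n => by
      induction n with
      | zero => simp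
      | succ n ih =>
        rw [show h ^ (n + 1) * w * (h ^ (n + 1))⁻¹ = h * (h ^ n * w * (h ^ n)⁻¹) * h⁻¹ by
            rw [pow_succ']; group, ih,
          show h * (w * e ^ n) * h⁻¹ = h * w * h⁻¹ * (h * e ^ n * h⁻¹) by group, hconj,
          ((T.W_comm heW hh).pow_right n).eq, mul_inv_cancel_right, mul_assoc, pow_succ']
    have h5J : h ^ 5 ∈ T.J := (T.φ_ker _ (pow_mem hh 5)).1 (by rw [T.φ_pow hh, hhφ, hc5])
    have he5 : e = 1 ∨ e = z := by
      have e5 : e ^ 5 = e := by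
        rw [show (5 : ℕ) = 2 + 2 + 1 from rfl, pow_add, pow_add, pow_two, T.W_sq heW, one_mul, one_mul, pow_one]
      have hcm : ⁅h ^ 5, w⁆ = w * e * w⁻¹ := by rw [commutatorElement_def, hp, e5]
      rw [(T.W_J heW hwJ).eq, mul_inv_cancel_right] at hcm
      rcases T.comm _ h5J w hwJ with h' | h' <;> rw [hcm] at h'
      exacts [Or.inl h', Or.inr h']
    rcases he5 with e1 | e1
    · exact ⟨h, hh, mul_inv_eq_iff_eq_mul.1 (by rw [hconj, e1, mul_one]), hhφ⟩
    · obtain ⟨j0, hj0, hj0w⟩ : ∃ j0 ∈ T.J, ⁅j0, w⁆ = z := by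
        by_contra! hn
        exact hwW (T.W_of_cent fun x hx => commutatorElement_eq_one_iff_mul_comm.1
          ((T.comm x hx w hwJ).resolve_right (hn x hx)))
      refine ⟨j0 * h, mul_mem (T.J_le hj0) hh, mul_inv_eq_iff_eq_mul.1 ?_, by
        rw [T.φ_mul _ (T.J_le hj0) _ hh, T.φ_J hj0, one_mul, hhφ]⟩
      calc j0 * h * w * (j0 * h)⁻¹ = j0 * (h * w * h⁻¹) * j0⁻¹ := by group
        _ = j0 * (w * z) * j0⁻¹ := by rw [hconj, e1]
        _ = ⁅j0, w⁆ * w * (j0 * z * j0⁻¹) := by rw [commutatorElement_def]; group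
        _ = z * (w * z) := by rw [hj0w, (T.J_z hj0).eq, mul_inv_cancel_right, mul_assoc]
        _ = w := by rw [(T.J_z hwJ).eq, ← mul_assoc, T.z_sq, one_mul]
  -- its square centralises v
  have hgz : Commute (g⁻¹ * h * g) z := commute_conj₀' g hhw
  have hhv : h * h * v * (h * h)⁻¹ = v := by
    have hyv : h * v * h⁻¹ = v ∨ h * v * h⁻¹ = v * w := by
      have e : h * v * h⁻¹ = g * ((g⁻¹ * h * g) * a * (g⁻¹ * h * g)⁻¹) * g⁻¹ := by rw [hvdef]; group
      rcases T.aconj _ hgz with p | p <;> rw [e, p]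
      · exact Or.inl rfl
      · exact Or.inr (by rw [hvdef, hwdef]; group)
    rw [show h * h * v * (h * h)⁻¹ = h * (h * v * h⁻¹) * h⁻¹ by group]
    rcases hyv with p | p <;> rw [p]
    · exact p
    · rw [show h * (v * w) * h⁻¹ = h * v * h⁻¹ * (h * w * h⁻¹) by group, p, hhw.eq, mul_inv_cancel_right,
        mul_assoc, hw2, mul_one]
  set k := h * h with hkdef
  have hk : k ∈ T.H0 := mul_mem hh hh
  set d := c * c with hddef
  have hd : orderOf d = 5 := by
    rw [hddef, ← pow_two, Nat.Coprime.orderOf_pow (by rw [hc]; norm_num), hc]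
  have hd5 : d ^ 5 = 1 := hd ▸ pow_orderOf_eq_one d
  have hkφ : T.φ k = d := by rw [hkdef, T.φ_mul h hh h hh, hhφ]
  have hkv : Commute k v := mul_inv_eq_iff_eq_mul.1 hhv
  have hdb : M.rep.act d b = b := by rw [hddef, M.rep.act_mul, hcb, hcb]
  have hTd : ∀ u, M.T' v (M.rep.act d u) = M.rep.act d (M.T' v u) := fun u => by
    have := M.T_act hv hk u
    rwa [show v * k * v⁻¹ = k by rw [← hkv.eq, mul_inv_cancel_right], hkφ] at this
  -- the differences are fixed by d
  set N := M.rep.perp (M.cbar v) with hN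
  have hN4 : Nat.card N ≤ 4 := by
    have h1 := M.rep.card_perp (M.cbar v)
    by_contra hlt
    have h2 : 5 ≤ Nat.card N := by omega
    have := Nat.mul_le_mul hbig h2
    rw [hN] at this
    omega
  have hDN : ∀ u, M.T' v u + u ∈ N := fun u s hs' => by
    have h := M.T_β hv s u
    rw [show M.T' v s = s from M.cbar_fix hv hs'] at h
    rw [M.rep.baddr, h]
    exact ZModModule.add_self _
  have hbN : b ∈ N := by
    rintro _ ⟨x, hx, hxv, rfl⟩
    exact (M.comm_iff x hx w hwJ).1 (htrap x hx hxv)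
  have hNinv : ∀ n ∈ N, M.rep.act d n ∈ N := fun n hn s hs' => by
    obtain ⟨x, hx, hxv, rfl⟩ := hs'
    have hx' : k⁻¹ * x * k ∈ T.J := by simpa using T.norm k⁻¹ (T.le k hk).inv_left x hx
    have h1 := hn _ ⟨_, hx', (hkv.inv_left.mul_left hxv).mul_left hkv, rfl⟩
    have e := M.vc_conj k hk _ hx'
    rw [show k * (k⁻¹ * x * k) * k⁻¹ = x by group, hkφ] at e
    rw [e, M.rep.bact]
    exact h1
  have hNfix : ∀ n ∈ N, M.rep.act d n = n := by
    intro n hn
    have h5 := M.rep.five_count hd5 N hNinv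
    let incl : {x : V // x ∈ N ∧ M.rep.act d x = x} → N := fun x => ⟨x.1, x.2.1⟩
    have hincl : Function.Injective incl := fun x y e => Subtype.ext (congrArg (fun y : N => (y : V)) e)
    have hle := Nat.card_le_card_of_injective incl hincl
    rw [Nat.mod_eq_of_lt (by omega), Nat.mod_eq_of_lt (by omega)] at h5
    have hbij : Function.Bijective incl := (Nat.bijective_iff_injective_and_card incl).2 ⟨hincl, h5.symm⟩
    obtain ⟨x, hx⟩ := hbij.2 ⟨n, hn⟩
    rw [← show (x : V) = n from congrArg (fun y : N => (y : V)) hx]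
    exact x.2.2
  have hTP : ∀ u, M.rep.P5 d (M.T' v u) = M.T' v (M.rep.P5 d u) := fun u => by
    have hpow : ∀ n : ℕ, M.T' v (M.rep.act (d ^ n) u) = M.rep.act (d ^ n) (M.T' v u) := fun n => by
      induction n with
      | zero => rw [pow_zero, M.rep.act_one, M.rep.act_one]
      | succ n ih =>
        rw [pow_succ', M.rep.act_mul, hTd, ih]
        exact (M.rep.act_mul _ _ _).symm
    let Tm : V →+ V := { toFun := M.T' v, map_zero' := M.T_zero hv, map_add' := M.T_add hv }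
    show _ = Tm (M.rep.P5 d u)
    rw [Rep.P5, Rep.P5, map_sum]
    exact Finset.sum_congr rfl fun i _ => (hpow i).symm
  have hker : ∀ u, M.rep.P5 d u = 0 → M.T' v u = u := fun u hu => by
    have e := M.rep.P5_fixed (hNfix _ (hDN u))
    rw [M.rep.P5_add, hTP, hu, M.T_zero hv, add_zero] at e
    exact M.rep.eq_of_add e.symm
  have hTsix : ∀ u, M.rep.eT u = 0 → M.rep.eT (M.T' v u) = 0 := fun u hu =>
    M.rep.eT_of_orth hR fun f hf => by
      rw [← M.T_invol hv (by rw [hv2]; exact one_mem _) f, M.T_β hv]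
      exact M.rep.orth_fix hR (M.T_fixT hR hv hf) hu
  have hTb : M.T' v b = b := by rw [hbdef, M.T_vc hv hwJ, hvw.eq, mul_inv_cancel_right]
  have hbsix : b ∈ M.rep.six hR hd := ⟨hdb, hb0⟩
  have hplane : ∀ u ∈ M.rep.six hR hd, M.T' v u = u := by
    intro u hu
    set y := M.T' v u + u with hy
    have hysix : y ∈ M.rep.six hR hd := ⟨by rw [hy, map_add, ← hTd, hu.1], by
      rw [hy, M.rep.eT_add, hTsix _ hu.2, hu.2, add_zero]⟩
    have hyb : M.rep.β y b = 0 := by
      have e := M.T_β hv u b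
      rw [hTb] at e
      rw [hy, M.rep.β_add, e]
      exact ZModModule.add_self _
    rcases M.rep.plane hR hd hbsix hb hysix hyb (M.rep.bself b) with e | e
    · exact M.rep.eq_of_add e
    · exfalso
      have hTu : M.T' v u = u + b := by rw [← e, hy, add_comm (M.T' v u) u, ← add_assoc, M.rep.self, zero_add]
      have hq := M.T_q hv u
      rw [hTu, M.rep.q_add, hqb, add_zero, add_eq_left] at hq
      rcases M.rep.plane hR hd hbsix hb hu hq (M.rep.bself b) with e' | e'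
      · rw [e', zero_add, M.T_zero hv] at hTu; exact hb hTu.symm
      · rw [e', hTb, M.rep.self] at hTu; exact hb hTu
  have hsix : ∀ u, M.rep.eT u = 0 → M.T' v u = u := by
    intro u hu
    have hdec : u = (u + M.rep.P5 d u) + M.rep.P5 d u := by rw [add_assoc, M.rep.self, add_zero]
    have hP : M.rep.P5 d u ∈ M.rep.six hR hd := ⟨(M.rep.P5_act hd5 u).2, by
      have e := congrArg M.rep.eT hdec
      rw [M.rep.eT_add, hu, M.rep.kerP_eT hR hd (M.rep.P5_split hd5 u), zero_add] at e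
      exact e.symm⟩
    conv_lhs => rw [hdec]
    rw [M.T_add hv, hker _ (M.rep.P5_split hd5 u), hplane _ hP, ← hdec]
  -- v is inner, and acts trivially
  have hsplit : ∀ u, (u + M.rep.eT u) + M.rep.eT u = u := fun u => by rw [add_assoc, M.rep.self, add_zero]
  have hv0 : ∀ u, M.rep.eT (u + M.rep.eT u) = 0 := fun u => by rw [M.rep.eT_add, M.rep.eT_eT, M.rep.self]
  have hvH : v ∈ T.H0 := T.out v hv fun l hl => by
    refine (inv_mul_eq_one.1 (M.rep.faithful _ fun u => ?_)).symm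
    have key : M.rep.act (T.φ (v * l * v⁻¹)) (u + M.rep.eT u) = M.rep.act (T.φ l) (u + M.rep.eT u) := by
      have h' := M.T_act hv hl (u + M.rep.eT u)
      rw [hsix _ (hv0 u), hsix _ (by rw [M.rep.eT_act hR, hv0])] at h'
      exact h'.symm
    have e : M.rep.act (T.φ (v * l * v⁻¹)) u = M.rep.act (T.φ l) u := by
      have hu := hsplit u
      generalize u + M.rep.eT u = p at key hu
      rw [← hu, map_add, map_add, key, M.rep.fix_act hR (M.rep.eT_mem u), M.rep.fix_act hR (M.rep.eT_mem u)]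
    rw [M.rep.act_mul, e, ← M.rep.act_mul, inv_mul_cancel, M.rep.act_one]
  refine hvJ (M.triv_inner hv fun u => ?_)
  rw [← hsplit u, M.T_add hv, hsix _ (hv0 u), M.T_of_mem hvH (M.rep.eT u), M.rep.fix_act hR (M.rep.eT_mem u)]

end Mod3

end Cfsg.Agent.U62Rec
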