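/-
The swapping case with z isolated in the centraliser of a: then z is isolated.

* `Two.vz_iff` : inner conjugates and conjugates of a centralising z;
* `Two.p11` : an inner conjugate of z with a conjugate of a in the centraliser does not exist;
* `Two.swap_isolated` : z is isolated.
-/
import Cfsg.Agent.Lib.U62Rec.TwoSwapJ

set_option autoImplicit false

namespace Cfsg.Agent.U62Rec

open Cfsg.Agent.ThreeTransSU Cfsg.Agent.LargeExtraspecial
open scoped commutatorElement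

universe u v

namespace Two

variable {G : Type u} [Group G] [Finite G] {z a : G} (T : Two z a)
include T

omit [Finite G] in
theorem conj_sq {x : G} (hx : x * x = 1) (g : G) : g * x * g⁻¹ * (g * x * g⁻¹) = 1 := by
  rw [show g * x * g⁻¹ * (g * x * g⁻¹) = g * (x * x) * g⁻¹ by group, hx, mul_one, mul_inv_cancel]

/-- A conjugate of z other than z is not in the centre of J. -/
theorem w_notW {g : G} (hne : g * z * g⁻¹ ≠ z) : ¬ T.isW (g * z * g⁻¹) := by
  rintro (e | e | e | e)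
  · exact T.z_ne (conj_eq_one_iff.1 e)
  · exact hne e
  · exact T.nonconj.1 g⁻¹ (by
      calc g⁻¹ * a * g⁻¹⁻¹ = g⁻¹ * (g * z * g⁻¹) * g⁻¹⁻¹ := by rw [e]
        _ = z := by group)
  · exact T.swapA.nonconj.1 g⁻¹ (by
      calc g⁻¹ * (a * z) * g⁻¹⁻¹ = g⁻¹ * (g * z * g⁻¹) * g⁻¹⁻¹ := by rw [e]
        _ = z := by group)

omit [Finite G] in
theorem iso_swapA (hs : ¬ T.central) (hI : T.Iso) : T.swapA.Iso := by
  intro x hx hc
  obtain ⟨x0, hx0, hx0H⟩ := T.hout
  have hm := T.swap_moves hs hx0 hx0H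
  have h2 : x0 * (a * z) * x0⁻¹ = a := by
    rw [show x0 * (a * z) * x0⁻¹ = x0 * a * x0⁻¹ * (x0 * z * x0⁻¹) by group, hm, hx0.eq, mul_inv_cancel_right,
      mul_assoc, T.z_sq, mul_one]
  have hxa : Commute (x0 * x * x0⁻¹) a := by
    have := commute_conj₀ x0 hx
    rwa [h2] at this
  have ez : x0⁻¹ * z * x0 = z := by rw [mul_assoc, ← hx0.eq, inv_mul_cancel_left]
  have e : x0 * x * x0⁻¹ * z * (x0 * x * x0⁻¹)⁻¹ = x0 * (x * z * x⁻¹) * x0⁻¹ := by
    rw [show x0 * x * x0⁻¹ * z * (x0 * x * x0⁻¹)⁻¹ = x0 * (x * (x0⁻¹ * z * x0) * x⁻¹) * x0⁻¹ by group, ez]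
  have hc' : Commute z (x0 * (x * z * x⁻¹) * x0⁻¹) := by
    have := commute_conj₀ x0 hc
    rwa [show x0 * z * x0⁻¹ = z by rw [hx0.eq, mul_inv_cancel_right]] at this
  have h3 := hI _ hxa (e ▸ hc')
  rw [e] at h3
  calc x * z * x⁻¹ = x0⁻¹ * (x0 * (x * z * x⁻¹) * x0⁻¹) * x0 := by group
    _ = z := by rw [h3, ez]

/-- A conjugate of a centralises z exactly when the reversed conjugate of z is inner. -/
theorem vz_iff (hs : ¬ T.central) {g : G} (hw : Commute (g * z * g⁻¹) z) :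
    Commute (g * a * g⁻¹) z ↔ g⁻¹ * z * g⁻¹⁻¹ ∈ T.H0 := by
  rw [inv_inv]
  constructor
  · intro h
    refine T.mem_of_swap hs (commute_conj₀' g hw.symm) ?_
    exact commute_conj₀' g h.symm
  · intro h
    have := commute_conj₀ g (T.lea _ h)
    rwa [show g * (g⁻¹ * z * g) * g⁻¹ = z by group, Commute.symm_iff] at this

variable (hI : T.Iso) (hI' : T.swapA.Iso)
include hI hI'

theorem not_W_v (hs : ¬ T.central) {g : G} (hw : Commute (g * z * g⁻¹) z) (hne : g * z * g⁻¹ ≠ z) :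
    ¬ T.isW (g * a * g⁻¹) := by
  rintro (e | e | e | e)
  · exact T.a_ne (conj_eq_one_iff.1 e)
  · exact T.nonconj.1 g e
  · exact hne (hI g (mul_inv_eq_iff_eq_mul.1 e) hw.symm)
  · obtain ⟨x0, hx0, hx0H⟩ := T.hout
    have hxo : x0⁻¹ ∉ T.H0 := fun h => hx0H (inv_mem_iff.1 h)
    have hm := T.swap_moves hs hx0.inv_left hxo
    rw [inv_inv] at hm
    have ez : x0⁻¹ * z * x0 = z := by rw [mul_assoc, ← hx0.eq, inv_mul_cancel_left]
    have h2 : x0⁻¹ * (a * z) * x0 = a := by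
      rw [show x0⁻¹ * (a * z) * x0 = x0⁻¹ * a * x0 * (x0⁻¹ * z * x0) by group, hm, ez, mul_assoc, T.z_sq, mul_one]
    have hga : Commute (x0⁻¹ * g) a := mul_inv_eq_iff_eq_mul.1 (by
      calc x0⁻¹ * g * a * (x0⁻¹ * g)⁻¹ = x0⁻¹ * (g * a * g⁻¹) * x0 := by group
        _ = a := by rw [e, h2])
    have ew : x0⁻¹ * g * z * (x0⁻¹ * g)⁻¹ = x0⁻¹ * (g * z * g⁻¹) * x0 := by group
    have hc : Commute z (x0⁻¹ * g * z * (x0⁻¹ * g)⁻¹) := by
      rw [ew]
      have := commute_conj₀ x0⁻¹ hw.symm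
      rwa [inv_inv, ez] at this
    have h3 := hI _ hga hc
    rw [ew] at h3
    refine hne ?_
    calc g * z * g⁻¹ = x0 * (x0⁻¹ * (g * z * g⁻¹) * x0) * x0⁻¹ := by group
      _ = z := by rw [h3, hx0.eq, mul_inv_cancel_right]

omit hI hI' in
/-- An element trapping an involution of J is in J. -/
theorem mem_of_trap {x y : G} (hx : x ∈ T.J) (hx2 : x * x = 1) (hy : Commute y z)
    (h : ∀ j ∈ T.J, Commute j x → Commute j y) : y ∈ T.J := by
  obtain ⟨V, _, M, -⟩ := T.exists_mod3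
  refine M.hyper hy ((M.sq_iff x hx).1 hx2) fun u hu => ?_
  obtain ⟨j, hj, rfl⟩ := M.vc_surj u
  rw [M.T_vc hy hj, (h j hj ((M.comm_iff x hx j hj).2 hu).symm).symm.eq, mul_inv_cancel_right]

/-- Both conjugates of a and az trap exactly the same elements, and lie outside J. -/
theorem p11_pre (hs : ¬ T.central) {g : G} (hw : Commute (g * z * g⁻¹) z) (hne : g * z * g⁻¹ ≠ z)
    (hv : Commute (g * a * g⁻¹) z) :
    (∀ j ∈ T.J, Commute j (g * (a * z) * g⁻¹) ↔ Commute j (g * a * g⁻¹)) ∧ g * a * g⁻¹ ∉ T.J ∧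
      g * (a * z) * g⁻¹ ∉ T.J := by
  set v := g * a * g⁻¹ with hvdef
  set w := g * z * g⁻¹ with hwdef
  set u := g * (a * z) * g⁻¹ with hudef
  have hu : u = v * w := by rw [hudef, hvdef, hwdef]; group
  have hw2 : w * w = 1 := T.conj_sq T.z_sq g
  have hv2 : v * v = 1 := T.conj_sq T.a_sq g
  have hu2 : u * u = 1 := T.conj_sq T.az_sq g
  have hv' : v = u * w := by rw [hu, mul_assoc, hw2, mul_one]
  have heq : ∀ j ∈ T.J, Commute j u ↔ Commute j v := fun j hj => by
    refine ⟨fun hju => ?_, fun hjv => ?_⟩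
    · rw [hv']; exact hju.mul_right (T.swapA.trap hI' hw hj hju)
    · rw [hu]; exact hjv.mul_right (T.trap hI hw hj hjv)
  have hvJ : v ∉ T.J := by
    intro hm
    have hwJ : w ∈ T.J := T.mem_of_trap hm hv2 hw fun j hj hjv => T.trap hI hw hj hjv
    have huJ : u ∈ T.J := hu ▸ mul_mem hm hwJ
    obtain ⟨V, _, M, -⟩ := T.exists_mod3
    refine T.w_notW hne (M.vc_ker w hwJ ?_)
    have e : M.vc u = M.vc v := M.rep.eq_of_add (M.rep.β_nondeg _ fun y => by
      obtain ⟨j, hj, rfl⟩ := M.vc_surj y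
      have h1 : M.rep.β (M.vc u) (M.vc j) = 0 ↔ M.rep.β (M.vc v) (M.vc j) = 0 := by
        rw [← M.comm_iff u huJ j hj, ← M.comm_iff v hm j hj, Commute.symm_iff, heq j hj, Commute.symm_iff]
      rw [M.rep.β_add]
      rcases two_cases (M.rep.β (M.vc u) (M.vc j)) with p | p
      · rw [p, h1.1 p, add_zero]
      · rcases two_cases (M.rep.β (M.vc v) (M.vc j)) with r | r
        · rw [h1.2 r] at p; exact absurd p zero_ne_one
        · rw [p, r]; decide)
    rw [hu, M.vc_mul v hm w hwJ, add_eq_left] at e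
    exact e
  refine ⟨heq, hvJ, fun hm => hvJ ?_⟩
  rw [hv']
  exact mul_mem hm (T.mem_of_trap hm hu2 hw fun j hj hju => T.swapA.trap hI' hw hj hju)

omit hI hI' [Finite G] in
/-- An element centralising the conjugate of z fixes or exchanges the conjugates of a and az. -/
theorem move_cases {g x : G} (hx : Commute x (g * z * g⁻¹)) :
    x * (g * a * g⁻¹) * x⁻¹ = g * a * g⁻¹ ∨ x * (g * a * g⁻¹) * x⁻¹ = g * a * g⁻¹ * (g * z * g⁻¹) := by
  have e : x * (g * a * g⁻¹) * x⁻¹ = g * ((g⁻¹ * x * g) * a * (g⁻¹ * x * g)⁻¹) * g⁻¹ := by group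
  rcases T.aconj _ (commute_conj₀' g hx) with p | p <;> rw [e, p]
  · exact Or.inl rfl
  · exact Or.inr (by group)

theorem p11_tri (hs : ¬ T.central) {g : G} (hw : Commute (g * z * g⁻¹) z) (hne : g * z * g⁻¹ ≠ z)
    (hv : Commute (g * a * g⁻¹) z) (hwJ : g * z * g⁻¹ ∉ T.J) : Tri T g := by
  obtain ⟨heq, hvJ, huJ⟩ := T.p11_pre hI hI' hs hw hne hv
  refine ⟨hw, hv, hwJ, hvJ, huJ, fun j hj => ⟨fun hjw => ?_, fun hjv => T.trap hI hw hj hjv⟩,
    fun j hj h => (heq j hj).1 h⟩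
  rcases T.move_cases hjw with e | e
  · exact mul_inv_eq_iff_eq_mul.1 e
  · refine absurd ?_ hwJ
    set v := g * a * g⁻¹ with hvdef
    set w := g * z * g⁻¹ with hwdef
    have hvw : v * w = w * v := (commute_conj₀ g T.az_comm).eq
    have hv2 : v * v = 1 := T.conj_sq T.a_sq g
    have hcj : ⁅j, v⁆ ∈ T.J := by
      rw [show ⁅j, v⁆ = j * (v * j⁻¹ * v⁻¹) by simp only [commutatorElement_def]; group]
      exact mul_mem hj (T.norm v hv _ (inv_mem hj))
    rwa [commutatorElement_def, e, hvw, mul_assoc, inv_eq_of_mul_eq_one_right hv2, hv2, mul_one] at hcj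

theorem jcase_big (hs : ¬ T.central) {g : G} (hw : Commute (g * z * g⁻¹) z) (hne : g * z * g⁻¹ ≠ z)
    (hv : Commute (g * a * g⁻¹) z) (hwJ : g * z * g⁻¹ ∈ T.J) {V : Type v} [AddCommGroup V] (M : Mod3 T V) :
    64 ≤ Nat.card (M.cbar (g * a * g⁻¹)) := by
  classical
  haveI := M.rep.finite
  set v := g * a * g⁻¹ with hvdef
  set w := g * z * g⁻¹ with hwdef
  have hw2 : w * w = 1 := T.conj_sq T.z_sq g
  set S : AddSubgroup V := M.rep.perp (AddSubgroup.zmultiples (M.vc w)) with hS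
  have hbW : M.vc w ≠ 0 := M.vc_ne_zero hwJ (T.w_notW hne)
  have hS128 : 128 ≤ Nat.card S := by
    have h2 : Nat.card (AddSubgroup.zmultiples (M.vc w)) = 2 := by
      rw [Nat.card_zmultiples, addOrderOf_eq_prime (by rw [two_nsmul, M.rep.self]) hbW]
    have := M.rep.card_perp (AddSubgroup.zmultiples (M.vc w))
    rw [h2, ← hS] at this
    omega
  have hlift : ∀ s : S, ∃ j ∈ T.J, M.vc j = s ∧ Commute j w := fun s => by
    obtain ⟨j, hj, e⟩ := M.vc_surj (s : V)
    refine ⟨j, hj, e, ((M.comm_iff w hwJ j hj).2 ?_).symm⟩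
    rw [e]
    exact s.2 _ (AddSubgroup.mem_zmultiples _)
  choose r hr hru hrw using hlift
  by_cases hall : ∀ s : S, Commute (r s) v
  · refine le_trans (le_trans (by norm_num) hS128) (AddSubgroup.card_le_of_le (H := S) fun s hs' => ?_)
    exact ⟨r ⟨s, hs'⟩, hr _, hall _, hru _⟩
  push Not at hall
  obtain ⟨s0, hs0⟩ := hall
  have hsum : ∀ s : S, ¬ Commute (r s) v → (s : V) + s0 ∈ M.cbar v := fun s hs' => by
    refine ⟨r s * r s0, mul_mem (hr s) (hr s0), ?_, by rw [M.vc_mul _ (hr s) _ (hr s0), hru, hru]⟩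
    have h1 := (T.move_cases (hrw s)).resolve_left fun e => hs' (mul_inv_eq_iff_eq_mul.1 e)
    have h2 := (T.move_cases (hrw s0)).resolve_left fun e => hs0 (mul_inv_eq_iff_eq_mul.1 e)
    refine mul_inv_eq_iff_eq_mul.1 ?_
    rw [show r s * r s0 * v * (r s * r s0)⁻¹ = r s * (r s0 * v * (r s0)⁻¹) * (r s)⁻¹ by group, h2,
      show r s * (v * w) * (r s)⁻¹ = r s * v * (r s)⁻¹ * (r s * w * (r s)⁻¹) by group, h1, (hrw s).eq,
      mul_inv_cancel_right, mul_assoc, hw2, mul_one]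
  let i : S → M.cbar v × Bool := fun s =>
    if h : Commute (r s) v then (⟨s, r s, hr s, h, hru s⟩, false) else (⟨(s : V) + s0, hsum s h⟩, true)
  have hi : Function.Injective i := fun x y h => by
    simp only [i] at h
    split_ifs at h with h1 h2 h2 <;> simp only [Prod.mk.injEq, Subtype.mk.injEq, Bool.false_eq_true,
      Bool.true_eq_false, and_false, and_true] at h
    · have e := congrArg Subtype.val h
      exact Subtype.ext e
    · exact Subtype.ext (add_right_cancel h)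
  have := Nat.card_le_card_of_injective i hi
  rw [Nat.card_prod, Nat.card_eq_fintype_card (α := Bool), Fintype.card_bool] at this
  omega

/-- An inner conjugate of z with a conjugate of a in the centraliser does not exist. -/
theorem p11 (hs : ¬ T.central) {g : G} (hw : Commute (g * z * g⁻¹) z) (hne : g * z * g⁻¹ ≠ z)
    (hwH : g * z * g⁻¹ ∈ T.H0) (hv : Commute (g * a * g⁻¹) z) : False := by
  classical
  have hw' : Commute (g⁻¹ * z * g⁻¹⁻¹) z := by rw [inv_inv]; exact commute_conj₀' g hw.symm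
  have hne' : g⁻¹ * z * g⁻¹⁻¹ ≠ z := fun e => hne (by
    calc g * z * g⁻¹ = g * (g⁻¹ * z * g⁻¹⁻¹) * g⁻¹ := by rw [e]
      _ = z := by group)
  have hv' : Commute (g⁻¹ * a * g⁻¹⁻¹) z := (T.vz_iff hs hw').2 (by rw [inv_inv g]; exact hwH)
  -- the J case
  have J : ∀ g : G, Commute (g * z * g⁻¹) z → g * z * g⁻¹ ≠ z → Commute (g * a * g⁻¹) z →
      Commute (g⁻¹ * z * g⁻¹⁻¹) z → g⁻¹ * z * g⁻¹⁻¹ ≠ z → Commute (g⁻¹ * a * g⁻¹⁻¹) z →
      g * z * g⁻¹ ∈ T.J → False := by
    intro g hw hne hv hw' hne' hv' hwJ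
    obtain ⟨V, _, M, -⟩ := T.exists_mod3
    have hvJ := (T.p11_pre hI hI' hs hw hne hv).2.1
    have hbig := T.jcase_big hI hI' hs hw hne hv hwJ M
    rcases M.rep.dichotomy with hn | hr
    · obtain ⟨ψ, ⟨C⟩⟩ := M.exists_crd hn
      exact C.jcase_nat (T := T.twist ψ) hI hw hv hwJ (T.w_notW hne) hvJ hbig
    · obtain ⟨i, hi, j, hj, hiw, hiv, hjw, hjv, hij⟩ : ∃ i ∈ T.J, ∃ j ∈ T.J,
          Commute i (g⁻¹ * z * g⁻¹⁻¹) ∧ Commute i (g⁻¹ * a * g⁻¹⁻¹) ∧
          Commute j (g⁻¹ * z * g⁻¹⁻¹) ∧ Commute j (g⁻¹ * a * g⁻¹⁻¹) ∧ ⁅i, j⁆ = z := by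
        by_cases hw'J : g⁻¹ * z * g⁻¹⁻¹ ∈ T.J
        · have hbig' := T.jcase_big hI hI' hs hw' hne' hv' hw'J M
          by_contra! hn
          have := M.rep.isotropic_card (M.cbar (g⁻¹ * a * g⁻¹⁻¹)) (by
            rintro _ ⟨i, hi, hiv, rfl⟩ _ ⟨j, hj, hjv, rfl⟩
            refine (M.comm_iff i hi j hj).1 (commutatorElement_eq_one_iff_mul_comm.1 ?_)
            exact (T.comm i hi j hj).resolve_right
              (hn i hi j hj (T.trap hI hw' hi hiv) hiv (T.trap hI hw' hj hjv) hjv))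
          omega
        · have h' := T.p11_tri hI hI' hs hw' hne' hv' hw'J
          obtain ⟨i, hi, j, hj, hiw, hjw, hij⟩ := M.cbar_nonabelian hr h'
          exact ⟨i, hi, j, hj, hiw, (h'.eqv i hi).1 hiw, hjw, (h'.eqv j hj).1 hjw, hij⟩
      rw [inv_inv] at hiw hiv hjw hjv
      exact M.jcase_red hr hs hw hv hwJ (T.w_notW hne) hvJ hbig hi hj hiw hiv hjw hjv hij
        fun x hx hxv => T.trap hI hw hx hxv
  by_cases hwJ : g * z * g⁻¹ ∈ T.J
  · exact J g hw hne hv hw' hne' hv' hwJ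
  by_cases hw'J : g⁻¹ * z * g⁻¹⁻¹ ∈ T.J
  · refine J g⁻¹ hw' hne' hv' ?_ ?_ ?_ hw'J <;> rw [inv_inv g]
    exacts [hw, hne, hv]
  exact T.kill (T.p11_tri hI hI' hs hw hne hv hwJ) (T.p11_tri hI hI' hs hw' hne' hv' hw'J)

theorem p10 (hs : ¬ T.central) {g : G} (hw : Commute (g * z * g⁻¹) z) (hne : g * z * g⁻¹ ≠ z)
    (hwH : g * z * g⁻¹ ∉ T.H0) (hv : Commute (g * a * g⁻¹) z) : False := by
  have hw'H : g⁻¹ * z * g⁻¹⁻¹ ∈ T.H0 := (T.vz_iff hs hw).1 hv
  rw [inv_inv] at hw'H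
  have hm := T.swap_moves hs hw hwH
  set w := g * z * g⁻¹ with hwdef
  have hw2 : w * w = 1 := T.conj_sq T.z_sq g
  have hwi : w⁻¹ = w := inv_eq_of_mul_eq_one_right hw2
  rw [hwi] at hm
  have hmz : w * (a * z) * w = a := by
    calc w * (a * z) * w = w * a * (z * w) := by group
      _ = w * a * (w * z) := by rw [hw.eq]
      _ = w * a * w * z := by group
      _ = a := by rw [hm, mul_assoc, T.z_sq, mul_one]
  have hawa : a * w * a = w * z := by
    have haw : a * w = w * (a * z) := by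
      calc a * w = w * (a * z) * w * w := by rw [hmz]
        _ = w * (a * z) := by rw [mul_assoc _ w w, hw2, mul_one]
    rw [haw, mul_assoc, mul_assoc a z a, T.az_comm.symm.eq, ← mul_assoc a a, T.a_sq, one_mul]
  set k := g⁻¹ * a * g with hk
  have hkw : k * z * k⁻¹ = z * (g⁻¹ * z * g) := by
    have e : g⁻¹ * w * g = z := by rw [hwdef]; group
    calc k * z * k⁻¹ = g⁻¹ * (a * w * a⁻¹) * g := by rw [hk, hwdef]; group
      _ = g⁻¹ * w * g * (g⁻¹ * z * g) := by rw [T.ainv, hawa]; group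
      _ = _ := by rw [e]
  have hw'z : Commute (g⁻¹ * z * g) z := T.le _ hw'H
  refine T.p11 hI hI' hs (g := k) ?_ ?_ ?_ ?_
  · rw [hkw]; exact (Commute.refl z).mul_left hw'z
  · rw [hkw]
    intro e
    have e1 : g⁻¹ * z * g = 1 := mul_eq_left.1 e
    exact T.z_ne (by
      calc z = g * (g⁻¹ * z * g) * g⁻¹ := by group
        _ = 1 := by rw [e1]; group)
  · rw [hkw]; exact mul_mem (T.J_le T.z_mem) hw'H
  · have hc : Commute (a * (g * a * g⁻¹) * a) w := by
      have h1 : Commute (g * a * g⁻¹) (w * z) := (commute_conj₀ g T.az_comm).mul_right hv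
      have := commute_conj₀ a h1
      rwa [T.ainv, ← hawa, show a * (a * w * a) * a = a * a * w * (a * a) by group, T.a_sq, one_mul, mul_one] at this
    have h2 := commute_conj₀' g hc
    rwa [show g⁻¹ * (a * (g * a * g⁻¹) * a) * g = k * a * k⁻¹ by
      rw [hk, mul_inv_rev, mul_inv_rev, inv_inv, T.ainv]; group] at h2

/-- z is isolated. -/
theorem swap_isolated (hs : ¬ T.central) {g : G} (hw : Commute (g * z * g⁻¹) z) : g * z * g⁻¹ = z := by
  classical
  by_contra hne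
  have P01 : ∀ g : G, Commute (g * z * g⁻¹) z → g * z * g⁻¹ ≠ z → g * z * g⁻¹ ∈ T.H0 → False := by
    intro g hw hne hwH
    by_cases hv : Commute (g * a * g⁻¹) z
    · exact T.p11 hI hI' hs hw hne hwH hv
    · have hw' : Commute (g⁻¹ * z * g⁻¹⁻¹) z := by rw [inv_inv]; exact commute_conj₀' g hw.symm
      refine T.p10 hI hI' hs hw' (fun e => hne ?_) (fun h => hv ((T.vz_iff hs hw).2 h))
        ((T.vz_iff hs hw').2 (by rw [inv_inv g]; exact hwH))
      calc g * z * g⁻¹ = g * (g⁻¹ * z * g⁻¹⁻¹) * g⁻¹ := by rw [e]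
        _ = z := by group
  by_cases hwH : g * z * g⁻¹ ∈ T.H0
  · exact P01 g hw hne hwH
  by_cases hv : Commute (g * a * g⁻¹) z
  · exact T.p10 hI hI' hs hw hne hwH hv
  have hw'o : g⁻¹ * z * g⁻¹⁻¹ ∉ T.H0 := fun h => hv ((T.vz_iff hs hw).2 h)
  rw [inv_inv] at hw'o
  set w := g * z * g⁻¹ with hwdef
  have hw2 : w * w = 1 := T.conj_sq T.z_sq g
  have hwi : w⁻¹ = w := inv_eq_of_mul_eq_one_right hw2
  have hm : w * a * w = a * z := by
    have := T.swap_moves hs hw hwH
    rwa [hwi] at this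
  obtain ⟨V, _, M, -⟩ := T.exists_mod3
  haveI := M.rep.finite
  have hinv : ∀ x, M.T' w (M.T' w x) = x := M.T_invol hw (by rw [hw2]; exact one_mem _)
  -- a suitable element of J
  obtain ⟨x, hxD, hxq⟩ : ∃ x, M.T' w x + x ≠ 0 ∧ M.rep.β x (M.T' w x) = 0 := by
    by_contra! hn
    have hchi : ∀ x y, M.rep.β (x + y) (M.T' w (x + y)) = M.rep.β x (M.T' w x) + M.rep.β y (M.T' w y) := by
      intro x y
      have e : M.rep.β x (M.T' w y) = M.rep.β y (M.T' w x) := by
        rw [← M.T_β hw x (M.T' w y), hinv, M.rep.bsymm]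
      rw [M.T_add hw, M.rep.β_add, M.rep.baddr, M.rep.baddr, e,
        show ∀ p q r : ZMod 2, p + q + (q + r) = p + r from by decide]
    have hfix : ∀ x, M.rep.β x (M.T' w x) = 0 → M.T' w x = x := fun x hx => by
      by_contra h
      exact hn x (fun e => h (M.rep.eq_of_add e)) hx
    by_cases htriv : ∀ x, M.rep.β x (M.T' w x) = 0
    · exact hwH (T.J_le (M.triv_inner hw fun x => hfix x (htriv x)))
    push Not at htriv
    obtain ⟨x0, hx0⟩ := htriv
    have hx0' := (two_cases _).resolve_left hx0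
    set r := M.T' w x0 + x0 with hr
    have hqr : M.rep.q r = 1 := by
      rw [hr, M.rep.q_add, M.T_q hw, ZModModule.add_self, zero_add, M.rep.bsymm, hx0']
    have hTr : M.T' w r = r := by rw [hr, M.T_add hw, hinv, add_comm]
    obtain ⟨j0, hj0, hj0r⟩ := M.vc_surj r
    have hj0sq : j0 * j0 = z := (T.sq j0 hj0).resolve_left fun e => by
      have h0 := (M.sq_iff j0 hj0).1 e
      rw [hj0r, hqr] at h0
      exact one_ne_zero h0
    set e := j0⁻¹ * (w * j0 * w⁻¹) with he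
    have heW : T.isW e := M.vc_eq (T.norm w hw j0 hj0) hj0 (by rw [← M.T_vc hw hj0, hj0r, hTr])
    have hwj : w * j0 * w = j0 * e := by rw [he, hwi]; group
    obtain ⟨i, hi, hiw, hisq⟩ : ∃ i ∈ T.J, Commute i w ∧ i * i = z := by
      rcases heW with h1 | h1 | h1 | h1
      · refine ⟨j0, hj0, Commute.symm (mul_inv_eq_iff_eq_mul.1 ?_), hj0sq⟩
        rw [hwi, hwj, h1, mul_one]
      · refine ⟨a * j0, mul_mem T.a_mem hj0, Commute.symm (mul_inv_eq_iff_eq_mul.1 ?_), ?_⟩
        · calc w * (a * j0) * w⁻¹ = w * a * w * (w⁻¹ * j0 * w⁻¹) := by group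
            _ = a * z * (j0 * z) := by rw [hm, hwi, hwj, h1]
            _ = a * (z * z) * j0 := by rw [(T.J_z hj0).eq]; group
            _ = _ := by rw [T.z_sq, mul_one]
        · rw [mul_assoc, ← mul_assoc j0 a, (T.J_a hj0).eq, mul_assoc a j0, ← mul_assoc a a, T.a_sq, one_mul, hj0sq]
      all_goals
        exfalso
        have hwe : w * e * w = e * z := by
          rw [h1]
          first
            | exact hm
            | calc w * (a * z) * w = w * a * (z * w) := by group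
                _ = w * a * (w * z) := by rw [hw.eq]
                _ = w * a * w * z := by group
                _ = a * z * z := by rw [hm]
        refine T.z_ne ((mul_eq_left (a := j0)).1 ?_)
        calc j0 * z = j0 * (e * e) * z := by rw [T.W_sq (by rw [h1]; first | exact T.W_a | exact T.W_az), mul_one]
          _ = j0 * e * (e * z) := by group
          _ = w * j0 * w * (w * e * w) := by rw [hwj, hwe]
          _ = w * j0 * (w * w) * e * w := by group
          _ = w * (w * j0 * w) * w := by rw [hw2, mul_one, hwj]; group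
          _ = w * w * j0 * (w * w) := by group
          _ = j0 := by rw [hw2, one_mul, mul_one]
    have hig : Commute (g⁻¹ * i * g) z := commute_conj₀' g hiw
    refine hw'o ?_
    have := T.sq_mem hig
    rwa [show g⁻¹ * i * g * (g⁻¹ * i * g) = g⁻¹ * (i * i) * g by group, hisq] at this
  obtain ⟨j, hj, rfl⟩ := M.vc_surj x
  -- the commutator
  set d := ⁅j, w⁆ with hd
  have hdJ : d ∈ T.J := by
    rw [hd, show ⁅j, w⁆ = j * (w * j⁻¹ * w⁻¹) by simp only [commutatorElement_def]; group]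
    exact mul_mem hj (T.norm w hw _ (inv_mem hj))
  have hvcd : M.vc d = M.T' w (M.vc j) + M.vc j := by
    rw [hd, show ⁅j, w⁆ = j * (w * j⁻¹ * w⁻¹) by simp only [commutatorElement_def]; group,
      M.vc_mul j hj _ (T.norm w hw _ (inv_mem hj)), ← M.T_vc hw (inv_mem hj), M.vc_inv hj, add_comm]
  have hd2 : d * d = 1 := by
    refine (M.sq_iff d hdJ).2 ?_
    rw [hvcd, M.rep.q_add, M.T_q hw, ZModModule.add_self, zero_add, M.rep.bsymm]
    exact hxq
  have hdw : Commute d w := by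
    have key : ∀ x y : G, y * y = 1 → y * ⁅x, y⁆ * y = ⁅x, y⁆⁻¹ := fun x y hy => by
      have hyi : y⁻¹ = y := inv_eq_of_mul_eq_one_right hy
      calc y * ⁅x, y⁆ * y = y * x * y * x⁻¹ * (y⁻¹ * y) := by rw [commutatorElement_def]; group
        _ = y * x * y⁻¹ * x⁻¹ := by rw [hyi, hy, mul_one]
        _ = _ := by rw [commutatorElement_def]; group
    have e : w * d * w = d⁻¹ := key j w hw2
    rw [inv_eq_of_mul_eq_one_right hd2] at e
    refine (mul_inv_eq_iff_eq_mul.1 ?_ : w * d = d * w).symm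
    rw [hwi, e]
  have hd1 : d ≠ 1 := fun e => hxD (by rw [← hvcd, e, M.vc_one])
  -- one of two representatives is inner
  obtain ⟨j', hj', d', hd', hd'w, hd'1, hd'H⟩ : ∃ j' ∈ T.J, ∃ d', ⁅j', w⁆ = d' ∧ Commute d' w ∧ d' ≠ 1 ∧
      g⁻¹ * d' * g ∈ T.H0 := by
    by_cases hm' : g⁻¹ * d * g ∈ T.H0
    · exact ⟨j, hj, d, hd.symm, hdw, hd1, hm'⟩
    · refine ⟨a * j, mul_mem T.a_mem hj, d * z, ?_, hdw.mul_left hw.symm, fun e => ?_, ?_⟩
      · have haw : ⁅a, w⁆ = z := by
          rw [commutatorElement_def, T.ainv, hwi, mul_assoc (a * w), mul_assoc a w, ← mul_assoc w a w, hm,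
            ← mul_assoc, T.a_sq, one_mul]
        rw [show ⁅a * j, w⁆ = a * ⁅j, w⁆ * a⁻¹ * ⁅a, w⁆ by simp only [commutatorElement_def]; group, ← hd, haw,
          (T.J_a hdJ).symm.eq, mul_inv_cancel_right]
      · have hdz : d = z := by rw [mul_eq_one_iff_eq_inv] at e; rw [e, T.inv]
        exact hxD (by rw [← hvcd, hdz, M.vc_z])
      · rw [show g⁻¹ * (d * z) * g = g⁻¹ * d * g * (g⁻¹ * z * g) by group]
        exact T.out_mul _ _ (commute_conj₀' g hdw) (commute_conj₀' g hw.symm) hm' hw'o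
  set k := g⁻¹ * j' * g with hk
  have hkz : k * z * k⁻¹ = g⁻¹ * d' * g * z := by
    rw [hk, ← hd', hwdef, commutatorElement_def]; group
  have hdz : Commute (g⁻¹ * d' * g) z := commute_conj₀' g hd'w
  refine P01 k (hkz ▸ hdz.mul_left (Commute.refl z)) (fun e => hd'1 ?_) (hkz ▸ mul_mem hd'H (T.J_le T.z_mem))
  rw [hkz] at e
  have e' : g⁻¹ * d' * g = 1 := mul_eq_right.1 e
  calc d' = g * (g⁻¹ * d' * g) * g⁻¹ := by group
    _ = 1 := by rw [e']; group

end Two

end Cfsg.Agent.U62Rec
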