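/-
The central case: z is not fused both inside the centraliser of a and inside that of az.

* `Two.share` : a conjugate of z sharing a is inner and centralises 2^8 elements of J;
* `Crd3.shape` : such an involution acts as a transvection and centralises the preimage of its perpendicular;
* `Two.not_both` : z is isolated in the centraliser of a or in that of az.
-/
import Cfsg.Agent.Lib.U62Rec.TwoSwap

set_option autoImplicit false

namespace Cfsg.Agent.U62Rec

open Cfsg.Agent.ThreeTransSU Cfsg.Agent.U62Cover Cfsg.Agent.LargeExtraspecial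
open scoped commutatorElement

universe u v

variable {G : Type u} [Group G] {z a : G} {T : Two z a} {V : Type v} [AddCommGroup V]

/-- The same coordinates for the other involution. -/
noncomputable def Mod3.swapA (M : Mod3 T V) : Mod3 T.swapA V where
  vc := M.vc
  rep := M.rep
  vc_mul := M.vc_mul
  vc_surj := M.vc_surj
  vc_ker j hj h := by
    rcases M.vc_ker j hj h with e | e | e | e
    · exact Or.inl e
    · exact Or.inr (Or.inl e)
    · exact Or.inr (Or.inr (Or.inr (by rw [e, mul_assoc, T.z_sq, mul_one])))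
    · exact Or.inr (Or.inr (Or.inl e))
  vc_z := M.vc_z
  vc_a := M.vc_W T.W_az
  sq_iff := M.sq_iff
  comm_iff := M.comm_iff
  vc_conj := M.vc_conj

variable [Finite G]

/-- A conjugate of z sharing a. -/
theorem Two.share (T : Two z a) (hc : T.central) {x : G} (hxa : Commute x a) (hw : Commute (x * z * x⁻¹) z)
    (hne : x * z * x⁻¹ ≠ z) (M : Mod3 T V) :
    x * z * x⁻¹ ∈ T.H0 ∧ x * z * x⁻¹ ∉ T.J ∧ 64 ≤ Nat.card (M.cbar (x * z * x⁻¹)) := by
  classical
  haveI := M.rep.finite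
  set w := x * z * x⁻¹ with hwdef
  have hwa : Commute w a := (hxa.mul_left T.az_comm.symm).mul_left hxa.inv_left
  have hwW : ¬ T.isW w := T.w_notW hne
  set E := T.extQ hc with hE
  obtain ⟨Mg, hM2, hHM, hMH, h1, hh1, hh1M⟩ := E.exists_index_two (T.extQ_out hc)
  let P := E.toPre Mg hHM hMH
  -- the conjugate inside the subgroup of index two
  obtain ⟨y, hyM, hyw⟩ : ∃ y ∈ Mg, y * qa a z * y⁻¹ = qa a w := by
    have e : qa a x * qa a z * (qa a x)⁻¹ = qa a w := (qa_conj hxa T.az_comm.symm).symm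
    by_cases h : qa a x ∈ Mg
    · exact ⟨_, h, e⟩
    · refine ⟨qa a x * h1, (Subgroup.mul_mem_iff_of_index_two hM2).2
        ⟨fun h' => absurd h' h, fun h' => absurd h' hh1M⟩, ?_⟩
      rw [mul_assoc (qa a x) h1, hh1.eq, ← e]; group
  have hzM : qa a z ∈ Mg := hHM (E.J_le E.D.z_mem)
  have hwM : qa a w ∈ Mg := hyw ▸ mul_mem (mul_mem hyM hzM) (inv_mem hyM)
  have hwz : Commute (qa a w) (qa a z) := (T.comm_qz hwa).2 hw
  have hwH : w ∈ T.H0 := (T.qa_mem_H0q hwa).1 (hMH _ hwz hwM)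
  have hneq : qa a w ≠ qa a z := fun e => by
    rcases (qa_eq T.a_sq hwa T.az_comm.symm).1 e with h | h
    · exact hne h
    · exact hwW (by rw [h]; exact T.W_mul T.W_z T.W_a)
  obtain ⟨U, _, ⟨N⟩⟩ := P.exists_modl
  have hnat : N.rep.IsNat := by
    refine N.rep.dichotomy.resolve_right fun hR => hneq ?_
    rw [← hyw]
    refine congrArg Subtype.val (N.isolated_of_red hR ⟨y, hyM⟩ (Subtype.ext ?_))
    show (y * qa a z * y⁻¹) * qa a z = qa a z * (y * qa a z * y⁻¹)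
    rw [hyw]
    exact hwz.eq
  obtain ⟨S, hSJ⟩ := N.exists_setup_of_nat hnat
  let wM : Mg := ⟨qa a w, hwM⟩
  have hN : Near (⟨qa a z, hHM (E.J_le E.D.z_mem)⟩ : Mg) wM :=
    ⟨⟨⟨y, hyM⟩, Subtype.ext hyw⟩, Subtype.ext hwz.eq, fun e => hneq (congrArg Subtype.val e)⟩
  have hwJ : w ∉ T.J := fun h => S.a_notMem hN (by
    rw [hSJ]
    exact (T.qa_mem_Jq hwa).2 h)
  obtain ⟨p, hp, -, hfull, -⟩ := S.near_shape hN
  obtain ⟨q, f, g, hfr⟩ := exists_frame_one hp
  -- lifts of the perpendicular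
  have hlift : ∀ c : K × K × K, ∃ e ∈ S.J, ∃ j ∈ T.J, Commute j w ∧ qa a j = (e : Qa a) ∧
      S.vec e = c.1 • p + c.2.1 • q + c.2.2 • g := by
    intro c
    obtain ⟨e, he, hev⟩ := S.vec_surj (c.1 • p + c.2.1 • q + c.2.2 • g)
    have hec := hfull e he (by rw [hev]; simp only [hl, sl, hfr.pp, hfr.qp, hfr.gp, mul_zero, add_zero])
    have he' := he
    rw [hSJ] at he'
    obtain ⟨j, hj, hje⟩ := T.mem_Jq.1 (show (e : Qa a) ∈ T.Jq from he')
    refine ⟨e, he, j, hj, ?_, hje, hev⟩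
    have h2 : qa a (j * w * j⁻¹) = qa a w := by
      rw [qa_conj (T.J_a hj) hwa, hje]
      have h3 : (e : Qa a) * qa a w = qa a w * (e : Qa a) := congrArg Subtype.val hec.eq
      rw [h3, mul_inv_cancel_right]
    rcases (qa_eq T.a_sq (((T.J_a hj).mul_left hwa).mul_left (T.J_a hj).inv_left) hwa).1 h2 with h | h
    · exact mul_inv_eq_iff_eq_mul.1 h
    · exfalso
      refine T.swapA.nonconj.1 ((j * x)⁻¹ * x) ?_
      have h4 : x * (a * z) * x⁻¹ = w * a := by
        calc x * (a * z) * x⁻¹ = x * a * x⁻¹ * w := by rw [hwdef]; group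
          _ = a * w := by rw [hxa.eq, mul_inv_cancel_right]
          _ = w * a := hwa.eq.symm
      calc (j * x)⁻¹ * x * (a * z) * ((j * x)⁻¹ * x)⁻¹ = x⁻¹ * j⁻¹ * (x * (a * z) * x⁻¹) * (j * x) := by group
        _ = x⁻¹ * j⁻¹ * (j * w * j⁻¹) * (j * x) := by rw [h4, h]
        _ = z := by rw [hwdef]; group
  choose e he j hj hjw hje hev using hlift
  let i : K × K × K → M.cbar w := fun c => ⟨M.vc (j c), j c, hj c, hjw c, rfl⟩
  have hi : Function.Injective i := by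
    intro c c' hcc
    have hW := M.vc_eq (hj c) (hj c') (congrArg Subtype.val hcc)
    have h5 : qa a ((j c')⁻¹ * j c) = qa a 1 ∨ qa a ((j c')⁻¹ * j c) = qa a z := by
      rcases hW with h | h | h | h <;> rw [h]
      · exact Or.inl rfl
      · exact Or.inr rfl
      · exact Or.inl (((qa_eq_one T.a_sq (Commute.refl a)).2 (Or.inr rfl)).trans (qa_one a).symm)
      · refine Or.inr ?_
        rw [qa_mul (Commute.refl a) T.az_comm.symm, (qa_eq_one T.a_sq (Commute.refl a)).2 (Or.inr rfl), one_mul]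
    rw [qa_mul (T.J_a (hj c')).inv_left (T.J_a (hj c)), qa_inv (T.J_a (hj c')), hje, hje, qa_one] at h5
    have h6 : S.vec (e c) = S.vec (e c') := by
      have hcase : (e c')⁻¹ * e c = 1 ∨ (e c')⁻¹ * e c = ⟨qa a z, hHM (E.J_le E.D.z_mem)⟩ :=
        h5.imp (fun h => Subtype.ext h) fun h => Subtype.ext h
      rcases hcase with h | h
      · rw [inv_mul_eq_one.1 h]
      · rw [inv_mul_eq_iff_eq_mul.1 h, S.vec_mul _ (he c') _ S.z_mem, S.vec_z, add_zero]
    rw [hev, hev] at h6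
    have e1 := congrArg (fun v => hf v f) h6
    have e2 := congrArg (fun v => hf v g) h6
    have e3 := congrArg (fun v => hf v q) h6
    simp only [hl, sl, hfr.pf, hfr.qf, hfr.gf, hfr.pg, hfr.qg, hfr.gg, hfr.pq, hfr.qq, hfr.gq, mul_zero, mul_one,
      add_zero, zero_add] at e1 e2 e3
    exact Prod.ext e1 (Prod.ext e2 e3)
  refine ⟨hwH, hwJ, ?_⟩
  have := Nat.card_le_card_of_injective i hi
  rwa [Nat.card_eq_fintype_card, Fintype.card_prod, Fintype.card_prod, cardK] at this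

namespace Crd3

variable {M : Mod3 T V} (C : Crd3 M)
include C

/-- An involution of the inner part centralising 2^8 elements of J. -/
theorem shape {x : G} (hx : x ∈ T.H0) (hxJ : x ∉ T.J) (hx2 : x * x = 1) (hbig : 64 ≤ Nat.card (M.cbar x)) :
    ∃ p, Iso p ∧ T.φ x = t4 p ∧ ∀ d ∈ T.J, hf (C.vec d) p = 0 → Commute d x := by
  haveI := M.rep.finite
  have hk2 : T.φ x * T.φ x = 1 := by rw [← T.φ_mul x hx x hx, hx2, T.φ_one]
  have hkne : T.φ x ≠ 1 := fun e => hxJ ((T.φ_ker x hx).1 e)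
  have hfixle := AddSubgroup.card_le_of_le (M.cbar_fixV hx)
  rcases invol_cases hk2 hkne with ⟨p, hp, hφ⟩ | ⟨p, q, hpq, hφ⟩
  · refine ⟨p, hp, hφ, ?_⟩
    obtain ⟨q, f, gg, hfr⟩ := exists_frame_one hp
    have hfixp : ∀ u : V, M.rep.act (T.φ x) u = u ↔ hf (C.f u) p = 0 := fun u => by
      rw [← C.fb.1.eq_iff, C.fc, hφ]
      exact fix_one hp _
    have h64 : Nat.card (M.rep.fixV (T.φ x)) ≤ 64 := by
      refine le_trans (Nat.card_le_card_of_injective
        (fun u => (hf (C.f u.1) f, hf (C.f u.1) gg, hf (C.f u.1) q)) ?_) ?_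
      · intro u u' e
        simp only [Prod.mk.injEq] at e
        exact Subtype.ext (C.fb.1 (hfr.eq_of (((hfixp _).1 u.2).trans ((hfixp _).1 u'.2).symm) e.2.2 e.1 e.2.1))
      · rw [Nat.card_eq_fintype_card, Fintype.card_prod, Fintype.card_prod, cardK]
    have heq : M.cbar x = M.rep.fixV (T.φ x) :=
      AddSubgroup.eq_of_le_of_card_ge (M.cbar_fixV hx) (le_trans h64 hbig)
    exact fun d hd h0 => M.cbar_lift hx hd (by rw [heq]; exact (hfixp _).2 h0)
  · exfalso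
    obtain ⟨f, gg, hfr⟩ := exists_frame hpq
    have hfx : ∀ u : M.rep.fixV (T.φ x), hf (C.f u) p = 0 ∧ hf (C.f u) q = 0 := fun u =>
      (fix_two hpq _).1 (by rw [← hφ, ← C.fc, show M.rep.act (T.φ x) (u : V) = u from u.2])
    have h16 : Nat.card (M.rep.fixV (T.φ x)) ≤ 16 := by
      refine le_trans (Nat.card_le_card_of_injective (fun u => (hf (C.f u.1) f, hf (C.f u.1) gg)) ?_) ?_
      · intro u u' e
        simp only [Prod.mk.injEq] at e
        exact Subtype.ext (C.fb.1 (hfr.eq_of ((hfx u).1.trans (hfx u').1.symm) ((hfx u).2.trans (hfx u').2.symm)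
          e.1 e.2))
      · rw [Nat.card_eq_fintype_card, Fintype.card_prod, cardK]
    omega

/-- Conjugates of z sharing a and az together do not exist. -/
theorem mix (hc : T.central) {x1 x2 : G} (h1 : Commute x1 a) (hw1z : Commute (x1 * z * x1⁻¹) z)
    (hne : x1 * z * x1⁻¹ ≠ z) (hw1H : x1 * z * x1⁻¹ ∈ T.H0)
    (hw1J : x1 * z * x1⁻¹ ∉ T.J) (hbig1 : 64 ≤ Nat.card (M.cbar (x1 * z * x1⁻¹)))
    (h2 : Commute x2 (a * z)) (hw2H : x2 * z * x2⁻¹ ∈ T.H0)
    (hw2J : x2 * z * x2⁻¹ ∉ T.J) (hbig2 : 64 ≤ Nat.card (M.cbar (x2 * z * x2⁻¹))) : False := by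
  classical
  set w := x1 * z * x1⁻¹ with hw
  set w2 := x2 * z * x2⁻¹ with hw2
  have hwsq : w * w = 1 := T.conj_sq T.z_sq x1
  obtain ⟨p, hp, hφ, hfull⟩ := C.shape hw1H hw1J hwsq hbig1
  obtain ⟨p2, hp2, hφ2, hfull2⟩ := C.shape hw2H hw2J (T.conj_sq T.z_sq x2) hbig2
  obtain ⟨q, f, gg, hfr⟩ := exists_frame_one hp
  -- an inner element moving one centre to the other
  obtain ⟨g1, hg1⟩ := exists_act cardK (by norm_num) std_pair.1 hp
  obtain ⟨g2, hg2⟩ := exists_act cardK (by norm_num) std_pair.1 hp2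
  obtain ⟨k, hk⟩ : ∃ k : U4, act k p2 = p := ⟨g1 * g2⁻¹, by
    rw [act_mul, ← hg2, ← act_mul g2⁻¹ g2, inv_mul_cancel, act_one, hg1]⟩
  obtain ⟨h, hh, rfl⟩ := T.φ_surj k
  have hw2' : h * w2 * h⁻¹ ∈ T.H0 := mul_mem (mul_mem hh hw2H) (inv_mem hh)
  have hφ2' : T.φ (h * w2 * h⁻¹) = t4 p := by
    rw [T.φ_conj hh hw2H, hφ2, tv_conj_inv cardK _ hp2.2, hk]
  have hfull2' : ∀ d ∈ T.J, hf (C.vec d) p = 0 → Commute d (h * w2 * h⁻¹) := fun d hd h0 => by
    have hd' : h⁻¹ * d * h ∈ T.J := by simpa using T.norm h⁻¹ (T.le h hh).inv_left d hd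
    have hv' : hf (C.vec (h⁻¹ * d * h)) p2 = 0 := by
      have e := C.vec_conj (inv_mem hh) hd
      rw [inv_inv] at e
      rw [e, T.φ_inv hh, ← act_hf (T.φ h), act_act_inv, hk]
      exact h0
    have := commute_conj₀ h (hfull2 _ hd' hv')
    rwa [show h * (h⁻¹ * d * h) * h⁻¹ = d by group] at this
  set d := w * (h * w2 * h⁻¹) with hd
  have hdJ : d ∈ T.J := by
    rw [hd, ← T.φ_ker _ (mul_mem hw1H hw2'), T.φ_mul _ hw1H _ hw2', hφ, hφ2', tv_sq cardK hp.2]
  have hdline : C.vec d = hf (C.vec d) f • p := C.line_of_perp hfr fun x hx => by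
    obtain ⟨i, hi, rfl⟩ := C.vec_surj x
    exact (C.β_iff _ _).1 ((M.comm_iff i hi d hdJ).1 ((hfull i hi hx).mul_right (hfull2' i hi hx)))
  -- a conjugate differing in the centre of J
  obtain ⟨j, hj, hjv⟩ := C.vec_surj (hf (C.vec d) f • f)
  have hwi : w⁻¹ = w := inv_eq_of_mul_eq_one_right hwsq
  have hc1 : w⁻¹ * j * w ∈ T.J := by simpa using T.norm w⁻¹ hw1z.inv_left j hj
  set c := w⁻¹ * j * w * j⁻¹ with hcdef
  have hcJ : c ∈ T.J := mul_mem hc1 (inv_mem hj)
  have hcd : M.vc c = M.vc d := by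
    refine C.fb.1 ?_
    rw [hcdef, M.vc_mul _ hc1 _ (inv_mem hj), M.vc_inv hj, show w⁻¹ * j * w = w * j * w⁻¹ by rw [hwi],
      M.vc_conj w hw1H j hj, C.fa, C.fc]
    show act (T.φ w) (C.vec j) + C.vec j = C.vec d
    rw [hjv, hφ, act_tv cardK hp.2, sl, hfr.fp, mul_one]
    refine Eq.trans ?_ hdline.symm
    generalize hf (C.vec d) f • f = y
    rw [add_comm y, add_assoc, vv, add_zero]
  set e := c⁻¹ * d with he
  have heW : T.isW e := M.vc_eq hdJ hcJ hcd.symm
  set w' := j * w * j⁻¹ with hw'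
  have hjz := T.J_z hj
  have hwH' : w' ∈ T.H0 := mul_mem (mul_mem (T.J_le hj) hw1H) (inv_mem (T.J_le hj))
  have r1 : j * x1 * z * (j * x1)⁻¹ = w' := by rw [hw', hw]; group
  have r2 : h * x2 * z * (h * x2)⁻¹ = w' * e := by
    calc h * x2 * z * (h * x2)⁻¹ = w⁻¹ * d := by rw [hd, hw2]; group
      _ = w * d := by rw [hwi]
      _ = w' * e := by rw [he, hw', hcdef]; group
  have ra : j * x1 * a * (j * x1)⁻¹ = a := by
    rw [((T.J_a hj).mul_left h1).eq, mul_inv_cancel_right]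
  have raz : h * x2 * (a * z) * (h * x2)⁻¹ = a * z := by
    rw [(((T.lea h hh).mul_right (T.le h hh)).mul_left h2).eq, mul_inv_cancel_right]
  have r1' : j * x1 * (a * z) * (j * x1)⁻¹ = a * w' := by
    rw [← r1, show j * x1 * (a * z) * (j * x1)⁻¹ = j * x1 * a * (j * x1)⁻¹ * (j * x1 * z * (j * x1)⁻¹) by group, ra]
  have r2' : h * x2 * a * (h * x2)⁻¹ = a * z * (w' * e) := by
    rw [← r2]
    conv_rhs => rw [← raz]
    rw [show h * x2 * (a * z) * (h * x2)⁻¹ * (h * x2 * z * (h * x2)⁻¹) = h * x2 * (a * (z * z)) * (h * x2)⁻¹ by group,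
      T.z_sq, mul_one]
  have key : ∀ X Y b c : G, X * b * X⁻¹ = Y * c * Y⁻¹ → Y⁻¹ * X * b * (Y⁻¹ * X)⁻¹ = c := fun X Y b c hX => by
    calc Y⁻¹ * X * b * (Y⁻¹ * X)⁻¹ = Y⁻¹ * (X * b * X⁻¹) * Y := by group
      _ = c := by rw [hX]; group
  rcases heW with he1 | he1 | he1 | he1 <;> rw [he1] at r2 r2'
  · rw [mul_one] at r2 r2'
    have hcm : Commute ((h * x2)⁻¹ * (j * x1)) z :=
      mul_inv_eq_iff_eq_mul.1 (key _ _ _ _ (r1.trans r2.symm))
    have h3 := hc _ hcm
    have h4 : j * x1 * a * (j * x1)⁻¹ = h * x2 * a * (h * x2)⁻¹ := by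
      calc j * x1 * a * (j * x1)⁻¹ = h * x2 * (((h * x2)⁻¹ * (j * x1)) * a * ((h * x2)⁻¹ * (j * x1))⁻¹) * (h * x2)⁻¹ := by
            group
        _ = h * x2 * a * (h * x2)⁻¹ := by rw [h3.eq, mul_inv_cancel_right]
    rw [ra, r2', mul_assoc, eq_comm, mul_eq_left] at h4
    have hw'z : w' = z := by rw [eq_inv_of_mul_eq_one_right h4, T.inv]
    refine hne ?_
    calc w = j⁻¹ * w' * j := by rw [hw']; group
      _ = z := by rw [hw'z, hjz.inv_left.eq, inv_mul_cancel_right]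
  · have h5 : a * z * (w' * z) = a * w' := by
      rw [show a * z * (w' * z) = a * (z * w') * z by group, (T.le _ hwH').symm.eq,
        show a * (w' * z) * z = a * w' * (z * z) by group, T.z_sq, mul_one]
    exact T.nonconj.2 hc _ (key _ _ _ _ ((r2'.trans h5).trans r1'.symm))
  · refine T.swapA.nonconj.1 _ (key _ _ _ _ (r1'.trans (Eq.trans ?_ r2.symm)))
    exact (T.lea _ hwH').symm.eq
  · have h5 : a * z * (w' * (a * z)) = w' := by
      rw [← mul_assoc, ((T.lea _ hwH').mul_right (T.le _ hwH')).symm.eq, mul_assoc, T.az_sq, mul_one]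
    exact T.nonconj.1 _ (key _ _ _ _ ((r2'.trans h5).trans r1.symm))

end Crd3

/-- z is isolated in the centraliser of a or in that of az. -/
theorem Two.not_both (T : Two z a) (hc : T.central) : T.Iso ∨ T.swapA.Iso := by
  by_contra! hn
  obtain ⟨hI, hI'⟩ := hn
  obtain ⟨W, _, M, hred⟩ := T.exists_mod3
  have hnat : M.rep.IsNat := M.rep.dichotomy.resolve_right fun h => hI (hred h)
  simp only [Two.Iso, not_forall] at hI hI'
  obtain ⟨x1, h1, hw1, hne1⟩ := hI
  obtain ⟨x2, h2, hw2, hne2⟩ := hI'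
  obtain ⟨a1, b1, c1⟩ := T.share hc h1 hw1.symm hne1 M
  obtain ⟨a2, b2, c2⟩ := T.swapA.share (T.swapA_central hc) h2 hw2.symm hne2 M.swapA
  obtain ⟨ψ, ⟨C⟩⟩ := M.exists_crd hnat
  exact C.mix (T := T.twist ψ) hc h1 hw1.symm hne1 a1 b1 c1 h2 a2 b2 c2

end Cfsg.Agent.U62Rec
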