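/-
The central case: z is isolated, or one of a, az generates a normal subgroup with PSU(6,2) below.

* `Two.central_tri` : trapped conjugates form a triple;
* `Two.central_isolated` : z is isolated when it is so in both centralisers;
* `Two.a_normal` : otherwise a is central;
* `Two.central_main` : the outcomes.
-/
import Cfsg.Agent.Lib.U62Rec.TwoMix

set_option autoImplicit false

namespace Cfsg.Agent.U62Rec

open Cfsg.Agent.LargeExtraspecial
open scoped commutatorElement

universe u w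

/-- An involution central modulo the odd core is isolated. -/
theorem eq_of_top {L : Type u} [Group L] [Finite L] {z : L} (hz : z * z = 1)
    (h : Subgroup.centralizer ({z} : Set L) ⊔ Cfsg.oddCore L = ⊤) {g : L} (hc : Commute (g * z * g⁻¹) z) :
    g * z * g⁻¹ = z := by
  haveI : Fact (Nat.Prime 2) := ⟨Nat.prime_two⟩
  haveI : (Cfsg.oddCore L).Normal := Cores.pPrimeCore_normal 2 L
  have hm : g ∈ Subgroup.centralizer ({z} : Set L) ⊔ Cfsg.oddCore L := h ▸ Subgroup.mem_top g
  obtain ⟨o, ho, c, hcz, rfl⟩ := Subgroup.mem_sup_of_normal_left.1 (sup_comm _ (Cfsg.oddCore L) ▸ hm)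
  have e : o * c * z * (o * c)⁻¹ = o * z * o⁻¹ := by
    rw [show o * c * z * (o * c)⁻¹ = o * (c * z) * c⁻¹ * o⁻¹ by group,
      Subgroup.mem_centralizer_singleton_iff.1 hcz]
    group
  rw [e] at hc ⊢
  set w := o * z * o⁻¹ with hw
  have hw2 : w * w = 1 := by rw [hw, show o * z * o⁻¹ * (o * z * o⁻¹) = o * (z * z) * o⁻¹ by group, hz]; group
  have hm : w * z ∈ Cfsg.oddCore L := by
    rw [show w * z = o * (z * o⁻¹ * z⁻¹) * (z * z) by rw [hw]; group, hz, mul_one]
    exact mul_mem ho (Subgroup.Normal.conj_mem inferInstance _ (inv_mem ho) z)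
  have hsq : (w * z) ^ 2 = 1 := by
    rw [pow_two, show w * z * (w * z) = w * (z * w) * z by group, ← hc.eq,
      show w * (w * z) * z = w * w * (z * z) by group, hw2, hz, one_mul]
  have hodd := (Nat.coprime_two_right.1 (Cores.coprime_card_pPrimeCore 2)).of_dvd_nat
    (Subgroup.orderOf_dvd_natCard (Cfsg.oddCore L) hm)
  have h1 : w * z = 1 := orderOf_eq_one_iff.1
    (Nat.eq_one_of_dvd_coprimes (Nat.coprime_two_right.2 hodd) dvd_rfl (orderOf_dvd_of_pow_eq_one hsq))
  rw [eq_inv_of_mul_eq_one_left h1, inv_eq_of_mul_eq_one_right hz]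

namespace Two

variable {G : Type u} [Group G] [Finite G] {z a : G} (T : Two z a)
include T

omit [Finite G] in
theorem central_comm (hc : T.central) {g y : G} (h : Commute y (g * z * g⁻¹)) :
    Commute y (g * a * g⁻¹) ∧ Commute y (g * (a * z) * g⁻¹) := by
  have h1 := hc _ (commute_conj₀' g h)
  have h2 : Commute (g⁻¹ * y * g) (a * z) := h1.mul_right (commute_conj₀' g h)
  have e : g * (g⁻¹ * y * g) * g⁻¹ = y := by group
  exact ⟨e ▸ commute_conj₀ g h1, e ▸ commute_conj₀ g h2⟩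

/-- Trapped conjugates form a triple. -/
theorem central_tri (hc : T.central) {g : G} (hw : Commute (g * z * g⁻¹) z) (hne : g * z * g⁻¹ ≠ z)
    (htv : ∀ j ∈ T.J, Commute j (g * a * g⁻¹) → Commute j (g * z * g⁻¹))
    (htu : ∀ j ∈ T.J, Commute j (g * (a * z) * g⁻¹) → Commute j (g * z * g⁻¹)) : Tri T g := by
  classical
  obtain ⟨hvz, huz⟩ := T.central_comm hc hw.symm
  set v := g * a * g⁻¹ with hv
  set w := g * z * g⁻¹ with hwdef
  set u := g * (a * z) * g⁻¹ with hu'
  have hu : u = v * w := by rw [hu', hv, hwdef]; group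
  have hw2 : w * w = 1 := T.conj_sq T.z_sq g
  have hv2 : v * v = 1 := T.conj_sq T.a_sq g
  have hu2 : u * u = 1 := T.conj_sq T.az_sq g
  have hcv : ∀ j, Commute j w → Commute j v := fun j h => (T.central_comm hc h).1
  have hcu : ∀ j, Commute j w → Commute j u := fun j h => (T.central_comm hc h).2
  have heq : ∀ j ∈ T.J, Commute j u ↔ Commute j v := fun j hj =>
    ⟨fun h => hcv j (htu j hj h), fun h => hcu j (htv j hj h)⟩
  have hwJ : w ∉ T.J := by
    intro hwm
    have hvm : v ∈ T.J := T.mem_of_trap hwm hw2 hvz.symm fun j _ h => hcv j h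
    have hum : u ∈ T.J := hu ▸ mul_mem hvm hwm
    obtain ⟨V, _, M, -⟩ := T.exists_mod3
    refine T.w_notW hne (M.vc_ker w hwm ?_)
    have e : M.vc u = M.vc v := M.rep.eq_of_add (M.rep.β_nondeg _ fun y => by
      obtain ⟨j, hj, rfl⟩ := M.vc_surj y
      have h1 : M.rep.β (M.vc u) (M.vc j) = 0 ↔ M.rep.β (M.vc v) (M.vc j) = 0 := by
        rw [← M.comm_iff u hum j hj, ← M.comm_iff v hvm j hj, Commute.symm_iff, heq j hj, Commute.symm_iff]
      rw [M.rep.β_add]
      rcases two_cases (M.rep.β (M.vc u) (M.vc j)) with p | p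
      · rw [p, h1.1 p, add_zero]
      · rcases two_cases (M.rep.β (M.vc v) (M.vc j)) with r | r
        · rw [h1.2 r] at p; exact absurd p zero_ne_one
        · rw [p, r]; decide)
    rw [hu, M.vc_mul v hvm w hwm, add_eq_left] at e
    exact e
  exact ⟨hw, hvz.symm, hwJ, fun h => hwJ (T.mem_of_trap h hv2 hw fun j hj => htv j hj),
    fun h => hwJ (T.mem_of_trap h hu2 hw fun j hj => htu j hj),
    fun j hj => ⟨hcv j, htv j hj⟩, fun j hj => (heq j hj).1⟩

/-- z is isolated when it is isolated in both centralisers. -/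
theorem central_isolated (hc : T.central) (hI : T.Iso) (hI' : T.swapA.Iso) {g : G}
    (hw : Commute (g * z * g⁻¹) z) : g * z * g⁻¹ = z := by
  by_contra hne
  have tri : ∀ g : G, Commute (g * z * g⁻¹) z → g * z * g⁻¹ ≠ z → Tri T g := fun g hw hne =>
    T.central_tri hc hw hne (fun _ hj => T.trap hI hw hj) fun _ hj => T.swapA.trap hI' hw hj
  refine T.kill (tri g hw hne) (tri g⁻¹ (by rw [inv_inv]; exact commute_conj₀' g hw.symm) fun e => hne ?_)
  calc g * z * g⁻¹ = g * (g⁻¹ * z * g⁻¹⁻¹) * g⁻¹ := by rw [e]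
    _ = z := by group

variable (hc : T.central) (hI : ¬ T.Iso) (hI' : T.swapA.Iso)
include hc hI hI'

/-- a is isolated. -/
theorem a_isolated : Cfsg.IsIsolatedInvolution a := by
  haveI : Fact (Nat.Prime 2) := ⟨Nat.prime_two⟩
  refine ⟨orderOf_eq_prime (by rw [pow_two, T.a_sq]) T.a_ne, fun g hg => ?_⟩
  by_contra hne
  set a' := g * a * g⁻¹ with ha'
  have ha2 : orderOf a' = 2 := orderOf_eq_prime (by rw [pow_two, T.conj_sq T.a_sq g]) fun e =>
    T.a_ne (conj_eq_one_iff.1 e)
  obtain ⟨x, hxa, hx⟩ := T.conj_into (Q := Subgroup.zpowers a') (fun q hq => by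
    obtain ⟨n, rfl⟩ := hq
    exact Commute.zpow_left hg.symm n) (IsPGroup.of_card (n := 1) (by rw [Nat.card_zpowers, ha2, pow_one]))
  have hv : Commute (x * g * a * (x * g)⁻¹) z := by
    have := hx a' (Subgroup.mem_zpowers a')
    rwa [show x * g * a * (x * g)⁻¹ = x * a' * x⁻¹ by rw [ha']; group]
  have hvne : x * g * a * (x * g)⁻¹ ≠ a := fun e => hne (by
    calc a' = x⁻¹ * (x * g * a * (x * g)⁻¹) * x := by rw [ha']; group
      _ = a := by rw [e, mul_assoc, ← hxa.eq, inv_mul_cancel_left])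
  obtain ⟨g', hg', hw, htv⟩ := T.norm_pair hv
  have hwne : g' * z * g'⁻¹ ≠ z := fun e => hvne (by
    rw [← hg', (hc g' (mul_inv_eq_iff_eq_mul.1 e)).eq, mul_inv_cancel_right])
  have h := T.central_tri hc hw hwne (fun j hj hjv => htv j hj (by rwa [← hg']))
    fun _ hj => T.swapA.trap hI' hw hj
  obtain ⟨V, _, M, hred⟩ := T.exists_mod3
  obtain ⟨ψ, ⟨C⟩⟩ := M.exists_crd (M.rep.dichotomy.resolve_right fun h => hI (hred h))
  exact C.nat_kill (h.twist ψ)

/-- a is central. -/
theorem a_normal : ∀ g : G, Commute g a := by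
  classical
  haveI : Fact (Nat.Prime 2) := ⟨Nat.prime_two⟩
  have htop := centralizer_sup_oddCore (T.a_isolated hc hI hI')
  set O := Cfsg.oddCore G with hO
  haveI : O.Normal := Cores.pPrimeCore_normal 2 G
  have hodd : ∀ c ∈ O, Odd (orderOf c) := fun c hc =>
    (Nat.coprime_two_right.1 (Cores.coprime_card_pPrimeCore 2)).of_dvd_nat (Subgroup.orderOf_dvd_natCard O hc)
  -- fixed elements of the odd core
  have hfix : ∀ o ∈ O, Commute o z → o = 1 := fun o ho hoz => by
    have hall : ∀ q ∈ T.J, Commute q o := fun q hq => by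
      have h1 : ⁅o, q⁆ ∈ T.J := mul_mem (T.norm o hoz q hq) (inv_mem hq)
      have h2 : ⁅o, q⁆ ∈ O := by
        rw [show ⁅o, q⁆ = o * (q * o⁻¹ * q⁻¹) by simp only [commutatorElement_def]; group]
        exact mul_mem ho (Subgroup.Normal.conj_mem inferInstance _ (inv_mem ho) q)
      exact (commutatorElement_eq_one_iff_mul_comm.1 (T.odd_J h1 (hodd _ h2))).symm
    exact T.odd_J (T.W_mem (T.W_of_cent hall)) (hodd o ho)
  -- z inverts it
  let F : O → O := fun o => ⟨(o : G)⁻¹ * (z * o * z⁻¹), mul_mem (inv_mem o.2)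
    (Subgroup.Normal.conj_mem inferInstance _ o.2 z)⟩
  have hFi : Function.Injective F := fun o p e => by
    have e' : (o : G)⁻¹ * (z * o * z⁻¹) = (p : G)⁻¹ * (z * p * z⁻¹) := congrArg Subtype.val e
    have h := hfix ((p : G) * (o : G)⁻¹) (mul_mem p.2 (inv_mem o.2)) (by
      show (p : G) * (o : G)⁻¹ * z = z * ((p : G) * (o : G)⁻¹)
      calc (p : G) * (o : G)⁻¹ * z = p * ((o : G)⁻¹ * (z * o * z⁻¹)) * (z * (o : G)⁻¹ * z⁻¹) * z := by group
        _ = z * ((p : G) * (o : G)⁻¹) := by rw [e']; group)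
    exact Subtype.ext (mul_inv_eq_one.1 h).symm
  have hinv : ∀ o ∈ O, z * o * z = o⁻¹ := fun d hd => by
    obtain ⟨o, ho⟩ := (Finite.injective_iff_surjective.1 hFi) ⟨d, hd⟩
    have e : (o : G)⁻¹ * (z * o * z⁻¹) = d := congrArg Subtype.val ho
    rw [T.inv] at e
    rw [← e, show z * ((o : G)⁻¹ * (z * o * z)) * z = z * (o : G)⁻¹ * z * o * (z * z) by group, T.z_sq, mul_one]
    simp only [mul_inv_rev, inv_inv, T.inv, mul_assoc]
  -- the product of two commuting conjugates centralises it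
  obtain ⟨x, -, hxw, hxne⟩ : ∃ x, Commute x a ∧ Commute z (x * z * x⁻¹) ∧ x * z * x⁻¹ ≠ z := by
    unfold Two.Iso at hI
    push Not at hI
    exact hI
  set w := x * z * x⁻¹ with hw
  have hwinv : ∀ o ∈ O, w * o * w = o⁻¹ := fun o ho => by
    have h1 := hinv (x⁻¹ * o * x) (by simpa using Subgroup.Normal.conj_mem inferInstance _ ho x⁻¹)
    calc w * o * w = x * (z * (x⁻¹ * o * x) * z) * x⁻¹ := by rw [hw]; group
      _ = o⁻¹ := by rw [h1]; group
  set N := Subgroup.centralizer (O : Set G) with hN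
  have hNn : N.Normal := inferInstance
  set t := z * w with ht
  have htN : t ∈ N := Subgroup.mem_centralizer_iff.2 fun o ho => by
    have e1 : w * o = o⁻¹ * w := by
      rw [← hwinv o ho, mul_assoc _ w w, T.conj_sq T.z_sq x, mul_one]
    have e2 : z * o⁻¹ = o * z := by
      have := hinv o⁻¹ (inv_mem ho)
      rw [inv_inv] at this
      conv_rhs => rw [← this]
      rw [mul_assoc _ z z, T.z_sq, mul_one]
    calc o * t = o * z * w := by rw [ht, mul_assoc]
      _ = z * o⁻¹ * w := by rw [e2]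
      _ = z * (w * o) := by rw [e1, mul_assoc]
      _ = t * o := (mul_assoc z w o).symm
  have htz : Commute t z := (Commute.refl z).mul_left hxw.symm
  have htW : ¬ T.isW t := fun h => T.w_notW hxne (by
    have := T.W_mul T.W_z h
    rwa [ht, ← mul_assoc, T.z_sq, one_mul] at this)
  obtain ⟨n, hn, hnW, hnN⟩ : ∃ n ∈ T.J, ¬ T.isW n ∧ n ∈ N := by
    by_cases htJ : t ∈ T.J
    · exact ⟨t, htJ, htW, htN⟩
    obtain ⟨V, _, M, -⟩ := T.exists_mod3
    by_contra! hn
    refine htJ (M.triv_inner htz fun u => ?_)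
    obtain ⟨j, hj, rfl⟩ := M.vc_surj u
    have hm : t * j * t⁻¹ ∈ T.J := T.norm t htz j hj
    have hc1 : t * j * t⁻¹ * j⁻¹ ∈ N := by
      rw [show t * j * t⁻¹ * j⁻¹ = t * (j * t⁻¹ * j⁻¹) by group]
      exact mul_mem htN (hNn.conj_mem _ (inv_mem htN) j)
    have hW : T.isW (t * j * t⁻¹ * j⁻¹) := by_contra fun h => hn _ (mul_mem hm (inv_mem hj)) h hc1
    rw [M.T_vc htz hj]
    refine M.rep.eq_of_add ?_
    rw [← M.vc_inv hj, ← M.vc_mul _ hm _ (inv_mem hj), M.vc_W hW]
  obtain ⟨i, hi, hni⟩ : ∃ i ∈ T.J, ⁅n, i⁆ = z := by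
    by_contra! h
    exact hnW (T.W_of_cent fun i hi =>
      (commutatorElement_eq_one_iff_mul_comm.1 ((T.comm n hn i hi).resolve_right (h i hi))).symm)
  have hzN : z ∈ N := by
    rw [← hni, show ⁅n, i⁆ = n * (i * n⁻¹ * i⁻¹) by simp only [commutatorElement_def]; group]
    exact mul_mem hnN (hNn.conj_mem _ (inv_mem hnN) i)
  have hO1 : O = ⊥ := (Subgroup.eq_bot_iff_forall _).2 fun o ho =>
    hfix o ho (Subgroup.mem_centralizer_iff.1 hzN o ho)
  intro g
  rw [hO1, sup_bot_eq] at htop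
  exact Subgroup.mem_centralizer_singleton_iff.1 (htop ▸ Subgroup.mem_top g)

/-- The second outcome. -/
theorem central_psu (F : Type w) [Field F] [Fintype F] (hF : Fintype.card F = 4) :
    (Subgroup.zpowers a).Normal ∧ ∃ (G₀ : Subgroup G) (_ : a ∈ G₀), G₀.index = 2 ∧
      ∃ _ : ((Subgroup.zpowers a).subgroupOf G₀).Normal,
        Nonempty ((↥G₀ ⧸ (Subgroup.zpowers a).subgroupOf G₀) ≃* Cfsg.PSU 6 F 2) := by
  classical
  have hall := T.a_normal hc hI hI'
  have hn : (Subgroup.zpowers a).Normal := ⟨fun n hn g => by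
    obtain ⟨k, rfl⟩ := hn
    show g * a ^ k * g⁻¹ ∈ _
    rw [((hall g).zpow_right k).eq, mul_inv_cancel_right]
    exact ⟨k, rfl⟩⟩
  obtain ⟨M, hM2, hMF, -⟩ := ((T.extQ hc).psu_or_isolated (T.extQ_out hc) F hF).resolve_right fun h =>
    hI (T.iso_of_qa fun y hy => eq_of_top (T.dataQ.z_sq) h hy)
  obtain ⟨f⟩ := hMF
  let π : G →* Qa a := MonoidHom.mk' (qa a) fun x y => qa_mul (hall x) (hall y)
  have hπ : Function.Surjective π := fun y => (qa_surj y).imp fun _ h => h.2
  have ha1 : π a = 1 := (qa_eq_one T.a_sq (Commute.refl a)).2 (Or.inr rfl)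
  have haM : a ∈ M.comap π := by rw [Subgroup.mem_comap, ha1]; exact one_mem _
  refine ⟨hn, M.comap π, haM, by rw [Subgroup.index_comap_of_surjective _ hπ, hM2],
    hn.subgroupOf _, ⟨?_⟩⟩
  haveI := hn.subgroupOf (M.comap π)
  let θ : M.comap π →* M := π.subgroupComap M
  have hθ : Function.Surjective θ := fun y => by
    obtain ⟨x, hx⟩ := hπ y
    exact ⟨⟨x, by rw [Subgroup.mem_comap, hx]; exact y.2⟩, Subtype.ext hx⟩
  have hker : (Subgroup.zpowers a).subgroupOf (M.comap π) = θ.ker := by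
    refine SetLike.ext fun x => ?_
    rw [Subgroup.mem_subgroupOf, MonoidHom.mem_ker, Subtype.ext_iff]
    show (x : G) ∈ Subgroup.zpowers a ↔ qa a (x : G) = 1
    rw [qa_eq_one T.a_sq (hall _)]
    refine ⟨mem_zpowers_two T.a_sq, ?_⟩
    rintro (e | e) <;> rw [e]
    exacts [one_mem _, Subgroup.mem_zpowers a]
  exact ((QuotientGroup.quotientMulEquivOfEq hker).trans
    (QuotientGroup.quotientKerEquivOfSurjective θ hθ)).trans f

end Two

/-- The central case. -/
theorem Two.central_main {G : Type u} [Group G] [Finite G] {z a : G} (T : Two z a) (hc : T.central)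
    (F : Type w) [Field F] [Fintype F] (hF : Fintype.card F = 4) :
    Subgroup.centralizer ({z} : Set G) ⊔ Cfsg.oddCore G = ⊤ ∨
      ∃ z₁ : G, (z₁ = a ∨ z₁ = a * z) ∧ (Subgroup.zpowers z₁).Normal ∧
        ∃ (G₀ : Subgroup G) (_ : z₁ ∈ G₀), G₀.index = 2 ∧
          ∃ _ : ((Subgroup.zpowers z₁).subgroupOf G₀).Normal,
            Nonempty ((↥G₀ ⧸ (Subgroup.zpowers z₁).subgroupOf G₀) ≃* Cfsg.PSU 6 F 2) := by
  by_cases hI : T.Iso
  · by_cases hI' : T.swapA.Iso
    · exact Or.inl (centralizer_sup_oddCore ⟨orderOf_eq_prime (by rw [pow_two, T.z_sq]) T.z_ne,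
        fun g hg => T.central_isolated hc hI hI' hg.symm⟩)
    · have hI2 : T.swapA.swapA.Iso := fun x hx h =>
        hI x (by rwa [mul_assoc, T.z_sq, mul_one] at hx) h
      exact Or.inr ⟨a * z, Or.inr rfl, T.swapA.central_psu (T.swapA_central hc) hI' hI2 F hF⟩
  · exact Or.inr ⟨a, Or.inl rfl, T.central_psu hc hI ((T.not_both hc).resolve_left hI) F hF⟩

end Cfsg.Agent.U62Rec
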