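/-
The swapping case with z not isolated in the centraliser of a: the group is Fi22.

* `Two.sgn_conj` : outer elements permute the inner part of the derived centraliser;
* `Two.exists_normal` : a normal subgroup missing a, by transfer;
* `Two.split` : the centraliser of a is quasisimple, and the group is Fi22.
-/
import Cfsg.Agent.Lib.U62Rec.TwoCentral
import Cfsg.Agent.Lib.TwoTransfer.CenterInvolution
import Cfsg.Agent.S0283
import Cfsg.Agent.S1713

set_option autoImplicit false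

namespace Cfsg.Agent.U62Rec

open Cfsg.Agent.ThreeTransSU Cfsg.Agent.LargeExtraspecial MulAction
open scoped commutatorElement

universe u

namespace Two

variable {G : Type u} [Group G] [Finite G] {z a : G} (T : Two z a)

/-- The derived group of the centraliser of a. -/
def Dsub (_T : Two z a) : Subgroup G :=
  ⁅Subgroup.centralizer ({a} : Set G), Subgroup.centralizer ({a} : Set G)⁆

include T

omit [Finite G] in
theorem D_le {x : G} (hx : x ∈ T.Dsub) : Commute x a :=
  Subgroup.mem_centralizer_singleton_iff.1 ((Subgroup.commutator_le.2 fun c hc d hd =>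
    (show c * d * c⁻¹ * d⁻¹ ∈ Subgroup.centralizer ({a} : Set G) from
      mul_mem (mul_mem (mul_mem hc hd) (inv_mem hc)) (inv_mem hd))) hx)

omit [Finite G] in
theorem comm_D {x y : G} (hx : Commute x a) (hy : Commute y a) : ⁅x, y⁆ ∈ T.Dsub :=
  Subgroup.commutator_mem_commutator (Subgroup.mem_centralizer_singleton_iff.2 hx.eq)
    (Subgroup.mem_centralizer_singleton_iff.2 hy.eq)

omit [Finite G] in
theorem z_D [Finite G] : z ∈ T.Dsub := by
  obtain ⟨i, hi, j, hj, hij⟩ := T.exists_noncomm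
  exact hij ▸ T.comm_D (T.J_a hi) (T.J_a hj)

omit [Finite G] in
theorem D_normal {x d : G} (hx : Commute x a) (hd : d ∈ T.Dsub) : x * d * x⁻¹ ∈ T.Dsub := by
  rw [show x * d * x⁻¹ = ⁅x, d⁆ * d by simp only [commutatorElement_def]; group]
  exact mul_mem (T.comm_D hx (T.D_le hd)) hd

theorem qa_nonabelian (hI : ¬ T.Iso) : ∃ x y : Qa a, x * y ≠ y * x := by
  by_contra! h
  exact hI (T.iso_of_qa fun y _ => by rw [h y (qa a z), mul_inv_cancel_right])

theorem simpleQ (hs : ¬ T.central) (hI : ¬ T.Iso) : IsSimpleGroup (Qa a) ∧ Nonempty (Qa a ≃* Cfsg.PSU 6 K 2) := by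
  have h := ((T.preQ hs).equiv_or_isolated K cardK).resolve_right fun h =>
    hI (T.iso_of_qa fun y hy => h.2 y hy.symm)
  obtain ⟨f⟩ := h
  haveI : IsSimpleGroup (Cfsg.PSU 6 K 2) :=
    S0283.result (q := 2) (by rw [cardK]; norm_num) 6 (by norm_num) (by norm_num)
  exact ⟨(MulEquiv.isSimpleGroup_congr f).2 inferInstance, ⟨f⟩⟩

theorem perfectQ (hs : ¬ T.central) (hI : ¬ T.Iso) : commutator (Qa a) = ⊤ := by
  haveI := (T.simpleQ hs hI).1
  refine (IsSimpleGroup.eq_bot_or_eq_top_of_normal _ inferInstance).resolve_left fun h => ?_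
  obtain ⟨x, y, hxy⟩ := T.qa_nonabelian hI
  have hm : ⁅x, y⁆ ∈ commutator (Qa a) := by
    rw [commutator_def]
    exact Subgroup.commutator_mem_commutator (Subgroup.mem_top x) (Subgroup.mem_top y)
  rw [h, Subgroup.mem_bot] at hm
  exact hxy (commutatorElement_eq_one_iff_mul_comm.1 hm)

theorem qa_center (hs : ¬ T.central) (hI : ¬ T.Iso) {y : Qa a} (hy : ∀ x, x * y = y * x) : y = 1 := by
  haveI := (T.simpleQ hs hI).1
  rcases IsSimpleGroup.eq_bot_or_eq_top_of_normal (Subgroup.center (Qa a)) inferInstance with h | h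
  · exact Subgroup.mem_bot.1 (h ▸ Subgroup.mem_center_iff.2 hy)
  · obtain ⟨p, q, hpq⟩ := T.qa_nonabelian hI
    exact absurd (Subgroup.mem_center_iff.1 (h ▸ Subgroup.mem_top q) p) hpq

/-- The derived group covers the centraliser modulo a. -/
theorem D_cover (hs : ¬ T.central) (hI : ¬ T.Iso) {x : G} (hx : Commute x a) :
    x ∈ T.Dsub ∨ x * a ∈ T.Dsub := by
  have e : (commutator ↥(Subgroup.centralizer ({a} : Set G))).map (QuotientGroup.mk' (Za a)) = ⊤ := by
    rw [commutator_def, Subgroup.map_commutator, Subgroup.map_top_of_surjective _ (QuotientGroup.mk'_surjective _),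
      ← commutator_def]
    exact T.perfectQ hs hI
  have hm := e.symm ▸ Subgroup.mem_top (qa a x)
  obtain ⟨⟨d, hdC⟩, hd, hde⟩ := hm
  have hdD : d ∈ T.Dsub := by
    have := Subgroup.mem_map_of_mem (Subgroup.centralizer ({a} : Set G)).subtype hd
    rw [commutator_def, Subgroup.map_commutator, ← MonoidHom.range_eq_map, Subgroup.range_subtype] at this
    exact this
  have hda := T.D_le hdD
  rcases (qa_eq T.a_sq hx hda).1 (by rw [← hde]; exact (qa_def hda).symm) with h | h
  · exact Or.inl (h ▸ hdD)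
  · exact Or.inr (by rwa [h, mul_assoc, T.a_sq, mul_one])

/-- The centraliser is quasisimple, so the group is Fi22. -/
theorem perfect_case (hs : ¬ T.central) (hI : ¬ T.Iso) (ha : a ∈ T.Dsub) : Cfsg.Spor.IsoFi22 G := by
  classical
  set C := Subgroup.centralizer ({a} : Set G) with hC
  have hCD : C ≤ T.Dsub := fun x hx => by
    rcases T.D_cover hs hI (Subgroup.mem_centralizer_singleton_iff.1 hx) with h | h
    · exact h
    · simpa [mul_assoc, T.a_sq] using mul_mem h ha
  have hperf : Group.IsPerfect ↥C := ⟨by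
    refine Subgroup.map_injective C.subtype_injective ?_
    rw [commutator_def, Subgroup.map_commutator, ← MonoidHom.range_eq_map, Subgroup.range_subtype]
    exact le_antisymm (fun x hx => Subgroup.mem_centralizer_singleton_iff.2 (T.D_le hx).eq) hCD⟩
  let aC : C := ⟨a, Subgroup.mem_centralizer_singleton_iff.2 rfl⟩
  have haC : ∀ g : C, g * aC = aC * g := fun g => Subtype.ext (Subgroup.mem_centralizer_singleton_iff.1 g.2)
  have hcen : Subgroup.center ↥C = Za a := by
    refine le_antisymm (fun x hx => (QuotientGroup.eq_one_iff x).1 (T.qa_center hs hI fun q => ?_))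
      (Subgroup.zpowers_le.2 (Subgroup.mem_center_iff.2 haC))
    obtain ⟨g, rfl⟩ := QuotientGroup.mk_surjective q
    exact congrArg QuotientGroup.mk (Subgroup.mem_center_iff.1 hx g)
  obtain ⟨hsimp, ⟨f⟩⟩ := T.simpleQ hs hI
  have hq : Cfsg.IsQuasisimple ↥C :=
    ⟨hperf, (MulEquiv.isSimpleGroup_congr (QuotientGroup.quotientMulEquivOfEq hcen)).2 hsimp⟩
  have hZ : (Subgroup.zpowers a).subgroupOf C = Za a := by
    refine SetLike.ext fun x => ⟨?_, ?_⟩
    · intro h
      obtain ⟨k, hk⟩ := (Subgroup.mem_subgroupOf.1 h)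
      exact ⟨k, Subtype.ext (by simpa using hk)⟩
    · rintro ⟨k, rfl⟩
      exact Subgroup.mem_subgroupOf.2 ⟨k, by simp⟩
  haveI : ((Subgroup.zpowers a).subgroupOf C).Normal := hZ ▸ Za_normal a
  obtain ⟨x0, hx0, hx0H⟩ := T.hout
  refine Cfsg.Agent.S1713.result a (orderOf_eq_prime (by rw [pow_two, T.a_sq]) T.a_ne) hq K cardK
    ((QuotientGroup.quotientMulEquivOfEq hZ).trans f) ⟨x0, ?_, ?_⟩
  · rw [T.swap_moves hs hx0 hx0H]
    exact Subgroup.mem_centralizer_singleton_iff.2 ((Commute.refl a).mul_left T.az_comm.symm).eq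
  · rw [T.swap_moves hs hx0 hx0H]
    exact T.az_nea

section split

variable (hs : ¬ T.central) (hI : ¬ T.Iso) (ha : a ∉ T.Dsub)
include hs hI ha

theorem D_unique {x : G} (h1 : x ∈ T.Dsub) : x * a ∉ T.Dsub :=
  fun h2 => ha ((T.Dsub.mul_mem_cancel_left h1).1 h2)

theorem D_mul {x y : G} (hx : Commute x a) (hy : Commute y a) :
    x * y ∈ T.Dsub ↔ (x ∈ T.Dsub ↔ y ∈ T.Dsub) := by
  constructor
  · intro h
    exact ⟨fun hx' => (T.Dsub.mul_mem_cancel_left hx').1 h, fun hy' => (T.Dsub.mul_mem_cancel_right hy').1 h⟩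
  · intro h
    by_cases hx' : x ∈ T.Dsub
    · exact mul_mem hx' (h.1 hx')
    · have hx'' := (T.D_cover hs hI hx).resolve_left hx'
      have hy'' := (T.D_cover hs hI hy).resolve_left fun h' => hx' (h.2 h')
      have := mul_mem hx'' hy''
      rwa [show x * a * (y * a) = x * (a * y) * a by group, ← hy.eq, show x * (y * a) * a = x * y * (a * a) by group,
        T.a_sq, mul_one] at this

/-- Elements of the centraliser of z permute the inner part of the derived group. -/
theorem sgn_conj {x h : G} (hx : Commute x z) (hh : h ∈ T.H0) :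
    x * h * x⁻¹ ∈ T.Dsub ↔ h ∈ T.Dsub := by
  classical
  obtain ⟨V, _, M, hred⟩ := T.exists_mod3
  have hnat : M.rep.IsNat := M.rep.dichotomy.resolve_right fun h => hI (hred h)
  haveI := M.rep.finite
  have hca : ∀ {k : G}, k ∈ T.H0 → Commute k a ∧ Commute (x * k * x⁻¹) a := fun {k} hk =>
    ⟨T.lea k hk, T.lea _ (T.H0norm x hx k hk)⟩
  let χ : G → Multiplicative (ZMod 2) := fun k =>
    Multiplicative.ofAdd (if (x * k * x⁻¹ ∈ T.Dsub ↔ k ∈ T.Dsub) then 0 else 1)
  have hχ1 : ∀ k, χ k = 1 ↔ (x * k * x⁻¹ ∈ T.Dsub ↔ k ∈ T.Dsub) := fun k => by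
    simp only [χ]
    split_ifs with h'
    · exact iff_of_true ofAdd_zero h'
    · exact iff_of_false (fun e => one_ne_zero (Multiplicative.ofAdd.injective (e.trans ofAdd_zero.symm))) h'
  have hmul : ∀ k ∈ T.H0, ∀ l ∈ T.H0, χ (k * l) = χ k * χ l := fun k hk l hl => by
    simp only [χ]
    rw [← ofAdd_add]
    congr 1
    have h1 := T.D_mul hs hI ha (hca hk).1 (hca hl).1
    have h2 := T.D_mul hs hI ha (hca hk).2 (hca hl).2
    rw [show x * k * x⁻¹ * (x * l * x⁻¹) = x * (k * l) * x⁻¹ by group] at h2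
    by_cases p1 : k ∈ T.Dsub <;> by_cases p2 : l ∈ T.Dsub <;> by_cases p3 : x * k * x⁻¹ ∈ T.Dsub <;>
      by_cases p4 : x * l * x⁻¹ ∈ T.Dsub <;>
      simp [p1, p2, p3, p4, h1, h2] <;> decide
  have hinv : ∀ k ∈ T.H0, χ k⁻¹ = χ k := fun k hk => by
    have h1 : χ 1 = 1 := (hχ1 1).2 (by rw [mul_one, mul_inv_cancel])
    have h := hmul _ (inv_mem hk) _ hk
    rw [inv_mul_cancel, h1] at h
    have key : ∀ p q : Multiplicative (ZMod 2), 1 = p * q → p = q := by decide
    exact key _ _ h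
  have hz : χ z = 1 := by
    rw [hχ1, hx.eq, mul_inv_cancel_right]
  have hA : χ a = 1 := by
    rw [hχ1]
    refine iff_of_false ?_ ha
    rcases T.aconj x hx with e | e <;> rw [e]
    · exact ha
    · exact fun h' => ha ((T.Dsub.mul_mem_cancel_right T.z_D).1 h')
  have hW : ∀ w, T.isW w → χ w = 1 := fun w hw => by
    rcases hw with rfl | rfl | rfl | rfl
    · rw [hχ1, mul_one, mul_inv_cancel]
    · exact hz
    · exact hA
    · rw [hmul a (T.J_le T.a_mem) z (T.J_le T.z_mem), hA, hz, one_mul]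
  -- it vanishes on J
  have hJ : ∀ j ∈ T.J, χ j = 1 := by
    intro j hj
    let F : V → V := fun u => u + M.rep.ta (1, 1, 2) u
    have hF : Function.Injective F := fun p q e => M.rep.eq_of_add (M.rep.nat_ta_fix hnat dot_a'.1 (by
      rw [map_add]
      refine M.rep.eq_of_add ?_
      rw [add_add_add_comm, add_comm (M.rep.ta _ p), add_comm (M.rep.ta _ q),
        show p + M.rep.ta (1, 1, 2) p = q + M.rep.ta (1, 1, 2) q from e]
      exact M.rep.self _))
    obtain ⟨u, hu⟩ := (Finite.injective_iff_surjective.1 hF) (M.vc j)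
    obtain ⟨i, hi, rfl⟩ := M.vc_surj u
    obtain ⟨y, hy, hyφ⟩ := T.φ_surj (tor (1, 1, 2))
    have hi' : y * i * y⁻¹ ∈ T.J := T.norm y (T.le y hy) i hi
    have hc : χ (i * (y * i * y⁻¹)) = 1 := by
      rw [hmul i (T.J_le hi) _ (T.J_le hi'), hmul _ (mul_mem hy (T.J_le hi)) _ (inv_mem hy),
        hmul y hy i (T.J_le hi), hinv y hy, mul_comm (χ y) (χ i), mul_assoc (χ i) (χ y)]
      generalize χ i = p
      generalize χ y = q
      revert p q
      decide
    have hw := M.vc_eq hj (mul_mem hi hi') (by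
      rw [M.vc_mul i hi _ hi', M.vc_conj y hy i hi, hyφ]
      exact hu.symm)
    calc χ j = χ (i * (y * i * y⁻¹) * ((i * (y * i * y⁻¹))⁻¹ * j)) := by rw [mul_inv_cancel_left]
      _ = 1 := by rw [hmul _ (T.J_le (mul_mem hi hi')) _ (T.J_le (T.W_mem hw)), hc, hW _ hw, one_mul]
  -- so it factors through SU(4,2)
  choose s hsH hφs using T.φ_surj
  have hdep : ∀ b, ∀ k ∈ T.H0, T.φ k = b → χ k = χ (s b) := fun b k hk e => by
    have hm : (s b)⁻¹ * k ∈ T.J := by
      rw [← T.φ_ker _ (mul_mem (inv_mem (hsH b)) hk), T.φ_mul _ (inv_mem (hsH b)) _ hk, T.φ_inv (hsH b), hφs, e,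
        inv_mul_cancel]
    calc χ k = χ (s b * ((s b)⁻¹ * k)) := by rw [mul_inv_cancel_left]
      _ = χ (s b) := by rw [hmul _ (hsH b) _ (T.J_le hm), hJ _ hm, mul_one]
  let f : U4 →* Multiplicative (ZMod 2) := MonoidHom.mk' (fun b => χ (s b)) fun b c => by
    rw [← hmul _ (hsH b) _ (hsH c)]
    exact (hdep _ _ (mul_mem (hsH b) (hsH c)) (by rw [T.φ_mul _ (hsH b) _ (hsH c), hφs, hφs])).symm
  exact (hχ1 h).1 ((hdep _ h hh rfl).trans (U4_hom_trivial f _))

/-- A normal subgroup containing the derived group and missing a. -/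
theorem exists_normal : ∃ N : Subgroup G, N.Normal ∧ T.Dsub ≤ N ∧ a ∉ N := by
  classical
  haveI : Fact (Nat.Prime 2) := ⟨Nat.prime_two⟩
  set H := Subgroup.centralizer ({z} : Set G) with hH
  have hmem : ∀ {x : G}, Commute x z → x ∈ H := fun h => Subgroup.mem_centralizer_singleton_iff.2 h.eq
  have hcomm : ∀ x : H, Commute (x : G) z := fun x => Subgroup.mem_centralizer_singleton_iff.1 x.2
  let K0 : Subgroup H := (T.Dsub ⊓ T.H0).subgroupOf H
  have hK0n : K0.Normal := ⟨fun k hk g => by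
    rw [Subgroup.mem_subgroupOf] at hk ⊢
    exact ⟨(T.sgn_conj hs hI ha (hcomm g) hk.2).2 hk.1, T.H0norm _ (hcomm g) _ hk.2⟩⟩
  obtain ⟨x0, hx0, hx0H⟩ := T.hout
  have haH : a ∈ H := hmem T.az_comm
  let α : H ⧸ K0 := QuotientGroup.mk ⟨a, haH⟩
  let ξ : H ⧸ K0 := QuotientGroup.mk ⟨x0, hmem hx0⟩
  have hαξ : Commute α ξ := by
    refine QuotientGroup.eq.2 ?_
    rw [Subgroup.mem_subgroupOf]
    show (a * x0)⁻¹ * (x0 * a) ∈ T.Dsub ⊓ T.H0
    rw [show (a * x0)⁻¹ * (x0 * a) = x0⁻¹ * (a⁻¹ * (x0 * a * x0⁻¹)) * x0 by group, T.swap_moves hs hx0 hx0H,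
      inv_mul_cancel_left, mul_assoc, ← hx0.eq, inv_mul_cancel_left]
    exact ⟨T.z_D, T.J_le T.z_mem⟩
  have hin : ∀ k : H, (k : G) ∈ T.H0 → (QuotientGroup.mk k : H ⧸ K0) = 1 ∨ (QuotientGroup.mk k : H ⧸ K0) = α := by
    intro k hk
    rcases T.D_cover hs hI (T.lea _ hk) with h | h
    · exact Or.inl ((QuotientGroup.eq_one_iff k).2 (Subgroup.mem_subgroupOf.2 ⟨h, hk⟩))
    · refine Or.inr (QuotientGroup.eq.2 (Subgroup.mem_subgroupOf.2 ?_))
      show (k : G)⁻¹ * a ∈ T.Dsub ⊓ T.H0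
      rw [← inv_mem_iff, mul_inv_rev, inv_inv, T.ainv, ← (T.lea _ hk).eq]
      exact ⟨h, mul_mem hk (T.J_le T.a_mem)⟩
  have hall : ∀ q : H ⧸ K0, q = 1 ∨ q = α ∨ q = ξ ∨ q = ξ * α := fun q => by
    obtain ⟨k, rfl⟩ := QuotientGroup.mk_surjective q
    by_cases hk : (k : G) ∈ T.H0
    · exact (hin k hk).imp_right Or.inl
    · have hm : x0⁻¹ * (k : G) ∈ T.H0 :=
        T.out_mul _ _ hx0.inv_left (hcomm k) (fun h => hx0H (inv_mem_iff.1 h)) hk
      rcases hin (⟨x0, hmem hx0⟩⁻¹ * k) hm with e | e <;> rw [QuotientGroup.mk_mul, QuotientGroup.mk_inv,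
        inv_mul_eq_iff_eq_mul] at e
      · exact Or.inr (Or.inr (Or.inl (e.trans (mul_one _))))
      · exact Or.inr (Or.inr (Or.inr e))
  letI : CommGroup (H ⧸ K0) := { (inferInstance : Group (H ⧸ K0)) with
    mul_comm := fun p q => by
      have c1 : Commute (ξ * α) α := hαξ.symm.mul_left (Commute.refl α)
      have c2 : Commute (ξ * α) ξ := (Commute.refl ξ).mul_left hαξ
      rcases hall p with rfl | rfl | rfl | rfl <;> rcases hall q with rfl | rfl | rfl | rfl
      all_goals first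
        | exact Commute.one_left _
        | exact Commute.one_right _
        | exact Commute.refl _
        | exact hαξ
        | exact hαξ.symm
        | exact c1
        | exact c1.symm
        | exact c2
        | exact c2.symm }
  let μ : H →* H ⧸ K0 := QuotientGroup.mk' K0
  haveI : Fintype (G ⧸ H) := Fintype.ofFinite _
  let f : G ⧸ H → H ⧸ K0 := fun q => if h : q.out⁻¹ * a * q.out ∈ H then μ ⟨_, h⟩ else 1
  have hfix : ∀ g : G, a • (g : G ⧸ H) = g ↔ g⁻¹ * a * g ∈ H := TwoTransfer.mk_fixed_iff a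
  have hf1 : ∀ q, ¬ a • q = q → f q = 1 := fun q hq => by
    simp only [f]
    rw [dif_neg fun h => hq ?_]
    rw [← QuotientGroup.out_eq' q]
    exact (hfix _).2 h
  have hf : ∀ (g : G) (h : g⁻¹ * a * g ∈ H), f (g : G ⧸ H) = μ ⟨_, h⟩ := fun g h => by
    obtain ⟨c, hc⟩ := QuotientGroup.mk_out_eq_mul H g
    have h' : (g : G ⧸ H).out⁻¹ * a * (g : G ⧸ H).out ∈ H := by
      rw [hc, show (g * (c : G))⁻¹ * a * (g * c) = (c : G)⁻¹ * (g⁻¹ * a * g) * c by group]
      exact mul_mem (mul_mem (inv_mem c.2) h) c.2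
    simp only [f]
    rw [dif_pos h', show (⟨_, h'⟩ : H) = c⁻¹ * ⟨_, h⟩ * c from Subtype.ext (by
      show (g : G ⧸ H).out⁻¹ * a * (g : G ⧸ H).out = (c : G)⁻¹ * (g⁻¹ * a * g) * c
      rw [hc]; group), map_mul, map_mul, map_inv, mul_right_comm, inv_mul_cancel, one_mul]
  have hsq : ∀ q, f q ^ 2 = 1 := fun q => by
    simp only [f]
    split_ifs with h
    · rw [← map_pow, show (⟨_, h⟩ : H) ^ 2 = 1 from Subtype.ext (by
        show (q.out⁻¹ * a * q.out) ^ 2 = 1
        rw [pow_two, show q.out⁻¹ * a * q.out * (q.out⁻¹ * a * q.out) = q.out⁻¹ * (a * a) * q.out by group, T.a_sq,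
          mul_one, inv_mul_cancel]), map_one]
    · exact one_pow 2
  haveI : Fintype (Quotient (orbitRel (Subgroup.zpowers a) (G ⧸ H))) := Fintype.ofFinite _
  have hτa : MonoidHom.transfer μ a = μ ⟨a, haH⟩ := by
    rw [TwoTransfer.prod_fixed_eq_transfer μ a (by rw [pow_two, T.a_sq]) f hf1 hf,
      TwoTransfer.prod_orbit_even (P := T.J) (IsPGroup.of_card (n := 10) (by rw [T.card]; norm_num)) f ?_ hsq]
    · rw [Finset.prod_eq_single_of_mem ((1 : G) : G ⧸ H)]
      · rw [hf 1 (by simpa using haH)]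
        congr 1
        exact Subtype.ext (by simp)
      · refine Finset.mem_filter.2 ⟨Finset.mem_univ _, fun j => ?_⟩
        show (j : G) • ((1 : G) : G ⧸ H) = ((1 : G) : G ⧸ H)
        rw [TwoTransfer.mk_fixed_iff]
        simpa using hmem (T.J_z j.2)
      · intro q hq hne
        exfalso
        apply hne
        obtain ⟨g, rfl⟩ := QuotientGroup.mk_surjective q
        have hq' := (Finset.mem_filter.1 hq).2
        have hW : T.isW (g * z * g⁻¹) := T.W_of_cent fun j hj => by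
          have h1 := (TwoTransfer.mk_fixed_iff j g).1 (hq' ⟨j, hj⟩)
          have h2 := commute_conj₀ g (Subgroup.mem_centralizer_singleton_iff.1 h1 : Commute _ z)
          rwa [show g * (g⁻¹ * j * g) * g⁻¹ = j by group] at h2
        have hgz : g * z * g⁻¹ = z := by_contra fun h => T.w_notW h hW
        rw [QuotientGroup.eq, mul_one]
        exact inv_mem (hmem (mul_inv_eq_iff_eq_mul.1 hgz))
    · intro j q
      obtain ⟨g, rfl⟩ := QuotientGroup.mk_surjective q
      show f (((j : G) * g : G) : G ⧸ H) = f g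
      have e : ((j : G) * g)⁻¹ * a * ((j : G) * g) = g⁻¹ * a * g := by
        rw [mul_inv_rev, mul_assoc g⁻¹, ← (T.J_a j.2).inv_left.eq.symm, mul_assoc, mul_assoc, inv_mul_cancel_left,
          mul_assoc]
      by_cases h : g⁻¹ * a * g ∈ H
      · rw [hf g h, hf _ (e.symm ▸ h)]
        exact congrArg μ (Subtype.ext e)
      · rw [hf1 _ fun h' => h (e ▸ (hfix _).1 h'), hf1 _ fun h' => h ((hfix _).1 h')]
  refine ⟨(MonoidHom.transfer μ).ker, inferInstance, Subgroup.commutator_le.2 fun c _ d _ => ?_, fun h => ha ?_⟩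
  · rw [MonoidHom.mem_ker, map_commutatorElement]
    exact commutatorElement_eq_one_iff_mul_comm.2 (mul_comm _ _)
  · rw [MonoidHom.mem_ker, hτa] at h
    exact (Subgroup.mem_subgroupOf.1 ((QuotientGroup.eq_one_iff _).1 h)).1

theorem D_card : Nat.card T.Dsub = Nat.card (Qa a) := by
  refine Nat.card_eq_of_bijective (fun d => qa a d.1) ⟨fun d e h => Subtype.ext ?_, fun y => ?_⟩
  · refine ((qa_eq T.a_sq (T.D_le d.2) (T.D_le e.2)).1 h).resolve_right fun h' => ?_
    exact T.D_unique hs hI ha e.2 (h' ▸ d.2)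
  · obtain ⟨x, hx, rfl⟩ := qa_surj y
    rcases T.D_cover hs hI hx with h | h
    · exact ⟨⟨x, h⟩, rfl⟩
    · exact ⟨⟨x * a, h⟩, (qa_eq T.a_sq (hx.mul_left (Commute.refl a)) hx).2 (Or.inr rfl)⟩

theorem D_perfect {S : Subgroup G} (h : ∀ c ∈ T.Dsub, ∀ d ∈ T.Dsub, ⁅c, d⁆ ∈ S) : T.Dsub ≤ S := by
  refine Subgroup.commutator_le.2 fun c hc d hd => ?_
  have key : ∀ x : G, Commute x a → ∃ x' ∈ T.Dsub, ∃ e, (e = 1 ∨ e = a) ∧ x = x' * e := fun x hx => by
    rcases T.D_cover hs hI hx with h' | h'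
    · exact ⟨x, h', 1, Or.inl rfl, (mul_one x).symm⟩
    · exact ⟨x * a, h', a, Or.inr rfl, by rw [mul_assoc, T.a_sq, mul_one]⟩
  obtain ⟨c', hc', e, he, rfl⟩ := key c (Subgroup.mem_centralizer_singleton_iff.1 hc)
  obtain ⟨d', hd', e', he', rfl⟩ := key d (Subgroup.mem_centralizer_singleton_iff.1 hd)
  have hcen : ∀ {e : G}, (e = 1 ∨ e = a) → ∀ x, Commute x a → Commute e x := by
    rintro e (rfl | rfl) x hx
    exacts [Commute.one_left x, hx.symm]
  have hca' := T.D_le hc'
  have hda' := T.D_le hd'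
  have hea : ∀ {e : G}, (e = 1 ∨ e = a) → Commute e a := fun {e} he =>
    by rcases he with rfl | rfl; exacts [Commute.one_left a, Commute.refl _]
  have e1 : ⁅c' * e, d' * e'⁆ = ⁅c', d'⁆ := by
    have p1 := hcen he (d' * e') (hda'.mul_left (hea he'))
    have p2 := hcen he' c'⁻¹ hca'.inv_left
    calc ⁅c' * e, d' * e'⁆ = c' * (e * (d' * e')) * e⁻¹ * c'⁻¹ * (e'⁻¹ * d'⁻¹) := by
          simp only [commutatorElement_def]; group
      _ = c' * (d' * (e' * c'⁻¹)) * (e'⁻¹ * d'⁻¹) := by rw [p1.eq]; group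
      _ = ⁅c', d'⁆ := by rw [p2.eq]; simp only [commutatorElement_def]; group
  rw [e1]
  exact h c' hc' d' hd'

theorem split_false : False := by
  classical
  haveI : Fact (Nat.Prime 2) := ⟨Nat.prime_two⟩
  obtain ⟨N, hNn, hDN, haN⟩ := T.exists_normal hs hI ha
  obtain ⟨x0, hx0, hx0H⟩ := T.hout
  obtain ⟨-, ⟨fQ⟩⟩ := T.simpleQ hs hI
  -- nothing outer normalises the derived group
  have hnorm : ∀ h, Commute h z → h ∉ T.H0 → ¬ ∀ d ∈ T.Dsub, h⁻¹ * d * h ∈ T.Dsub := by
    intro h hh hhH hn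
    refine hI fun x hx _ => ?_
    have hDz : ∀ d ∈ T.Dsub, Commute d z := fun d hd => by
      have h2 := commute_conj₀ h (T.D_le (hn d hd))
      rw [show h * (h⁻¹ * d * h) * h⁻¹ = d by group, T.swap_moves hs hh hhH] at h2
      have := (T.D_le hd).mul_right h2
      rwa [← mul_assoc, T.a_sq, one_mul] at this
    rcases T.D_cover hs hI hx with hd | hd
    · rw [(hDz x hd).eq, mul_inv_cancel_right]
    · have := (hDz _ hd).mul_left T.az_comm
      rw [mul_assoc, T.a_sq, mul_one] at this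
      rw [this.eq, mul_inv_cancel_right]
  have hzN : z ∈ N := hDN T.z_D
  have hrep : ∀ x, Commute x a → x ∈ N ∨ x * a ∈ N := fun x hx =>
    (T.D_cover hs hI hx).imp (fun h => hDN h) fun h => hDN h
  have hND : ∀ x ∈ N, Commute x a → x ∈ T.Dsub := fun x hx hxa =>
    (T.D_cover hs hI hxa).resolve_right fun h => haN ((N.mul_mem_cancel_left hx).1 (hDN h))
  let zN : N := ⟨z, hzN⟩
  have hval : ∀ x : N, Commute x zN → Commute (x : G) z := fun _ h => congrArg Subtype.val h.eq
  obtain ⟨V, _, M, -⟩ := T.exists_mod3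
  -- coordinates have lifts in N
  have hliftJ : ∀ j ∈ T.J, ∃ i ∈ T.J, i ∈ N ∧ M.vc i = M.vc j ∧ qa a i = qa a j := fun j hj => by
    rcases hrep j (T.J_a hj) with h | h
    · exact ⟨j, hj, h, rfl, rfl⟩
    · refine ⟨j * a, mul_mem hj T.a_mem, h, by rw [M.vc_mul j hj a T.a_mem, M.vc_a, add_zero], ?_⟩
      exact (qa_eq T.a_sq ((T.J_a hj).mul_left (Commute.refl a)) (T.J_a hj)).2 (Or.inr rfl)
  let eJ : ↥(T.J.subgroupOf N) ≃* ↥T.Jq := MulEquiv.ofBijective
    (MonoidHom.mk' (fun j => (⟨qa a (j.1 : G), T.mem_Jq.2 ⟨_, Subgroup.mem_subgroupOf.1 j.2, rfl⟩⟩ : T.Jq))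
      fun i j => Subtype.ext (qa_mul (T.J_a (Subgroup.mem_subgroupOf.1 i.2)) (T.J_a (Subgroup.mem_subgroupOf.1 j.2))))
    ⟨fun i j h => by
      rcases (qa_eq T.a_sq (T.J_a (Subgroup.mem_subgroupOf.1 i.2)) (T.J_a (Subgroup.mem_subgroupOf.1 j.2))).1
        (congrArg Subtype.val h) with e | e
      · exact Subtype.ext (Subtype.ext e)
      · exact absurd ((N.mul_mem_cancel_left j.1.2).1 (e ▸ i.1.2)) haN,
    fun y => by
      obtain ⟨j, hj, hje⟩ := T.mem_Jq.1 y.2
      obtain ⟨i, hi, hiN, -, hiq⟩ := hliftJ j hj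
      exact ⟨⟨⟨i, hiN⟩, Subgroup.mem_subgroupOf.2 hi⟩, Subtype.ext (hiq.trans hje)⟩⟩
  let E : Ext zN :=
    { J := T.J.subgroupOf N
      H0 := T.H0.subgroupOf N
      φ := fun x => T.φ x
      D :=
        { z_mem := T.z_mem
          z_ne := fun e => T.z_ne (congrArg Subtype.val e)
          z_sq := Subtype.ext T.z_sq
          z_central := fun q hq => Subtype.ext (T.J_z hq).eq
          cent := fun x hx => by
            have hc : ∀ i ∈ T.J, i ∈ N → Commute i (x : G) := fun i hi hiN =>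
              congrArg Subtype.val (hx ⟨i, hiN⟩ hi)
            have hxz : Commute (x : G) z := (hc z T.z_mem hzN).symm
            have hxJ : (x : G) ∈ T.J := M.triv_inner hxz fun u => by
              obtain ⟨j, hj, rfl⟩ := M.vc_surj u
              obtain ⟨i, hi, hiN, hiv, -⟩ := hliftJ j hj
              rw [← hiv, M.T_vc hxz hi, ← (hc i hi hiN).eq, mul_inv_cancel_right]
            have hW : T.isW (x : G) := T.W_of_cent fun j hj => by
              rcases hrep j (T.J_a hj) with h | h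
              · exact hc j hj h
              · have := (hc _ (mul_mem hj T.a_mem) h).mul_left (T.J_a hxJ).symm
                rwa [mul_assoc, T.a_sq, mul_one] at this
            rcases hW with e | e | e | e
            · exact Or.inl (Subtype.ext e)
            · exact Or.inr (Subtype.ext e)
            · exact absurd (e ▸ x.2) haN
            · exact absurd ((N.mul_mem_cancel_right hzN).1 (e ▸ x.2)) haN
          comm := fun p hp q hq => (T.comm (p : G) hp (q : G) hq).imp (fun e => Subtype.ext e) fun e => Subtype.ext e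
          norm := fun c hc q hq => T.norm (c : G) (hval c hc) (q : G) hq }
      extra := isExtraspecial_congr eJ.symm T.extraQ
      card := by rw [Nat.card_congr eJ.toEquiv, T.cardQ]
      le := fun h hh => Subtype.ext (T.le (h : G) hh).eq
      J_le := fun _ hj => T.J_le hj
      norm := fun g hg h hh => T.H0norm (g : G) (hval g hg) (h : G) hh
      out_mul := fun g h hg hh hgH hhH => T.out_mul _ _ (hval g hg) (hval h hh) hgH hhH
      φ_mul := fun g hg h hh => T.φ_mul (g : G) hg (h : G) hh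
      φ_ker := fun h hh => T.φ_ker (h : G) hh
      φ_surj := fun u => by
        obtain ⟨h, hh, rfl⟩ := T.φ_surj u
        rcases hrep h (T.lea h hh) with hN' | hN'
        · exact ⟨⟨h, hN'⟩, hh, rfl⟩
        · exact ⟨⟨h * a, hN'⟩, mul_mem hh (T.J_le T.a_mem), by
            show T.φ (h * a) = T.φ h
            rw [T.φ_mul h hh a (T.J_le T.a_mem), T.φ_J T.a_mem, mul_one]⟩
      out := fun x hx hfix => T.out (x : G) (hval x hx) fun k hk => by
        rcases hrep k (T.lea k hk) with hN' | hN'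
        · exact hfix ⟨k, hN'⟩ hk
        · have h1 := hfix ⟨k * a, hN'⟩ (mul_mem hk (T.J_le T.a_mem))
          have h2 : (x : G) * a * (x : G)⁻¹ ∈ T.J := T.norm _ (hval x hx) a T.a_mem
          have h3 : T.φ ((x : G) * (k * a) * (x : G)⁻¹) = T.φ (k * a) := h1
          rw [show (x : G) * (k * a) * (x : G)⁻¹ = (x : G) * k * (x : G)⁻¹ * ((x : G) * a * (x : G)⁻¹) by group,
            T.φ_mul _ (T.H0norm _ (hval x hx) k hk) _ (T.J_le h2), T.φ_J h2, T.φ_mul k hk a (T.J_le T.a_mem),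
            T.φ_J T.a_mem, mul_one, mul_one] at h3
          exact h3 }
  -- z is not isolated in N
  have hniso : ¬ ∀ g : N, Commute (g * zN * g⁻¹) zN → g * zN * g⁻¹ = zN := fun hiso => hI fun x hx hc => by
    obtain ⟨d, hdN, e⟩ : ∃ d ∈ N, d * z * d⁻¹ = x * z * x⁻¹ := by
      rcases hrep x hx with h | h
      · exact ⟨x, h, rfl⟩
      · refine ⟨x * a, h, ?_⟩
        rw [mul_assoc x a z, T.az_comm.eq]
        group
    rw [← e] at hc ⊢
    exact congrArg Subtype.val (hiso ⟨d, hdN⟩ (Subtype.ext hc.eq.symm))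
  by_cases hout : ∃ x, Commute x zN ∧ x ∉ E.H0
  · rcases E.psu_or_isolated hout K cardK with ⟨M, hM2, ⟨fM⟩, -⟩ | htop
    swap
    · exact hniso fun g hg => eq_of_top E.D.z_sq htop hg
    haveI : M.Normal := Subgroup.normal_of_index_eq_two hM2
    have hDM : T.Dsub ≤ M.map N.subtype := T.D_perfect hs hI ha fun c hc d hd => by
      refine Subgroup.mem_map.2 ⟨⁅(⟨c, hDN hc⟩ : N), (⟨d, hDN hd⟩ : N)⁆, ?_, rfl⟩
      simp only [SetLike.mem_coe, commutatorElement_def, Subgroup.mul_mem_iff_of_index_two hM2, inv_mem_iff]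
      tauto
    have heq : T.Dsub = M.map N.subtype := Subgroup.eq_of_le_of_card_ge hDM (le_of_eq (by
      rw [Subgroup.card_subtype, T.D_card hs hI ha, Nat.card_congr fM.toEquiv, Nat.card_congr fQ.toEquiv]))
    obtain ⟨x, hx, hxH⟩ := hout
    refine hnorm (x : G) (hval x hx) hxH fun d hd => ?_
    rw [heq] at hd ⊢
    obtain ⟨m, hm, rfl⟩ := hd
    refine ⟨x⁻¹ * m * x, ?_, rfl⟩
    simpa using (inferInstance : M.Normal).conj_mem m hm x⁻¹
  · push Not at hout
    let P := E.toPre ⊤ le_top fun x hx _ => hout x hx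
    rcases P.equiv_or_isolated K cardK with ⟨⟨fN⟩⟩ | hiso
    swap
    · exact hniso fun g hg => congrArg Subtype.val (hiso.2 ⟨g, Subgroup.mem_top g⟩ (Subtype.ext hg.eq.symm))
    have heq : T.Dsub = N := Subgroup.eq_of_le_of_card_ge hDN (le_of_eq (by
      rw [T.D_card hs hI ha, ← Subgroup.card_top (G := N), Nat.card_congr fN.toEquiv, Nat.card_congr fQ.toEquiv]))
    refine hnorm x0 hx0 hx0H fun d hd => ?_
    rw [heq] at hd ⊢
    simpa using hNn.conj_mem d hd x0⁻¹

end split

/-- The swapping case with z not isolated in the centraliser of a. -/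
theorem split (hs : ¬ T.central) (hI : ¬ T.Iso) : Cfsg.Spor.IsoFi22 G :=
  (em (a ∈ T.Dsub)).elim (T.perfect_case hs hI) fun ha => (T.split_false hs hI ha).elim

end Two

end Cfsg.Agent.U62Rec
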