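/-
An involution whose centraliser is (2 × 2^(1+8)) extended by Aut SU(4,2): the three outcomes.

* `exists_two` : the setting from the centraliser;
* `Two.main` : central modulo the odd core, PSU(6,2) extended, or Fi22 with the second involution moved;
* `Two.no_fi22_of_central` : Fi22 does not occur when the second involution is central in the centraliser.
-/
import Cfsg.Agent.Lib.U62Rec.TwoSplit
import Cfsg.Prelude.Def_TwoFusion

set_option autoImplicit false

namespace Cfsg.Agent.U62Rec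

open Cfsg.Agent.LargeExtraspecial
open scoped commutatorElement

universe u w

/-- The outcomes: Fi22 only when the second involution is not central in the centraliser. -/
theorem Two.main {G : Type u} [Group G] [Finite G] {z a : G} (T : Two z a)
    (F : Type w) [Field F] [Fintype F] (hF : Fintype.card F = 4) :
    Subgroup.centralizer ({z} : Set G) ⊔ Cfsg.oddCore G = ⊤ ∨
      (∃ z₁ : G, (z₁ = a ∨ z₁ = a * z) ∧ (Subgroup.zpowers z₁).Normal ∧
        ∃ (G₀ : Subgroup G) (_ : z₁ ∈ G₀), G₀.index = 2 ∧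
          ∃ _ : ((Subgroup.zpowers z₁).subgroupOf G₀).Normal,
            Nonempty ((↥G₀ ⧸ (Subgroup.zpowers z₁).subgroupOf G₀) ≃* Cfsg.PSU 6 F 2)) ∨
      (¬ T.central ∧ Cfsg.Spor.IsoFi22 G) := by
  by_cases hc : T.central
  · exact (T.central_main hc F hF).imp_right Or.inl
  by_cases hI : T.Iso
  · exact Or.inl (centralizer_sup_oddCore ⟨orderOf_eq_prime (by rw [pow_two, T.z_sq]) T.z_ne,
      fun g hg => T.swap_isolated hI (T.iso_swapA hc hI) hc hg.symm⟩)
  · exact Or.inr (Or.inr ⟨hc, T.split hc hI⟩)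

/-- When the second involution is central in the centraliser there are two outcomes. -/
theorem Two.no_fi22_of_central {G : Type u} [Group G] [Finite G] {z a : G} (T : Two z a)
    (F : Type w) [Field F] [Fintype F] (hF : Fintype.card F = 4) (hc : ∀ x, Commute x z → Commute x a) :
    Subgroup.centralizer ({z} : Set G) ⊔ Cfsg.oddCore G = ⊤ ∨
      ∃ z₁ : G, (z₁ = a ∨ z₁ = a * z) ∧ (Subgroup.zpowers z₁).Normal ∧
        ∃ (G₀ : Subgroup G) (_ : z₁ ∈ G₀), G₀.index = 2 ∧
          ∃ _ : ((Subgroup.zpowers z₁).subgroupOf G₀).Normal,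
            Nonempty ((↥G₀ ⧸ (Subgroup.zpowers z₁).subgroupOf G₀) ≃* Cfsg.PSU 6 F 2) :=
  T.central_main hc F hF

/-- The setting, from the centraliser. -/
theorem exists_two {G : Type u} [Group G] [Finite G] {z : G} (hz : orderOf z = 2)
    (J : Subgroup (Subgroup.centralizer ({z} : Set G))) [J.Normal]
    (A E : Subgroup (Subgroup.centralizer ({z} : Set G))) (hAE : Cfsg.IsInternalDirectProduct A E J)
    (hA : Nat.card A = 2) (hE : Cfsg.IsExtraspecial 2 ↥E) (hEc : Nat.card E = 2 ^ 9)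
    (zc : Subgroup.centralizer ({z} : Set G)) (hzc : (zc : G) = z) (hJ' : ⁅J, J⁆ = Subgroup.zpowers zc)
    (hCJ : Subgroup.centralizer (J : Set (Subgroup.centralizer ({z} : Set G))) ≤ J)
    (e : (Subgroup.centralizer ({z} : Set G)) ⧸ J ≃* MulAut U4) :
    ∃ (a : G) (T : Two z a), T.J = J.map (Subgroup.centralizer ({z} : Set G)).subtype := by
  classical
  obtain ⟨hAJ, hEJ, hcomm, hinf, hsup⟩ := hAE
  have hmem : ∀ x, Commute x z → x ∈ (Subgroup.centralizer ({z} : Set G)) := fun x hx => Subgroup.mem_centralizer_singleton_iff.2 hx.eq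
  have hcz : ∀ x : (Subgroup.centralizer ({z} : Set G)), Commute (x : G) z := fun x => Subgroup.mem_centralizer_singleton_iff.1 x.2
  have hz0 : z ≠ 1 := fun h => by rw [h, orderOf_one] at hz; omega
  have hz2 : z * z = 1 := by rw [← pow_two, ← hz, pow_orderOf_eq_one]
  have zc2 : zc * zc = 1 := Subtype.ext (by
    show (zc : G) * zc = 1
    rw [hzc, hz2])
  have zc1 : zc ≠ 1 := fun h => hz0 (by rw [← hzc, h]; rfl)
  -- the group of order two
  obtain ⟨α0, hα0, -⟩ := (Nat.card_eq_two_iff' (1 : A)).1 hA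
  set α : (Subgroup.centralizer ({z} : Set G)) := (α0 : (Subgroup.centralizer ({z} : Set G))) with hαdef
  have hαA : α ∈ A := α0.2
  have hα1 : α ≠ 1 := fun h => hα0 (Subtype.ext h)
  have hA2 : ∀ x ∈ A, x = 1 ∨ x = α := fun x hx => by
    obtain ⟨u, -, huniq⟩ := (Nat.card_eq_two_iff' (1 : A)).1 hA
    by_cases h : (⟨x, hx⟩ : A) = 1
    · exact Or.inl (congrArg Subtype.val h)
    · exact Or.inr (congrArg Subtype.val ((huniq _ h).trans (huniq _ hα0).symm))
  have hαα : α * α = 1 := (hA2 _ (mul_mem hαA hαA)).resolve_right fun h => hα1 (mul_eq_left.1 h)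
  have hαE : α ∉ E := fun h => hα1 (Subgroup.mem_bot.1 (hinf ▸ ⟨hαA, h⟩))
  have hαinv : α⁻¹ = α := inv_eq_of_mul_eq_one_right hαα
  have hαc : ∀ e ∈ E, Commute α e := fun e he => hcomm α hαA e he
  -- every element of J
  let S : Subgroup (Subgroup.centralizer ({z} : Set G)) :=
    { carrier := {x | x ∈ E ∨ α * x ∈ E}
      one_mem' := Or.inl (one_mem E)
      mul_mem' := by
        rintro x y (hx | hx) (hy | hy)
        · exact Or.inl (mul_mem hx hy)
        · refine Or.inr ?_
          rw [← mul_assoc, (hαc x hx).eq, mul_assoc]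
          exact mul_mem hx hy
        · refine Or.inr ?_
          rw [← mul_assoc]
          exact mul_mem hx hy
        · refine Or.inl ?_
          have := mul_mem hx hy
          rwa [← mul_assoc (α * x), ← (hαc _ hx).eq, ← mul_assoc α α, hαα, one_mul] at this
      inv_mem' := by
        rintro x (hx | hx)
        · exact Or.inl (inv_mem hx)
        · refine Or.inr ?_
          have e' : α * x⁻¹ = (α * x)⁻¹ := by
            calc α * x⁻¹ = α * ((α * x)⁻¹ * α) := by rw [mul_inv_rev, mul_assoc, inv_mul_cancel, mul_one]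
              _ = α * (α * (α * x)⁻¹) := by rw [(hαc _ (inv_mem hx)).eq]
              _ = (α * x)⁻¹ := by rw [← mul_assoc, hαα, one_mul]
          rw [e']
          exact inv_mem hx }
  have hJS : J ≤ S := hsup ▸ sup_le (fun x hx => by
    rcases hA2 x hx with rfl | rfl
    exacts [Or.inl (one_mem E), Or.inr (hαα.symm ▸ one_mem E)]) fun x hx => Or.inl hx
  have hSJ : ∀ x ∈ J, x ∈ E ∨ α * x ∈ E := fun x hx => hJS hx
  have hαJ : α ∈ J := hAJ hαA
  have hαcJ : ∀ x ∈ J, Commute α x := fun x hx => by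
    rcases hSJ x hx with h | h
    · exact hαc x h
    · have := (Commute.refl α).mul_right (hαc _ h)
      rwa [← mul_assoc, hαα, one_mul] at this
  -- commutators and squares
  have hcomm' : ∀ p ∈ J, ∀ q ∈ J, ⁅p, q⁆ = 1 ∨ ⁅p, q⁆ = zc := fun p hp q hq =>
    mem_zpowers_two zc2 (hJ' ▸ Subgroup.commutator_mem_commutator hp hq)
  haveI : Fact (Cfsg.IsExtraspecial 2 ↥E) := ⟨hE⟩
  have hzE : zc ∈ E := by
    have h : ⁅J, J⁆ ≤ E := Subgroup.commutator_le.2 fun p hp q hq => by
      have key : ∀ x ∈ J, ∃ x' ∈ E, ∃ b, (b = 1 ∨ b = α) ∧ x = b * x' := fun x hx => by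
        rcases hSJ x hx with h | h
        · exact ⟨x, h, 1, Or.inl rfl, (one_mul x).symm⟩
        · exact ⟨α * x, h, α, Or.inr rfl, by rw [← mul_assoc, hαα, one_mul]⟩
      obtain ⟨p', hp', b, hb, rfl⟩ := key p hp
      obtain ⟨q', hq', b', hb', rfl⟩ := key q hq
      have hbc : ∀ {b : (Subgroup.centralizer ({z} : Set G))}, (b = 1 ∨ b = α) → ∀ x ∈ J, Commute b x := fun {b} hb x hx => by
        rcases hb with rfl | rfl
        exacts [Commute.one_left x, hαcJ x hx]
      have hb'J : b' ∈ J := by rcases hb' with rfl | rfl; exacts [one_mem J, hαJ]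
      have p1 := hbc hb (p' * (b' * q') * p'⁻¹) (mul_mem (mul_mem (hEJ hp') (mul_mem hb'J (hEJ hq'))) (inv_mem (hEJ hp')))
      have p2 := hbc hb' p' (hEJ hp')
      have e1 : ⁅b * p', b' * q'⁆ = ⁅p', q'⁆ := by
        calc ⁅b * p', b' * q'⁆ = b * (p' * (b' * q') * p'⁻¹) * b⁻¹ * (q'⁻¹ * b'⁻¹) := by
              simp only [commutatorElement_def]; group
          _ = p' * b' * q' * p'⁻¹ * (q'⁻¹ * b'⁻¹) := by rw [p1.eq]; group
          _ = b' * (p' * q' * p'⁻¹ * q'⁻¹) * b'⁻¹ := by rw [← p2.eq]; group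
          _ = ⁅p', q'⁆ := by
            rw [(hbc hb' _ (mul_mem (mul_mem (mul_mem (hEJ hp') (hEJ hq')) (inv_mem (hEJ hp'))) (inv_mem (hEJ hq')))).eq,
              mul_inv_cancel_right, commutatorElement_def]
      rw [e1]
      exact mul_mem (mul_mem (mul_mem hp' hq') (inv_mem hp')) (inv_mem hq')
    exact h (hJ' ▸ Subgroup.mem_zpowers zc)
  have hzJ : zc ∈ J := hEJ hzE
  have hzcent : (⟨zc, hzE⟩ : E) ∈ Subgroup.center E := Subgroup.mem_center_iff.2 fun g =>
    Subtype.ext (Subtype.ext (by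
      show ((g : (Subgroup.centralizer ({z} : Set G))) : G) * (zc : G) = (zc : G) * ((g : (Subgroup.centralizer ({z} : Set G))) : G)
      rw [hzc]
      exact (hcz g).eq))
  have hcenE : ∀ x (hx : x ∈ E), (⟨x, hx⟩ : E) ∈ Subgroup.center E → x = 1 ∨ x = zc := fun x hx hc => by
    have hzeta := (OutForm.zeta_cases hzcent).resolve_left fun h => zc1 (congrArg Subtype.val h)
    rcases OutForm.zeta_cases hc with h | h
    · exact Or.inl (congrArg Subtype.val h)
    · exact Or.inr (congrArg Subtype.val (h.trans hzeta.symm))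
  have hsq : ∀ x ∈ J, x * x = 1 ∨ x * x = zc := fun x hx => by
    rcases hSJ x hx with h | h
    · exact hcenE _ (mul_mem h h) (OutForm.sq_mem (⟨x, h⟩ : E))
    · have e' : α * x * (α * x) = x * x := by
        rw [mul_assoc, ← mul_assoc x α, ← (hαcJ x hx).eq, mul_assoc α x x, ← mul_assoc α α, hαα, one_mul]
      have := hcenE _ (mul_mem h h) (OutForm.sq_mem (⟨α * x, h⟩ : E))
      rwa [e'] at this
  have hcard : Nat.card J = 1024 := by
    have : Nat.card (Bool × E) = Nat.card J := by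
      refine Nat.card_eq_of_bijective (fun p => ⟨(if p.1 then α else 1) * p.2, mul_mem
        (by split_ifs; exacts [hαJ, one_mem J]) (hEJ p.2.2)⟩) ⟨?_, ?_⟩
      · rintro ⟨b, x⟩ ⟨b', y⟩ h
        have h' : (if b then α else 1) * (x : (Subgroup.centralizer ({z} : Set G))) = (if b' then α else 1) * (y : (Subgroup.centralizer ({z} : Set G))) := congrArg Subtype.val h
        cases b <;> cases b' <;> simp only [if_true, if_false, Bool.false_eq_true, one_mul] at h'
        · rw [Subtype.ext h']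
        · exact absurd ((E.mul_mem_cancel_right y.2).1 (h' ▸ x.2)) hαE
        · exact absurd ((E.mul_mem_cancel_right x.2).1 (h'.symm ▸ y.2)) hαE
        · rw [Subtype.ext (mul_left_cancel h')]
      · rintro ⟨x, hx⟩
        rcases hSJ x hx with h | h
        · exact ⟨(false, ⟨x, h⟩), Subtype.ext (one_mul x)⟩
        · exact ⟨(true, ⟨_, h⟩), Subtype.ext (by
            show α * (α * x) = x
            rw [← mul_assoc, hαα, one_mul])⟩
    rw [← this, Nat.card_prod, Nat.card_eq_fintype_card (α := Bool), Fintype.card_bool, hEc]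
    norm_num
  have hcentJ : ∀ x ∈ J, (∀ q ∈ J, Commute q x) → x = 1 ∨ x = zc ∨ x = α ∨ x = α * zc := fun x hx hc => by
    have key : ∀ y (hy : y ∈ E), (∀ q ∈ E, Commute q y) → y = 1 ∨ y = zc := fun y hy h =>
      hcenE y hy (Subgroup.mem_center_iff.2 fun g => Subtype.ext (h g g.2).eq)
    rcases hSJ x hx with h | h
    · exact (key x h fun q hq => hc q (hEJ hq)).imp_right Or.inl
    · rcases key _ h fun q hq => ((hαc q hq).symm).mul_right (hc q (hEJ hq)) with e' | e'
      · exact Or.inr (Or.inr (Or.inl (by rw [← inv_eq_of_mul_eq_one_right e', hαinv])))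
      · exact Or.inr (Or.inr (Or.inr (by rw [← e', ← mul_assoc, hαα, one_mul])))
  -- the map onto the automorphism group
  let π : (Subgroup.centralizer ({z} : Set G)) →* MulAut U4 := e.toMonoidHom.comp (QuotientGroup.mk' J)
  have hπ : Function.Surjective π := e.surjective.comp (QuotientGroup.mk'_surjective J)
  have hker : ∀ x : (Subgroup.centralizer ({z} : Set G)), π x = 1 ↔ x ∈ J := fun x => by
    show e (QuotientGroup.mk x) = 1 ↔ _
    rw [MulEquiv.map_eq_one_iff, QuotientGroup.eq_one_iff]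
  have hN : (MulAut.conj : U4 →* MulAut U4).range.Normal := Subgroup.normal_of_index_eq_two index_conj_range
  let R : Subgroup (Subgroup.centralizer ({z} : Set G)) := (MulAut.conj : U4 →* MulAut U4).range.comap π
  have hJR : J ≤ R := fun x hx => by
    rw [Subgroup.mem_comap, (hker x).2 hx]; exact one_mem _
  let H0 : Subgroup G := R.map (Subgroup.centralizer ({z} : Set G)).subtype
  have hH0C : H0 ≤ (Subgroup.centralizer ({z} : Set G)) := Subgroup.map_subtype_le _
  have hH0 : ∀ x (hx : x ∈ (Subgroup.centralizer ({z} : Set G))), x ∈ H0 ↔ π ⟨x, hx⟩ ∈ (MulAut.conj : U4 →* MulAut U4).range := fun x hx =>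
    ⟨fun ⟨y, hy, he⟩ => (Subtype.ext he : y = ⟨x, hx⟩) ▸ hy, fun h => ⟨⟨x, hx⟩, h, rfl⟩⟩
  let φ : G → U4 := fun h => if hh : h ∈ H0 then ((hH0 h (hH0C hh)).1 hh).choose else 1
  have hφ : ∀ h (hh : h ∈ H0), MulAut.conj (φ h) = π ⟨h, hH0C hh⟩ := fun h hh => by
    simp only [φ]; rw [dif_pos hh]; exact ((hH0 h (hH0C hh)).1 hh).choose_spec
  set J' : Subgroup G := J.map (Subgroup.centralizer ({z} : Set G)).subtype with hJ'def
  have hJ'mem : ∀ {y : G}, y ∈ J' → ∃ hy : y ∈ (Subgroup.centralizer ({z} : Set G)), (⟨y, hy⟩ : (Subgroup.centralizer ({z} : Set G))) ∈ J := by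
    rintro _ ⟨y, hy, rfl⟩
    exact ⟨y.2, hy⟩
  -- conjugates of α
  have haconj : ∀ x : (Subgroup.centralizer ({z} : Set G)), x * α * x⁻¹ = α ∨ x * α * x⁻¹ = α * zc := fun x => by
    have hm : x * α * x⁻¹ ∈ J := Subgroup.Normal.conj_mem ‹J.Normal› α hαJ x
    have hcx : ∀ q ∈ J, Commute q (x * α * x⁻¹) := fun q hq => by
      have hq' : x⁻¹ * q * x ∈ J := by simpa using Subgroup.Normal.conj_mem ‹J.Normal› q hq x⁻¹
      have := commute_conj₀ x (hαcJ _ hq').symm
      rwa [show x * (x⁻¹ * q * x) * x⁻¹ = q by group] at this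
    have hzx : x * zc * x⁻¹ = zc := Subtype.ext (by
      show (x : G) * zc * (x : G)⁻¹ = zc
      rw [hzc, (hcz x).eq, mul_inv_cancel_right])
    rcases hcentJ _ hm hcx with h | h | h | h
    · exact absurd (conj_eq_one_iff.1 h) hα1
    · refine absurd ?_ hαE
      have h' : α = zc := mul_left_cancel (mul_right_cancel (h.trans hzx.symm))
      rw [h']; exact hzE
    · exact Or.inl h
    · exact Or.inr h
  -- the inner part centralises α
  have hRα : ∀ r ∈ R, Commute r α := by
    have hzR : ∀ r : (Subgroup.centralizer ({z} : Set G)), r * zc = zc * r := fun r => Subtype.ext (by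
      show (r : G) * zc = zc * (r : G)
      rw [hzc]
      exact (hcz r).eq)
    let sgn : (Subgroup.centralizer ({z} : Set G)) → Multiplicative (ZMod 2) := fun r => Multiplicative.ofAdd (if r * α * r⁻¹ = α then 0 else 1)
    have hne : α * zc ≠ α := fun h => zc1 (mul_eq_left.1 h)
    have hsg : ∀ r s, sgn (r * s) = sgn r * sgn s := fun r s => by
      simp only [sgn]
      rw [← ofAdd_add, show r * s * α * (r * s)⁻¹ = r * (s * α * s⁻¹) * r⁻¹ by group]
      congr 1
      have h2 : r * (α * zc) * r⁻¹ = r * α * r⁻¹ * zc := by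
        calc r * (α * zc) * r⁻¹ = r * α * (zc * r⁻¹) := by group
          _ = r * α * (r⁻¹ * zc) := by rw [hzR]
          _ = _ := by group
      rcases haconj r with p | p <;> rcases haconj s with p' | p' <;> rw [p'] <;>
        simp [p, h2, hne, mul_assoc, zc2] <;> decide
    let f0 : (Subgroup.centralizer ({z} : Set G)) →* Multiplicative (ZMod 2) := MonoidHom.mk' sgn hsg
    have hJ0 : ∀ j ∈ J, f0 j = 1 := fun j hj => by
      show sgn j = 1
      simp only [sgn]
      rw [if_pos (by rw [← (hαcJ j hj).eq, mul_inv_cancel_right]), ofAdd_zero]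
    choose s hs using fun b : U4 => hπ (MulAut.conj b)
    have hdep : ∀ b r, π r = MulAut.conj b → f0 r = f0 (s b) := fun b r hr => by
      have hm : (s b)⁻¹ * r ∈ J := (hker _).1 (by rw [map_mul, map_inv, hs, hr, inv_mul_cancel])
      have := hJ0 _ hm
      rw [map_mul, map_inv, inv_mul_eq_one] at this
      exact this.symm
    let f : U4 →* Multiplicative (ZMod 2) := MonoidHom.mk' (fun b => f0 (s b)) fun b c => by
      rw [← map_mul]
      exact (hdep _ _ (by rw [map_mul, hs, hs, map_mul])).symm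
    intro r hr
    obtain ⟨b, hb⟩ := hr
    have h1 : sgn r = 1 := (hdep b r hb.symm).trans (U4_hom_trivial f b)
    simp only [sgn] at h1
    split_ifs at h1 with h2
    · exact mul_inv_eq_iff_eq_mul.1 h2
    · exact absurd (Multiplicative.ofAdd.injective (h1.trans ofAdd_zero.symm)) one_ne_zero
  obtain ⟨σ, hσ⟩ : ∃ σ : MulAut U4, σ ∉ (MulAut.conj : U4 →* MulAut U4).range := by
    by_contra! h
    have := index_conj_range
    rw [(eq_top_iff.2 fun x _ => h x : (MulAut.conj : U4 →* MulAut U4).range = ⊤), Subgroup.index_top] at this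
    omega
  obtain ⟨x0, hx0⟩ := hπ σ
  refine ⟨(α : G), {
    J := J'
    H0 := H0
    φ := φ
    z_ne := hz0
    z_sq := hz2
    a_sq := congrArg Subtype.val hαα
    a_ne := fun h => hα1 (Subtype.ext h)
    a_nez := fun h => hαE ((Subtype.ext (h.trans hzc.symm) : α = zc) ▸ hzE)
    z_mem := ⟨zc, hzJ, hzc⟩
    a_mem := ⟨α, hαJ, rfl⟩
    card := by rw [hJ'def, Subgroup.card_subtype, hcard]
    J_le := Subgroup.map_mono hJR
    le := fun h hh => Subgroup.mem_centralizer_singleton_iff.1 (hH0C hh)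
    lea := ?_
    cent := ?_
    comm := ?_
    sq := ?_
    norm := ?_
    H0norm := ?_
    out_mul := ?_
    φ_mul := ?_
    φ_ker := ?_
    φ_surj := ?_
    out := ?_
    hout := ⟨(x0 : G), hcz x0, fun h => hσ (hx0 ▸ (hH0 _ x0.2).1 h)⟩
    aconj := ?_ }, rfl⟩
  · rintro h ⟨r, hr, rfl⟩
    exact congrArg Subtype.val (hRα r hr).eq
  · intro x hx
    have hzm : z ∈ J' := ⟨zc, hzJ, hzc⟩
    have hxC := hmem x (hx z hzm).symm
    have hxJ : (⟨x, hxC⟩ : (Subgroup.centralizer ({z} : Set G))) ∈ J := hCJ (Subgroup.mem_centralizer_iff.2 fun q hq =>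
      Subtype.ext (hx (q : G) ⟨q, hq, rfl⟩))
    rcases hcentJ _ hxJ fun q hq => Subtype.ext (hx (q : G) ⟨q, hq, rfl⟩) with h | h | h | h
    · exact Or.inl (congrArg Subtype.val h)
    · exact Or.inr (Or.inl ((congrArg Subtype.val h).trans hzc))
    · exact Or.inr (Or.inr (Or.inl (congrArg Subtype.val h)))
    · exact Or.inr (Or.inr (Or.inr ((congrArg Subtype.val h).trans (by rw [Subgroup.coe_mul, hzc]))))
  · intro p hp q hq
    obtain ⟨hpC, hpJ⟩ := hJ'mem hp
    obtain ⟨hqC, hqJ⟩ := hJ'mem hq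
    rcases hcomm' _ hpJ _ hqJ with h | h
    · exact Or.inl (congrArg Subtype.val h)
    · exact Or.inr ((congrArg Subtype.val h).trans hzc)
  · intro q hq
    obtain ⟨hqC, hqJ⟩ := hJ'mem hq
    rcases hsq _ hqJ with h | h
    · exact Or.inl (congrArg Subtype.val h)
    · exact Or.inr ((congrArg Subtype.val h).trans hzc)
  · intro c hc q hq
    obtain ⟨hqC, hqJ⟩ := hJ'mem hq
    exact ⟨⟨c, hmem c hc⟩ * ⟨q, hqC⟩ * ⟨c, hmem c hc⟩⁻¹, Subgroup.Normal.conj_mem ‹J.Normal› _ hqJ _, rfl⟩
  · intro x hx h hh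
    rw [hH0 _ (mul_mem (mul_mem (hmem x hx) (hH0C hh)) (inv_mem (hmem x hx)))]
    have := hN.conj_mem _ ((hH0 h (hH0C hh)).1 hh) (π ⟨x, hmem x hx⟩)
    rw [← map_inv, ← map_mul, ← map_mul] at this
    exact this
  · intro x y hx hy hxH hyH
    rw [hH0 _ (mul_mem (hmem x hx) (hmem y hy))]
    rw [hH0 _ (hmem x hx)] at hxH
    rw [hH0 _ (hmem y hy)] at hyH
    have := (Subgroup.mul_mem_iff_of_index_two index_conj_range).2 ⟨fun h => absurd h hxH, fun h => absurd h hyH⟩
    rw [← map_mul] at this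
    exact this
  · intro g hg h hh
    refine conj_inj ?_
    rw [hφ _ (mul_mem hg hh), map_mul, hφ g hg, hφ h hh, ← map_mul]
    rfl
  · intro h hh
    constructor
    · intro h1
      refine ⟨⟨h, hH0C hh⟩, (hker _).1 ?_, rfl⟩
      rw [← hφ h hh, h1, map_one]
    · rintro ⟨y, hy, he⟩
      refine conj_inj ?_
      rw [hφ h hh, map_one, ← (Subtype.ext he : y = ⟨h, hH0C hh⟩)]
      exact (hker y).2 hy
  · intro x
    obtain ⟨y, hy⟩ := hπ (MulAut.conj x)
    have hyH : (y : G) ∈ H0 := (hH0 _ y.2).2 ⟨x, hy.symm⟩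
    exact ⟨y, hyH, conj_inj ((hφ _ hyH).trans hy)⟩
  · intro x hx hfix
    have hxC := hmem x hx
    rw [hH0 x hxC]
    have h1 : π ⟨x, hxC⟩ = 1 := by
      refine MulEquiv.ext fun b => ?_
      obtain ⟨y, hy⟩ := hπ (MulAut.conj b)
      have hyH : (y : G) ∈ H0 := (hH0 _ y.2).2 ⟨b, hy.symm⟩
      have hyb : φ y = b := conj_inj ((hφ _ hyH).trans hy)
      have hm : x * (y : G) * x⁻¹ ∈ H0 := by
        rw [hH0 _ (mul_mem (mul_mem hxC y.2) (inv_mem hxC))]
        have := hN.conj_mem _ ((hH0 _ y.2).1 hyH) (π ⟨x, hxC⟩)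
        rw [← map_inv, ← map_mul, ← map_mul] at this
        exact this
      refine conj_inj ?_
      have h2 := hφ _ hm
      rw [hfix _ hyH, hyb] at h2
      rw [show (⟨x * (y : G) * x⁻¹, hH0C hm⟩ : (Subgroup.centralizer ({z} : Set G))) = ⟨x, hxC⟩ * y * ⟨x, hxC⟩⁻¹ from rfl, map_mul, map_mul,
        map_inv, hy] at h2
      rw [MulAut.one_apply, h2]
      ext c
      simp [MulAut.mul_apply]
    rw [h1]
    exact one_mem _
  · intro x hx
    rcases haconj ⟨x, hmem x hx⟩ with h | h
    · exact Or.inl (congrArg Subtype.val h)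
    · exact Or.inr ((congrArg Subtype.val h).trans (by rw [Subgroup.coe_mul, hzc]))

end Cfsg.Agent.U62Rec
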